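import Mathlib
import Cfsg.Prelude.Def_Local
import Cfsg.Prelude.Def_Involutions
import Cfsg.Agent.Lib.Cores
import Cfsg.Agent.Lib.KleinGen
import Cfsg.Agent.SignalizersComponents.CoreOfCentralizer
import Cfsg.Agent.SignalizersComponents.BalanceAux
import Cfsg.Agent.TwoFusion.StronglyEmbeddedBasic

/-!
# A strongly closed elementary abelian 2-subgroup whose involutions have constrained centralizers

`X` finite, `T` a Sylow 2-subgroup, `J ≤ T` elementary abelian of order at least 8, normalized by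
`N(T)`, containing all 2-elements which centralize it; `C(v) = O(C(v)) (N(J) ⊓ C(v))` for all
`1 ≠ v ∈ J` and for all involutions `v` of `T`; two classes of involutions.  Then
`X = O(X) N(J)`.
-/

set_option autoImplicit false

namespace Cfsg.Agent.J2Sylow.Functor

open Subgroup

universe u

/-- the solvable signalizer functor theorem for the prime 2 -/
def SolvFun : Prop := ∀ (X : Type u) [Group X] [Finite X] (A : Subgroup X) (θ : X → Subgroup X),
  (∀ a ∈ A, ∀ b ∈ A, a * b = b * a) → (∀ a ∈ A, a ^ 2 = 1) → 2 ^ 3 ≤ Nat.card A →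
  (∀ a ∈ A, a ≠ 1 → θ a ≤ centralizer {a}) → (∀ a ∈ A, a ≠ 1 → ¬ 2 ∣ Nat.card (θ a)) →
  (∀ a ∈ A, a ≠ 1 → ∀ b ∈ A, ∀ x ∈ θ a, b * x * b⁻¹ ∈ θ a) →
  (∀ a ∈ A, a ≠ 1 → Group.IsSolvable (θ a)) →
  (∀ a ∈ A, a ≠ 1 → ∀ b ∈ A, b ≠ 1 → θ a ⊓ centralizer {b} ≤ θ b) →
  ¬ 2 ∣ Nat.card ↥(⨆ a : {a : X // a ∈ A ∧ a ≠ 1}, θ a)

/-- the odd order theorem -/
def OddSolv : Prop := ∀ (X : Type u) [Group X] [Finite X], Odd (Nat.card X) → Group.IsSolvable X

/-- `O(C(x))` -/
abbrev K {X : Type*} [Group X] (x : X) : Subgroup X := Cfsg.centralizerPPrimeCore 2 x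

section basics

variable {X : Type*} [Group X]

theorem K_le (x : X) : K x ≤ centralizer ({x} : Set X) :=
  SignalizersComponents.CoreOfCentralizer.centralizerPPrimeCore_le 2 x

theorem K_conj {x c k : X} (hc : c ∈ centralizer ({x} : Set X)) (hk : k ∈ K x) :
    c * k * c⁻¹ ∈ K x :=
  (mem_normalizer_iff.mp
    (SignalizersComponents.CoreOfCentralizer.centralizer_le_normalizer_centralizerPPrimeCore 2 x hc)
    k).mp hk

theorem K_odd [Finite X] (x : X) : Odd (Nat.card (K x)) := by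
  have h := SignalizersComponents.CoreOfCentralizer.card_centralizerPPrimeCore_coprime 2 x
  rwa [Nat.coprime_two_right] at h

theorem mem_normalizer_of_conj {H : Subgroup X} {c : X} (h1 : ∀ x ∈ H, c * x * c⁻¹ ∈ H)
    (h2 : ∀ x ∈ H, c⁻¹ * x * c ∈ H) : c ∈ normalizer (H : Set X) := by
  rw [mem_normalizer_iff]
  intro x
  refine ⟨h1 x, fun hx => ?_⟩
  have h3 := h2 _ hx
  have h4 : c⁻¹ * (c * x * c⁻¹) * c = x := by group
  rwa [h4] at h3

theorem mem_normalizer_of_conj' [Finite X] {H : Subgroup X} {c : X}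
    (h1 : ∀ x ∈ H, c * x * c⁻¹ ∈ H) : c ∈ normalizer (H : Set X) := by
  have hc : c * 1 * c⁻¹ = 1 := by group
  have key : ∀ n : ℕ, ∀ x ∈ H, c ^ n * x * (c ^ n)⁻¹ ∈ H := by
    intro n
    induction n with
    | zero => intro x hx; simpa using hx
    | succ n ih =>
      intro x hx
      have h3 : c ^ (n + 1) * x * (c ^ (n + 1))⁻¹ = c ^ n * (c * x * c⁻¹) * (c ^ n)⁻¹ := by
        rw [pow_succ]; group
      rw [h3]
      exact ih _ (h1 x hx)
  refine mem_normalizer_of_conj h1 ?_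
  intro x hx
  have h4 := key (orderOf c - 1) x hx
  have h5 : c ^ (orderOf c - 1) = c⁻¹ := by
    have h6 : 0 < orderOf c := orderOf_pos c
    have h7 : c ^ (orderOf c - 1) * c = 1 := by
      rw [← pow_succ, Nat.sub_add_cancel h6, pow_orderOf_eq_one]
    exact eq_inv_of_mul_eq_one_left h7
  rw [h5, inv_inv] at h4
  exact h4

theorem le_K [Finite X] {x : X} {N : Subgroup X} (h1 : N ≤ centralizer ({x} : Set X))
    (h2 : Odd (Nat.card N))
    (h3 : ∀ c ∈ centralizer ({x} : Set X), ∀ n ∈ N, c * n * c⁻¹ ∈ N) : N ≤ K x := by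
  refine SignalizersComponents.BalanceAux.le_centralizerPPrimeCore h1 ?_ ?_
  · rwa [Nat.coprime_two_right]
  · intro c hc
    exact mem_normalizer_of_conj' (h3 c hc)

theorem K_map [Finite X] (g x : X) {k : X} (hk : k ∈ K x) : g * k * g⁻¹ ∈ K (g * x * g⁻¹) := by
  have h1 : (K x).map (MulAut.conj g).toMonoidHom ≤ K (g * x * g⁻¹) := by
    refine le_K ?_ ?_ ?_
    · rintro _ ⟨y, hy, rfl⟩
      have h2 := mem_centralizer_singleton_iff.mp (K_le x hy)
      rw [mem_centralizer_singleton_iff]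
      show g * y * g⁻¹ * (g * x * g⁻¹) = g * x * g⁻¹ * (g * y * g⁻¹)
      calc g * y * g⁻¹ * (g * x * g⁻¹) = g * (y * x) * g⁻¹ := by group
        _ = g * (x * y) * g⁻¹ := by rw [h2]
        _ = _ := by group
    · rw [Nat.card_congr ((K x).equivMapOfInjective _ (MulAut.conj g).injective).symm.toEquiv]
      exact K_odd x
    · rintro c hc _ ⟨y, hy, rfl⟩
      have h2 : g⁻¹ * c * g ∈ centralizer ({x} : Set X) := by
        have h3 := mem_centralizer_singleton_iff.mp hc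
        rw [mem_centralizer_singleton_iff]
        calc g⁻¹ * c * g * x = g⁻¹ * (c * (g * x * g⁻¹)) * g := by group
          _ = g⁻¹ * ((g * x * g⁻¹) * c) * g := by rw [h3]
          _ = _ := by group
      refine ⟨_, K_conj h2 hy, ?_⟩
      show g * (g⁻¹ * c * g * y * (g⁻¹ * c * g)⁻¹) * g⁻¹ = c * (g * y * g⁻¹) * c⁻¹
      group
  exact h1 ⟨k, hk, rfl⟩

theorem pow_mul_inv_mem {N : Subgroup X} {n s : X} (hn : n ∈ N) (hs : ∀ x ∈ N, s * x * s⁻¹ ∈ N)
    (k : ℕ) : (n * s) ^ k * (s ^ k)⁻¹ ∈ N := by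
  induction k with
  | zero => simp
  | succ k ih =>
    have h1 : (n * s) ^ (k + 1) * (s ^ (k + 1))⁻¹ =
        n * (s * ((n * s) ^ k * (s ^ k)⁻¹) * s⁻¹) := by
      rw [pow_succ' (n * s), pow_succ' s]; group
    rw [h1]
    exact N.mul_mem hn (hs _ ih)

/-- a product of an element of `N` and an involution normalizing `N`, of odd order, lies in `N` -/
theorem mem_of_odd_mul {N : Subgroup X} {n s : X} (hn : n ∈ N) (hs : ∀ x ∈ N, s * x * s⁻¹ ∈ N)
    (hs2 : s * s = 1) (ho : Odd (orderOf (n * s))) : n * s ∈ N ∧ s ∈ N := by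
  have h2 := pow_mul_inv_mem hn hs (orderOf (n * s))
  rw [pow_orderOf_eq_one, one_mul] at h2
  obtain ⟨k, hk⟩ := ho
  have h3 : s ^ orderOf (n * s) = s := by
    rw [hk, pow_add, pow_mul, pow_two, hs2, one_pow, one_mul, pow_one]
  rw [h3] at h2
  have h4 : s ∈ N := by simpa using N.inv_mem h2
  exact ⟨N.mul_mem hn h4, h4⟩

theorem eq_one_of_odd {j : X} (h2 : j * j = 1) (ho : Odd (orderOf j)) : j = 1 := by
  obtain ⟨k, hk⟩ := ho
  have h3 : j ^ orderOf j = j := by
    rw [hk, pow_add, pow_mul, pow_two, h2, one_pow, one_mul, pow_one]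
  rw [← h3, pow_orderOf_eq_one]

theorem odd_orderOf_of_mem {N : Subgroup X} (h : Odd (Nat.card N)) {x : X} (hx : x ∈ N) :
    Odd (orderOf x) :=
  h.of_dvd_nat (N.orderOf_dvd_natCard hx)

/-- The odd part of a group with a central Sylow 2-subgroup of exponent 2. -/
theorem exists_odd_part [Finite X] {Z J : Subgroup X} (hJ2 : ∀ j ∈ J, j * j = 1)
    (hc : ∀ j ∈ J, ∀ z ∈ Z, z * j = j * z)
    (h2 : ∀ z ∈ Z, (∃ k : ℕ, z ^ (2 ^ k) = 1) → z ∈ J) :
    ∃ L : Subgroup X, L ≤ Z ∧ Odd (Nat.card L) ∧ (∀ z ∈ Z, Odd (orderOf z) → z ∈ L) ∧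
      ∀ z ∈ Z, ∃ j ∈ J, ∃ l ∈ L, z = j * l := by
  classical
  have : Fact (Nat.Prime 2) := ⟨Nat.prime_two⟩
  set J' : Subgroup Z := J.subgroupOf Z with hJ'
  have hJ'2 : IsPGroup 2 J' := by
    intro x
    refine ⟨1, ?_⟩
    apply Subtype.ext
    apply Subtype.ext
    have h3 : ((x : Z) : X) ∈ J := mem_subgroupOf.mp x.2
    have h4 := hJ2 _ h3
    simpa [pow_two] using h4
  have hJn : J'.Normal := by
    refine ⟨fun j hj z => ?_⟩
    rw [mem_subgroupOf] at hj ⊢
    have h1 : (z : X) * j * (z : X)⁻¹ = j := by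
      rw [hc j hj z z.2]; group
    change (z : X) * j * (z : X)⁻¹ ∈ J
    rw [h1]; exact hj
  obtain ⟨P, hP⟩ := hJ'2.exists_le_sylow
  have hPJ : (P : Subgroup Z) = J' := by
    refine le_antisymm ?_ hP
    intro x hx
    obtain ⟨k, hk⟩ := P.isPGroup' ⟨x, hx⟩
    rw [mem_subgroupOf]
    refine h2 _ x.2 ⟨k, ?_⟩
    have h3 := congrArg Subtype.val hk
    have h4 := congrArg Subtype.val h3
    simpa using h4
  have hcop : Nat.Coprime (Nat.card J') J'.index := by
    obtain ⟨n, hn⟩ := hJ'2.exists_card_eq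
    rw [hn]
    refine Nat.Coprime.pow_left _ ?_
    rw [Nat.Prime.coprime_iff_not_dvd Nat.prime_two, ← hPJ]
    exact P.not_dvd_index
  obtain ⟨L', hL'⟩ := Subgroup.exists_left_complement'_of_coprime hcop
  have hcard : Odd (Nat.card L') := by
    have h3 : J'.index = Nat.card L' := hL'.index_eq_card
    rw [← h3, ← hPJ, ← Nat.not_even_iff_odd, even_iff_two_dvd]
    exact P.not_dvd_index
  refine ⟨L'.map Z.subtype, ?_, ?_, ?_, ?_⟩
  · rintro _ ⟨x, -, rfl⟩
    exact x.2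
  · rw [Nat.card_congr (L'.equivMapOfInjective _ Z.subtype_injective).symm.toEquiv]
    exact hcard
  · intro z hz ho
    obtain ⟨⟨l, j⟩, hlj, -⟩ := hL'.existsUnique ⟨z, hz⟩
    have hlj' : ((l : Z) : X) * ((j : Z) : X) = z := by
      have := congrArg Subtype.val hlj
      simpa using this
    have hjJ : ((j : Z) : X) ∈ J := mem_subgroupOf.mp j.2
    have hcomm : ((l : Z) : X) * ((j : Z) : X) = ((j : Z) : X) * ((l : Z) : X) :=
      hc _ hjJ _ (l : Z).2
    have hLodd : Odd (orderOf ((l : Z) : X)) := by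
      rw [Subgroup.orderOf_coe, Subgroup.orderOf_coe]
      exact hcard.of_dvd_nat (orderOf_dvd_natCard l)
    have hj1 : ((j : Z) : X) = 1 := by
      apply eq_one_of_odd (hJ2 _ hjJ)
      have h5 : ((j : Z) : X) = (((l : Z) : X))⁻¹ * z := by rw [← hlj']; group
      have h6 : Commute (((l : Z) : X))⁻¹ z := by
        have h7 : Commute (((l : Z) : X)) z := by
          rw [← hlj']
          show _ * _ = _ * _
          rw [mul_assoc, ← hcomm]
        exact h7.inv_left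
      rw [h5]
      have h7 := h6.orderOf_mul_dvd_mul_orderOf
      rw [orderOf_inv] at h7
      exact (hLodd.mul ho).of_dvd_nat h7
    refine ⟨l, l.2, ?_⟩
    rw [hj1, mul_one] at hlj'
    exact hlj'
  · intro z hz
    obtain ⟨⟨l, j⟩, hlj, -⟩ := hL'.existsUnique ⟨z, hz⟩
    have hlj' : ((l : Z) : X) * ((j : Z) : X) = z := by
      have := congrArg Subtype.val hlj
      simpa using this
    have hjJ : ((j : Z) : X) ∈ J := mem_subgroupOf.mp j.2
    refine ⟨j, hjJ, l, ⟨l, l.2, rfl⟩, ?_⟩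
    rw [← hlj', hc _ hjJ _ (l : Z).2]

/-- odd subgroups of a constrained group normalized by `J` -/
theorem le_core [Finite X] {H K J : Subgroup X} (hKH : K ≤ H) (hKodd : Odd (Nat.card K))
    (hKn : ∀ c ∈ H, ∀ k ∈ K, c * k * c⁻¹ ∈ K)
    (hKmax : ∀ N : Subgroup X, N ≤ H → Odd (Nat.card N) →
      (∀ c ∈ H, ∀ n ∈ N, c * n * c⁻¹ ∈ N) → N ≤ K)
    (hJH : J ≤ H) (hJ2 : ∀ j ∈ J, j * j = 1)
    (hself : ∀ x ∈ H, (∃ k : ℕ, x ^ (2 ^ k) = 1) → (∀ j ∈ J, x * j = j * x) → x ∈ J)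
    (hH : ∀ c ∈ H, ∃ k ∈ K, k * c ∈ normalizer (J : Set X))
    {D : Subgroup X} (hDH : D ≤ H) (hDodd : Odd (Nat.card D))
    (hDJ : ∀ j ∈ J, ∀ d ∈ D, j * d * j⁻¹ ∈ D) : D ≤ K := by
  have hJc : ∀ j ∈ J, ∀ k ∈ J, k * j = j * k := by
    intro a ha b hb
    have h1 := hJ2 a ha
    have h2 := hJ2 b hb
    have h3 := hJ2 (a * b) (J.mul_mem ha hb)
    have ha' : a⁻¹ = a := inv_eq_of_mul_eq_one_right h1
    have hb' : b⁻¹ = b := inv_eq_of_mul_eq_one_right h2
    have hab : (a * b)⁻¹ = a * b := inv_eq_of_mul_eq_one_right h3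
    rw [← hab, mul_inv_rev, ha', hb']
  obtain ⟨L, hLZ, hLodd, hLmem, hLdec⟩ := exists_odd_part (Z := H ⊓ centralizer (J : Set X))
    (J := J) hJ2
    (fun j hj z hz => ((mem_centralizer_iff.mp hz.2) j hj).symm)
    (fun z hz hk => hself z hz.1 hk fun j hj => ((mem_centralizer_iff.mp hz.2) j hj).symm)
  -- `L ≤ K`
  have hKLmem : ∀ x ∈ K ⊔ L, ∃ k ∈ K, ∃ l ∈ L, x = k * l := by
    intro x hx
    have hle : L ≤ normalizer (K : Set X) := by
      intro l hl
      exact mem_normalizer_of_conj' (hKn l (hLZ hl).1)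
    rw [← SetLike.mem_coe, Subgroup.coe_mul_of_right_le_normalizer_left K L hle,
      Set.mem_mul] at hx
    obtain ⟨k, hk, l, hl, rfl⟩ := hx
    exact ⟨k, hk, l, hl, rfl⟩
  have hLK : L ≤ K := by
    refine le_trans le_sup_right (hKmax (K ⊔ L) (sup_le hKH (hLZ.trans inf_le_left)) ?_ ?_)
    · rw [← Nat.not_even_iff_odd, even_iff_two_dvd]
      intro h2
      have : Fact (Nat.Prime 2) := ⟨Nat.prime_two⟩
      obtain ⟨⟨t, ht⟩, ht2⟩ := exists_prime_orderOf_dvd_card' 2 h2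
      rw [Subgroup.orderOf_mk] at ht2
      obtain ⟨k, hk, l, hl, hkl⟩ := hKLmem t ht
      have h3 := pow_mul_inv_mem hk (hKn l (hLZ hl).1) (Nat.card L)
      have h4 : l ^ Nat.card L = 1 := by
        have h5 : (⟨l, hl⟩ : L) ^ Nat.card L = 1 := pow_card_eq_one'
        have h6 := congrArg Subtype.val h5
        rw [Subgroup.coe_pow] at h6
        exact h6
      rw [h4, inv_one, mul_one, ← hkl] at h3
      have h5 : t ^ Nat.card L = t := by
        obtain ⟨m, hm⟩ := hLodd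
        have h6 : t ^ 2 = 1 := by rw [← ht2]; exact pow_orderOf_eq_one t
        rw [hm, pow_add, pow_mul, h6, one_pow, one_mul, pow_one]
      rw [h5] at h3
      have h6 := odd_orderOf_of_mem hKodd h3
      rw [ht2] at h6
      exact absurd h6 (by decide)
    · intro c hc n hn
      obtain ⟨k, hk, l, hl, rfl⟩ := hKLmem n hn
      obtain ⟨k', hk', hn'⟩ := hH c hc
      set m : X := k' * c with hm
      have hmH : m ∈ H := H.mul_mem (hKH hk') hc
      have hc' : c = k'⁻¹ * m := by rw [hm]; group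
      have hml : m * l * m⁻¹ ∈ L := by
        refine hLmem _ ⟨H.mul_mem (H.mul_mem hmH (hLZ hl).1) (H.inv_mem hmH), ?_⟩ ?_
        · refine mem_centralizer_iff.mpr ?_
          intro j hj
          have h7 : m⁻¹ * j * m ∈ J := by
            have h8 := (mem_normalizer_iff.mp ((normalizer (J : Set X)).inv_mem hn') j).mp hj
            simpa using h8
          have h9 := mem_centralizer_iff.mp (hLZ hl).2 _ h7
          calc j * (m * l * m⁻¹) = m * ((m⁻¹ * j * m) * l) * m⁻¹ := by group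
            _ = m * (l * (m⁻¹ * j * m)) * m⁻¹ := by rw [h9]
            _ = m * l * m⁻¹ * j := by group
        · rw [TwoFusion.StronglyEmbeddedBasic.orderOf_conj]
          exact odd_orderOf_of_mem hLodd hl
      have h1 : c * (k * l) * c⁻¹ = (c * k * c⁻¹) * (k'⁻¹ * (m * l * m⁻¹) * k'⁻¹⁻¹) := by
        rw [hc']; group
      rw [h1]
      refine mul_mem (mem_sup_left (hKn c hc k hk)) ?_
      refine mul_mem (mul_mem (mem_sup_left (K.inv_mem hk')) (mem_sup_right hml)) ?_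
      exact mem_sup_left (K.inv_mem (K.inv_mem hk'))
  intro x hx
  obtain ⟨k, hk, hn⟩ := hH x (hDH hx)
  set n : X := k * x with hn'
  have hxn : x = k⁻¹ * n := by rw [hn']; group
  have hnH : n ∈ H := H.mul_mem (hKH hk) (hDH hx)
  have hnc : ∀ j ∈ J, n * j * n⁻¹ = j := by
    intro j hj
    set j' : X := n * j * n⁻¹ with hj'
    have hj'J : j' ∈ J := (mem_normalizer_iff.mp hn j).mp hj
    set d : X := x * j * x⁻¹ * j⁻¹ with hd
    have hdD : d ∈ D := by
      have h1 := D.mul_mem hx (hDJ j hj _ (D.inv_mem hx))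
      have h2 : x * (j * x⁻¹ * j⁻¹) = d := by rw [hd]; group
      rwa [h2] at h1
    have hdeq : d = (k⁻¹ * (j' * k * j'⁻¹)) * (j' * j⁻¹) := by
      rw [hd, hj', hxn]; group
    have hjj : (j' * j⁻¹) ∈ J := J.mul_mem hj'J (J.inv_mem hj)
    have h3 := mem_of_odd_mul (N := K) (n := k⁻¹ * (j' * k * j'⁻¹)) (s := j' * j⁻¹)
      (K.mul_mem (K.inv_mem hk) (hKn _ (hJH hj'J) _ hk)) (hKn _ (hJH hjj)) (hJ2 _ hjj)
      (by rw [← hdeq]; exact odd_orderOf_of_mem hDodd hdD)
    have h4 := eq_one_of_odd (hJ2 _ hjj) (odd_orderOf_of_mem hKodd h3.2)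
    exact mul_inv_eq_one.mp h4
  have hnZ : n ∈ H ⊓ centralizer (J : Set X) := by
    refine ⟨hnH, mem_centralizer_iff.mpr ?_⟩
    intro j hj
    have h1 := hnc j hj
    calc j * n = (n * j * n⁻¹) * n := by rw [h1]
      _ = n * j := by group
  obtain ⟨j, hj, l, hl, hjl⟩ := hLdec n hnZ
  have h5 : x = (k⁻¹ * (j * l * j⁻¹)) * j := by rw [hxn, hjl]; group
  have h6 := mem_of_odd_mul (N := K) (n := k⁻¹ * (j * l * j⁻¹)) (s := j)
    (K.mul_mem (K.inv_mem hk) (hKn _ (hJH hj) _ (hLK hl))) (hKn _ (hJH hj)) (hJ2 _ hj)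
    (by rw [← h5]; exact odd_orderOf_of_mem hDodd hx)
  rw [h5]
  exact h6.1

/-- An involution of a subgroup `M` containing the Sylow 2-subgroup `T` is conjugate in `M` into
`T`. -/
theorem exists_conj_mem [Finite X] (T : Sylow 2 X) {M : Subgroup X} (hTM : (T : Subgroup X) ≤ M)
    {t : X} (ht : t ∈ M) (h2 : orderOf t = 2) : ∃ m ∈ M, m * t * m⁻¹ ∈ T := by
  set P : Sylow 2 M := T.subtype hTM with hP
  have hz : IsPGroup 2 (zpowers (⟨t, ht⟩ : M)) := by
    rw [IsPGroup.iff_card]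
    exact ⟨1, by rw [Nat.card_zpowers, Subgroup.orderOf_mk, h2, pow_one]⟩
  obtain ⟨Q, hQ⟩ := hz.exists_le_sylow
  obtain ⟨m, hm⟩ := MulAction.exists_smul_eq M Q P
  refine ⟨m, m.2, ?_⟩
  have h1 : (⟨t, ht⟩ : M) ∈ Q := hQ (mem_zpowers _)
  have h3 : m * ⟨t, ht⟩ * m⁻¹ ∈ (m • Q : Sylow 2 M) := by
    rw [← SetLike.mem_coe, Sylow.coe_smul]
    exact Set.mem_smul_set.mpr ⟨⟨t, ht⟩, h1, rfl⟩
  rw [hm] at h3
  exact h3

/-- A subgroup containing the normalizer of a Sylow 2-subgroup and the centralizers of its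
involutions is everything or strongly embedded. -/
theorem crit [Finite X] (T : Sylow 2 X) (hT1 : (T : Subgroup X) ≠ ⊥) {M : Subgroup X}
    (hN : normalizer (T : Set X) ≤ M)
    (hC : ∀ t ∈ T, orderOf t = 2 → centralizer ({t} : Set X) ≤ M) :
    M = ⊤ ∨ Cfsg.IsStronglyEmbedded M := by
  have : Fact (Nat.Prime 2) := ⟨Nat.prime_two⟩
  by_cases hne : M = ⊤
  · exact Or.inl hne
  right
  have hTM : (T : Subgroup X) ≤ M := le_normalizer.trans hN
  refine ⟨hne, ?_, ?_⟩
  · have h3 : Nat.card (T : Subgroup X) ∣ Nat.card M := card_dvd_of_le hTM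
    obtain ⟨n, hn⟩ := T.isPGroup'.exists_card_eq
    have hn0 : n ≠ 0 := by
      rintro rfl
      rw [pow_zero, card_eq_one] at hn
      exact hT1 hn
    rw [even_iff_two_dvd]
    refine dvd_trans ?_ h3
    rw [hn]
    exact dvd_pow_self 2 hn0
  · intro g hg
    by_contra hodd
    rw [Nat.not_odd_iff_even, even_iff_two_dvd] at hodd
    obtain ⟨⟨t, ht⟩, ht2⟩ := exists_prime_orderOf_dvd_card' 2 hodd
    rw [Subgroup.orderOf_mk] at ht2
    obtain ⟨htM, s, hs, hst⟩ := ht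
    have hst' : g * s * g⁻¹ = t := hst
    have hs2 : orderOf s = 2 := by
      rw [← ht2, ← hst', TwoFusion.StronglyEmbeddedBasic.orderOf_conj]
    -- a central involution of `T`
    obtain ⟨u, huT, hu2, huc⟩ : ∃ u ∈ T, orderOf u = 2 ∧ ∀ x ∈ T, x * u = u * x := by
      have hnt : Nontrivial (T : Subgroup X) := (Subgroup.nontrivial_iff_ne_bot _).mpr hT1
      have h1 : Nontrivial (center (T : Subgroup X)) := T.isPGroup'.center_nontrivial
      have h2 : IsPGroup 2 (center (T : Subgroup X)) := T.isPGroup'.to_subgroup _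
      have h3 : 2 ∣ Nat.card (center (T : Subgroup X)) := by
        obtain ⟨n, hn, hn'⟩ := (IsPGroup.nontrivial_iff_card h2).mp h1
        rw [hn']
        exact dvd_pow_self 2 hn.ne'
      obtain ⟨⟨⟨u, hu⟩, huc⟩, hu2⟩ := exists_prime_orderOf_dvd_card' 2 h3
      rw [Subgroup.orderOf_mk, Subgroup.orderOf_mk] at hu2
      refine ⟨u, hu, hu2, ?_⟩
      intro x hx
      have h4 := mem_center_iff.mp huc ⟨x, hx⟩
      simpa using congrArg Subtype.val h4
    -- step 1
    obtain ⟨m₁, hm₁, h1⟩ := exists_conj_mem T hTM hs hs2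
    obtain ⟨m₂, hm₂, h2⟩ := exists_conj_mem T hTM htM ht2
    set g₂ : X := m₂ * g * m₁⁻¹ with hg₂
    have hg₂s : g₂ * (m₁ * s * m₁⁻¹) * g₂⁻¹ = m₂ * t * m₂⁻¹ := by
      rw [hg₂, ← hst']; group
    have h3 : g₂ * u * g₂⁻¹ ∈ M := by
      refine hC _ h2 ?_ ?_
      · rw [TwoFusion.StronglyEmbeddedBasic.orderOf_conj]; exact ht2
      · rw [mem_centralizer_singleton_iff, ← hg₂s]
        have h5 := huc _ h1
        calc g₂ * u * g₂⁻¹ * (g₂ * (m₁ * s * m₁⁻¹) * g₂⁻¹)
            = g₂ * (u * (m₁ * s * m₁⁻¹)) * g₂⁻¹ := by group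
          _ = g₂ * ((m₁ * s * m₁⁻¹) * u) * g₂⁻¹ := by rw [h5]
          _ = _ := by group
    have h3' : orderOf (g₂ * u * g₂⁻¹) = 2 := by
      rw [TwoFusion.StronglyEmbeddedBasic.orderOf_conj]; exact hu2
    -- step 2
    obtain ⟨m₃, hm₃, h4⟩ := exists_conj_mem T hTM h3 h3'
    set g₃ : X := m₃ * g₂ with hg₃
    have h4' : g₃ * u * g₃⁻¹ ∈ T := by
      have h5 : g₃ * u * g₃⁻¹ = m₃ * (g₂ * u * g₂⁻¹) * m₃⁻¹ := by rw [hg₃]; group
      rw [h5]; exact h4
    have h5 : ∀ x ∈ T, g₃ * x * g₃⁻¹ ∈ M := by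
      intro x hx
      refine hC _ h4' ?_ ?_
      · rw [TwoFusion.StronglyEmbeddedBasic.orderOf_conj]; exact hu2
      · rw [mem_centralizer_singleton_iff]
        have h5 := huc _ hx
        calc g₃ * x * g₃⁻¹ * (g₃ * u * g₃⁻¹) = g₃ * (x * u) * g₃⁻¹ := by group
          _ = g₃ * (u * x) * g₃⁻¹ := by rw [h5]
          _ = _ := by group
    -- step 3
    have hT'M : ((g₃ • T : Sylow 2 X) : Subgroup X) ≤ M := by
      intro y hy
      have hy' : y ∈ (g₃ • T : Sylow 2 X) := hy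
      rw [← SetLike.mem_coe, Sylow.coe_smul] at hy'
      obtain ⟨x, hx, rfl⟩ := Set.mem_smul_set.mp hy'
      exact h5 x hx
    obtain ⟨m₄, hm₄⟩ := MulAction.exists_smul_eq M ((g₃ • T : Sylow 2 X).subtype hT'M)
      (T.subtype hTM)
    have h6 : (m₄ : X) * g₃ ∈ normalizer (T : Set X) := by
      refine mem_normalizer_of_conj' ?_
      intro x hx
      have h7 : (⟨g₃ * x * g₃⁻¹, h5 x hx⟩ : M) ∈ ((g₃ • T : Sylow 2 X).subtype hT'M) := by
        show g₃ * x * g₃⁻¹ ∈ (g₃ • T : Sylow 2 X)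
        rw [← SetLike.mem_coe, Sylow.coe_smul]
        exact Set.mem_smul_set.mpr ⟨x, hx, rfl⟩
      have h8 : m₄ * (⟨g₃ * x * g₃⁻¹, h5 x hx⟩ : M) * m₄⁻¹ ∈
          (m₄ • ((g₃ • T : Sylow 2 X).subtype hT'M) : Sylow 2 M) := by
        rw [← SetLike.mem_coe, Sylow.coe_smul]
        exact Set.mem_smul_set.mpr ⟨_, h7, rfl⟩
      rw [hm₄] at h8
      have h9 : (m₄ : X) * (g₃ * x * g₃⁻¹) * (m₄ : X)⁻¹ ∈ T := h8
      have h10 : (m₄ : X) * g₃ * x * ((m₄ : X) * g₃)⁻¹ = (m₄ : X) * (g₃ * x * g₃⁻¹) * (m₄ : X)⁻¹ := by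
        group
      rw [h10]; exact h9
    have h7 := hN h6
    apply hg
    have h8 : g = m₂⁻¹ * (m₃⁻¹ * ((m₄ : X)⁻¹ * ((m₄ : X) * g₃))) * m₁ := by
      rw [hg₃, hg₂]; group
    rw [h8]
    exact M.mul_mem (M.mul_mem (M.inv_mem hm₂) (M.mul_mem (M.inv_mem hm₃)
      (M.mul_mem (M.inv_mem m₄.2) h7))) hm₁

end basics

/-- **The functor theorem.** -/
theorem main (hSF : SolvFun.{u}) (hFT : OddSolv.{u}) {X : Type u} [Group X] [Finite X]
    (T : Sylow 2 X) (J : Subgroup X) (hJT : J ≤ T)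
    (hNT : normalizer (T : Set X) ≤ normalizer (J : Set X))
    (hJ2 : ∀ a ∈ J, a * a = 1) (hrank : 8 ≤ Nat.card J)
    (hself : ∀ x : X, (∃ k : ℕ, x ^ (2 ^ k) = 1) → (∀ j ∈ J, x * j = j * x) → x ∈ J)
    (hcen : ∀ v ∈ J, v ≠ 1 → ∀ c ∈ centralizer ({v} : Set X), ∃ k ∈ K v,
      k * c ∈ normalizer (J : Set X))
    (hout : ∀ t ∈ T, t ∉ J → orderOf t = 2 → (∀ c ∈ centralizer ({t} : Set X), ∃ k ∈ K t,
      k * c ∈ normalizer (J : Set X)) ∧ ∃ x ∈ J, ∃ y ∈ J, x ≠ 1 ∧ y ≠ 1 ∧ x ≠ y ∧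
        x * t = t * x ∧ y * t = t * y)
    (h2 : ∃ x y : X, orderOf x = 2 ∧ orderOf y = 2 ∧ ¬ IsConj x y) :
    ∀ x : X, ∃ k ∈ Cfsg.oddCore X, k * x ∈ normalizer (J : Set X) := by
  classical
  have hJc : ∀ j ∈ J, ∀ k ∈ J, j * k = k * j := by
    intro a ha b hb
    have h1 := hJ2 a ha
    have h2 := hJ2 b hb
    have h3 := hJ2 (a * b) (J.mul_mem ha hb)
    have ha' : a⁻¹ = a := inv_eq_of_mul_eq_one_right h1
    have hb' : b⁻¹ = b := inv_eq_of_mul_eq_one_right h2
    have hab : (a * b)⁻¹ = a * b := inv_eq_of_mul_eq_one_right h3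
    rw [← hab, mul_inv_rev, ha', hb']
  have hT1 : (T : Subgroup X) ≠ ⊥ := by
    intro h
    rw [h] at hJT
    rw [le_bot_iff] at hJT
    rw [hJT, card_bot] at hrank
    omega
  have hJC : ∀ v ∈ J, J ≤ centralizer ({v} : Set X) := by
    intro v hv a ha
    rw [mem_centralizer_singleton_iff]
    exact hJc a ha v hv
  -- balance
  have hbal : ∀ a ∈ J, a ≠ 1 → ∀ b ∈ J, b ≠ 1 → K a ⊓ centralizer ({b} : Set X) ≤ K b := by
    intro a ha ha1 b hb hb1
    refine le_core (H := centralizer ({b} : Set X)) (J := J) (K_le b) (K_odd b)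
      (fun c hc k hk => K_conj hc hk) (fun N h1 h2 h3 => le_K h1 h2 h3) (hJC b hb) hJ2
      (fun x _ h1 h2 => hself x h1 h2) (hcen b hb hb1) inf_le_right ?_ ?_
    · exact (K_odd a).of_dvd_nat (card_dvd_of_le inf_le_left)
    · intro j hj d hd
      refine ⟨K_conj (hJC a ha hj) hd.1, ?_⟩
      exact (centralizer _).mul_mem ((centralizer _).mul_mem (hJC b hb hj) hd.2)
        ((centralizer _).inv_mem (hJC b hb hj))
  have hW2 := hSF X J K hJc (fun a ha => by rw [pow_two]; exact hJ2 a ha) (by norm_num; exact hrank)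
    (fun a _ _ => K_le a) (fun a _ _ => by
      rw [← even_iff_two_dvd, Nat.not_even_iff_odd]; exact K_odd a)
    (fun a ha _ b hb x hx => K_conj (hJC a ha hb) hx)
    (fun a _ _ => hFT _ (K_odd a)) hbal
  set W : Subgroup X := ⨆ a : {a : X // a ∈ J ∧ a ≠ 1}, K a.1 with hW
  have hKW : ∀ v ∈ J, v ≠ 1 → K v ≤ W := fun v hv hv1 =>
    le_iSup (fun a : {a : X // a ∈ J ∧ a ≠ 1} => K a.1) ⟨v, hv, hv1⟩
  have hNW : normalizer (J : Set X) ≤ normalizer (W : Set X) := by
    intro n hn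
    refine mem_normalizer_of_conj' ?_
    have hmap : W.map (MulAut.conj n).toMonoidHom ≤ W := by
      rw [hW, Subgroup.map_iSup]
      refine iSup_le ?_
      rintro ⟨v, hv, hv1⟩
      have hv' : n * v * n⁻¹ ∈ J := (mem_normalizer_iff.mp hn v).mp hv
      have hv1' : n * v * n⁻¹ ≠ 1 := by
        intro h
        apply hv1
        have h3 : v = n⁻¹ * (n * v * n⁻¹) * n := by group
        rw [h3, h]; group
      refine le_trans ?_ (hKW _ hv' hv1')
      rintro _ ⟨x, hx, rfl⟩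
      exact K_map n v hx
    intro x hx
    exact hmap ⟨x, hx, rfl⟩
  have hTJ : (T : Subgroup X) ≤ normalizer (J : Set X) := le_normalizer.trans hNT
  -- closing principle
  have hclose : ∀ M : Subgroup X, normalizer (J : Set X) ≤ M → (∀ v ∈ J, v ≠ 1 → K v ≤ M) →
      M = ⊤ := by
    intro M hNM hKM
    have hCM : ∀ v ∈ J, v ≠ 1 → centralizer ({v} : Set X) ≤ M := by
      intro v hv hv1 c hc
      obtain ⟨k, hk, hn⟩ := hcen v hv hv1 c hc
      have h3 := M.mul_mem (M.inv_mem (hKM v hv hv1 hk)) (hNM hn)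
      simpa using h3
    rcases crit T hT1 (hNT.trans hNM) (M := M) (by
      intro t ht ht2
      by_cases htJ : t ∈ J
      · refine hCM t htJ ?_
        rintro rfl
        rw [orderOf_one] at ht2
        omega
      · obtain ⟨h3, x, hx, y, hy, hx1, hy1, hxy, hxt, hyt⟩ := hout t ht htJ ht2
        have hKt : K t ≤ M := by
          refine Lib.KleinGen.le_of_klein (K t) M (K_odd t) x y (hJ2 x hx) (hJ2 y hy)
            (hJc x hx y hy) ?_ ?_ ?_ ?_ ?_
          · intro k hk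
            exact K_conj (mem_centralizer_singleton_iff.mpr hxt) hk
          · intro k hk
            exact K_conj (mem_centralizer_singleton_iff.mpr hyt) hk
          · exact inf_le_right.trans (hCM x hx hx1)
          · exact inf_le_right.trans (hCM y hy hy1)
          · refine inf_le_right.trans (hCM (x * y) (J.mul_mem hx hy) ?_)
            intro h4
            apply hxy
            rw [mul_eq_one_iff_eq_inv.mp h4]
            exact inv_eq_of_mul_eq_one_right (hJ2 y hy)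
        intro c hc
        obtain ⟨k, hk, hn⟩ := h3 c hc
        have h5 := M.mul_mem (M.inv_mem (hKt hk)) (hNM hn)
        simpa using h5) with h | h
    · exact h
    · exfalso
      obtain ⟨a, b, ha, hb, hab⟩ := h2
      exact hab (TwoFusion.StronglyEmbeddedBasic.isConj_of_involutions h a b ha hb)
  have hWtop := hclose (normalizer (W : Set X)) hNW (fun v hv hv1 => (hKW v hv hv1).trans
    le_normalizer)
  have hWn : W.Normal := normalizer_eq_top_iff.mp hWtop
  have hWO : W ≤ Cfsg.oddCore X := by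
    refine Lib.Cores.le_pPrimeCore hWn ?_
    rw [Nat.coprime_comm, Nat.Prime.coprime_iff_not_dvd Nat.prime_two]
    exact hW2
  have hOn : (Cfsg.oddCore X).Normal := Lib.Cores.pPrimeCore_normal 2
  have htop := hclose (Cfsg.oddCore X ⊔ normalizer (J : Set X)) le_sup_right
    (fun v hv hv1 => ((hKW v hv hv1).trans hWO).trans le_sup_left)
  intro x
  have hx : x ∈ Cfsg.oddCore X ⊔ normalizer (J : Set X) := by rw [htop]; trivial
  obtain ⟨a, ha, b, hb, rfl⟩ := mem_sup_of_normal_left.mp hx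
  exact ⟨a⁻¹, inv_mem ha, by simpa using hb⟩

end Cfsg.Agent.J2Sylow.Functor
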