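import Mathlib

set_option autoImplicit false

/-!
# An explicit model of the Sylow 2-subgroup of the Hall-Janko group

`T` is the semidirect product of the group of upper unitriangular 3 x 3 matrices over the field
with four elements by the unitary polarity automorphism `(a,b,c) ↦ (b²,a²,c²+a²b²)`.
-/

namespace Cfsg.Agent.J2Sylow.Model

/-- The field with four elements, `w` a primitive cube root of unity, `u = w + 1 = w²`. -/
inductive F4 : Type
  | o | e | w | u
  deriving DecidableEq

namespace F4

/-- addition -/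
def add : F4 → F4 → F4
  | o, x => x
  | x, o => x
  | e, e => o
  | e, w => u
  | e, u => w
  | w, e => u
  | w, w => o
  | w, u => e
  | u, e => w
  | u, w => e
  | u, u => o

/-- multiplication -/
def mul : F4 → F4 → F4
  | o, _ => o
  | _, o => o
  | e, x => x
  | x, e => x
  | w, w => u
  | w, u => e
  | u, w => e
  | u, u => w

/-- Frobenius -/
def fr : F4 → F4
  | o => o
  | e => e
  | w => u
  | u => w

instance decForall (p : F4 → Prop) [DecidablePred p] : Decidable (∀ x, p x) :=
  decidable_of_iff (p o ∧ p e ∧ p w ∧ p u)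
    ⟨fun h x => by cases x <;> simp_all, fun h => ⟨h _, h _, h _, h _⟩⟩

instance decExists (p : F4 → Prop) [DecidablePred p] : Decidable (∃ x, p x) :=
  decidable_of_iff (p o ∨ p e ∨ p w ∨ p u)
    ⟨fun h => by rcases h with h | h | h | h <;> exact ⟨_, h⟩,
     fun ⟨x, h⟩ => by cases x <;> simp_all⟩

instance : Fintype F4 := ⟨{o, e, w, u}, fun x => by cases x <;> decide⟩

instance : Zero F4 := ⟨o⟩
instance : One F4 := ⟨e⟩
instance : Add F4 := ⟨add⟩
instance : Mul F4 := ⟨mul⟩
instance : Neg F4 := ⟨fun x => x⟩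

instance : CommRing F4 where
  add_assoc := by decide
  zero_add := by decide
  add_zero := by decide
  add_comm := by decide
  left_distrib := by decide
  right_distrib := by decide
  zero_mul := by decide
  mul_zero := by decide
  mul_assoc := by decide
  one_mul := by decide
  mul_one := by decide
  mul_comm := by decide
  neg_add_cancel := by decide
  nsmul := nsmulRec
  zsmul := zsmulRec

theorem fr_add (x y : F4) : fr (x + y) = fr x + fr y := by revert x y; decide

theorem fr_mul (x y : F4) : fr (x * y) = fr x * fr y := by revert x y; decide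

theorem fr_fr (x : F4) : fr (fr x) = x := by revert x; decide

theorem add_self (x : F4) : x + x = 0 := by revert x; decide

theorem two_eq : (2 : F4) = 0 := by
  have h : (2 : F4) = 1 + 1 := by norm_num
  rw [h]
  exact add_self 1

end F4

/-- The group of order 128. -/
structure T : Type where
  /-- entry (1,2) -/
  a : F4
  /-- entry (2,3) -/
  b : F4
  /-- entry (1,3) -/
  c : F4
  /-- the polarity component -/
  s : Bool
  deriving DecidableEq

namespace T

open F4

/-- product of `u1 τ^s1` and `u2 τ^s2` -/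
def mul (x y : T) : T :=
  match x.s with
  | false => ⟨x.a + y.a, x.b + y.b, x.c + y.c + x.a * y.b, y.s⟩
  | true => ⟨x.a + fr y.b, x.b + fr y.a,
      x.c + fr y.c + (fr (y.a * y.b) + x.a * fr y.a), !y.s⟩

/-- inverse -/
def inv (x : T) : T :=
  match x.s with
  | false => ⟨x.a, x.b, x.c + x.a * x.b, false⟩
  | true => ⟨fr x.b, fr x.a, fr x.c, true⟩

/-- identity -/
def one : T := ⟨o, o, o, false⟩

instance : Mul T := ⟨mul⟩
instance : Inv T := ⟨inv⟩
instance : One T := ⟨one⟩

instance decForall (p : T → Prop) [DecidablePred p] : Decidable (∀ x, p x) :=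
  decidable_of_iff (∀ a b c : F4, p ⟨a, b, c, false⟩ ∧ p ⟨a, b, c, true⟩)
    ⟨fun h x => by
      obtain ⟨a, b, c, s⟩ := x
      cases s
      · exact (h a b c).1
      · exact (h a b c).2, fun h a b c => ⟨h _, h _⟩⟩

instance decExists (p : T → Prop) [DecidablePred p] : Decidable (∃ x, p x) :=
  decidable_of_iff (∃ a b c : F4, p ⟨a, b, c, false⟩ ∨ p ⟨a, b, c, true⟩)
    ⟨fun ⟨a, b, c, h⟩ => by rcases h with h | h <;> exact ⟨_, h⟩,
     fun ⟨⟨a, b, c, s⟩, h⟩ => ⟨a, b, c, by cases s <;> simp_all⟩⟩

theorem inv_mul_cancel' : ∀ x : T, x⁻¹ * x = 1 := by decide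

theorem one_mul' : ∀ x : T, 1 * x = x := by decide

theorem mul_one' : ∀ x : T, x * 1 = x := by decide

theorem mul_def (x y : T) : x * y = mul x y := rfl

theorem mul_false (xa xb xc : F4) (y : T) :
    (⟨xa, xb, xc, false⟩ : T) * y = ⟨xa + y.a, xb + y.b, xc + y.c + xa * y.b, y.s⟩ := rfl

theorem mul_true (xa xb xc : F4) (y : T) :
    (⟨xa, xb, xc, true⟩ : T) * y = ⟨xa + fr y.b, xb + fr y.a,
      xc + fr y.c + (fr (y.a * y.b) + xa * fr y.a), !y.s⟩ := rfl

theorem fr_eq (x : F4) : fr x = x * x := by revert x; decide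

theorem pow4 (x : F4) : x * x * (x * x) = x := by revert x; decide

protected theorem mul_assoc (x y z : T) : x * y * z = x * (y * z) := by
  obtain ⟨xa, xb, xc, xs⟩ := x
  obtain ⟨ya, yb, yc, ys⟩ := y
  obtain ⟨za, zb, zc, zs⟩ := z
  cases xs <;> cases ys <;> simp only [mul_false, mul_true, T.mk.injEq, fr_add, fr_mul, fr_fr,
    Bool.not_not, and_true, Bool.not_true, Bool.not_false] <;> refine ⟨?_, ?_, ?_⟩ <;> try ring1
  · simp only [fr_eq]
    linear_combination (-(ya ^ 2 * zb ^ 2)) * two_eq
  · simp only [fr_eq]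
    linear_combination (-(ya ^ 2 * za) - zb * za) * two_eq

instance : Group T where
  mul_assoc := T.mul_assoc
  one_mul := one_mul'
  mul_one := mul_one'
  inv_mul_cancel := inv_mul_cancel'

/-- listing -/
def equivProd : T ≃ F4 × F4 × F4 × Bool where
  toFun x := (x.a, x.b, x.c, x.s)
  invFun y := ⟨y.1, y.2.1, y.2.2.1, y.2.2.2⟩
  left_inv _ := rfl
  right_inv _ := rfl

instance : Fintype T := Fintype.ofEquiv _ equivProd.symm

theorem card_T : Nat.card T = 128 := by
  rw [Nat.card_congr equivProd]
  simp [Nat.card_eq_fintype_card]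
  decide

/-- the central involution -/
def z : T := ⟨o, o, e, false⟩

/-- another involution of the centre of `R` -/
def v : T := ⟨o, o, w, false⟩

/-- the polarity -/
def tau : T := ⟨o, o, o, true⟩

/-- the centre of `R`, a four-group -/
def U : Subgroup T where
  carrier := {x | x.a = o ∧ x.b = o ∧ x.s = false}
  one_mem' := by decide
  mul_mem' := by
    intro x y
    revert x y
    decide +kernel
  inv_mem' := by
    intro x
    revert x
    decide +kernel

/-- the Sylow 2-subgroup of `L3(4)`, order 64 -/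
def R : Subgroup T where
  carrier := {x | x.s = false}
  one_mem' := by decide
  mul_mem' := by
    intro x y
    revert x y
    decide +kernel
  inv_mem' := by
    intro x
    revert x
    decide +kernel

/-- elementary abelian of order 16 -/
def E1 : Subgroup T where
  carrier := {x | x.b = o ∧ x.s = false}
  one_mem' := by decide
  mul_mem' := by
    intro x y
    revert x y
    decide +kernel
  inv_mem' := by
    intro x
    revert x
    decide +kernel

/-- elementary abelian of order 16 -/
def E2 : Subgroup T where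
  carrier := {x | x.a = o ∧ x.s = false}
  one_mem' := by decide
  mul_mem' := by
    intro x y
    revert x y
    decide +kernel
  inv_mem' := by
    intro x
    revert x
    decide +kernel

/-- extraspecial of order 32 and minus type -/
def Q : Subgroup T where
  carrier := {x | x.b = fr x.a}
  one_mem' := by decide
  mul_mem' := by
    intro x y
    revert x y
    decide +kernel
  inv_mem' := by
    intro x
    revert x
    decide +kernel

theorem mem_U {x : T} : x ∈ U ↔ x.a = o ∧ x.b = o ∧ x.s = false := Iff.rfl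
theorem mem_R {x : T} : x ∈ R ↔ x.s = false := Iff.rfl
theorem mem_E1 {x : T} : x ∈ E1 ↔ x.b = o ∧ x.s = false := Iff.rfl
theorem mem_E2 {x : T} : x ∈ E2 ↔ x.a = o ∧ x.s = false := Iff.rfl
theorem mem_Q {x : T} : x ∈ Q ↔ x.b = fr x.a := Iff.rfl

instance : DecidablePred (· ∈ U) := fun x =>
  inferInstanceAs (Decidable (x.a = o ∧ x.b = o ∧ x.s = false))
instance : DecidablePred (· ∈ R) := fun x => inferInstanceAs (Decidable (x.s = false))
instance : DecidablePred (· ∈ E1) := fun x =>
  inferInstanceAs (Decidable (x.b = o ∧ x.s = false))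
instance : DecidablePred (· ∈ E2) := fun x =>
  inferInstanceAs (Decidable (x.a = o ∧ x.s = false))
instance : DecidablePred (· ∈ Q) := fun x => inferInstanceAs (Decidable (x.b = fr x.a))

theorem card_U : Nat.card U = 4 := by
  rw [Nat.card_eq_fintype_card, Fintype.card_subtype]; decide +kernel
theorem card_R : Nat.card R = 64 := by
  rw [Nat.card_eq_fintype_card, Fintype.card_subtype]; decide +kernel
theorem card_E1 : Nat.card E1 = 16 := by
  rw [Nat.card_eq_fintype_card, Fintype.card_subtype]; decide +kernel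
theorem card_E2 : Nat.card E2 = 16 := by
  rw [Nat.card_eq_fintype_card, Fintype.card_subtype]; decide +kernel
theorem card_Q : Nat.card Q = 32 := by
  rw [Nat.card_eq_fintype_card, Fintype.card_subtype]; decide +kernel

theorem U_le_E1 : U ≤ E1 := fun _ hx => ⟨hx.2.1, hx.2.2⟩
theorem U_le_E2 : U ≤ E2 := fun _ hx => ⟨hx.1, hx.2.2⟩
theorem E1_le_R : E1 ≤ R := fun _ hx => hx.2
theorem E2_le_R : E2 ≤ R := fun _ hx => hx.2
theorem U_le_R : U ≤ R := fun _ hx => hx.2.2
theorem U_le_Q : U ≤ Q := by intro x; revert x; decide +kernel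

/-- centralizer of an involution outside `R` -/
theorem comm_of_not_R : ∀ x y : T, x.s = true → x * x = 1 → y * y = 1 → x * y = y * x →
    y = 1 ∨ y = x ∨ y = z ∨ y = x * z := by decide +kernel

theorem tau_conj : ∀ x : T, x.s = true → x * x = 1 → ∃ g : T, g * x * g⁻¹ = tau := by
  decide +kernel

theorem mem_Q_of_inv_not_R : ∀ x : T, x.s = true → x * x = 1 → x ∈ Q := by decide +kernel

theorem inv_R : ∀ x : T, x * x = 1 → x ∈ R → x ∈ E1 ∨ x ∈ E2 := by decide +kernel

theorem comm_E1 : ∀ x y : T, x ∈ E1 → x ∉ U → x * y = y * x → y ∈ E1 := by decide +kernel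

theorem comm_E2 : ∀ x y : T, x ∈ E2 → x ∉ U → x * y = y * x → y ∈ E2 := by decide +kernel

theorem E1_comm : ∀ x y : T, x ∈ E1 → y ∈ E1 → x * y = y * x := by decide +kernel
theorem E2_comm : ∀ x y : T, x ∈ E2 → y ∈ E2 → x * y = y * x := by decide +kernel
theorem E1_sq : ∀ x : T, x ∈ E1 → x * x = 1 := by decide +kernel
theorem E2_sq : ∀ x : T, x ∈ E2 → x * x = 1 := by decide +kernel
theorem U_cases : ∀ x : T, x ∈ U → x = 1 ∨ x = z ∨ x = v ∨ x = v * z := by decide +kernel
theorem z_comm : ∀ x : T, z * x = x * z := by decide +kernel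
theorem U_central : ∀ x y : T, x ∈ U → y ∈ R → x * y = y * x := by decide +kernel
theorem comm_v : ∀ y : T, v * y = y * v → y ∈ R := by decide +kernel
theorem comm_vz : ∀ y : T, v * z * y = y * (v * z) → y ∈ R := by decide +kernel
theorem center_eq : ∀ x : T, (∀ y, x * y = y * x) → x = 1 ∨ x = z := by decide +kernel
theorem tau_swap : ∀ x : T, x ∈ E1 → tau * x * tau⁻¹ ∈ E2 := by decide +kernel
theorem tau_swap' : ∀ x : T, x ∈ E2 → tau * x * tau⁻¹ ∈ E1 := by decide +kernel
theorem R_normal : ∀ x g : T, x ∈ R → g * x * g⁻¹ ∈ R := by decide +kernel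
theorem U_normal : ∀ x g : T, x ∈ U → g * x * g⁻¹ ∈ U := by decide +kernel
theorem Q_normal : ∀ x g : T, x ∈ Q → g * x * g⁻¹ ∈ Q := by decide +kernel
theorem E1_normal : ∀ x g : T, x ∈ E1 → g ∈ R → g * x * g⁻¹ ∈ E1 := by decide +kernel
theorem E2_normal : ∀ x g : T, x ∈ E2 → g ∈ R → g * x * g⁻¹ ∈ E2 := by decide +kernel

end T

end Cfsg.Agent.J2Sylow.Model
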