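import Cfsg.Agent.S1619
import Cfsg.Agent.J2.HundredGens
import Cfsg.Agent.J2Sylow.Model

/-!
# The Sylow 2-subgroups of the Hall–Janko group

`exists_equiv`: every Sylow 2-subgroup of `Cfsg.Spor.J2` is isomorphic to the explicit model group
`Model.T` of order 128 (`UT₃(4)` extended by the involution `(a, b, c) ↦ (b', a', c' + a' b')`).
-/

set_option autoImplicit false

namespace Cfsg.Agent.J2Sylow.SporSylow

open Cfsg Cfsg.Agent.J2Sylow.Model Cfsg.Agent.J2Sylow.Model.F4 Cfsg.Agent.J2.HundredGens Cfsg.Agent.SporadicA.PermTab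
  Cfsg.Agent.SporadicA.J2Hundred

/-! ### homomorphisms from the model group -/

section lift

variable {G : Type*} [Group G]

/-- the relations of the model group -/
structure Rel (X Y Z : F4 → G) (t : G) : Prop where
  XX : ∀ a b, X a * X b = X (a + b)
  YY : ∀ a b, Y a * Y b = Y (a + b)
  ZZ : ∀ a b, Z a * Z b = Z (a + b)
  XY : ∀ a b, X a * Y b = Y b * (X a * Z (a * b))
  ZX : ∀ a b, Z a * X b = X b * Z a
  ZY : ∀ a b, Z a * Y b = Y b * Z a
  TX : ∀ a, t * X a = Y (fr a) * t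
  TY : ∀ a, t * Y a = X (fr a) * t
  TZ : ∀ a, t * Z a = Z (fr a) * t
  TT : t * t = 1

/-- normal form -/
def liftFun (X Y Z : F4 → G) (t : G) (x : T) : G :=
  Y x.b * (X x.a * (Z x.c * (if x.s then t else 1)))

theorem aux_false : ∀ a b' c c' : F4, a * b' + (c + c') = c + c' + a * b' := by decide +kernel

theorem aux_true : ∀ a a' b' c c' : F4, a * fr a' + (c + (fr b' * fr a' + fr c')) =
    c + fr c' + (fr (a' * b') + a * fr a') := by decide +kernel

theorem mul_false (a b c a' b' c' : F4) (s' : Bool) : (⟨a, b, c, false⟩ : T) * ⟨a', b', c', s'⟩ =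
    ⟨a + a', b + b', c + c' + a * b', s'⟩ := rfl

theorem mul_true (a b c a' b' c' : F4) (s' : Bool) : (⟨a, b, c, true⟩ : T) * ⟨a', b', c', s'⟩ =
    ⟨a + fr b', b + fr a', c + fr c' + (fr (a' * b') + a * fr a'), !s'⟩ := rfl

theorem liftFun_mul {X Y Z : F4 → G} {t : G} (h : Rel X Y Z t) (x y : T) :
    liftFun X Y Z t (x * y) = liftFun X Y Z t x * liftFun X Y Z t y := by
  have hXX : ∀ a b (r : G), X a * (X b * r) = X (a + b) * r := fun a b r => by
    rw [← mul_assoc, h.XX]
  have hYY : ∀ a b (r : G), Y a * (Y b * r) = Y (a + b) * r := fun a b r => by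
    rw [← mul_assoc, h.YY]
  have hZZ : ∀ a b (r : G), Z a * (Z b * r) = Z (a + b) * r := fun a b r => by
    rw [← mul_assoc, h.ZZ]
  have hXY : ∀ a b (r : G), X a * (Y b * r) = Y b * (X a * (Z (a * b) * r)) := fun a b r => by
    rw [← mul_assoc, h.XY]; simp only [mul_assoc]
  have hZX : ∀ a b (r : G), Z a * (X b * r) = X b * (Z a * r) := fun a b r => by
    rw [← mul_assoc, h.ZX, mul_assoc]
  have hZY : ∀ a b (r : G), Z a * (Y b * r) = Y b * (Z a * r) := fun a b r => by
    rw [← mul_assoc, h.ZY, mul_assoc]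
  have hTX : ∀ a (r : G), t * (X a * r) = Y (fr a) * (t * r) := fun a r => by
    rw [← mul_assoc, h.TX, mul_assoc]
  have hTY : ∀ a (r : G), t * (Y a * r) = X (fr a) * (t * r) := fun a r => by
    rw [← mul_assoc, h.TY, mul_assoc]
  have hTZ : ∀ a (r : G), t * (Z a * r) = Z (fr a) * (t * r) := fun a r => by
    rw [← mul_assoc, h.TZ, mul_assoc]
  obtain ⟨a, b, c, s⟩ := x
  obtain ⟨a', b', c', s'⟩ := y
  cases s
  · rw [mul_false]
    simp only [liftFun, mul_assoc, Bool.false_eq_true, if_false, one_mul, hZY, hZX, hXY, hYY, hXX,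
      hZZ, aux_false]
  · rw [mul_true]
    have hS : t * (if s' = true then t else 1) = if (!s') = true then t else 1 := by
      cases s' <;> simp [h.TT]
    simp only [liftFun, mul_assoc, if_true, hTX, hTY, hTZ, hS, hZY, hZX, hXY, hYY, hXX, hZZ,
      aux_true]

/-- the homomorphism given by the relations -/
def liftHom {X Y Z : F4 → G} {t : G} (h : Rel X Y Z t) : T →* G :=
  MonoidHom.mk' (liftFun X Y Z t) (liftFun_mul h)

end lift

/-! ### words in the five involutions of the Hall–Janko group on 100 points -/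

/-- words of the elements `(a, 0, 0)` -/
def wX : F4 → List ℕ
  | .o => []
  | .e => [3, 2, 3, 1, 2, 3]
  | .w => [4, 3, 1, 2, 3, 4, 1, 2, 3, 1, 2, 3, 4, 1]
  | .u => [1, 2, 3, 4, 3, 2, 3, 0, 1, 2, 3, 4, 2, 3, 1, 2, 3, 1, 2, 0]

/-- words of the elements `(0, b, 0)` -/
def wY : F4 → List ℕ
  | .o => []
  | .e => [2, 3, 2, 3, 1, 2, 3, 2]
  | .w => [1, 2, 3, 4, 3, 1, 2, 3, 0, 1, 2, 3, 4, 2, 3, 1, 2, 3, 1, 0]
  | .u => [4, 2, 3, 1, 2, 3, 4, 1, 2, 3, 1, 2, 3, 4, 1, 2]

/-- words of the elements `(0, 0, c)` -/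
def wZ : F4 → List ℕ
  | .o => []
  | .e => [1, 2, 3, 2, 1, 0, 1, 2, 3, 1, 2, 1]
  | .w => [4, 3, 2, 1, 0, 1, 2, 3, 4, 2, 3, 2, 1, 0, 1, 2, 3, 4, 2, 3, 2, 3, 1, 2, 3, 2]
  | .u => [3, 1, 0, 1, 2, 3, 4, 2, 3, 2, 3, 1, 2, 3, 0, 1, 2, 3, 4, 2, 3, 2, 3, 1, 0, 1]

/-- word of `tau` -/
def wT : List ℕ := [2]

theorem rel_X (a b : F4) : pw (wX a ++ wX b) = pw (wX (a + b)) :=
  pw_eq (by revert a b; decide +kernel)
theorem rel_Y (a b : F4) : pw (wY a ++ wY b) = pw (wY (a + b)) :=
  pw_eq (by revert a b; decide +kernel)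
theorem rel_Z (a b : F4) : pw (wZ a ++ wZ b) = pw (wZ (a + b)) :=
  pw_eq (by revert a b; decide +kernel)
theorem rel_XY (a b : F4) : pw (wX a ++ wY b) = pw (wY b ++ (wX a ++ wZ (a * b))) :=
  pw_eq (by revert a b; decide +kernel)
theorem rel_ZX (a b : F4) : pw (wZ a ++ wX b) = pw (wX b ++ wZ a) :=
  pw_eq (by revert a b; decide +kernel)
theorem rel_ZY (a b : F4) : pw (wZ a ++ wY b) = pw (wY b ++ wZ a) :=
  pw_eq (by revert a b; decide +kernel)
theorem rel_TX (a : F4) : pw (wT ++ wX a) = pw (wY (fr a) ++ wT) :=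
  pw_eq (by revert a; decide +kernel)
theorem rel_TY (a : F4) : pw (wT ++ wY a) = pw (wX (fr a) ++ wT) :=
  pw_eq (by revert a; decide +kernel)
theorem rel_TZ (a : F4) : pw (wT ++ wZ a) = pw (wZ (fr a) ++ wT) :=
  pw_eq (by revert a; decide +kernel)
theorem rel_TT : pw (wT ++ wT) = pw [] := pw_eq (by decide +kernel)

/-- the word of an element of the model group -/
def wd (t : T) : List ℕ := wY t.b ++ wX t.a ++ wZ t.c ++ (if t.s then wT else [])

theorem ne_one {L : List ℕ} (h : chk L [] = false) : pw L ≠ 1 := by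
  intro h1
  have h2 : chk L [] = true := by
    unfold chk
    rw [allB_iff]
    intro i hi
    have h3 := pw_val L ⟨i, hi⟩
    rw [h1] at h3
    rw [← h3]
    exact Nat.beq_refl i
  rw [h2] at h
  exact absurd h (by decide)

theorem pw_wd (t : T) : pw (wd t) = pw (wY t.b) * (pw (wX t.a) * (pw (wZ t.c) *
    (if t.s then pw wT else 1))) := by
  unfold wd
  rw [pw_append, pw_append, pw_append, mul_assoc, mul_assoc]
  split_ifs <;> rfl

theorem wd_chk : ∀ t : T, t ≠ 1 → chk (wd t) [] = false := by decide +kernel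

theorem rels : Rel (fun a => gw (wX a)) (fun a => gw (wY a)) (fun a => gw (wZ a)) (gw wT) where
  XX a b := Subtype.ext (by change pw _ * pw _ = pw _; rw [pw_mul, rel_X])
  YY a b := Subtype.ext (by change pw _ * pw _ = pw _; rw [pw_mul, rel_Y])
  ZZ a b := Subtype.ext (by change pw _ * pw _ = pw _; rw [pw_mul, rel_Z])
  XY a b := Subtype.ext (by
    change pw _ * pw _ = pw _ * (pw _ * pw _); rw [pw_mul, pw_mul, pw_mul, rel_XY])
  ZX a b := Subtype.ext (by change pw _ * pw _ = pw _ * pw _; rw [pw_mul, pw_mul, rel_ZX])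
  ZY a b := Subtype.ext (by change pw _ * pw _ = pw _ * pw _; rw [pw_mul, pw_mul, rel_ZY])
  TX a := Subtype.ext (by change pw _ * pw _ = pw _ * pw _; rw [pw_mul, pw_mul, rel_TX])
  TY a := Subtype.ext (by change pw _ * pw _ = pw _ * pw _; rw [pw_mul, pw_mul, rel_TY])
  TZ a := Subtype.ext (by change pw _ * pw _ = pw _ * pw _; rw [pw_mul, pw_mul, rel_TZ])
  TT := Subtype.ext (by change pw _ * pw _ = 1; rw [pw_mul, rel_TT, pw_nil])

/-- the model group in the Hall–Janko group on 100 points -/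
noncomputable def hom : T →* G := liftHom rels

theorem hom_val (t : T) : ((hom t : G) : Equiv.Perm (Fin 100)) = pw (wd t) := by
  rw [pw_wd]
  change ((liftFun _ _ _ _ t : G) : Equiv.Perm (Fin 100)) = _
  unfold liftFun
  split_ifs <;> rfl

theorem hom_injective : Function.Injective hom := by
  rw [injective_iff_map_eq_one]
  intro t h
  by_contra ht
  refine ne_one (wd_chk t ht) ?_
  rw [← hom_val, h]
  rfl

theorem card_J2 : Nat.card Cfsg.Spor.J2 = 604800 := Cfsg.Agent.S1619.result.2.2.2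

/-- the model group in the Hall–Janko group -/
theorem exists_hom : ∃ f : T →* Cfsg.Spor.J2, Function.Injective f := by
  obtain ⟨e⟩ := J2_iso card_J2
  exact ⟨e.symm.toMonoidHom.comp hom, fun x y h => hom_injective (e.symm.injective h)⟩

theorem card_sylow (P : Sylow 2 Cfsg.Spor.J2) : Nat.card P = 128 := by
  have : Finite Cfsg.Spor.J2 := Nat.finite_of_card_ne_zero (by rw [card_J2]; norm_num)
  rw [P.card_eq_multiplicity, card_J2]
  have : (604800 : ℕ) = 2 ^ 7 * 4725 := by norm_num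
  rw [this, Nat.factorization_mul (by norm_num) (by norm_num), Finsupp.add_apply,
    Nat.Prime.factorization_pow Nat.prime_two, Finsupp.single_eq_same,
    Nat.factorization_eq_zero_of_not_dvd (by norm_num)]
  rfl

/-- the Sylow 2-subgroups of `J2` are isomorphic to the model group -/
theorem exists_equiv (P : Sylow 2 Cfsg.Spor.J2) :
    Nonempty (T ≃* ↥(P : Subgroup Cfsg.Spor.J2)) := by
  have : Finite Cfsg.Spor.J2 := Nat.finite_of_card_ne_zero (by rw [card_J2]; norm_num)
  obtain ⟨f, hf⟩ := exists_hom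
  have hc : Nat.card f.range = 128 := by
    rw [← Nat.card_congr (MonoidHom.ofInjective hf).toEquiv, T.card_T]
  have h1 : IsPGroup 2 f.range := IsPGroup.of_card (n := 7) (by rw [hc]; norm_num)
  obtain ⟨Q, hQ⟩ := h1.exists_le_sylow
  have h2 : f.range = (Q : Subgroup Cfsg.Spor.J2) := by
    apply Subgroup.eq_of_le_of_card_ge hQ
    rw [hc]
    exact (card_sylow Q).le
  exact ⟨((MonoidHom.ofInjective hf).trans (MulEquiv.subgroupCongr h2)).trans (Sylow.equiv Q P)⟩

end Cfsg.Agent.J2Sylow.SporSylow
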