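import Mathlib
import Cfsg.Agent.J2Sylow.Model

set_option autoImplicit false

/-!
# Groups with a Sylow 2-subgroup of type J2: the set-up
-/

namespace Cfsg.Agent.J2Sylow

open Model

/-- `G` has a Sylow 2-subgroup isomorphic to the model group `T`. -/
structure Setup (G : Type*) [Group G] where
  /-- the embedding -/
  φ : T →* G
  inj : Function.Injective φ
  odd_index : Odd φ.range.index

namespace Setup

variable {G : Type*} [Group G] (h : Setup G)

/-- the Sylow 2-subgroup -/
def S : Subgroup G := h.φ.range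
/-- the image of `U` -/
def U : Subgroup G := T.U.map h.φ
/-- the image of `R` -/
def R : Subgroup G := T.R.map h.φ
/-- the image of `E1` -/
def E1 : Subgroup G := T.E1.map h.φ
/-- the image of `E2` -/
def E2 : Subgroup G := T.E2.map h.φ
/-- the image of `Q` -/
def Q : Subgroup G := T.Q.map h.φ
/-- the central involution -/
def z : G := h.φ T.z
/-- a further involution of `U` -/
def v : G := h.φ T.v
/-- the polarity -/
def tau : G := h.φ T.tau

end Setup

/-- the fusion we need -/
structure Fused {G : Type*} [Group G] (h : Setup G) : Prop where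
  f1 : ∃ g : G, (∀ x ∈ h.R, g * x * g⁻¹ ∈ h.R) ∧ g * h.v * g⁻¹ = h.z
  f2 : ∃ g : G, g * h.z = h.z * g ∧ (∀ x ∈ h.Q, g * x * g⁻¹ ∈ h.Q) ∧ g * h.tau * g⁻¹ = h.v

end Cfsg.Agent.J2Sylow
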