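import Mathlib
import Cfsg.Agent.J2Sylow.Setup

set_option autoImplicit false

/-!
# The set-up from an isomorphism of a Sylow subgroup with the model
-/

namespace Cfsg.Agent.J2Sylow.Setup

open Model Subgroup

/-- The set-up from an isomorphism with a subgroup of odd index. -/
def ofEquiv {G : Type*} [Group G] (S : Subgroup G) (hS : Odd S.index) (e : T ≃* S) : Setup G where
  φ := S.subtype.comp e.toMonoidHom
  inj := S.subtype_injective.comp e.injective
  odd_index := by
    have h1 : (S.subtype.comp e.toMonoidHom).range = S := by
      ext x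
      constructor
      · rintro ⟨t, rfl⟩
        exact (e t).2
      · intro hx
        exact ⟨e.symm ⟨x, hx⟩, by simp⟩
    rw [h1]
    exact hS

theorem odd_index_sylow {G : Type*} [Group G] [Finite G] (S : Sylow 2 G) :
    Odd (S : Subgroup G).index := by
  have : Fact (Nat.Prime 2) := ⟨Nat.prime_two⟩
  rw [← Nat.not_even_iff_odd, even_iff_two_dvd]
  exact S.not_dvd_index

/-- The set-up from a Sylow 2-subgroup isomorphic to the model. -/
theorem exists_of_sylow {G : Type*} [Group G] [Finite G] (S : Sylow 2 G)
    (e : Nonempty (T ≃* (S : Subgroup G))) : Nonempty (Setup G) :=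
  e.elim fun e => ⟨ofEquiv _ (odd_index_sylow S) e⟩

end Cfsg.Agent.J2Sylow.Setup
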