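import Cfsg.Agent.J2Sylow.Main
import Cfsg.Agent.J2Sylow.SporSylow
import Cfsg.Agent.J2Sylow.Start
import Cfsg.Agent.SignalizersComponents.GoldschmidtTwo
import Cfsg.Agent.S0205
import Cfsg.Agent.S0215
import Cfsg.Agent.S1221

/-!
The main theorem on groups with a Sylow 2-subgroup of J2 type, with the Gorenstein-Walter theorem
(S0483) as the only hypothesis.
-/

set_option autoImplicit false

namespace Cfsg.Agent.J2Sylow.MainGW

universe u

theorem solvFun : Functor.SolvFun.{u} := by
  intro X _ _ A θ h1 h2 h3 h4 h5 h6 h7 h8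
  exact (SignalizersComponents.GoldschmidtTwo.solvable_signalizer_functor_two A h1 h2 h3 θ h4 h5
    h6 h7 h8).1

theorem oddSolv : Functor.OddSolv.{u} := fun _ _ _ hX => S0205.result hX

theorem zStar : ZNonsing.ZStar.{u} := fun _ _ _ P a ha haP h => S0215.result P a ha haP h

theorem seCore : Main.SECore.{u} := fun H hH => S1221.result H hH

/-- **A finite simple group with a Sylow 2-subgroup of J2 type is `J2` or `J3`** (Set-up form). -/
theorem main (gw : CentPSL.GW.{u}) {G : Type u} [Group G] [Finite G] [IsSimpleGroup G]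
    (h : Setup G) : Cfsg.Spor.IsoJ2 G ∨ Cfsg.Spor.IsoJ3 G :=
  Main.main solvFun oddSolv zStar gw seCore h

/-- The statement S1776, with S0483 as a hypothesis. -/
theorem of_sylow (gw : CentPSL.GW.{u}) {G : Type u} [Group G] [Finite G] [IsSimpleGroup G]
    (S : Sylow 2 G) (P : Sylow 2 Cfsg.Spor.J2)
    (hS : Nonempty (↥(S : Subgroup G) ≃* ↥(P : Subgroup Cfsg.Spor.J2))) :
    Cfsg.Spor.IsoJ2 G ∨ Cfsg.Spor.IsoJ3 G := by
  obtain ⟨e1⟩ := SporSylow.exists_equiv P
  obtain ⟨e2⟩ := hS
  obtain ⟨h⟩ := Setup.exists_of_sylow S ⟨e1.trans e2.symm⟩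
  exact main gw h

end Cfsg.Agent.J2Sylow.MainGW
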