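import Mathlib
import Cfsg.Prelude.Def_Local
import Cfsg.Prelude.Def_Involutions
import Cfsg.Agent.J2Sylow.Setup
import Cfsg.Agent.J2Type.Model

set_option autoImplicit false

/-!
# The table of facts used in the proof that the cores are balanced (step (4) of S1776)

`Tab h` collects what is needed about a group with a Sylow 2-subgroup of type J2, of J2-type
(i.e. `e ∈ E1 - U` is not conjugate to `z`).
-/

namespace Cfsg.Agent.J2Sylow

open Model Model.F4 Subgroup
open Cfsg.Agent.J2Type.Model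

universe u

/-- `O(C(x))` -/
abbrev KK {X : Type*} [Group X] (x : X) : Subgroup X := Cfsg.centralizerPPrimeCore 2 x

/-- the number of elements of `D` inverted by `s` -/
noncomputable def inv {G : Type*} [Group G] (D : Subgroup G) (s : G) : ℕ :=
  Nat.card {x : G // x ∈ D ∧ s * x * s⁻¹ = x⁻¹}

namespace Setup

variable {G : Type*} [Group G] (h : Setup G)

/-- the element `(x, 0, c)` of `E1` -/
def el (x c : F4) : G := h.φ ⟨x, o, c, false⟩

/-- the involution `a = (1,0,0)` of `E1 - U` -/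
def a : G := h.φ ⟨e, o, o, false⟩

/-- the `F4`-line `V_l = {(x, 0, l x)}` of `E1`; the four `V_l` are the lines other than `U` -/
def V (l : F4) : Set G := {g | ∃ x : F4, g = h.el x (l * x)}

end Setup

/-- the embedding is standard: some element centralizes `V_0` and acts on `U` as multiplication
by `w` (the line `V_0` is not canonical in `T`; helper322: `exists_std`) -/
def Std {G : Type*} [Group G] (h : Setup G) : Prop :=
  ∃ c : G, (∀ x : F4, c * h.el x o * c⁻¹ = h.el x o) ∧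
    ∀ y : F4, c * h.el o y * c⁻¹ = h.el o (w * y)

/-- the facts -/
structure Tab {G : Type*} [Group G] (h : Setup G) : Prop where
  /-- `z` and `a` are not conjugate -/
  nconj : ¬ IsConj h.z h.a
  /-- two classes of involutions -/
  cls : ∀ t : G, orderOf t = 2 → IsConj h.z t ∨ IsConj h.a t
  /-- commuting pairs of distinct `z`-involutions are conjugate -/
  zz : ∀ u, IsConj h.z u → u ≠ h.z → u * h.z = h.z * u →
    ∃ g, g * h.z = h.z * g ∧ g * u * g⁻¹ = h.v
  /-- commuting pairs `(z-involution, a-involution)` are conjugate -/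
  za : ∀ b, IsConj h.a b → b * h.z = h.z * b → ∃ g, g * h.z = h.z * g ∧ g * b * g⁻¹ = h.a
  /-- an element centralizing `V_0` and acting on `U` as multiplication by `w` -/
  c3 : ∃ c : G, (∀ x : F4, c * h.el x o * c⁻¹ = h.el x o) ∧
    ∀ y : F4, c * h.el o y * c⁻¹ = h.el o (w * y)
  /-- an element centralizing `U` and acting on `V_0` as multiplication by `w` -/
  d3 : ∃ d : G, (∀ y : F4, d * h.el o y * d⁻¹ = h.el o y) ∧
    ∀ x : F4, d * h.el x o * d⁻¹ = h.el (w * x) o
  /-- in `C(z) / O(C(z))` the centralizer of `a` is a 2-group -/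
  two : ∀ g : G, g * h.z = h.z * g → g * h.a * g⁻¹ * (h.a)⁻¹ ∈ KK h.z →
    ∃ n : ℕ, g ^ (2 ^ n) ∈ KK h.z
  /-- `V_0` is central modulo `O(C(a))` -/
  cen : ∀ g : G, g * h.a = h.a * g → ∀ x : F4, g * h.el x o * g⁻¹ * (h.el x o)⁻¹ ∈ KK h.a
  /-- from the structure of `C(a)/O(C(a))` = `V × PSL2(q).f` or `V × A4`: a `U`-invariant
  `r`-subgroup of `C(a)`, `r` odd, is centralized modulo `O(C(a))` by some `u ∈ U#` -/
  star : ∀ (r : ℕ), r.Prime → r ≠ 2 → ∀ D : Subgroup G, IsPGroup r D →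
    (∀ x ∈ D, x * h.a = h.a * x) → (∀ y : F4, ∀ x ∈ D, h.el o y * x * (h.el o y)⁻¹ ∈ D) →
    ∃ y : F4, y ≠ o ∧ ∀ x ∈ D, h.el o y * x * (h.el o y)⁻¹ * x⁻¹ ∈ KK h.a

/-- the `r`-part of the balance property we want to prove -/
def Bal (r : ℕ) {G : Type*} [Group G] (h : Setup G) : Prop :=
  ∀ x ∈ KK h.z, (∀ t : F4, x * h.el t o = h.el t o * x) → h.v * x * h.v⁻¹ = x⁻¹ →
    (∃ k : ℕ, x ^ (r ^ k) = 1) → x ∈ KK h.a

/-- the number of elements of `O(C(z)) ∩ C(V_0)` inverted by `v` -/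
noncomputable def m2 {G : Type*} [Group G] (h : Setup G) : ℕ :=
  inv (KK h.z ⊓ centralizer (h.V o)) h.v

/-- the number of elements of `O(C(a)) ∩ C(V_0) ∩ C(z)` inverted by `v` -/
noncomputable def m1 {G : Type*} [Group G] (h : Setup G) : ℕ :=
  inv (KK h.a ⊓ centralizer (h.V o) ⊓ centralizer {h.z}) h.v

/-- the pair `(H, N)` is good: `N` odd normal subgroup of `H`, `z` central mod `N`, `H` covers
`C(z)/O(C(z))` and contains a Sylow `r`-subgroup of `O(C(z))` -/
structure Good {G : Type*} [Group G] (h : Setup G) (r : ℕ) (H N : Subgroup G) : Prop where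
  S_le : h.S ≤ H
  N_le : N ≤ H
  N_norm : ∀ g ∈ H, ∀ x ∈ N, g * x * g⁻¹ ∈ N
  N_odd : Odd (Nat.card N)
  z_cen : ∀ g ∈ H, h.z * g * h.z⁻¹ * g⁻¹ ∈ N
  K_le : KK h.z ⊓ H ≤ N
  cover : ∀ g, g * h.z = h.z * g → ∃ k ∈ KK h.z, k * g ∈ H
  rpart : ¬ r ∣ (KK h.z ⊓ H).relIndex (KK h.z)

/-- the structure of `C(z)/O(C(z))` -/
def CZ {G : Type u} [Group G] (h : Setup G) : Prop :=
  ∃ (X : Type u) (_ : Group X) (π : centralizer ({h.z} : Set G) →* X) (Qt : Subgroup X) (zt : X)
    (v : Fin 5 → X) (ρ : X →* SP), Function.Surjective π ∧ (∀ g, π g = 1 ↔ (g : G) ∈ KK h.z) ∧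
    IsModel Qt zt v ρ ∧ Nat.card X = 1920 ∧
    (∀ g : centralizer ({h.z} : Set G), (g : G) ∈ h.Q → π g ∈ Qt) ∧
    (∀ g : centralizer ({h.z} : Set G), (g : G) = h.z → π g = zt)

end Cfsg.Agent.J2Sylow
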