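import Cfsg.Agent.J2Sylow.Hyp

/-!
# Counting the elements inverted by an involution (S1776, step (4), piece B1)

`inv D s` is the number of elements of `D` inverted by `s`.
-/

set_option autoImplicit false

namespace Cfsg.Agent.J2Sylow

open Subgroup

variable {G : Type*} [Group G]

/-! ### square roots in groups of odd order -/

theorem exists_sqrt {D : Subgroup G} (hD : Odd (Nat.card D)) {x : G} (hx : x ∈ D) :
    ∃ y ∈ D, y * y = x := by
  have hc : (Nat.card D).Coprime 2 := hD.coprime_two_right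
  obtain ⟨y, hy⟩ := (powCoprime hc).surjective ⟨x, hx⟩
  refine ⟨y, y.2, ?_⟩
  have h1 : y ^ 2 = (⟨x, hx⟩ : D) := by simpa using hy
  have h2 := congrArg (fun t : D => (t : G)) h1
  simpa [pow_two] using h2

theorem sqrt_unique {D : Subgroup G} (hD : Odd (Nat.card D)) {x y : G} (hx : x ∈ D) (hy : y ∈ D)
    (hxy : x * x = y * y) : x = y := by
  have hc : (Nat.card D).Coprime 2 := hD.coprime_two_right
  have h1 : (powCoprime hc) ⟨x, hx⟩ = (powCoprime hc) ⟨y, hy⟩ := by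
    apply Subtype.ext
    simpa [pow_two] using hxy
  have h2 := (powCoprime hc).injective h1
  simpa using h2

/-- the unique `y ∈ D` with `y x⁻¹ y = x'` -/
theorem mid_unique {D : Subgroup G} (hD : Odd (Nat.card D)) {x m m' : G} (hx : x ∈ D) (hm : m ∈ D)
    (hm' : m' ∈ D) (h : m * x⁻¹ * m = m' * x⁻¹ * m') : m = m' := by
  have h1 : (x⁻¹ * m) * (x⁻¹ * m) = (x⁻¹ * m') * (x⁻¹ * m') := by
    calc (x⁻¹ * m) * (x⁻¹ * m) = x⁻¹ * (m * x⁻¹ * m) := by group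
      _ = x⁻¹ * (m' * x⁻¹ * m') := by rw [h]
      _ = _ := by group
  have h2 := sqrt_unique hD (D.mul_mem (D.inv_mem hx) hm) (D.mul_mem (D.inv_mem hx) hm') h1
  exact mul_left_cancel h2

/-! ### the orbit formula -/

/-- `|{x ∈ D : x^s = x⁻¹}| * |C_D(s)| = |D|` -/
theorem inv_mul_card {D : Subgroup G} {s : G} (hD : Odd (Nat.card D)) (hs : s * s = 1)
    (hn : ∀ x ∈ D, s * x * s⁻¹ ∈ D) :
    inv D s * Nat.card ↥(D ⊓ centralizer {s}) = Nat.card D := by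
  classical
  have hsi : s⁻¹ = s := inv_eq_of_mul_eq_one_left hs
  let C : Subgroup D := (D ⊓ centralizer {s}).subgroupOf D
  have hC : Nat.card C = Nat.card ↥(D ⊓ centralizer {s}) :=
    Nat.card_congr (subgroupOfEquivOfLe inf_le_left).toEquiv
  rw [← hC, Subgroup.card_eq_card_quotient_mul_card_subgroup C]
  congr 1
  symm
  have mC : ∀ c : D, c ∈ C ↔ s * (c : G) = c * s := by
    intro c
    rw [mem_subgroupOf, mem_inf, mem_centralizer_singleton_iff]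
    exact ⟨fun h1 => h1.2.symm, fun h1 => ⟨c.2, h1.symm⟩⟩
  refine Nat.card_congr (Equiv.ofBijective (Quotient.lift
    (fun x : D => (⟨(x : G) * s * (x : G)⁻¹ * s⁻¹, ?_, ?_⟩ : {x : G // x ∈ D ∧ s * x * s⁻¹ = x⁻¹})) ?_) ⟨?_, ?_⟩)
  · have h1 := hn _ (D.inv_mem x.2)
    have h2 := D.mul_mem x.2 h1
    have h3 : (x : G) * (s * (x : G)⁻¹ * s⁻¹) = (x : G) * s * (x : G)⁻¹ * s⁻¹ := by group
    rwa [h3] at h2
  · rw [hsi]
    calc s * ((x : G) * s * (x : G)⁻¹ * s) * s = s * x * s * (x : G)⁻¹ * (s * s) := by group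
      _ = s * x * s * (x : G)⁻¹ := by rw [hs, mul_one]
      _ = ((x : G) * s⁻¹ * (x : G)⁻¹ * s⁻¹)⁻¹ := by group
      _ = ((x : G) * s * (x : G)⁻¹ * s)⁻¹ := by rw [hsi]
  · intro x y hxy
    have h1 : x⁻¹ * y ∈ C := QuotientGroup.leftRel_apply.1 hxy
    rw [mC] at h1
    apply Subtype.ext
    simp only
    have h2 : s * ((x : G)⁻¹ * y) = (x : G)⁻¹ * y * s := by simpa using h1
    have h3 : (x : G) * s * (x : G)⁻¹ = y * s * (y : G)⁻¹ := by
      calc (x : G) * s * (x : G)⁻¹ = x * (s * ((x : G)⁻¹ * y)) * (y : G)⁻¹ := by group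
        _ = x * ((x : G)⁻¹ * y * s) * (y : G)⁻¹ := by rw [h2]
        _ = _ := by group
    rw [h3]
  · intro a b
    refine Quotient.inductionOn₂ a b ?_
    intro x y hxy
    have h1 : (x : G) * s * (x : G)⁻¹ * s⁻¹ = y * s * (y : G)⁻¹ * s⁻¹ := by
      have := congrArg (fun t : {x : G // x ∈ D ∧ s * x * s⁻¹ = x⁻¹} => (t : G)) hxy
      simpa using this
    have h2 : (x : G) * s * (x : G)⁻¹ = y * s * (y : G)⁻¹ := mul_right_cancel h1
    apply Quotient.sound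
    change QuotientGroup.leftRel C x y
    rw [QuotientGroup.leftRel_apply, mC]
    change s * ((x : G)⁻¹ * y) = (x : G)⁻¹ * y * s
    calc s * ((x : G)⁻¹ * y) = (x : G)⁻¹ * (x * s * (x : G)⁻¹) * y := by group
      _ = (x : G)⁻¹ * (y * s * (y : G)⁻¹) * y := by rw [h2]
      _ = _ := by group
  · rintro ⟨y, hy, hys⟩
    obtain ⟨r, hr, hrr⟩ := exists_sqrt hD hy
    have hrs : s * r * s⁻¹ = r⁻¹ := by
      apply sqrt_unique hD (hn r hr) (D.inv_mem hr)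
      calc s * r * s⁻¹ * (s * r * s⁻¹) = s * (r * r) * s⁻¹ := by group
        _ = (r * r)⁻¹ := by rw [hrr, hys]
        _ = _ := by group
    refine ⟨Quotient.mk _ ⟨r, hr⟩, ?_⟩
    apply Subtype.ext
    change r * s * r⁻¹ * s⁻¹ = y
    calc r * s * r⁻¹ * s⁻¹ = r * (s * r * s⁻¹)⁻¹ := by group
      _ = r * r := by rw [hrs, inv_inv]
      _ = y := hrr

/-! ### the splitting -/

/-- `inv D s = inv (C_D(t)) s * inv (C_D(st)) s` -/
theorem inv_split {D : Subgroup G} {s t : G} (hD : Odd (Nat.card D)) (hs : s * s = 1) (ht : t * t = 1)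
    (hst : s * t = t * s) (hn : ∀ x ∈ D, s * x * s⁻¹ ∈ D) (hn' : ∀ x ∈ D, t * x * t⁻¹ ∈ D) :
    inv D s = inv (D ⊓ centralizer {t}) s * inv (D ⊓ centralizer {s * t}) s := by
  classical
  have hsi : s⁻¹ = s := inv_eq_of_mul_eq_one_left hs
  have hti : t⁻¹ = t := inv_eq_of_mul_eq_one_left ht
  rw [inv, inv, inv, ← Nat.card_prod]
  symm
  -- conjugation as maps
  have cs : ∀ a b : G, s * (a * b) * s⁻¹ = (s * a * s⁻¹) * (s * b * s⁻¹) := fun a b => by group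
  have ct : ∀ a b : G, t * (a * b) * t⁻¹ = (t * a * t⁻¹) * (t * b * t⁻¹) := fun a b => by group
  have csi : ∀ a : G, s * a⁻¹ * s⁻¹ = (s * a * s⁻¹)⁻¹ := fun a => by group
  have cti : ∀ a : G, t * a⁻¹ * t⁻¹ = (t * a * t⁻¹)⁻¹ := fun a => by group
  have css : ∀ a : G, s * (s * a * s⁻¹) * s⁻¹ = a := by
    intro a
    calc s * (s * a * s⁻¹) * s⁻¹ = (s * s) * a * (s * s)⁻¹ := by group
      _ = a := by rw [hs]; group
  have ctt : ∀ a : G, t * (t * a * t⁻¹) * t⁻¹ = a := by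
    intro a
    calc t * (t * a * t⁻¹) * t⁻¹ = (t * t) * a * (t * t)⁻¹ := by group
      _ = a := by rw [ht]; group
  have cst : ∀ a : G, s * (t * a * t⁻¹) * s⁻¹ = t * (s * a * s⁻¹) * t⁻¹ := by
    intro a
    calc s * (t * a * t⁻¹) * s⁻¹ = (s * t) * a * (s * t)⁻¹ := by group
      _ = (t * s) * a * (t * s)⁻¹ := by rw [hst]
      _ = _ := by group
  have mt : ∀ {a : G}, a ∈ centralizer ({t} : Set G) ↔ t * a * t⁻¹ = a := by
    intro a
    rw [mem_centralizer_singleton_iff, mul_inv_eq_iff_eq_mul]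
    exact ⟨fun h => h.symm, fun h => h.symm⟩
  have mst : ∀ {a : G}, a ∈ centralizer ({s * t} : Set G) ↔ s * (t * a * t⁻¹) * s⁻¹ = a := by
    intro a
    rw [mem_centralizer_singleton_iff]
    have e : s * (t * a * t⁻¹) * s⁻¹ = (s * t) * a * (s * t)⁻¹ := by group
    rw [e, mul_inv_eq_iff_eq_mul]
    exact ⟨fun h => h.symm, fun h => h.symm⟩
  -- `q ∈ C(st)` inverted by `s` is inverted by `t`
  have qt : ∀ {q : G}, q ∈ centralizer ({s * t} : Set G) → s * q * s⁻¹ = q⁻¹ → t * q * t⁻¹ = q⁻¹ := by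
    intro q h1 h2
    rw [mst, cst, h2, cti] at h1
    rw [← h1, inv_inv, h1]
  let F : {x : G // x ∈ D ⊓ centralizer {t} ∧ s * x * s⁻¹ = x⁻¹} ×
      {x : G // x ∈ D ⊓ centralizer {s * t} ∧ s * x * s⁻¹ = x⁻¹} → {x : G // x ∈ D ∧ s * x * s⁻¹ = x⁻¹} :=
    fun pq => ⟨pq.1.1 * pq.2.1 * pq.1.1, D.mul_mem (D.mul_mem pq.1.2.1.1 pq.2.2.1.1) pq.1.2.1.1, by
      rw [cs, cs, pq.1.2.2, pq.2.2.2]; group⟩
  refine Nat.card_congr (Equiv.ofBijective F ⟨?_, ?_⟩)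
  · rintro ⟨⟨p, hp, hps⟩, ⟨q, hq, hqs⟩⟩ ⟨⟨p', hp', hps'⟩, ⟨q', hq', hqs'⟩⟩ he
    have he' : p * q * p = p' * q' * p' := congrArg Subtype.val he
    obtain ⟨x, hx⟩ : ∃ x, x = p * q * p := ⟨_, rfl⟩
    have hx' : x = p' * q' * p' := by rw [hx, he']
    have hxD : x ∈ D := hx ▸ D.mul_mem (D.mul_mem hp.1 hq.1) hp.1
    have key : ∀ {p q : G}, p ∈ centralizer ({t} : Set G) → q ∈ centralizer ({s * t} : Set G) →
        s * q * s⁻¹ = q⁻¹ → x = p * q * p → (p * p) * x⁻¹ * (p * p) = t * x * t⁻¹ := by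
      intro p q h1 h2 h3 h4
      rw [h4, ct, ct, mt.1 h1, qt h2 h3]; group
    have hm : p * p = p' * p' :=
      mid_unique hD hxD (D.mul_mem hp.1 hp.1) (D.mul_mem hp'.1 hp'.1)
        ((key hp.2 hq.2 hqs hx).trans (key hp'.2 hq'.2 hqs' hx').symm)
    have hpp : p = p' := sqrt_unique hD hp.1 hp'.1 hm
    subst hpp
    have hqq : q = q' := by
      have h5 := mul_right_cancel he'
      exact mul_left_cancel h5
    subst hqq
    rfl
  · rintro ⟨x, hx, hxs⟩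
    obtain ⟨r, hr, hrr⟩ := exists_sqrt hD (D.mul_mem (D.inv_mem hx) (hn' x hx))
    obtain ⟨m, hm⟩ : ∃ m, m = x * r := ⟨_, rfl⟩
    have hmD : m ∈ D := hm ▸ D.mul_mem hx hr
    have hmx : m * x⁻¹ * m = t * x * t⁻¹ := by
      calc m * x⁻¹ * m = x * (r * r) := by rw [hm]; group
        _ = t * x * t⁻¹ := by rw [hrr]; group
    have hmx' : m * (t * x * t⁻¹)⁻¹ * m = x := by
      rw [← hmx]; group
    have hmt : t * m * t⁻¹ = m := by
      apply mid_unique hD (hn' x hx) (hn' m hmD) hmD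
      rw [hmx']
      calc t * m * t⁻¹ * (t * x * t⁻¹)⁻¹ * (t * m * t⁻¹) = t * (m * x⁻¹ * m) * t⁻¹ := by group
        _ = x := by rw [hmx, ctt]
    have hms : s * m * s⁻¹ = m⁻¹ := by
      have h1 : (s * m * s⁻¹)⁻¹ = m := by
        apply mid_unique hD hx (D.inv_mem (hn m hmD)) hmD
        rw [hmx]
        have h2 : s * (m * x⁻¹ * m) * s⁻¹ = (s * m * s⁻¹) * x * (s * m * s⁻¹) := by
          rw [cs, cs, csi, hxs, inv_inv]
        have h3 : s * (t * x * t⁻¹) * s⁻¹ = (t * x * t⁻¹)⁻¹ := by rw [cst, hxs, cti]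
        rw [hmx, h3] at h2
        calc (s * m * s⁻¹)⁻¹ * x⁻¹ * (s * m * s⁻¹)⁻¹ = ((s * m * s⁻¹) * x * (s * m * s⁻¹))⁻¹ := by group
          _ = t * x * t⁻¹ := by rw [← h2, inv_inv]
      rw [← h1, inv_inv, h1]
    obtain ⟨p, hp, hpp⟩ := exists_sqrt hD hmD
    have hpt : t * p * t⁻¹ = p := by
      apply sqrt_unique hD (hn' p hp) hp
      rw [← ct, hpp, hmt]
    have hps : s * p * s⁻¹ = p⁻¹ := by
      apply sqrt_unique hD (hn p hp) (D.inv_mem hp)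
      rw [← cs, hpp, hms, ← mul_inv_rev, hpp]
    have hqs : s * (p⁻¹ * x * p⁻¹) * s⁻¹ = (p⁻¹ * x * p⁻¹)⁻¹ := by
      rw [cs, cs, csi, hps, hxs]; group
    have hqt : t * (p⁻¹ * x * p⁻¹) * t⁻¹ = (p⁻¹ * x * p⁻¹)⁻¹ := by
      rw [ct, ct, cti, hpt, ← hmx, ← hpp]; group
    refine ⟨⟨⟨p, ⟨hp, mt.2 hpt⟩, hps⟩, ⟨p⁻¹ * x * p⁻¹, ⟨D.mul_mem (D.mul_mem (D.inv_mem hp) hx) (D.inv_mem hp),
      mst.2 ?_⟩, hqs⟩⟩, ?_⟩
    · rw [hqt, csi, hqs, inv_inv]
    · apply Subtype.ext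
      change p * (p⁻¹ * x * p⁻¹) * p = x
      group

end Cfsg.Agent.J2Sylow
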