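import Mathlib
import Cfsg.Agent.S0024
import Cfsg.Agent.S0025
import Cfsg.Agent.J2Sylow.Hyp
import Cfsg.Agent.J2Sylow.Inv

set_option autoImplicit false

/-!
# Invariant Sylow subgroups of a group of odd order acted upon by a 2-group

Subgroup forms of the coprime action theorems, and the number of elements of an invariant Sylow
`r`-subgroup inverted by an involution.
-/

namespace Cfsg.Agent.J2Sylow.InvSylow

open Subgroup Cfsg.Agent.J2Sylow
open scoped Pointwise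

variable {G : Type*} [Group G]

theorem le_normalizer {A P : Subgroup G} (h : ∀ s ∈ A, ∀ x ∈ P, s * x * s⁻¹ ∈ P) :
    A ≤ normalizer (P : Set G) := by
  intro s hs
  rw [mem_normalizer_iff]
  intro x
  refine ⟨h s hs x, fun hx => ?_⟩
  have h1 := h s⁻¹ (A.inv_mem hs) _ hx
  have h2 : s⁻¹ * (s * x * s⁻¹) * s⁻¹⁻¹ = x := by group
  rwa [h2] at h1

theorem conj_mem {A P : Subgroup G} (h : A ≤ normalizer (P : Set G)) {s x : G} (hs : s ∈ A)
    (hx : x ∈ P) : s * x * s⁻¹ ∈ P :=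
  (mem_normalizer_iff.1 (h hs) x).1 hx

theorem card_mul_relIndex {P K : Subgroup G} (h : P ≤ K) :
    Nat.card P * P.relIndex K = Nat.card K := by
  rw [← relIndex_bot_left, ← relIndex_bot_left]
  exact relIndex_mul_relIndex _ _ _ bot_le h

theorem zpowers_cases {s : G} (hs : s * s = 1) {t : G} (ht : t ∈ zpowers s) : t = 1 ∨ t = s := by
  obtain ⟨n, rfl⟩ := mem_zpowers_iff.1 ht
  rcases Int.even_or_odd' n with ⟨m, rfl | rfl⟩
  · left
    rw [zpow_mul, zpow_two, hs, one_zpow]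
  · right
    rw [zpow_add, zpow_mul, zpow_two, hs, one_zpow, one_mul, zpow_one]

theorem isPGroup_zpowers {s : G} (hs : s * s = 1) : IsPGroup 2 (zpowers s) := by
  intro t
  refine ⟨1, ?_⟩
  apply Subtype.ext
  rcases zpowers_cases hs t.2 with h | h
  · simp [h]
  · simp [h, pow_two, hs]

theorem zpowers_inv {s : G} (hs : s * s = 1) {L : Subgroup G} (hL : ∀ x ∈ L, s * x * s⁻¹ ∈ L) :
    ∀ t ∈ zpowers s, ∀ x ∈ L, t * x * t⁻¹ ∈ L := by
  intro t ht x hx
  rcases zpowers_cases hs ht with h | h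
  · subst h; simpa using hx
  · subst h; exact hL x hx

variable [Finite G]

theorem coprime_of {A K : Subgroup G} (hA : IsPGroup 2 A) (hK : Odd (Nat.card K)) :
    (Nat.card A).Coprime (Nat.card K) := by
  have : Fact (Nat.Prime 2) := ⟨Nat.prime_two⟩
  obtain ⟨n, hn⟩ := IsPGroup.iff_card.1 hA
  rw [hn]
  exact Nat.Coprime.pow_left _ (Nat.coprime_two_left.2 hK)

theorem solvable_of {A : Subgroup G} (hA : IsPGroup 2 A) : Group.IsSolvable A := by
  have : Fact (Nat.Prime 2) := ⟨Nat.prime_two⟩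
  have : Group.IsNilpotent A := hA.isNilpotent
  infer_instance

/-- every invariant `r`-subgroup is contained in an invariant Sylow `r`-subgroup -/
theorem exists_inv_sylow {A K Y : Subgroup G} {r : ℕ} (hr : r.Prime) (hA : IsPGroup 2 A)
    (hK : Odd (Nat.card K)) (hAK : ∀ s ∈ A, ∀ x ∈ K, s * x * s⁻¹ ∈ K)
    (hYK : Y ≤ K) (hY : IsPGroup r Y) (hAY : ∀ s ∈ A, ∀ x ∈ Y, s * x * s⁻¹ ∈ Y) :
    ∃ P : Subgroup G, Y ≤ P ∧ P ≤ K ∧ IsPGroup r P ∧ ¬ r ∣ P.relIndex K ∧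
      ∀ s ∈ A, ∀ x ∈ P, s * x * s⁻¹ ∈ P := by
  have : Fact r.Prime := ⟨hr⟩
  obtain ⟨P, hP1, hP2⟩ := Cfsg.Agent.S0025.result A K (le_normalizer hAK) (coprime_of hA hK)
    (Or.inl (solvable_of hA)) r Y hYK hY (le_normalizer hAY)
  refine ⟨(P : Subgroup K).map K.subtype, hP1, map_subtype_le _, P.isPGroup'.map _, ?_,
    fun s hs x hx => conj_mem hP2 hs hx⟩
  have h1 : ((P : Subgroup K).map K.subtype).relIndex K = (P : Subgroup K).index := by
    rw [Subgroup.relIndex]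
    congr 1
    exact Subgroup.comap_map_eq_self_of_injective K.subtype_injective _
  rw [h1]
  exact P.not_dvd_index

/-- two invariant Sylow subgroups are conjugate under the centralizer -/
theorem conj_of_inv {A K P Q : Subgroup G} {r : ℕ} (hr : r.Prime) (hA : IsPGroup 2 A)
    (hK : Odd (Nat.card K)) (hAK : ∀ s ∈ A, ∀ x ∈ K, s * x * s⁻¹ ∈ K)
    (hPK : P ≤ K) (hP : IsPGroup r P) (hPi : ¬ r ∣ P.relIndex K)
    (hAP : ∀ s ∈ A, ∀ x ∈ P, s * x * s⁻¹ ∈ P)
    (hQK : Q ≤ K) (hQ : IsPGroup r Q) (hQi : ¬ r ∣ Q.relIndex K)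
    (hAQ : ∀ s ∈ A, ∀ x ∈ Q, s * x * s⁻¹ ∈ Q) :
    ∃ c ∈ K, (∀ s ∈ A, s * c = c * s) ∧ ∀ x, x ∈ Q ↔ c⁻¹ * x * c ∈ P := by
  have : Fact r.Prime := ⟨hr⟩
  let P' : Sylow r K := IsPGroup.toSylow (P := P.subgroupOf K) hP.comap_subtype hPi
  let Q' : Sylow r K := IsPGroup.toSylow (P := Q.subgroupOf K) hQ.comap_subtype hQi
  have hPm : ((P' : Subgroup K).map K.subtype) = P := by
    show (P.subgroupOf K).map K.subtype = P
    rw [subgroupOf_map_subtype, inf_eq_left.2 hPK]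
  have hQm : ((Q' : Subgroup K).map K.subtype) = Q := by
    show (Q.subgroupOf K).map K.subtype = Q
    rw [subgroupOf_map_subtype, inf_eq_left.2 hQK]
  obtain ⟨c, hc1, hc2⟩ := Cfsg.Agent.S0024.result A K (le_normalizer hAK) (coprime_of hA hK)
    (Or.inl (solvable_of hA)) r P' Q' (by rw [hPm]; exact le_normalizer hAP)
    (by rw [hQm]; exact le_normalizer hAQ)
  refine ⟨c, c.2, fun s hs => ?_, fun x => ?_⟩
  · exact (mem_centralizer_iff.1 hc1 s hs)
  · have h1 : (Q' : Subgroup K) = MulAut.conj c • (P' : Subgroup K) := by rw [← hc2]; rfl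
    have h2 : ∀ y : K, (y : G) ∈ Q ↔ (c : G)⁻¹ * y * c ∈ P := by
      intro y
      have h3 : y ∈ (Q' : Subgroup K) ↔ (MulAut.conj c)⁻¹ • y ∈ (P' : Subgroup K) := by
        rw [h1, mem_pointwise_smul_iff_inv_smul_mem]
      have h4 : (((MulAut.conj c)⁻¹ • y : K) : G) = (c : G)⁻¹ * y * c := by
        rw [← map_inv]
        simp
      have h5 : y ∈ (Q' : Subgroup K) ↔ (y : G) ∈ Q := Iff.rfl
      have h6 : (MulAut.conj c)⁻¹ • y ∈ (P' : Subgroup K) ↔
        (((MulAut.conj c)⁻¹ • y : K) : G) ∈ P := Iff.rfl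
      rw [← h5, h3, h6, h4]
    constructor
    · intro hx
      exact (h2 ⟨x, hQK hx⟩).1 hx
    · intro hx
      have h7 : x ∈ K := by
        have h8 := K.mul_mem (K.mul_mem c.2 (hPK hx)) (K.inv_mem c.2)
        have h9 : (c : G) * ((c : G)⁻¹ * x * c) * (c : G)⁻¹ = x := by group
        rwa [h9] at h8
      exact (h2 ⟨x, h7⟩).2 hx

/-- the centralizer in an invariant Sylow `r`-subgroup is a Sylow `r`-subgroup of the
centralizer -/
theorem cent_sylow {A K P : Subgroup G} {r : ℕ} (hr : r.Prime) (hA : IsPGroup 2 A)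
    (hK : Odd (Nat.card K)) (hAK : ∀ s ∈ A, ∀ x ∈ K, s * x * s⁻¹ ∈ K)
    (hPK : P ≤ K) (hP : IsPGroup r P) (hPi : ¬ r ∣ P.relIndex K)
    (hAP : ∀ s ∈ A, ∀ x ∈ P, s * x * s⁻¹ ∈ P) {C : Subgroup G} (hC : C = centralizer (A : Set G)) :
    ¬ r ∣ (P ⊓ C).relIndex (K ⊓ C) := by
  have : Fact r.Prime := ⟨hr⟩
  subst hC
  -- a Sylow subgroup of `C_K(A)`
  obtain ⟨C0⟩ : Nonempty (Sylow r ↥(K ⊓ centralizer (A : Set G))) := inferInstance
  let Y : Subgroup G := (C0 : Subgroup _).map (K ⊓ centralizer (A : Set G)).subtype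
  have hYle : Y ≤ K ⊓ centralizer (A : Set G) := map_subtype_le _
  have hcomm : ∀ s ∈ A, ∀ x ∈ Y, s * x * s⁻¹ = x := by
    intro s hs x hx
    have h1 := mem_centralizer_iff.1 (hYle hx).2 s hs
    rw [h1]; group
  obtain ⟨Q, hYQ, hQK, hQ, hQi, hAQ⟩ := exists_inv_sylow hr hA hK hAK (hYle.trans inf_le_left)
    (C0.isPGroup'.map _) (fun s hs x hx => by rw [hcomm s hs x hx]; exact hx)
  obtain ⟨c, hcK, hc, hPQ⟩ := conj_of_inv hr hA hK hAK hPK hP hPi hAP hQK hQ hQi hAQ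
  have hcent : ∀ x, x ∈ centralizer (A : Set G) → c⁻¹ * x * c ∈ centralizer (A : Set G) := by
    have hcm : c ∈ centralizer (A : Set G) := mem_centralizer_iff.2 hc
    intro x hx
    exact mul_mem (mul_mem (inv_mem hcm) hx) hcm
  -- orders
  have h1 : Nat.card Y ≤ Nat.card ↥(P ⊓ centralizer (A : Set G)) := by
    refine Nat.card_le_card_of_injective
      (fun x : Y => (⟨c⁻¹ * x * c, (hPQ x).1 (hYQ x.2), hcent x (hYle x.2).2⟩ :
        ↥(P ⊓ centralizer (A : Set G)))) ?_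
    intro x y hxy
    have h2 : c⁻¹ * (x : G) * c = c⁻¹ * y * c := congrArg Subtype.val hxy
    exact Subtype.ext (mul_left_cancel (mul_right_cancel h2))
  have h2 : Nat.card Y = Nat.card C0 := card_map_of_injective (subtype_injective _)
  -- a Sylow argument
  have hle : P ⊓ centralizer (A : Set G) ≤ K ⊓ centralizer (A : Set G) :=
    inf_le_inf_right _ hPK
  have h3 : IsPGroup r ↥((P ⊓ centralizer (A : Set G)).subgroupOf (K ⊓ centralizer (A : Set G))) :=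
    (hP.to_le inf_le_left).comap_subtype
  obtain ⟨C1, hC1⟩ := h3.exists_le_sylow
  have h4 : Nat.card C1 = Nat.card C0 := by
    rw [Sylow.card_eq_multiplicity, Sylow.card_eq_multiplicity]
  have h5 : Nat.card ((P ⊓ centralizer (A : Set G)).subgroupOf (K ⊓ centralizer (A : Set G))) =
      Nat.card ↥(P ⊓ centralizer (A : Set G)) := Nat.card_congr (subgroupOfEquivOfLe hle).toEquiv
  have h6 : (P ⊓ centralizer (A : Set G)).subgroupOf (K ⊓ centralizer (A : Set G)) =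
      (C1 : Subgroup _) := by
    refine Subgroup.eq_of_le_of_card_ge hC1 ?_
    rw [h5]
    show Nat.card C1 ≤ _
    rw [h4, ← h2]
    exact h1
  rw [Subgroup.relIndex, h6]
  exact C1.not_dvd_index

/-- version for one involution -/
theorem exists_inv_sylow' {K Y : Subgroup G} {r : ℕ} (hr : r.Prime) {s : G} (hs : s * s = 1)
    (hK : Odd (Nat.card K)) (hAK : ∀ x ∈ K, s * x * s⁻¹ ∈ K)
    (hYK : Y ≤ K) (hY : IsPGroup r Y) (hAY : ∀ x ∈ Y, s * x * s⁻¹ ∈ Y) :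
    ∃ P : Subgroup G, Y ≤ P ∧ P ≤ K ∧ IsPGroup r P ∧ ¬ r ∣ P.relIndex K ∧
      ∀ x ∈ P, s * x * s⁻¹ ∈ P := by
  obtain ⟨P, h1, h2, h3, h4, h5⟩ := exists_inv_sylow hr (isPGroup_zpowers hs) hK
    (zpowers_inv hs hAK) hYK hY (zpowers_inv hs hAY)
  exact ⟨P, h1, h2, h3, h4, h5 s (mem_zpowers s)⟩

/-- the number of inverted elements of an invariant Sylow `r`-subgroup is the `r`-part of the
number of inverted elements -/
theorem inv_eq_pow {K P : Subgroup G} {r : ℕ} (hr : r.Prime) {s : G} (hs : s * s = 1)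
    (hK : Odd (Nat.card K)) (hAK : ∀ x ∈ K, s * x * s⁻¹ ∈ K)
    (hPK : P ≤ K) (hP : IsPGroup r P) (hPi : ¬ r ∣ P.relIndex K)
    (hAP : ∀ x ∈ P, s * x * s⁻¹ ∈ P) : inv P s = r ^ padicValNat r (inv K s) := by
  have : Fact r.Prime := ⟨hr⟩
  have hsi : s⁻¹ = s := inv_eq_of_mul_eq_one_left hs
  have hC : (centralizer ({s} : Set G)) = centralizer ((zpowers s : Subgroup G) : Set G) := by
    rw [zpowers_eq_closure, centralizer_closure]
  have h1 := cent_sylow hr (isPGroup_zpowers hs) hK (zpowers_inv hs hAK) hPK hP hPi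
    (zpowers_inv hs hAP) hC
  have hPo : Odd (Nat.card P) := Odd.of_dvd_nat hK (card_dvd_of_le hPK)
  have h2 := inv_mul_card hK hs hAK
  have h3 := inv_mul_card hPo hs hAP
  have h4 : Nat.card P * P.relIndex K = Nat.card K := card_mul_relIndex hPK
  have h5 : Nat.card ↥(P ⊓ centralizer ({s} : Set G)) *
      (P ⊓ centralizer ({s} : Set G)).relIndex (K ⊓ centralizer ({s} : Set G)) =
      Nat.card ↥(K ⊓ centralizer ({s} : Set G)) :=
    card_mul_relIndex (inf_le_inf_right _ hPK)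
  have hpos : 0 < Nat.card ↥(P ⊓ centralizer ({s} : Set G)) := Nat.card_pos
  have h6 : inv K s * (P ⊓ centralizer ({s} : Set G)).relIndex (K ⊓ centralizer ({s} : Set G)) =
      inv P s * P.relIndex K := by
    apply Nat.eq_of_mul_eq_mul_left hpos
    rw [← h5, ← h4, ← h3] at h2
    linarith
  obtain ⟨n, hn⟩ := IsPGroup.iff_card.1 hP
  obtain ⟨m, -, hm⟩ := (Nat.dvd_prime_pow hr).1 (hn ▸ Dvd.intro _ h3 : inv P s ∣ r ^ n)
  have hK0 : inv K s ≠ 0 := by
    intro h0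
    rw [h0, zero_mul] at h2
    exact Nat.card_pos.ne h2
  have hi0 : (P ⊓ centralizer ({s} : Set G)).relIndex (K ⊓ centralizer ({s} : Set G)) ≠ 0 := by
    intro h0
    exact h1 (h0 ▸ dvd_zero r)
  have hj0 : P.relIndex K ≠ 0 := by
    intro h0
    exact hPi (h0 ▸ dvd_zero r)
  have h7 := congrArg (padicValNat r) h6
  rw [padicValNat.mul hK0 hi0, hm, padicValNat.mul (pow_ne_zero _ hr.ne_zero) hj0,
    padicValNat.prime_pow, padicValNat.eq_zero_of_not_dvd h1, padicValNat.eq_zero_of_not_dvd hPi,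
    add_zero, add_zero] at h7
  rw [h7, hm]

theorem inv_mono {D E : Subgroup G} (h : D ≤ E) (s : G) : inv D s ≤ inv E s := by
  refine Nat.card_le_card_of_injective
    (fun x : {x : G // x ∈ D ∧ s * x * s⁻¹ = x⁻¹} => (⟨x, h x.2.1, x.2.2⟩ :
      {x : G // x ∈ E ∧ s * x * s⁻¹ = x⁻¹})) ?_
  intro x y hxy
  have h1 : (x : G) = y := congrArg (fun t : {x : G // x ∈ E ∧ s * x * s⁻¹ = x⁻¹} => (t : G)) hxy
  exact Subtype.ext h1

/-- the number of inverted elements of an invariant `r`-subgroup -/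
theorem inv_dvd {K Y : Subgroup G} {r : ℕ} (hr : r.Prime) {s : G} (hs : s * s = 1)
    (hK : Odd (Nat.card K)) (hAK : ∀ x ∈ K, s * x * s⁻¹ ∈ K)
    (hYK : Y ≤ K) (hY : IsPGroup r Y) (hAY : ∀ x ∈ Y, s * x * s⁻¹ ∈ Y) :
    inv Y s ∣ r ^ padicValNat r (inv K s) := by
  have : Fact r.Prime := ⟨hr⟩
  have hsi : s⁻¹ = s := inv_eq_of_mul_eq_one_left hs
  obtain ⟨P, hYP, hPK, hP, hPi, hAP⟩ := exists_inv_sylow' hr hs hK hAK hYK hY hAY
  rw [← inv_eq_pow hr hs hK hAK hPK hP hPi hAP]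
  have hYo : Odd (Nat.card Y) := Odd.of_dvd_nat hK (card_dvd_of_le hYK)
  have hPo : Odd (Nat.card P) := Odd.of_dvd_nat hK (card_dvd_of_le hPK)
  have h3 := inv_mul_card hYo hs hAY
  have h4 := inv_mul_card hPo hs hAP
  obtain ⟨n, hn⟩ := IsPGroup.iff_card.1 hP
  obtain ⟨m, hm⟩ := IsPGroup.iff_card.1 hY
  obtain ⟨i, -, hi⟩ := (Nat.dvd_prime_pow hr).1 (hn ▸ Dvd.intro _ h4 : inv P s ∣ r ^ n)
  obtain ⟨j, -, hj⟩ := (Nat.dvd_prime_pow hr).1 (hm ▸ Dvd.intro _ h3 : inv Y s ∣ r ^ m)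
  have h5 := inv_mono hYP s
  rw [hi, hj] at h5 ⊢
  exact Nat.pow_dvd_pow r ((Nat.pow_le_pow_iff_right hr.one_lt).1 h5)

end Cfsg.Agent.J2Sylow.InvSylow
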