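import Mathlib
import Cfsg.Agent.J2Sylow.Setup
import Cfsg.Agent.TwoFusion.IndexTwo

set_option autoImplicit false

/-!
# Conjugation lemmas for 2-groups and first facts about the J2-type set-up
-/

namespace Cfsg.Agent.J2Sylow

open Model Subgroup

variable {G : Type*} [Group G]

/-- A 2-subgroup of `C` is conjugate in `C` into a subgroup of odd index. -/
theorem exists_conj_le [Finite G] (P C D : Subgroup G) (hP : IsPGroup 2 P) (hPC : P ≤ C)
    (hodd : Odd (D.relIndex C)) : ∃ c ∈ C, ∀ x ∈ P, c * x * c⁻¹ ∈ D := by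
  classical
  have : Fact (Nat.Prime 2) := ⟨Nat.prime_two⟩
  let X := C ⧸ D.subgroupOf C
  have hcard : Nat.card X = D.relIndex C := rfl
  let P' : Subgroup C := P.subgroupOf C
  have hP' : IsPGroup 2 P' := hP.comap_of_injective C.subtype C.subtype_injective
  have hmod := hP'.card_modEq_card_fixedPoints X
  have hne : (MulAction.fixedPoints P' X).Nonempty := by
    by_contra hemp
    rw [Set.not_nonempty_iff_eq_empty] at hemp
    rw [hemp] at hmod
    rw [hcard] at hmod
    simp only [Nat.card_eq_fintype_card, Fintype.card_ofIsEmpty] at hmod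
    have h0 : D.relIndex C % 2 = 0 := by
      have := hmod
      unfold Nat.ModEq at this
      simpa using this
    rw [Nat.odd_iff] at hodd
    omega
  obtain ⟨y, hy⟩ := hne
  obtain ⟨c, rfl⟩ := QuotientGroup.mk_surjective y
  refine ⟨(c : G)⁻¹, C.inv_mem c.2, fun x hx => ?_⟩
  have h1 := hy ⟨⟨x, hPC hx⟩, by simpa [P', mem_subgroupOf] using hx⟩
  have h2 : (QuotientGroup.mk ((⟨x, hPC hx⟩ : C) * c) : X) = QuotientGroup.mk c := h1
  rw [eq_comm, QuotientGroup.eq] at h2
  have h3 : ((c : G)⁻¹ * (x * c)) ∈ D := by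
    have := mem_subgroupOf.1 h2
    simpa using this
  simpa [mul_assoc] using h3

namespace Setup

variable (h : Setup G)

theorem mem_S {x : G} : x ∈ h.S ↔ ∃ t : T, h.φ t = x := MonoidHom.mem_range

theorem phi_mem_S (t : T) : h.φ t ∈ h.S := ⟨t, rfl⟩

theorem phi_mem_map {K : Subgroup T} {t : T} : h.φ t ∈ K.map h.φ ↔ t ∈ K :=
  ⟨fun ⟨y, hy, e⟩ => h.inj e ▸ hy, fun ht => ⟨t, ht, rfl⟩⟩

theorem phi_mem_U {t : T} : h.φ t ∈ h.U ↔ t ∈ T.U := h.phi_mem_map
theorem phi_mem_R {t : T} : h.φ t ∈ h.R ↔ t ∈ T.R := h.phi_mem_map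
theorem phi_mem_E1 {t : T} : h.φ t ∈ h.E1 ↔ t ∈ T.E1 := h.phi_mem_map
theorem phi_mem_E2 {t : T} : h.φ t ∈ h.E2 ↔ t ∈ T.E2 := h.phi_mem_map
theorem phi_mem_Q {t : T} : h.φ t ∈ h.Q ↔ t ∈ T.Q := h.phi_mem_map

theorem phi_inj {x y : T} : h.φ x = h.φ y ↔ x = y := h.inj.eq_iff

theorem phi_conj (g x : T) : h.φ g * h.φ x * (h.φ g)⁻¹ = h.φ (g * x * g⁻¹) := by
  simp [map_mul, map_inv]

theorem card_S : Nat.card h.S = 128 := by
  rw [← T.card_T]
  exact (Nat.card_congr (MonoidHom.ofInjective h.inj).toEquiv).symm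

theorem card_map (K : Subgroup T) : Nat.card (K.map h.φ) = Nat.card K :=
  Nat.card_congr (K.equivMapOfInjective h.φ h.inj).toEquiv.symm

theorem isPGroup_S : IsPGroup 2 h.S := IsPGroup.of_card (n := 7) (by rw [h.card_S]; norm_num)

theorem U_le_S : h.U ≤ h.S := fun _ ⟨t, _, e⟩ => ⟨t, e⟩
theorem R_le_S : h.R ≤ h.S := fun _ ⟨t, _, e⟩ => ⟨t, e⟩
theorem E1_le_S : h.E1 ≤ h.S := fun _ ⟨t, _, e⟩ => ⟨t, e⟩
theorem E2_le_S : h.E2 ≤ h.S := fun _ ⟨t, _, e⟩ => ⟨t, e⟩
theorem Q_le_S : h.Q ≤ h.S := fun _ ⟨t, _, e⟩ => ⟨t, e⟩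

theorem z_mem_S : h.z ∈ h.S := ⟨_, rfl⟩
theorem v_mem_S : h.v ∈ h.S := ⟨_, rfl⟩
theorem tau_mem_S : h.tau ∈ h.S := ⟨_, rfl⟩
theorem z_mem_U : h.z ∈ h.U := h.phi_mem_U.2 (by decide)
theorem v_mem_U : h.v ∈ h.U := h.phi_mem_U.2 (by decide)

theorem z_comm {x : G} (hx : x ∈ h.S) : h.z * x = x * h.z := by
  obtain ⟨t, rfl⟩ := hx
  show h.φ T.z * h.φ t = h.φ t * h.φ T.z
  rw [← map_mul, ← map_mul, T.z_comm]

theorem S_le_centralizer_z : h.S ≤ Subgroup.centralizer {h.z} := by
  intro x hx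
  rw [mem_centralizer_singleton_iff]
  exact (h.z_comm hx).symm

theorem relIndex_odd [Finite G] {C : Subgroup G} (hC : h.S ≤ C) : Odd (h.S.relIndex C) := by
  have h1 : h.S.relIndex C * C.index = h.S.index := relIndex_mul_index hC
  have h2 : Odd (h.S.index) := h.odd_index
  rw [← h1] at h2
  exact (Nat.odd_mul.1 h2).1

end Setup

/-- If `y` has `C_S(y)` of odd index in its centralizer, every conjugation `x -> y` can be
corrected so that it sends `C_S(x)` into `S`. -/
theorem exists_conj_extremal [Finite G] (S : Subgroup G) (hS : IsPGroup 2 S) {x y g : G}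
    (hg : g * x * g⁻¹ = y) (hodd : Odd ((S ⊓ centralizer {y}).relIndex (centralizer {y}))) :
    ∃ k : G, k * x * k⁻¹ = y ∧ ∀ s ∈ S, s * x = x * s → k * s * k⁻¹ ∈ S := by
  have hP : IsPGroup 2 ((S ⊓ centralizer {x}).map (MulAut.conj g).toMonoidHom) :=
    (hS.to_le inf_le_left).map _
  have hle : (S ⊓ centralizer {x}).map (MulAut.conj g).toMonoidHom ≤ centralizer {y} := by
    rintro _ ⟨s, hs, rfl⟩
    have h1 := (mem_centralizer_singleton_iff.1 hs.2)
    rw [mem_centralizer_singleton_iff]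
    simp only [MulEquiv.coe_toMonoidHom, MulAut.conj_apply]
    rw [← hg]
    calc (g * s * g⁻¹) * (g * x * g⁻¹) = g * (s * x) * g⁻¹ := by group
      _ = g * (x * s) * g⁻¹ := by rw [h1]
      _ = _ := by group
  obtain ⟨c, hc, hcS⟩ := exists_conj_le _ _ _ hP hle hodd
  have hc' := mem_centralizer_singleton_iff.1 hc
  refine ⟨c * g, ?_, fun s hs hsx => ?_⟩
  · calc c * g * x * (c * g)⁻¹ = c * (g * x * g⁻¹) * c⁻¹ := by group
      _ = c * y * c⁻¹ := by rw [hg]
      _ = y := by rw [hc']; group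
  · have h1 := (hcS (g * s * g⁻¹) ⟨s, ⟨hs, mem_centralizer_singleton_iff.2 hsx⟩, by
      simp [MulAut.conj_apply]⟩).1
    have h2 : c * g * s * (c * g)⁻¹ = c * (g * s * g⁻¹) * c⁻¹ := by group
    rw [h2]
    exact h1

/-- Every element of `S` has an extremal conjugate in `S`. -/
theorem exists_extremal [Finite G] (S : Subgroup G) (hS : IsPGroup 2 S) (hodd : Odd S.index)
    (x : G) (hx : x ∈ S) : ∃ k : G, k * x * k⁻¹ ∈ S ∧ (∀ s ∈ S, s * x = x * s → k * s * k⁻¹ ∈ S) ∧
      Odd ((S ⊓ centralizer {k * x * k⁻¹}).relIndex (centralizer {k * x * k⁻¹})) := by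
  classical
  have : Fact (Nat.Prime 2) := ⟨Nat.prime_two⟩
  -- a Sylow subgroup of the centralizer containing C_S(x)
  let C := centralizer ({x} : Set G)
  have hP0 : IsPGroup 2 (S.subgroupOf C) := hS.comap_of_injective C.subtype C.subtype_injective
  obtain ⟨P, hP⟩ := hP0.exists_le_sylow
  let P1 : Subgroup G := (P : Subgroup C).map C.subtype
  have hP1 : IsPGroup 2 P1 := P.isPGroup'.map _
  obtain ⟨k, -, hk⟩ := exists_conj_le P1 ⊤ S hP1 le_top (by rwa [relIndex_top_right])
  have hxP1 : x ∈ P1 := by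
    refine ⟨⟨x, mem_centralizer_singleton_iff.2 rfl⟩, hP ?_, rfl⟩
    simpa [mem_subgroupOf] using hx
  refine ⟨k, hk x hxP1, fun s hs hsx => ?_, ?_⟩
  · refine hk s ⟨⟨s, mem_centralizer_singleton_iff.2 hsx⟩, hP ?_, rfl⟩
    simpa [mem_subgroupOf] using hs
  · -- the conjugate of P1 by k has odd index in the centralizer of k x k⁻¹
    set y := k * x * k⁻¹ with hy
    have hP1odd : Odd (P1.relIndex C) := by
      have h1 : P1.relIndex C = (P : Subgroup C).index := by
        have : P1.subgroupOf C = (P : Subgroup C) := by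
          ext w
          simp only [P1, mem_subgroupOf, mem_map, Subgroup.coe_subtype]
          constructor
          · rintro ⟨w', hw', e⟩
            have : w' = w := Subtype.ext e
            rwa [← this]
          · intro hw
            exact ⟨w, hw, rfl⟩
        show (P1.subgroupOf C).index = _
        rw [this]
      rw [h1]
      have := P.not_dvd_index
      rw [Nat.odd_iff]; omega
    have hCy : C.map (MulAut.conj k).toMonoidHom = centralizer {y} := by
      ext w
      simp only [mem_map, MulEquiv.coe_toMonoidHom, MulAut.conj_apply, C,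
        mem_centralizer_singleton_iff]
      constructor
      · rintro ⟨s, hs, rfl⟩
        rw [hy]
        calc (k * s * k⁻¹) * (k * x * k⁻¹) = k * (s * x) * k⁻¹ := by group
          _ = k * (x * s) * k⁻¹ := by rw [hs]
          _ = _ := by group
      · intro hw
        refine ⟨k⁻¹ * w * k, ?_, by group⟩
        rw [hy] at hw
        calc k⁻¹ * w * k * x = k⁻¹ * (w * (k * x * k⁻¹)) * k := by group
          _ = k⁻¹ * ((k * x * k⁻¹) * w) * k := by rw [hw]
          _ = _ := by group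
    have hP1y : P1.map (MulAut.conj k).toMonoidHom ≤ S ⊓ centralizer {y} := by
      rintro _ ⟨w, hw, rfl⟩
      refine ⟨by simpa [MulAut.conj_apply] using hk w hw, ?_⟩
      rw [← hCy]
      exact ⟨w, by obtain ⟨w', _, rfl⟩ := hw; exact w'.2, rfl⟩
    have hrel : (P1.map (MulAut.conj k).toMonoidHom).relIndex (centralizer {y})
        = P1.relIndex C := by
      rw [← hCy]
      exact relIndex_map_map_of_injective _ _ (MulAut.conj k).injective
    have hmul : (P1.map (MulAut.conj k).toMonoidHom).relIndex (S ⊓ centralizer {y})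
        * (S ⊓ centralizer {y}).relIndex (centralizer {y})
        = (P1.map (MulAut.conj k).toMonoidHom).relIndex (centralizer {y}) :=
      relIndex_mul_relIndex _ _ _ hP1y inf_le_right
    rw [hrel] at hmul
    rw [← hmul] at hP1odd
    exact (Nat.odd_mul.1 hP1odd).2

end Cfsg.Agent.J2Sylow
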