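import Mathlib
import Cfsg.Agent.J2Sylow.Model
import Cfsg.Agent.J2Sylow.Setup

/-!
# Identification of the Sylow 2-subgroup with the model

`T` of order 64 is the product of two elementary abelian normal subgroups `E`, `x E x⁻¹` of order
16 meeting in the four-group `⟨z, w⟩`; then `T ⟨x⟩` is the model group of order 128.
-/

set_option autoImplicit false

namespace Cfsg.Agent.J2Sylow.FrameHom

open Subgroup Cfsg.Agent.J2Sylow.Model Cfsg.Agent.J2Sylow.Model.F4

variable {G : Type*} [Group G]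

/-- data for a homomorphism from the model -/
structure HomData (φ₁ φ₂ ζ : F4 → G) (β : G) : Prop where
  add1 : ∀ a b, φ₁ (a + b) = φ₁ a * φ₁ b
  add2 : ∀ a b, φ₂ (a + b) = φ₂ a * φ₂ b
  addz : ∀ a b, ζ (a + b) = ζ a * ζ b
  comm : ∀ a b, φ₁ a * φ₂ b = φ₂ b * φ₁ a * ζ (a * b)
  z1 : ∀ c a, ζ c * φ₁ a = φ₁ a * ζ c
  z2 : ∀ c a, ζ c * φ₂ a = φ₂ a * ζ c
  b1 : ∀ a, β * φ₁ a = φ₂ (fr a) * β
  b2 : ∀ a, β * φ₂ a = φ₁ (fr a) * β
  bz : ∀ a, β * ζ a = ζ (fr a) * β
  bb : β * β = 1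

namespace HomData

variable {φ₁ φ₂ ζ : F4 → G} {β : G} (h : HomData φ₁ φ₂ ζ β)

/-- the map -/
def f (φ₁ φ₂ ζ : F4 → G) (β : G) (t : T) : G :=
  φ₂ t.b * φ₁ t.a * ζ t.c * (match t.s with | false => 1 | true => β)

theorem f_false (a b c : F4) : f φ₁ φ₂ ζ β ⟨a, b, c, false⟩ = φ₂ b * φ₁ a * ζ c := by
  show φ₂ b * φ₁ a * ζ c * 1 = _
  rw [mul_one]

theorem f_true (a b c : F4) : f φ₁ φ₂ ζ β ⟨a, b, c, true⟩ = φ₂ b * φ₁ a * ζ c * β := rfl

include h

theorem f_mul (x y : T) : f φ₁ φ₂ ζ β (x * y) = f φ₁ φ₂ ζ β x * f φ₁ φ₂ ζ β y := by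
  obtain ⟨a, b, c, s⟩ := x
  obtain ⟨a', b', c', s'⟩ := y
  -- the product of two elements of the index two subgroup
  have key : ∀ a b c a' b' c' : F4, φ₂ (b + b') * φ₁ (a + a') * ζ (c + c' + a * b') =
      φ₂ b * φ₁ a * ζ c * (φ₂ b' * φ₁ a' * ζ c') := by
    intro a b c a' b' c'
    rw [h.add1, h.add2, h.addz, h.addz]
    have e1 : ζ c * (φ₂ b' * φ₁ a' * ζ c') = φ₂ b' * φ₁ a' * (ζ c * ζ c') := by
      calc ζ c * (φ₂ b' * φ₁ a' * ζ c') = (ζ c * φ₂ b') * φ₁ a' * ζ c' := by simp only [mul_assoc]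
        _ = φ₂ b' * (ζ c * φ₁ a') * ζ c' := by rw [h.z2]; simp only [mul_assoc]
        _ = φ₂ b' * φ₁ a' * (ζ c * ζ c') := by rw [h.z1]; simp only [mul_assoc]
    have e2 : ∀ m n, ζ m * ζ n = ζ n * ζ m := by
      intro m n
      rw [← h.addz, ← h.addz, add_comm]
    have e3 : ζ c * ζ c' * ζ (a * b') = ζ (a * b') * (ζ c * ζ c') := by
      rw [mul_assoc, e2 c' (a * b'), ← mul_assoc, e2 c (a * b'), mul_assoc]
    calc φ₂ b * φ₂ b' * (φ₁ a * φ₁ a') * (ζ c * ζ c' * ζ (a * b'))
        = φ₂ b * φ₂ b' * φ₁ a * (φ₁ a' * ζ (a * b')) * (ζ c * ζ c') := by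
          rw [e3]; simp only [mul_assoc]
      _ = φ₂ b * (φ₂ b' * φ₁ a * ζ (a * b')) * φ₁ a' * (ζ c * ζ c') := by
          rw [← h.z1]; simp only [mul_assoc]
      _ = φ₂ b * φ₁ a * (φ₂ b' * φ₁ a' * (ζ c * ζ c')) := by
          rw [← h.comm]; simp only [mul_assoc]
      _ = φ₂ b * φ₁ a * ζ c * (φ₂ b' * φ₁ a' * ζ c') := by
          rw [← e1]; simp only [mul_assoc]
  cases s with
  | false =>
    rw [T.mul_false]
    cases s' with
    | false => rw [f_false, f_false, f_false]; exact key _ _ _ _ _ _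
    | true =>
      rw [f_true, f_false, f_true, key]; simp only [mul_assoc]
  | true =>
    rw [T.mul_true]
    have e4 : β * (φ₂ b' * φ₁ a' * ζ c') = φ₂ (fr a') * φ₁ (fr b') * ζ (fr c' + fr (a' * b')) * β := by
      calc β * (φ₂ b' * φ₁ a' * ζ c') = (β * φ₂ b') * φ₁ a' * ζ c' := by simp only [mul_assoc]
        _ = φ₁ (fr b') * (β * φ₁ a') * ζ c' := by rw [h.b2]; simp only [mul_assoc]
        _ = φ₁ (fr b') * φ₂ (fr a') * (β * ζ c') := by rw [h.b1]; simp only [mul_assoc]
        _ = φ₁ (fr b') * φ₂ (fr a') * ζ (fr c') * β := by rw [h.bz]; simp only [mul_assoc]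
        _ = φ₂ (fr a') * φ₁ (fr b') * ζ (fr (a' * b')) * ζ (fr c') * β := by
            rw [h.comm, fr_mul, mul_comm (fr b')]
        _ = φ₂ (fr a') * φ₁ (fr b') * ζ (fr c' + fr (a' * b')) * β := by
            rw [mul_assoc (φ₂ (fr a') * φ₁ (fr b')), ← h.addz, add_comm (fr (a' * b'))]
    have e5 : c + fr c' + (fr (a' * b') + a * fr a') = c + (fr c' + fr (a' * b')) + a * fr a' := by
      ring
    have e6 : φ₂ b * φ₁ a * ζ c * β * (φ₂ b' * φ₁ a' * ζ c') =
        φ₂ (b + fr a') * φ₁ (a + fr b') * ζ (c + fr c' + (fr (a' * b') + a * fr a')) * β := by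
      rw [mul_assoc _ β, e4, e5, key]; simp only [mul_assoc]
    cases s' with
    | false =>
      show f φ₁ φ₂ ζ β ⟨_, _, _, true⟩ = _
      rw [f_true, f_true, f_false, e6]
    | true =>
      show f φ₁ φ₂ ζ β ⟨_, _, _, false⟩ = _
      rw [f_true, f_true, f_false, ← mul_assoc, e6, mul_assoc _ β β, h.bb, mul_one]

/-- the homomorphism -/
def toHom : T →* G := MonoidHom.mk' (f φ₁ φ₂ ζ β) h.f_mul

theorem toHom_apply (t : T) : h.toHom t = f φ₁ φ₂ ζ β t := rfl

end HomData

/-- the hypotheses on `E ≤ T ≤ S` -/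
structure Frame (S T E : Subgroup G) (x z w : G) : Prop where
  ET : E ≤ T
  TS : T ≤ S
  xS : x ∈ S
  xT : x ∉ T
  x2 : x * x = 1
  z2 : z * z = 1
  w2 : w * w = 1
  z1 : z ≠ 1
  zE : z ∈ E
  wE : w ∈ E
  zc : ∀ t ∈ T, t * z = z * t
  wc : ∀ t ∈ T, t * w = w * t
  xz : x * z * x⁻¹ = z
  xw : x * w * x⁻¹ = w * z
  xTn : ∀ t ∈ T, x * t * x⁻¹ ∈ T
  hY : ∀ t ∈ T, t * x = x * t → t * t = 1 → t = 1 ∨ t = z
  cardE : Nat.card E = 16
  cardS : Nat.card S = 128
  sq : ∀ a ∈ E, a * a = 1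
  inf : ∀ a ∈ E, x * a * x⁻¹ ∈ E → a = 1 ∨ a = z ∨ a = w ∨ a = w * z
  normal : ∀ t ∈ T, ∀ a ∈ E, t * a * t⁻¹ ∈ E

namespace Frame

variable {S T E : Subgroup G} {x z w : G} (h : Frame S T E x z w)

/-- the commutator `[a, x b x⁻¹]` -/
def c (x a b : G) : G := a * (x * b * x⁻¹) * a⁻¹ * (x * b * x⁻¹)⁻¹

include h

theorem x_inv : x⁻¹ = x := inv_eq_of_mul_eq_one_left h.x2

theorem xx (a : G) : x * (x * a * x⁻¹) * x⁻¹ = a := by
  have h1 := h.x2
  have h2 : x⁻¹ * x⁻¹ = 1 := by rw [← mul_inv_rev, h1, inv_one]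
  calc x * (x * a * x⁻¹) * x⁻¹ = (x * x) * a * (x⁻¹ * x⁻¹) := by group
    _ = a := by rw [h1, h2, one_mul, mul_one]

theorem Ecomm {a b : G} (ha : a ∈ E) (hb : b ∈ E) : a * b = b * a := by
  have h1 : a⁻¹ = a := inv_eq_of_mul_eq_one_left (h.sq a ha)
  have h2 : b⁻¹ = b := inv_eq_of_mul_eq_one_left (h.sq b hb)
  have h3 : (a * b)⁻¹ = a * b := inv_eq_of_mul_eq_one_left (h.sq _ (E.mul_mem ha hb))
  rw [← h3, mul_inv_rev, h1, h2]

theorem c_mem {a b : G} (ha : a ∈ E) (hb : b ∈ E) : c x a b ∈ E := by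
  unfold c
  have h1 : a * (x * b * x⁻¹) * a⁻¹ * (x * b * x⁻¹)⁻¹ =
      a * ((x * b * x⁻¹) * a⁻¹ * (x * b * x⁻¹)⁻¹) := by group
  rw [h1]
  exact E.mul_mem ha (h.normal _ (h.xTn b (h.ET hb)) _ (E.inv_mem ha))

theorem c_conj {a b : G} : x * c x a b * x⁻¹ = (c x b a)⁻¹ := by
  unfold c
  have h1 := h.xx b
  calc x * (a * (x * b * x⁻¹) * a⁻¹ * (x * b * x⁻¹)⁻¹) * x⁻¹
      = (x * a * x⁻¹) * (x * (x * b * x⁻¹) * x⁻¹) * (x * a * x⁻¹)⁻¹ *
        (x * (x * b * x⁻¹) * x⁻¹)⁻¹ := by group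
    _ = (x * a * x⁻¹) * b * (x * a * x⁻¹)⁻¹ * b⁻¹ := by rw [h1]
    _ = _ := by group

theorem c_cases {a b : G} (ha : a ∈ E) (hb : b ∈ E) :
    c x a b = 1 ∨ c x a b = z ∨ c x a b = w ∨ c x a b = w * z := by
  apply h.inf _ (h.c_mem ha hb)
  rw [h.c_conj]
  exact E.inv_mem (h.c_mem hb ha)

theorem c_central {a b t : G} (ha : a ∈ E) (hb : b ∈ E) (ht : t ∈ T) :
    t * c x a b = c x a b * t := by
  rcases h.c_cases ha hb with h1 | h1 | h1 | h1 <;> rw [h1]
  · simp
  · exact h.zc t ht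
  · exact h.wc t ht
  · rw [← mul_assoc, h.wc t ht, mul_assoc, h.zc t ht, mul_assoc]

theorem c_inv {a b : G} (ha : a ∈ E) (hb : b ∈ E) : (c x a b)⁻¹ = c x a b :=
  inv_eq_of_mul_eq_one_left (h.sq _ (h.c_mem ha hb))

theorem c_conj' {a b : G} (ha : a ∈ E) (hb : b ∈ E) : x * c x a b * x⁻¹ = c x b a := by
  rw [h.c_conj, h.c_inv hb ha]

theorem c_mul_left {a a' b : G} (ha : a ∈ E) (ha' : a' ∈ E) (hb : b ∈ E) :
    c x (a * a') b = c x a b * c x a' b := by
  have h1 := h.c_central ha' hb (h.ET ha)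
  have h2 : c x (a * a') b = (a * c x a' b) * ((x * b * x⁻¹) * a⁻¹ * (x * b * x⁻¹)⁻¹) := by
    unfold c; group
  have h3 : c x a b = a * ((x * b * x⁻¹) * a⁻¹ * (x * b * x⁻¹)⁻¹) := by unfold c; group
  rw [h2, h1, mul_assoc, ← h3]
  have h4 := h.c_central ha' hb (h.ET (h.c_mem ha hb))
  exact h4.symm

theorem c_mul_right {a b b' : G} (ha : a ∈ E) (hb : b ∈ E) (hb' : b' ∈ E) :
    c x a (b * b') = c x a b * c x a b' := by
  have h1 := h.c_mul_left hb hb' ha
  have h2 : x * c x (b * b') a * x⁻¹ = (x * c x b a * x⁻¹) * (x * c x b' a * x⁻¹) := by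
    rw [h1]; group
  rwa [h.c_conj' (E.mul_mem hb hb') ha, h.c_conj' hb ha, h.c_conj' hb' ha] at h2

/-- the commutator relation -/
theorem c_comm {a b : G} (ha : a ∈ E) (hb : b ∈ E) :
    a * (x * b * x⁻¹) = (x * b * x⁻¹) * a * c x a b := by
  have h1 : c x a b * ((x * b * x⁻¹) * a) = a * (x * b * x⁻¹) := by unfold c; group
  rw [← h1]
  exact (h.c_central ha hb (T.mul_mem (h.xTn b (h.ET hb)) (h.ET ha))).symm

theorem wE' : w * z ∈ E := E.mul_mem h.wE h.zE

theorem c_self {a : G} (ha : a ∈ E) (hne : ¬ (a = 1 ∨ a = z ∨ a = w ∨ a = w * z)) :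
    c x a a = z := by
  have h1 := h.c_conj' ha ha
  have h2 : c x a a * x = x * c x a a := (mul_inv_eq_iff_eq_mul.1 h1).symm
  rcases h.hY _ (h.ET (h.c_mem ha ha)) h2 (h.sq _ (h.c_mem ha ha)) with h3 | h3
  · exfalso
    -- `a` commutes with `x a x⁻¹`
    have h4 : a * (x * a * x⁻¹) = (x * a * x⁻¹) * a := by
      rw [h.c_comm ha ha, h3, mul_one]
    set y := a * (x * a * x⁻¹) with hy
    have hyT : y ∈ T := T.mul_mem (h.ET ha) (h.xTn a (h.ET ha))
    have h5 : x * y * x⁻¹ = y := by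
      calc x * y * x⁻¹ = (x * a * x⁻¹) * (x * (x * a * x⁻¹) * x⁻¹) := by rw [hy]; group
        _ = (x * a * x⁻¹) * a := by rw [h.xx]
        _ = y := h4.symm
    have h6 : y * y = 1 := by
      calc y * y = a * ((x * a * x⁻¹) * a) * (x * a * x⁻¹) := by rw [hy]; group
        _ = a * (a * (x * a * x⁻¹)) * (x * a * x⁻¹) := by rw [← h4]
        _ = (a * a) * (x * (a * a) * x⁻¹) := by group
        _ = 1 := by rw [h.sq a ha]; group
    have h7 : x * a * x⁻¹ = a * y := by
      rw [hy, ← mul_assoc, h.sq a ha, one_mul]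
    apply hne
    apply h.inf a ha
    rw [h7]
    rcases h.hY y hyT (mul_inv_eq_iff_eq_mul.1 h5).symm h6 with h8 | h8
    · rw [h8, mul_one]; exact ha
    · rw [h8]; exact E.mul_mem ha h.zE
  · exact h3

omit h in
theorem exists_notMem_list [Finite G] {l : List G} (hl : l.length < Nat.card E) :
    ∃ a ∈ E, a ∉ l := by
  classical
  by_contra hcon
  push Not at hcon
  have h1 : (E : Set G) ⊆ ((l.toFinset : Finset G) : Set G) := by
    intro a ha
    simpa using hcon a ha
  have h2 := Set.ncard_le_ncard h1 (Set.toFinite _)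
  rw [Set.ncard_coe_finset] at h2
  have h3 : Set.ncard (E : Set G) = Nat.card E := rfl
  have h4 := l.toFinset_card_le
  omega

/-- `φ₁` -/
def p1 (a b : G) : F4 → G
  | .o => 1
  | .e => a
  | .w => b
  | .u => a * b

/-- `φ₂` -/
def p2 (x a b : G) (y : F4) : G := x * p1 a b (fr y) * x⁻¹

/-- `ζ` -/
def pz (z p : G) : F4 → G
  | .o => 1
  | .e => z
  | .w => p * z
  | .u => p

omit h in
theorem p1_add {a b : G} (ha : a * a = 1) (hb : b * b = 1) (hab : b * a = a * b) (y y' : F4) :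
    p1 a b (y + y') = p1 a b y * p1 a b y' := by
  have key : ∀ y y' : F4, y + y' = F4.add y y' := fun _ _ => rfl
  have h1 : a * (a * b) = b := by rw [← mul_assoc, ha, one_mul]
  have h2 : b * (a * b) = a := by rw [← hab, ← mul_assoc, hb, one_mul]
  have h3 : a * b * a = b := by rw [mul_assoc, hab, h1]
  have h4 : a * b * b = a := by rw [mul_assoc, hb, mul_one]
  have h5 : a * b * (a * b) = 1 := by rw [mul_assoc, h2, ha]
  cases y <;> cases y' <;> simp only [key, F4.add, p1, one_mul, mul_one, ha, hb, hab, h1, h2, h3,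
    h4, h5]

omit h in
theorem pz_eq {z p : G} (hz : z * z = 1) (hzp : z * p = p * z) (y : F4) :
    pz z p y = p1 z (p * z) y := by
  cases y
  · rfl
  · rfl
  · rfl
  · show p = z * (p * z)
    rw [← mul_assoc, hzp, mul_assoc, hz, mul_one]

theorem homData {a b : G} (ha : a ∈ E) (hb : b ∈ E)
    (ha1 : ¬ (a = 1 ∨ a = z ∨ a = w ∨ a = w * z)) (hb1 : ¬ (b = 1 ∨ b = z ∨ b = w ∨ b = w * z))
    (hab1 : ¬ (a * b = 1 ∨ a * b = z ∨ a * b = w ∨ a * b = w * z)) :
    HomData (p1 a b) (p2 x a b) (pz z (c x a b)) x ∧ (c x a b = w ∨ c x a b = w * z) ∧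
      x * c x a b * x⁻¹ = c x a b * z := by
  have hab := E.mul_mem ha hb
  set p := c x a b with hp
  have hpE : p ∈ E := h.c_mem ha hb
  have caa := h.c_self ha ha1
  have cbb := h.c_self hb hb1
  have cabab := h.c_self hab hab1
  set q := c x b a with hq
  have hqE : q ∈ E := h.c_mem hb ha
  have hzz := h.z2
  -- `p q = z`
  have hpq : p * q = z := by
    rw [h.c_mul_left ha hb hab, h.c_mul_right ha ha hb, h.c_mul_right hb ha hb, caa, cbb,
      ← hp, ← hq] at cabab
    calc p * q = (z * z) * (p * q) := by rw [hzz, one_mul]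
      _ = z * p * (q * z) := by
          rw [mul_assoc z z, h.Ecomm h.zE (E.mul_mem hpE hqE)]; simp only [mul_assoc]
      _ = z := cabab
  have hq' : q = p * z := by
    calc q = (p * p) * q := by rw [h.sq p hpE, one_mul]
      _ = p * z := by rw [mul_assoc, hpq]
  have hxp : x * p * x⁻¹ = p * z := by rw [hp, h.c_conj' ha hb, ← hq, hq']
  have hxpz : x * (p * z) * x⁻¹ = p := by
    calc x * (p * z) * x⁻¹ = (x * p * x⁻¹) * (x * z * x⁻¹) := by group
      _ = p * (z * z) := by rw [hxp, h.xz, mul_assoc]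
      _ = p := by rw [hzz, mul_one]
  have hpcases : p = w ∨ p = w * z := by
    rcases h.c_cases ha hb with h1 | h1 | h1 | h1
    · exfalso
      rw [← hp] at h1
      rw [h1] at hxp
      apply h.z1
      have : x * 1 * x⁻¹ = 1 := by group
      rw [this, one_mul] at hxp
      exact hxp.symm
    · exfalso
      rw [← hp] at h1
      rw [h1, h.xz] at hxp
      exact h.z1 (left_eq_mul.1 hxp)
    · exact Or.inl h1
    · exact Or.inr h1
  refine ⟨?_, hpcases, hxp⟩
  have hp1E : ∀ y, p1 a b y ∈ E := by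
    intro y
    cases y
    · exact E.one_mem
    · exact ha
    · exact hb
    · exact hab
  have hba := h.Ecomm hb ha
  have haa := h.sq a ha
  have hbb := h.sq b hb
  have hpp := h.sq p hpE
  have hzp : z * p = p * z := h.Ecomm h.zE hpE
  have hpz2 : (p * z) * (p * z) = 1 := h.sq _ (E.mul_mem hpE h.zE)
  have hpzE : ∀ y, pz z p y ∈ E := by
    intro y
    cases y
    · exact E.one_mem
    · exact h.zE
    · exact E.mul_mem hpE h.zE
    · exact hpE
  have hpzT : ∀ y, ∀ t ∈ T, t * pz z p y = pz z p y * t := by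
    intro y t ht
    have h1 := h.c_central ha hb ht
    rw [← hp] at h1
    cases y
    · show t * 1 = 1 * t
      simp
    · exact h.zc t ht
    · show t * (p * z) = p * z * t
      rw [← mul_assoc, h1, mul_assoc, h.zc t ht, mul_assoc]
    · exact h1
  have hc1 : ∀ u, c x 1 u = 1 := by intro u; unfold c; group
  have hc2 : ∀ u, c x u 1 = 1 := by intro u; unfold c; group
  have htab : ∀ y v, c x (p1 a b y) (p1 a b v) = pz z p (y * fr v) := by
    have hmul : ∀ y y' : F4, y * y' = F4.mul y y' := fun _ _ => rfl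
    intro y v
    have t1 : c x a (a * b) = p * z := by rw [h.c_mul_right ha ha hb, caa, ← hp, hzp]
    have t2 : c x b (a * b) = p := by
      rw [h.c_mul_right hb ha hb, cbb, ← hq, hq', mul_assoc, hzz, mul_one]
    have t3 : c x (a * b) a = p := by
      rw [h.c_mul_left ha hb ha, caa, ← hq, hq', ← mul_assoc, hzp, mul_assoc, hzz, mul_one]
    have t4 : c x (a * b) b = p * z := by rw [h.c_mul_left ha hb hb, cbb, ← hp]
    cases y <;> cases v <;> simp only [hmul, F4.mul, fr, p1, pz, hc1, hc2, caa, cbb, cabab, t1, t2,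
      t3, t4]
    · rfl
    · exact hq'
  exact
    { add1 := p1_add haa hbb hba
      add2 := by
        intro y y'
        unfold p2
        rw [fr_add, p1_add haa hbb hba]
        group
      addz := by
        intro y y'
        rw [pz_eq hzz hzp, pz_eq hzz hzp, pz_eq hzz hzp]
        refine p1_add hzz hpz2 ?_ y y'
        rw [mul_assoc, hzz, mul_one, ← mul_assoc, hzp, mul_assoc, hzz, mul_one]
      comm := by
        intro y y'
        unfold p2
        rw [h.c_comm (hp1E y) (hp1E (fr y')), htab, fr_fr]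
      z1 := fun y y' => h.Ecomm (hpzE y) (hp1E y')
      z2 := fun y y' => (hpzT y _ (h.xTn _ (h.ET (hp1E (fr y'))))).symm
      b1 := by
        intro y
        unfold p2
        rw [fr_fr]
        group
      b2 := by
        intro y
        exact mul_inv_eq_iff_eq_mul.1 (h.xx _)
      bz := by
        intro y
        cases y
        · show x * 1 = 1 * x
          simp
        · exact mul_inv_eq_iff_eq_mul.1 h.xz
        · exact mul_inv_eq_iff_eq_mul.1 hxpz
        · exact mul_inv_eq_iff_eq_mul.1 hxp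
      bb := h.x2 }

/-- **The identification.** -/
theorem exists_hom [Finite G] : ∃ φ : Cfsg.Agent.J2Sylow.Model.T →* G, Function.Injective φ ∧
    φ.range = S ∧ φ Cfsg.Agent.J2Sylow.Model.T.z = z := by
  obtain ⟨a, ha, hal⟩ := exists_notMem_list (E := E) (l := [1, z, w, w * z])
    (by rw [h.cardE]; simp)
  obtain ⟨b, hb, hbl⟩ := exists_notMem_list (E := E)
    (l := [1, z, w, w * z, a * 1, a * z, a * w, a * (w * z)]) (by rw [h.cardE]; simp)
  simp only [List.mem_cons, List.not_mem_nil, or_false, not_or] at hal hbl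
  have ha1 : ¬ (a = 1 ∨ a = z ∨ a = w ∨ a = w * z) := by
    rintro (h1 | h1 | h1 | h1)
    · exact hal.1 h1
    · exact hal.2.1 h1
    · exact hal.2.2.1 h1
    · exact hal.2.2.2 h1
  have hb1 : ¬ (b = 1 ∨ b = z ∨ b = w ∨ b = w * z) := by
    rintro (h1 | h1 | h1 | h1)
    · exact hbl.1 h1
    · exact hbl.2.1 h1
    · exact hbl.2.2.1 h1
    · exact hbl.2.2.2.1 h1
  have hab1 : ¬ (a * b = 1 ∨ a * b = z ∨ a * b = w ∨ a * b = w * z) := by
    have key : ∀ v, a * b = v → b = a * v := by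
      intro v hv
      rw [← hv, ← mul_assoc, h.sq a ha, one_mul]
    rintro (h1 | h1 | h1 | h1)
    · exact hbl.2.2.2.2.1 (key _ h1)
    · exact hbl.2.2.2.2.2.1 (key _ h1)
    · exact hbl.2.2.2.2.2.2.1 (key _ h1)
    · exact hbl.2.2.2.2.2.2.2 (key _ h1)
  obtain ⟨H, hp, hxp⟩ := h.homData ha hb ha1 hb1 hab1
  set p := c x a b with hpdef
  have hpE : p ∈ E := h.c_mem ha hb
  have hp1E : ∀ y, p1 a b y ∈ E := by
    intro y
    cases y
    · exact E.one_mem
    · exact ha
    · exact hb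
    · exact E.mul_mem ha hb
  have hpzE : ∀ y, pz z p y ∈ E := by
    intro y
    cases y
    · exact E.one_mem
    · exact h.zE
    · exact E.mul_mem hpE h.zE
    · exact hpE
  have hWW : ∀ y, pz z p y = 1 ∨ pz z p y = z ∨ pz z p y = w ∨ pz z p y = w * z := by
    intro y
    rcases hp with hp | hp
    · cases y
      · exact Or.inl rfl
      · exact Or.inr (Or.inl rfl)
      · right; right; right
        show p * z = w * z
        rw [hp]
      · right; right; left
        exact hp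
    · cases y
      · exact Or.inl rfl
      · exact Or.inr (Or.inl rfl)
      · right; right; left
        show p * z = w
        rw [hp, mul_assoc, h.z2, mul_one]
      · right; right; right
        exact hp
  have hp1W : ∀ y, (p1 a b y = 1 ∨ p1 a b y = z ∨ p1 a b y = w ∨ p1 a b y = w * z) → y = .o := by
    intro y hy
    cases y
    · rfl
    · exact absurd hy ha1
    · exact absurd hy hb1
    · exact absurd hy hab1
  have hp2T : ∀ y, p2 x a b y ∈ T := fun y => h.xTn _ (h.ET (hp1E _))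
  have hinj : Function.Injective H.toHom := by
    rw [injective_iff_map_eq_one]
    rintro ⟨ta, tb, tc, ts⟩ ht
    rw [H.toHom_apply] at ht
    cases ts with
    | true =>
      exfalso
      rw [HomData.f_true] at ht
      apply h.xT
      have : x = (p2 x a b tb * p1 a b ta * pz z p tc)⁻¹ := eq_inv_of_mul_eq_one_right ht
      rw [this]
      exact T.inv_mem (T.mul_mem (T.mul_mem (hp2T _) (h.ET (hp1E _))) (h.ET (hpzE _)))
    | false =>
      rw [HomData.f_false] at ht
      have h1 : p2 x a b tb = (p1 a b ta * pz z p tc)⁻¹ := by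
        rw [mul_assoc] at ht
        exact eq_inv_of_mul_eq_one_left ht
      have h2 : p2 x a b tb ∈ E := by
        rw [h1]; exact E.inv_mem (E.mul_mem (hp1E _) (hpzE _))
      have h3 := hp1W _ (h.inf _ (hp1E (fr tb)) h2)
      have h4 : tb = .o := by
        cases tb
        · rfl
        all_goals simp [fr] at h3
      subst h4
      have h5 : p2 x a b .o = 1 := by
        show x * 1 * x⁻¹ = 1
        group
      rw [h5, one_mul] at ht
      have h6 : p1 a b ta = pz z p tc := by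
        have h7 := h.sq _ (hpzE tc)
        calc p1 a b ta = p1 a b ta * (pz z p tc * pz z p tc) := by rw [h7, mul_one]
          _ = pz z p tc := by rw [← mul_assoc, ht, one_mul]
      have h8 : ta = .o := hp1W ta (by rw [h6]; exact hWW tc)
      subst h8
      have h9 : pz z p tc = 1 := h6.symm
      have h10 : tc = .o := by
        cases tc
        · rfl
        · exact absurd h9 h.z1
        · exfalso
          have h11 : p * z = 1 := h9
          have h12 : p = z := by
            calc p = p * z * z := by rw [mul_assoc, h.z2, mul_one]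
              _ = z := by rw [h11, one_mul]
          rw [h12, h.xz] at hxp
          exact h.z1 (left_eq_mul.1 hxp)
        · exfalso
          have h11 : p = 1 := h9
          rw [h11] at hxp
          apply h.z1
          have : x * 1 * x⁻¹ = 1 := by group
          rw [this, one_mul] at hxp
          exact hxp.symm
      subst h10
      rfl
  refine ⟨H.toHom, hinj, ?_, by
    show x * 1 * x⁻¹ * 1 * z * 1 = z
    group⟩
  apply Subgroup.eq_of_le_of_card_ge
  · rintro _ ⟨⟨ta, tb, tc, ts⟩, rfl⟩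
    rw [H.toHom_apply]
    have h1 : p2 x a b tb * p1 a b ta * pz z p tc ∈ S :=
      h.TS (T.mul_mem (T.mul_mem (hp2T _) (h.ET (hp1E _))) (h.ET (hpzE _)))
    cases ts with
    | true => rw [HomData.f_true]; exact S.mul_mem h1 h.xS
    | false => rw [HomData.f_false]; exact h1
  · rw [h.cardS, ← Nat.card_congr (MonoidHom.ofInjective hinj).toEquiv,
      Cfsg.Agent.J2Sylow.Model.T.card_T]

end Frame

end Cfsg.Agent.J2Sylow.FrameHom
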