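import Mathlib
import Cfsg.Prelude.Def_CaseTheorems
import Cfsg.Prelude.Def_Local
import Cfsg.Agent.Lib.ComponentSolvable
import Cfsg.Agent.Lib.Cores

/-!
# Auxiliary facts for the end of the `J₃`-type case

* a group whose quotient by its core is 2-constrained has no component in that quotient;
* in a group of characteristic 2 type the centralisers of involutions have trivial core.
-/

set_option autoImplicit false

namespace Cfsg.Agent.J2Sylow.J3EndAux

open Subgroup Cfsg
open scoped commutatorElement

/-- If `M = Q O(C)` is normal in `C`, `Q` a 2-subgroup, and `M` contains its centraliser modulo `O(C)`,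
then `C / O(C)` has no component. -/
theorem not_hasComponent {C : Type*} [Group C] [Finite C] (Q M : Subgroup C) (hQ : IsPGroup 2 Q)
    (hM : M.Normal) (hQM : Q ≤ M) (hMQ : M ≤ Q ⊔ oddCore C)
    (hc : ∀ g : C, (∀ x ∈ Q, g * x * g⁻¹ * x⁻¹ ∈ oddCore C) → g ∈ M) :
    ¬ HasComponent (C ⧸ oddCore C) := by
  rintro ⟨K, hK, hq⟩
  have : Fact (Nat.Prime 2) := ⟨Nat.prime_two⟩
  set R : Subgroup (C ⧸ oddCore C) := M.map (QuotientGroup.mk' (oddCore C)) with hR
  have hRn : R.Normal := hM.map _ (QuotientGroup.mk'_surjective _)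
  have hRQ : R ≤ Q.map (QuotientGroup.mk' (oddCore C)) := by
    rw [hR]
    refine (Subgroup.map_mono hMQ).trans ?_
    rw [Subgroup.map_sup]
    refine sup_le le_rfl ?_
    have : (oddCore C).map (QuotientGroup.mk' (oddCore C)) = ⊥ := by
      rw [Subgroup.map_eq_bot_iff, QuotientGroup.ker_mk']
    rw [this]
    exact bot_le
  have hRp : IsPGroup 2 R := (hQ.map _).to_le hRQ
  have hRs : Group.IsSolvable R := by
    have := hRp.isNilpotent
    infer_instance
  have hcomm := Lib.ComponentSolvable.commutator_component_solvable_eq_bot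
    (K := K) (R := R) ⟨hK, hq⟩ hRs (by rw [normalizer_eq_top]; exact le_top)
  have hKR : K ≤ R := by
    intro k hk
    obtain ⟨g, rfl⟩ := QuotientGroup.mk'_surjective _ k
    refine mem_map_of_mem _ (hc g ?_)
    intro x hx
    have h1 : ⁅(QuotientGroup.mk' (oddCore C)) g, (QuotientGroup.mk' (oddCore C)) x⁆ ∈ ⁅K, R⁆ :=
      commutator_mem_commutator hk (mem_map_of_mem _ (hQM hx))
    rw [hcomm, mem_bot, ← map_commutatorElement] at h1
    exact (QuotientGroup.eq_one_iff _).1 h1
  apply Lib.ComponentSolvable.quasisimple_not_solvable hq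
  have := (hRp.to_le hKR).isNilpotent
  infer_instance

/-- In a group of characteristic 2, the core is trivial. -/
theorem oddCore_eq_bot {H : Type*} [Group H] [Finite H] (h : IsOfCharacteristicTwo H) :
    oddCore H = ⊥ := by
  have : Fact (Nat.Prime 2) := ⟨Nat.prime_two⟩
  have hcop : (Nat.card (oddCore H)).Coprime 2 := Lib.Cores.pPrimeCore_coprime 2
  have hp : IsPGroup 2 (pCore 2 H) := Lib.Cores.pCore_isPGroup 2
  obtain ⟨n, hn⟩ := IsPGroup.iff_card.1 hp
  have hd : Disjoint (oddCore H) (pCore 2 H) := by
    apply disjoint_of_coprime_natCard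
    rw [hn]
    exact Nat.Coprime.pow_right n hcop
  have hle : oddCore H ≤ Subgroup.centralizer (pCore 2 H : Set H) := by
    intro x hx
    rw [mem_centralizer_iff]
    intro y hy
    exact ((Subgroup.commute_of_normal_of_disjoint _ _ inferInstance inferInstance hd x y hx hy).symm).eq
  rw [eq_bot_iff]
  intro x hx
  have := hd.le_bot ⟨hx, h (hle hx)⟩
  exact this

/-- Transport of the core along an equality of subgroups. -/
theorem centralizerPPrimeCore_eq_bot {G : Type*} [Group G] [Finite G] (h : IsCharacteristicTwoType G)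
    {t : G} (ht : orderOf t = 2) : Cfsg.centralizerPPrimeCore 2 t = ⊥ := by
  have : Fact (Nat.Prime 2) := ⟨Nat.prime_two⟩
  have hp : IsPGroup 2 (zpowers t) := by
    apply IsPGroup.of_card (n := 1)
    rw [Nat.card_zpowers, ht, pow_one]
  have hne : zpowers t ≠ ⊥ := by
    rw [Ne, zpowers_eq_bot]
    rintro rfl
    rw [orderOf_one] at ht
    omega
  have h1 := oddCore_eq_bot (h.2 _ hp hne)
  have heq : Subgroup.normalizer ((zpowers t : Subgroup G) : Set G)
      = Subgroup.centralizer ({t} : Set G) := by
    apply le_antisymm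
    · intro g hg
      rw [mem_centralizer_singleton_iff]
      have h2 : g * t * g⁻¹ ∈ zpowers t := by
        rw [mem_normalizer_iff] at hg
        exact (hg t).1 (mem_zpowers t)
      obtain ⟨k, hk⟩ := mem_zpowers_iff.1 h2
      have h3 : g * t * g⁻¹ = 1 ∨ g * t * g⁻¹ = t := by
        rw [← hk]
        rcases Int.even_or_odd k with ⟨m, hm⟩ | ⟨m, hm⟩
        · left
          rw [hm, ← two_mul, zpow_mul, zpow_ofNat, ← ht, pow_orderOf_eq_one, one_zpow]
        · right
          rw [hm, zpow_add, zpow_mul, zpow_ofNat, ← ht, pow_orderOf_eq_one, one_zpow, one_mul, zpow_one]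
      rcases h3 with h3 | h3
      · exfalso
        have h4 : t = 1 := by
          have : t = g⁻¹ * (g * t * g⁻¹) * g := by group
          rw [this, h3]; group
        rw [h4, orderOf_one] at ht
        omega
      · exact mul_inv_eq_iff_eq_mul.1 h3
    · intro g hg
      rw [mem_centralizer_singleton_iff] at hg
      rw [mem_normalizer_iff]
      intro x
      have h5 : ∀ y, y ∈ zpowers t → g * y * g⁻¹ = y := by
        intro y hy
        obtain ⟨k, rfl⟩ := mem_zpowers_iff.1 hy
        have hc : Commute g t := hg
        rw [(hc.zpow_right k).eq]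
        group
      constructor
      · intro hx
        rw [h5 x hx]; exact hx
      · intro hx
        have h6 : g⁻¹ * (g * x * g⁻¹) * g = g * x * g⁻¹ := by
          have h7 := h5 _ hx
          have hc : Commute g (g * x * g⁻¹) := by
            change g * (g * x * g⁻¹) = (g * x * g⁻¹) * g
            exact mul_inv_eq_iff_eq_mul.1 h7
          rw [mul_assoc, ← hc.eq]
          group
        have h8 : x = g * x * g⁻¹ := by
          rw [← h6]; group
        rw [h8]; exact hx
  rw [heq] at h1
  unfold Cfsg.centralizerPPrimeCore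
  have h2 : pPrimeCore 2 ↥(Subgroup.centralizer ({t} : Set G)) = ⊥ := h1
  rw [h2, Subgroup.map_bot]

end Cfsg.Agent.J2Sylow.J3EndAux
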