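import Mathlib
import Cfsg.Agent.S0058

/-!
In the alternating group of degree 5 a subgroup of odd order normalised by a subgroup of order 4 is trivial.
-/

set_option autoImplicit false

namespace Cfsg.Agent.J2Sylow.AltFiveOdd

open Subgroup

theorem sq_of_pow_four : ∀ g : alternatingGroup (Fin 5), g ^ 4 = 1 → g ^ 2 = 1 := by
  decide +kernel

theorem odd_of_comm : ∀ g : alternatingGroup (Fin 5), g ^ 2 = 1 → g ≠ 1 →
    ∀ x : alternatingGroup (Fin 5), x * g = g * x → x ^ 15 = 1 → x = 1 := by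
  decide +kernel

theorem pow_fifteen : ∀ x : alternatingGroup (Fin 5), x ^ 15 = 1 ∨ x ^ 2 = 1 := by
  decide +kernel

/-- In `A₅` a subgroup of odd order normalised by a subgroup of order 4 is trivial. -/
theorem eq_bot {V X : Subgroup (alternatingGroup (Fin 5))} (hV : Nat.card V = 4)
    (hX : ¬ 2 ∣ Nat.card X) (hVX : V ≤ normalizer (X : Set (alternatingGroup (Fin 5)))) :
    X = ⊥ := by
  have hsq : ∀ v ∈ V, v ^ 2 = 1 := by
    intro v hv
    apply sq_of_pow_four
    have h1 := Subgroup.orderOf_dvd_natCard V hv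
    rw [hV] at h1
    exact orderOf_dvd_iff_pow_eq_one.1 h1
  have hcomm : IsMulCommutative V := by
    refine ⟨⟨fun a b => ?_⟩⟩
    have h1 : ∀ x : V, x * x = 1 := fun x => by
      apply Subtype.ext
      have := hsq x x.2
      rwa [pow_two] at this
    have h2 : a * b = (a * b)⁻¹ := eq_inv_of_mul_eq_one_left (h1 _)
    rw [h2, mul_inv_rev, inv_eq_of_mul_eq_one_left (h1 a), inv_eq_of_mul_eq_one_left (h1 b)]
  have hcyc : ¬ IsCyclic V := by
    intro hc
    obtain ⟨g, hg⟩ := IsCyclic.exists_generator (α := V)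
    have h1 : orderOf g = Nat.card V := orderOf_eq_card_of_forall_mem_zpowers hg
    have h2 : g ^ 2 = 1 := Subtype.ext (hsq g g.2)
    have h3 := orderOf_le_of_pow_eq_one (by norm_num) h2
    omega
  have hcop : (Nat.card V).Coprime (Nat.card X) := by
    rw [hV, show (4 : ℕ) = 2 ^ 2 by norm_num]
    exact Nat.Coprime.pow_left 2 ((Nat.Prime.coprime_iff_not_dvd Nat.prime_two).2 hX)
  have h := Cfsg.Agent.S0058.result V X hcyc hVX hcop
  rw [eq_bot_iff, ← h]
  refine iSup₂_le ?_
  rintro v ⟨hv, hv1⟩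
  intro x hx
  rw [mem_bot]
  apply odd_of_comm v (hsq v hv) hv1 x (mem_centralizer_singleton_iff.1 hx.2)
  rcases pow_fifteen x with h1 | h1
  · exact h1
  · have h2 : orderOf x ∣ 2 := orderOf_dvd_of_pow_eq_one h1
    have h3 : orderOf x ∣ Nat.card X := Subgroup.orderOf_dvd_natCard X hx.1
    rcases (Nat.dvd_prime Nat.prime_two).1 h2 with h4 | h4
    · rw [orderOf_eq_one_iff.1 h4, one_pow]
    · rw [h4] at h3
      exact absurd h3 hX

end Cfsg.Agent.J2Sylow.AltFiveOdd
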