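import Mathlib
import Cfsg.Agent.J2Sylow.Hyp
import Cfsg.Agent.J2Sylow.Functor

set_option autoImplicit false

/-!
# General tools for the balance step: odd normal subgroups and involutions, `r`-parts
-/

namespace Cfsg.Agent.J2Sylow.CoreTools

open Subgroup Cfsg.Agent.J2Sylow.Functor

variable {G : Type*} [Group G]

/-- square roots in a subgroup of odd order, of an element inverted by `z` -/
theorem exists_sqrt_inverted [Finite G] {N : Subgroup G} (hN : Odd (Nat.card N)) {z m : G}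
    (hm : m ∈ N) (hinv : z * m * z⁻¹ = m⁻¹) : ∃ k ∈ N, k * k = m ∧ z * k * z⁻¹ = k⁻¹ := by
  have ho := odd_orderOf_of_mem hN hm
  obtain ⟨j, hj⟩ := ho
  refine ⟨m ^ (j + 1), N.pow_mem hm _, ?_, ?_⟩
  · rw [← pow_add]
    have : j + 1 + (j + 1) = (2 * j + 1) + 1 := by ring
    rw [this, pow_add, ← hj, pow_orderOf_eq_one, one_mul, pow_one]
  · have h1 : z * m ^ (j + 1) * z⁻¹ = (z * m * z⁻¹) ^ (j + 1) := by
      rw [conj_pow]
    rw [h1, hinv, inv_pow]

/-- If `g` normalises `N`, `N` has odd order, `z` an involution normalising `N` and `[z, g] ∈ N`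
then some element of the coset `g N` commutes with `z`. -/
theorem exists_commute_coset [Finite G] {N : Subgroup G} (hN : Odd (Nat.card N)) {z g : G}
    (hz : z * z = 1) (hgN : ∀ x ∈ N, g * x * g⁻¹ ∈ N)
    (hc : z * g * z⁻¹ * g⁻¹ ∈ N) : ∃ n ∈ N, (g * n) * z = z * (g * n) := by
  have hzi : z⁻¹ = z := inv_eq_of_mul_eq_one_right hz
  have hgN' := mem_normalizer_of_conj' hgN
  -- m = g⁻¹ z g z
  have hm : g⁻¹ * z * g * z ∈ N := by
    have h1 : g⁻¹ * (z * g * z⁻¹ * g⁻¹) * g ∈ N := by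
      have h2 := (mem_normalizer_iff.mp ((normalizer (N : Set G)).inv_mem hgN')
        (z * g * z⁻¹ * g⁻¹)).mp hc
      simpa using h2
    have h3 : g⁻¹ * (z * g * z⁻¹ * g⁻¹) * g = g⁻¹ * z * g * z := by rw [hzi]; group
    rwa [h3] at h1
  have hinv : z * (g⁻¹ * z * g * z) * z⁻¹ = (g⁻¹ * z * g * z)⁻¹ := by
    rw [hzi]
    have h1 : (g⁻¹ * z * g * z)⁻¹ = z⁻¹ * g⁻¹ * z⁻¹ * g := by group
    rw [h1, hzi]
    calc z * (g⁻¹ * z * g * z) * z = z * g⁻¹ * z * g * (z * z) := by group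
      _ = z * g⁻¹ * z * g := by rw [hz, mul_one]
  obtain ⟨k, hk, hkk, hki⟩ := exists_sqrt_inverted hN hm hinv
  refine ⟨k, hk, ?_⟩
  -- g⁻¹ z g = k z k⁻¹
  have h1 : g⁻¹ * z * g = k * k * z := by
    rw [hkk]
    calc g⁻¹ * z * g = g⁻¹ * z * g * (z * z) := by rw [hz, mul_one]
      _ = _ := by group
  have h2 : k * z = z * k⁻¹ := by
    have h3 : z * k = k⁻¹ * z := by
      rw [← hki]; group
    calc k * z = (k⁻¹)⁻¹ * z := by rw [inv_inv]
      _ = (z * k * z⁻¹)⁻¹ * z := by rw [hki]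
      _ = z * k⁻¹ * (z⁻¹ * z) := by group
      _ = z * k⁻¹ := by group
  have h4 : g⁻¹ * z * g * k = k * z := by
    calc g⁻¹ * z * g * k = k * k * z * k := by rw [h1]
      _ = k * (k * z) * k := by group
      _ = k * (z * k⁻¹) * k := by rw [h2]
      _ = k * z := by group
  calc g * k * z = g * (k * z) := by group
    _ = g * (g⁻¹ * z * g * k) := by rw [h4]
    _ = z * (g * k) := by group

theorem mem_sup_iff {N L : Subgroup G} (h : ∀ l ∈ L, ∀ n ∈ N, l * n * l⁻¹ ∈ N) {x : G} [Finite G] :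
    x ∈ N ⊔ L ↔ ∃ n ∈ N, ∃ l ∈ L, x = n * l := by
  have hle : L ≤ normalizer (N : Set G) := fun l hl => mem_normalizer_of_conj' (h l hl)
  rw [← SetLike.mem_coe, Subgroup.coe_mul_of_right_le_normalizer_left N L hle, Set.mem_mul]
  constructor
  · rintro ⟨n, hn, l, hl, rfl⟩; exact ⟨n, hn, l, hl, rfl⟩
  · rintro ⟨n, hn, l, hl, rfl⟩; exact ⟨n, hn, l, hl, rfl⟩

/-- the product of two odd order subgroups, one normalising the other, is odd -/
theorem odd_sup [Finite G] {N L : Subgroup G} (hN : Odd (Nat.card N)) (hL : Odd (Nat.card L))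
    (h : ∀ l ∈ L, ∀ n ∈ N, l * n * l⁻¹ ∈ N) : Odd (Nat.card ↥(N ⊔ L)) := by
  rw [← Nat.not_even_iff_odd, even_iff_two_dvd]
  intro h2
  have : Fact (Nat.Prime 2) := ⟨Nat.prime_two⟩
  obtain ⟨⟨t, ht⟩, ht2⟩ := exists_prime_orderOf_dvd_card' 2 h2
  rw [Subgroup.orderOf_mk] at ht2
  obtain ⟨k, hk, l, hl, hkl⟩ := (mem_sup_iff h).1 ht
  have h3 := pow_mul_inv_mem hk (h l hl) (Nat.card L)
  have h4 : l ^ Nat.card L = 1 := by
    have h5 : (⟨l, hl⟩ : L) ^ Nat.card L = 1 := pow_card_eq_one'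
    have h6 := congrArg Subtype.val h5
    rw [Subgroup.coe_pow] at h6
    exact h6
  rw [h4, inv_one, mul_one, ← hkl] at h3
  have h5 : t ^ Nat.card L = t := by
    obtain ⟨m, hm⟩ := hL
    have h6 : t ^ 2 = 1 := by rw [← ht2]; exact pow_orderOf_eq_one t
    rw [hm, pow_add, pow_mul, h6, one_pow, one_mul, pow_one]
  rw [h5] at h3
  have h6 := odd_orderOf_of_mem hN h3
  rw [ht2] at h6
  exact absurd h6 (by decide)

theorem card_mul_relIndex {L N : Subgroup G} (hLN : L ≤ N) :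
    Nat.card L * L.relIndex N = Nat.card N := by
  have h1 := relIndex_mul_relIndex ⊥ L N bot_le hLN
  rwa [relIndex_bot_left, relIndex_bot_left] at h1

/-- `x` commutes with `z` in conjugation form -/
theorem comm_iff_mem {z g : G} : g ∈ centralizer ({z} : Set G) ↔ g * z = z * g :=
  mem_centralizer_singleton_iff

end Cfsg.Agent.J2Sylow.CoreTools
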