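import Mathlib
import Cfsg.Agent.J2Sylow.Hyp
import Cfsg.Agent.J2Sylow.Basics
import Cfsg.Agent.J2Sylow.CoreTools
import Cfsg.Agent.J2Sylow.Inv
import Cfsg.Agent.S0023
import Cfsg.Agent.S0024
import Cfsg.Agent.S0025

set_option autoImplicit false
set_option linter.unusedSectionVars false
set_option linter.style.haveILetI false

/-!
# Climbing to a Sylow `r`-subgroup (step (C) of the balance proof)
-/

namespace Cfsg.Agent.J2Sylow.Climb

open Subgroup Cfsg.Agent.J2Sylow.Functor Cfsg.Agent.J2Sylow.CoreTools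
open Cfsg.Agent.J2Type.Model

universe u

/-- the statement of `TF.exists_char` -/
def TFStatement : Prop := ∀ {H X : Type u} [Group H] [Finite H] [Group X] (π : H →* X)
    (_ : Function.Surjective π) (_ : Odd (Nat.card π.ker))
    {Qt : Subgroup X} {zt : X} {v : Fin 5 → X} {ρ : X →* SP} (_ : IsModel Qt zt v ρ)
    (_ : Nat.card X = 1920)
    {r : ℕ} (_ : r.Prime) (_ : r ≠ 2) (P : Subgroup H) (_ : P.Normal) (_ : IsPGroup r P)
    (_ : P ≤ π.ker) (_ : ¬ r ∣ P.relIndex π.ker)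
    {y : H} (_ : y * y = 1) (_ : π y ∈ Qt) (_ : π y ≠ 1) (_ : π y ≠ zt)
    (_ : ∃ x ∈ P, y * x ≠ x * y) (S : Subgroup H) (_ : IsPGroup r S) (_ : ¬ r ∣ S.index),
    ∃ Q0 : Subgroup H, Q0.Normal ∧ Q0 ≠ ⊥ ∧ Q0 ≤ S ∧ (Q0.subgroupOf S).Characteristic

variable {G : Type u} [Group G] [Finite G] {h : Setup G} {r : ℕ} {H N : Subgroup G}

omit [Finite G] in
theorem z_sq : h.z * h.z = 1 := by
  show h.φ _ * h.φ _ = 1
  rw [← map_mul, ← map_one h.φ]
  congr 1

omit [Finite G] in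
theorem conj_comm {z c x : G} (hc : c * z = z * c) (hx : x * z = z * x) :
    (c * x * c⁻¹) * z = z * (c * x * c⁻¹) := by
  have h1 : c⁻¹ * z = z * c⁻¹ := by
    calc c⁻¹ * z = c⁻¹ * (z * c) * c⁻¹ := by group
      _ = c⁻¹ * (c * z) * c⁻¹ := by rw [hc]
      _ = _ := by group
  calc c * x * c⁻¹ * z = c * x * (c⁻¹ * z) := by group
    _ = c * (x * z) * c⁻¹ := by rw [h1]; group
    _ = (c * z) * x * c⁻¹ := by rw [hx]; group
    _ = z * (c * x * c⁻¹) := by rw [hc]; group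

/-- `N ∩ C(z) ≤ O(C(z))` -/
theorem inf_le (gd : Good h r H N) : N ⊓ centralizer ({h.z} : Set G) ≤ KK h.z := by
  have hconj : ∀ l ∈ N ⊓ centralizer ({h.z} : Set G), ∀ n ∈ KK h.z, l * n * l⁻¹ ∈ KK h.z :=
    fun l hl n hn => K_conj hl.2 hn
  refine le_trans le_sup_right (le_K (N := KK h.z ⊔ (N ⊓ centralizer ({h.z} : Set G)))
    (sup_le (K_le _) inf_le_right) ?_ ?_)
  · refine odd_sup (K_odd _) (gd.N_odd.of_dvd_nat (card_dvd_of_le inf_le_left)) hconj
  · intro c hc x hx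
    obtain ⟨n, hn, l, hl, rfl⟩ := (mem_sup_iff hconj).1 hx
    obtain ⟨k, hk, hkH⟩ := gd.cover c (comm_iff_mem.1 hc)
    have hkz : k ∈ centralizer ({h.z} : Set G) := K_le _ hk
    have hkc : k * c ∈ centralizer ({h.z} : Set G) := mul_mem hkz hc
    have h1 : c * (n * l) * c⁻¹ = (c * n * c⁻¹) * (k⁻¹ * ((k * c) * l * (k * c)⁻¹) * k) := by
      group
    rw [h1]
    refine mul_mem (mem_sup_left (K_conj hc hn)) ?_
    refine mul_mem (mul_mem (mem_sup_left ((KK h.z).inv_mem hk)) (mem_sup_right ?_)) (mem_sup_left hk)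
    have h2 : (k * c) * l * (k * c)⁻¹ ∈ centralizer ({h.z} : Set G) :=
      mul_mem (mul_mem hkc hl.2) (inv_mem hkc)
    exact ⟨gd.N_norm _ hkH _ hl.1, h2⟩

/-- the coset representative commuting with `z` -/
theorem exists_rep (gd : Good h r H N) {g : G} (hg : g ∈ H) :
    ∃ n ∈ N, g * n ∈ centralizer ({h.z} : Set G) := by
  obtain ⟨n, hn, hc⟩ := exists_commute_coset gd.N_odd z_sq (gd.N_norm g hg) (gd.z_cen g hg)
  exact ⟨n, hn, comm_iff_mem.2 hc⟩

/-- the homomorphism onto `C(z)/O(C(z))` -/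
theorem exists_hom (gd : Good h r H N) {X : Type u} [Group X]
    (π : centralizer ({h.z} : Set G) →* X) (hπ : ∀ g, π g = 1 ↔ (g : G) ∈ KK h.z)
    (H' : Subgroup G) (hH' : H' ≤ H) :
    ∃ f : H' →* X, ∀ (g : H') (c : centralizer ({h.z} : Set G)), (g : G)⁻¹ * (c : G) ∈ N →
      f g = π c := by
  classical
  have key : ∀ c c' : centralizer ({h.z} : Set G), (c : G)⁻¹ * (c' : G) ∈ N → π c = π c' := by
    intro c c' hcc
    have h1 : (c⁻¹ * c' : centralizer ({h.z} : Set G)).1 ∈ KK h.z :=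
      inf_le gd ⟨hcc, (c⁻¹ * c').2⟩
    have h2 := (hπ _).2 h1
    rw [map_mul, map_inv] at h2
    exact (inv_mul_eq_one.1 h2)
  choose n hn hc using fun g : H' => exists_rep gd (hH' g.2)
  have hval : ∀ (g : H') (c : centralizer ({h.z} : Set G)), (g : G)⁻¹ * (c : G) ∈ N →
      π ⟨g * n g, hc g⟩ = π c := by
    intro g c hgc
    apply key
    show ((g : G) * n g)⁻¹ * (c : G) ∈ N
    have : ((g : G) * n g)⁻¹ * (c : G) = (n g)⁻¹ * ((g : G)⁻¹ * (c : G)) := by group
    rw [this]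
    exact mul_mem (inv_mem (hn g)) hgc
  refine ⟨MonoidHom.mk' (fun g => π ⟨g * n g, hc g⟩) ?_, hval⟩
  intro g g'
  rw [← map_mul]
  apply hval
  show ((g * g' : H') : G)⁻¹ * ((g * n g) * (g' * n g')) ∈ N
  have h1 : ((g * g' : H') : G)⁻¹ * ((g * n g) * (g' * n g')) =
      ((g' : G)⁻¹ * n g * ((g' : G)⁻¹)⁻¹) * n g' := by
    push_cast
    group
  rw [h1]
  exact mul_mem (gd.N_norm _ (inv_mem (hH' g'.2)) _ (hn g)) (hn g')

/-- `(C(z), O(C(z)))` is good -/
theorem good_centralizer (hr : r ≠ 1) : Good h r (centralizer ({h.z} : Set G)) (KK h.z) where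
  S_le := h.S_le_centralizer_z
  N_le := K_le _
  N_norm := fun g hg x hx => K_conj hg hx
  N_odd := K_odd _
  z_cen := fun g hg => by
    have h1 := comm_iff_mem.1 hg
    have h2 : h.z * g * h.z⁻¹ * g⁻¹ = 1 := by
      rw [← h1]; group
    rw [h2]; exact one_mem _
  K_le := inf_le_left
  cover := fun g hg => ⟨1, one_mem _, by rw [one_mul]; exact comm_iff_mem.2 hg⟩
  rpart := by
    rw [inf_eq_left.2 (K_le _), relIndex_self]
    intro h1
    exact hr (Nat.dvd_one.1 h1)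

omit [Finite G] in
theorem v_sq : h.v * h.v = 1 := by
  show h.φ _ * h.φ _ = 1
  rw [← map_mul, ← map_one h.φ]
  congr 1

omit [Finite G] in
theorem v_comm_z : h.v * h.z = h.z * h.v := (h.z_comm h.v_mem_S).symm

theorem odd_sq {x : G} {K : Subgroup G} (hK : Odd (Nat.card K)) (hx : x ∈ K) (h2 : x * x = 1) :
    x = 1 := eq_one_of_odd h2 (odd_orderOf_of_mem hK hx)

omit [Finite G] in
theorem v_ne_one : h.v ≠ 1 := by
  intro h1
  have h2 : h.φ Model.T.v = h.φ 1 := by rw [map_one]; exact h1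
  exact absurd (h.inj h2) (by decide)

omit [Finite G] in
theorem zv_ne_one : h.z * h.v ≠ 1 := by
  intro h1
  have h2 : h.φ (Model.T.z * Model.T.v) = h.φ 1 := by rw [map_one, map_mul]; exact h1
  exact absurd (h.inj h2) (by decide)

theorem relIndex_map_subtype {K : Subgroup G} (R : Subgroup K) :
    (R.map K.subtype).relIndex K = R.index := by
  show ((R.map K.subtype).subgroupOf K).index = R.index
  congr 1
  exact comap_map_eq_self_of_injective K.subtype_injective R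

theorem isSolvable_S : Group.IsSolvable h.S := by
  haveI : Fact (Nat.Prime 2) := ⟨Nat.prime_two⟩
  haveI := h.isPGroup_S.isNilpotent
  infer_instance

theorem coprime_S {K : Subgroup G} (hK : Odd (Nat.card K)) :
    (Nat.card h.S).Coprime (Nat.card K) := by
  rw [h.card_S]
  exact Nat.Coprime.pow_left 7 (Nat.coprime_two_left.2 hK)

/-- the invariant Sylow subgroup -/
theorem exists_P (hr : r.Prime) (gd : Good h r H N)
    (hact : ∃ x ∈ KK h.z, (∃ k : ℕ, x ^ (r ^ k) = 1) ∧ h.v * x * h.v⁻¹ = x⁻¹ ∧ x ≠ 1) :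
    ∃ P : Subgroup G, P ≤ N ∧ IsPGroup r P ∧ (∀ s ∈ h.S, ∀ x ∈ P, s * x * s⁻¹ ∈ P) ∧
      ¬ r ∣ P.relIndex N ∧ ¬ r ∣ (P ⊓ KK h.z).relIndex (KK h.z) ∧
      ∃ x ∈ P, h.v * x ≠ x * h.v := by
  classical
  haveI : Fact r.Prime := ⟨hr⟩
  set K1 : Subgroup G := KK h.z ⊓ H with hK1
  have hK1odd : Odd (Nat.card K1) := (K_odd h.z).of_dvd_nat (card_dvd_of_le inf_le_left)
  have hSK1 : h.S ≤ normalizer (K1 : Set G) := by
    intro s hs
    refine mem_normalizer_of_conj' ?_
    intro x hx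
    refine ⟨K_conj (h.S_le_centralizer_z hs) hx.1, ?_⟩
    exact H.mul_mem (H.mul_mem (gd.S_le hs) hx.2) (H.inv_mem (gd.S_le hs))
  have hSN : h.S ≤ normalizer (N : Set G) := fun s hs =>
    mem_normalizer_of_conj' (gd.N_norm s (gd.S_le hs))
  obtain ⟨R0, hR0⟩ := Cfsg.Agent.S0023.result h.S K1 hSK1 (coprime_S hK1odd) (Or.inl isSolvable_S) r
  set R1 : Subgroup G := (R0 : Subgroup K1).map K1.subtype with hR1
  have hR1K1 : R1 ≤ K1 := by rintro _ ⟨x, -, rfl⟩; exact x.2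
  have hR1p : IsPGroup r R1 := R0.isPGroup'.map _
  have hR1i : ¬ r ∣ R1.relIndex K1 := by
    rw [relIndex_map_subtype]; exact R0.not_dvd_index
  obtain ⟨P0, hR1P, hP0⟩ := Cfsg.Agent.S0025.result h.S N hSN (coprime_S gd.N_odd)
    (Or.inl isSolvable_S) r R1 (hR1K1.trans gd.K_le) hR1p hR0
  set P : Subgroup G := (P0 : Subgroup N).map N.subtype with hP
  have hPN : P ≤ N := by rintro _ ⟨x, -, rfl⟩; exact x.2
  have hR1Kz : ¬ r ∣ R1.relIndex (KK h.z) := by
    rw [← relIndex_mul_relIndex R1 K1 (KK h.z) hR1K1 inf_le_left]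
    intro hd
    rcases (hr.dvd_mul).1 hd with h1 | h1
    · exact hR1i h1
    · exact gd.rpart h1
  refine ⟨P, hPN, P0.isPGroup'.map _, ?_, ?_, ?_, ?_⟩
  · intro s hs x hx
    exact (mem_normalizer_iff.1 (hP0 hs) x).1 hx
  · rw [relIndex_map_subtype]; exact P0.not_dvd_index
  · intro hd
    apply hR1Kz
    rw [← relIndex_mul_relIndex R1 (P ⊓ KK h.z) (KK h.z) (le_inf hR1P (hR1K1.trans inf_le_left))
      inf_le_right]
    exact Dvd.dvd.mul_left hd _
  · by_contra hcon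
    push Not at hcon
    obtain ⟨x, hxK, ⟨k, hk⟩, hxi, hx1⟩ := hact
    have hvz : h.v ∈ centralizer ({h.z} : Set G) := comm_iff_mem.2 v_comm_z
    have hAK : zpowers h.v ≤ normalizer (KK h.z : Set G) := by
      rw [zpowers_le]
      exact mem_normalizer_of_conj' fun x hx => K_conj hvz hx
    have hov : orderOf h.v = 2 := orderOf_eq_prime (by rw [pow_two]; exact v_sq) v_ne_one
    have hcop : (Nat.card (zpowers h.v)).Coprime (Nat.card (KK h.z)) := by
      rw [Nat.card_zpowers, hov]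
      exact Nat.coprime_two_left.2 (K_odd _)
    have hsol : Group.IsSolvable (zpowers h.v) := inferInstance
    have hUp : IsPGroup r (zpowers x) := by
      rw [IsPGroup.iff_card]
      obtain ⟨j, -, hj⟩ := (Nat.dvd_prime_pow hr).1 (orderOf_dvd_of_pow_eq_one hk)
      exact ⟨j, by rw [Nat.card_zpowers, hj]⟩
    have hUA : zpowers h.v ≤ normalizer (zpowers x : Set G) := by
      rw [zpowers_le]
      refine mem_normalizer_of_conj' ?_
      rintro _ ⟨j, rfl⟩
      show h.v * x ^ j * h.v⁻¹ ∈ zpowers x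
      rw [← conj_zpow, hxi]
      exact zpow_mem (inv_mem (mem_zpowers x)) _
    obtain ⟨P1, hxP1, hP1⟩ := Cfsg.Agent.S0025.result (zpowers h.v) (KK h.z) hAK hcop (Or.inl hsol) r
      (zpowers x) (by rw [zpowers_le]; exact hxK) hUp hUA
    -- R1 as a Sylow subgroup of `KK z`
    have hR1Kz' : R1 ≤ KK h.z := hR1K1.trans inf_le_left
    have hRp : IsPGroup r (R1.subgroupOf (KK h.z)) :=
      hR1p.comap_of_injective (KK h.z).subtype (KK h.z).subtype_injective
    let R2 : Sylow r (KK h.z) := hRp.toSylow hR1Kz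
    have hR2 : (R2 : Subgroup (KK h.z)).map (KK h.z).subtype = R1 := by
      show (R1.subgroupOf (KK h.z)).map (KK h.z).subtype = R1
      rw [subgroupOf_map_subtype, inf_eq_left.2 hR1Kz']
    obtain ⟨c, hcA, hcP⟩ := Cfsg.Agent.S0024.result (zpowers h.v) (KK h.z) hAK hcop (Or.inl hsol) r
      P1 R2 hP1 (by
        rw [hR2, zpowers_le]
        exact hR0 h.v_mem_S)
    -- the conjugate of `x` lies in `R1`
    have hxP1' : (⟨x, hxK⟩ : KK h.z) ∈ P1 := by
      obtain ⟨y, hy, hyx⟩ := hxP1 (mem_zpowers x)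
      have : y = ⟨x, hxK⟩ := Subtype.ext hyx
      rwa [← this]
    have h3 : c * ⟨x, hxK⟩ * c⁻¹ ∈ R2 := by
      rw [← hcP]
      exact smul_mem_pointwise_smul _ (MulAut.conj c) _ hxP1'
    have h4 : (c : G) * x * (c : G)⁻¹ ∈ R1 := by
      have h5 : (c * ⟨x, hxK⟩ * c⁻¹ : KK h.z) ∈ R1.subgroupOf (KK h.z) := h3
      exact mem_subgroupOf.1 h5
    have h5 := hcon _ (hR1P h4)
    have hcv : h.v * (c : G) = (c : G) * h.v := mem_centralizer_iff.1 hcA _ (mem_zpowers _)
    have hcv' : h.v * (c : G)⁻¹ = (c : G)⁻¹ * h.v := by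
      calc h.v * (c : G)⁻¹ = (c : G)⁻¹ * ((c : G) * h.v) * (c : G)⁻¹ := by group
        _ = (c : G)⁻¹ * (h.v * c) * (c : G)⁻¹ := by rw [hcv]
        _ = _ := by group
    have h6 : h.v * x = x * h.v := by
      calc h.v * x = (c : G)⁻¹ * ((c : G) * h.v) * x := by group
        _ = (c : G)⁻¹ * (h.v * c) * x := by rw [hcv]
        _ = (c : G)⁻¹ * (h.v * (c * x * (c : G)⁻¹)) * c := by group
        _ = (c : G)⁻¹ * ((c * x * (c : G)⁻¹) * h.v) * c := by rw [h5]
        _ = x * ((c : G)⁻¹ * h.v) * c := by group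
        _ = x * (h.v * (c : G)⁻¹) * c := by rw [hcv']
        _ = x * h.v := by group
    have h7 : x * x = 1 := by
      have h8 : x = x⁻¹ := by
        rw [← hxi, h6]; group
      calc x * x = x * x⁻¹ := by rw [← h8]
        _ = 1 := mul_inv_cancel x
    exact hx1 (odd_sq (K_odd _) hxK h7)

/-- Frattini: `N_H(P)` covers `C_H(z)` modulo `N ∩ C(z)` -/
theorem exists_normalizing (hr : r.Prime) (gd : Good h r H N) {P : Subgroup G} (hPN : P ≤ N)
    (hPp : IsPGroup r P) (hPS : ∀ s ∈ h.S, ∀ x ∈ P, s * x * s⁻¹ ∈ P) (hPi : ¬ r ∣ P.relIndex N)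
    {c : G} (hcH : c ∈ H) (hcz : c * h.z = h.z * c) :
    ∃ n ∈ N ⊓ centralizer ({h.z} : Set G), c * n ∈ normalizer (P : Set G) := by
  classical
  haveI : Fact r.Prime := ⟨hr⟩
  have hzN : zpowers h.z ≤ normalizer (N : Set G) := by
    rw [zpowers_le]
    exact mem_normalizer_of_conj' (gd.N_norm _ (gd.S_le h.z_mem_S))
  have hz1 : h.z ≠ 1 := by
    intro h1
    have h2 : h.φ Model.T.z = h.φ 1 := by rw [map_one]; exact h1
    exact absurd (h.inj h2) (by decide)
  have hoz : orderOf h.z = 2 := orderOf_eq_prime (by rw [pow_two]; exact z_sq) hz1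
  have hcop : (Nat.card (zpowers h.z)).Coprime (Nat.card N) := by
    rw [Nat.card_zpowers, hoz]
    exact Nat.coprime_two_left.2 gd.N_odd
  have hsol : Group.IsSolvable (zpowers h.z) := inferInstance
  -- the conjugate
  set Pc : Subgroup G := P.map (MulAut.conj c).toMonoidHom with hPc
  have hPcN : Pc ≤ N := by
    rintro _ ⟨x, hx, rfl⟩
    exact gd.N_norm c hcH x (hPN hx)
  have hcard : Nat.card Pc = Nat.card P := card_map_of_injective (MulAut.conj c).injective
  have hPci : ¬ r ∣ Pc.relIndex N := by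
    have h1 : Nat.card Pc * Pc.relIndex N = Nat.card P * P.relIndex N := by
      rw [card_mul_relIndex hPcN, card_mul_relIndex hPN]
    rw [hcard] at h1
    have h2 := Nat.eq_of_mul_eq_mul_left Nat.card_pos h1
    rw [h2]; exact hPi
  have mk : ∀ (L : Subgroup G), L ≤ N → IsPGroup r L → ¬ r ∣ L.relIndex N →
      ∃ L' : Sylow r N, (L' : Subgroup N) = L.subgroupOf N := by
    intro L _ hLp hLi
    exact ⟨(hLp.comap_of_injective N.subtype N.subtype_injective).toSylow hLi, rfl⟩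
  obtain ⟨P', hP'⟩ := mk P hPN hPp hPi
  obtain ⟨Pc', hPc'⟩ := mk Pc hPcN (hPp.map _) hPci
  have hP'm : (P' : Subgroup N).map N.subtype = P := by
    rw [hP', subgroupOf_map_subtype, inf_eq_left.2 hPN]
  have hPc'm : (Pc' : Subgroup N).map N.subtype = Pc := by
    rw [hPc', subgroupOf_map_subtype, inf_eq_left.2 hPcN]
  have hczi : c⁻¹ * h.z = h.z * c⁻¹ := by
    calc c⁻¹ * h.z = c⁻¹ * (h.z * c) * c⁻¹ := by group
      _ = c⁻¹ * (c * h.z) * c⁻¹ := by rw [hcz]
      _ = _ := by group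
  obtain ⟨n, hnz, hn⟩ := Cfsg.Agent.S0024.result (zpowers h.z) N hzN hcop (Or.inl hsol) r Pc' P'
    (by
      rw [hPc'm, zpowers_le]
      refine mem_normalizer_of_conj' ?_
      rintro _ ⟨x, hx, rfl⟩
      refine ⟨h.z * x * h.z⁻¹, hPS _ h.z_mem_S x hx, ?_⟩
      show c * (h.z * x * h.z⁻¹) * c⁻¹ = h.z * (c * x * c⁻¹) * h.z⁻¹
      have h1 : h.z⁻¹ * c⁻¹ = c⁻¹ * h.z⁻¹ := by
        rw [← mul_inv_rev, ← mul_inv_rev, hcz]
      calc c * (h.z * x * h.z⁻¹) * c⁻¹ = (c * h.z) * x * (h.z⁻¹ * c⁻¹) := by group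
        _ = (h.z * c) * x * (c⁻¹ * h.z⁻¹) := by rw [hcz, h1]
        _ = _ := by group)
    (by
      rw [hP'm, zpowers_le]
      exact mem_normalizer_of_conj' (hPS _ h.z_mem_S))
  have hnz' : h.z * (n : G) = (n : G) * h.z := mem_centralizer_iff.1 hnz _ (mem_zpowers _)
  refine ⟨c⁻¹ * (n : G) * c, ⟨?_, ?_⟩, ?_⟩
  · have h1 := gd.N_norm c⁻¹ (H.inv_mem hcH) n n.2
    simpa using h1
  · refine comm_iff_mem.2 ?_
    have h1 := conj_comm (z := h.z) (c := c⁻¹) (x := (n : G)) hczi hnz'.symm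
    simpa using h1
  · have h1 : c * (c⁻¹ * (n : G) * c) = (n : G) * c := by group
    rw [h1]
    refine mem_normalizer_of_conj' ?_
    intro x hx
    have h2 : (⟨c * x * c⁻¹, hPcN ⟨x, hx, rfl⟩⟩ : N) ∈ Pc' := by
      have : (⟨c * x * c⁻¹, hPcN ⟨x, hx, rfl⟩⟩ : N) ∈ Pc.subgroupOf N :=
        mem_subgroupOf.2 ⟨x, hx, rfl⟩
      rw [← hPc'] at this
      exact this
    have h3 : n * ⟨c * x * c⁻¹, hPcN ⟨x, hx, rfl⟩⟩ * n⁻¹ ∈ P' := by
      rw [← hn]
      exact smul_mem_pointwise_smul _ (MulAut.conj n) _ h2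
    have h4 : (n * ⟨c * x * c⁻¹, hPcN ⟨x, hx, rfl⟩⟩ * n⁻¹ : N) ∈ (P' : Subgroup N) := h3
    rw [hP', mem_subgroupOf] at h4
    have h5 : (n : G) * c * x * ((n : G) * c)⁻¹ = (n : G) * (c * x * c⁻¹) * (n : G)⁻¹ := by group
    rw [h5]
    exact h4

/-- the surjection of `N_H(P)` onto `C(z)/O(C(z))` -/
theorem exists_surj (gd : Good h r H N) {X : Type u} [Group X]
    (π : centralizer ({h.z} : Set G) →* X) (hπ : ∀ g, π g = 1 ↔ (g : G) ∈ KK h.z)
    (hπs : Function.Surjective π) (H' : Subgroup G) (hH' : H' ≤ H)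
    (hcov : ∀ c ∈ H, c * h.z = h.z * c → ∃ n ∈ N ⊓ centralizer ({h.z} : Set G), c * n ∈ H') :
    ∃ f : H' →* X, (∀ (g : H') (c : centralizer ({h.z} : Set G)), (g : G)⁻¹ * (c : G) ∈ N →
      f g = π c) ∧ Function.Surjective f ∧ f.ker = N.subgroupOf H' := by
  obtain ⟨f, hf⟩ := exists_hom gd π hπ H' hH'
  refine ⟨f, hf, ?_, ?_⟩
  · intro x
    obtain ⟨c0, rfl⟩ := hπs x
    obtain ⟨k, hk, hkH⟩ := gd.cover c0 (comm_iff_mem.1 c0.2)
    have hkz : k ∈ centralizer ({h.z} : Set G) := K_le _ hk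
    obtain ⟨n, hn, hcn⟩ := hcov (k * c0) hkH (comm_iff_mem.1 (mul_mem hkz c0.2))
    refine ⟨⟨_, hcn⟩, ?_⟩
    rw [hf ⟨_, hcn⟩ (⟨k, hkz⟩ * c0)]
    · rw [map_mul, (hπ ⟨k, hkz⟩).2 hk, one_mul]
    · show (k * c0 * n)⁻¹ * (k * c0) ∈ N
      have : (k * c0 * n)⁻¹ * (k * c0) = n⁻¹ := by group
      rw [this]
      exact inv_mem hn.1
  · ext g
    rw [MonoidHom.mem_ker, mem_subgroupOf]
    constructor
    · intro h1
      obtain ⟨n, hn, hgn⟩ := exists_rep gd (hH' g.2)
      have h2 := hf g ⟨_, hgn⟩ (by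
        show (g : G)⁻¹ * (g * n) ∈ N
        simpa using hn)
      rw [h1] at h2
      have h3 := (hπ _).1 h2.symm
      have h4 : (g : G) * n ∈ N :=
        gd.K_le ⟨h3, H.mul_mem (hH' g.2) (gd.N_le hn)⟩
      have h5 := mul_mem h4 (inv_mem hn)
      simpa using h5
    · intro h1
      rw [hf g 1 (by simpa using h1), map_one]

theorem card_of_surj {A X : Type u} [Group A] [Finite A] [Group X] (f : A →* X)
    (hf : Function.Surjective f) : Nat.card A = Nat.card X * Nat.card f.ker := by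
  rw [Subgroup.card_eq_card_quotient_mul_card_subgroup f.ker]
  congr 1
  exact Nat.card_congr (QuotientGroup.quotientKerEquivOfSurjective f hf).toEquiv

theorem card_subgroupOf (A B : Subgroup G) : Nat.card (A.subgroupOf B) = Nat.card ↥(A ⊓ B) := by
  rw [← subgroupOf_map_subtype]
  exact (Nat.card_congr ((A.subgroupOf B).equivMapOfInjective _ B.subtype_injective).toEquiv)

/-- a subgroup normalising a characteristic subgroup -/
theorem conj_mem_of_characteristic {H' : Subgroup G} {S Q0 : Subgroup H'} (hQS : Q0 ≤ S)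
    (hchar : (Q0.subgroupOf S).Characteristic) {g : G}
    (hg : g ∈ normalizer ((S.map H'.subtype : Subgroup G) : Set G)) {x : G}
    (hx : x ∈ Q0.map H'.subtype) : g * x * g⁻¹ ∈ Q0.map H'.subtype := by
  -- conjugation by `g` as an automorphism of `S`
  have hfwd : ∀ y : S, ∃ y' : S, (((y' : H') : G)) = g * ((y : H') : G) * g⁻¹ := by
    intro y
    have h1 : g * ((y : H') : G) * g⁻¹ ∈ S.map H'.subtype :=
      (mem_normalizer_iff.1 hg _).1 ⟨y, y.2, rfl⟩
    obtain ⟨w, hw, hw'⟩ := h1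
    exact ⟨⟨w, hw⟩, hw'⟩
  choose F hF using hfwd
  let φ : S →* S := MonoidHom.mk' F (by
    intro a b
    apply Subtype.ext
    apply Subtype.ext
    rw [hF]
    have : (((F a * F b : S) : H') : G) = ((F a : H') : G) * ((F b : H') : G) := rfl
    rw [this, hF, hF]
    push_cast
    group)
  have hinj : Function.Injective φ := by
    intro a b hab
    have h1 : (((F a : S) : H') : G) = ((F b : H') : G) := by
      have : F a = F b := hab
      rw [this]
    rw [hF, hF] at h1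
    apply Subtype.ext
    apply Subtype.ext
    exact mul_left_cancel (mul_right_cancel h1)
  have hbij : Function.Bijective φ := (Finite.injective_iff_bijective).1 hinj
  let e : S ≃* S := MulEquiv.ofBijective φ hbij
  have h1 := hchar.fixed e
  obtain ⟨y, hy, rfl⟩ := hx
  have h2 : (⟨y, hQS hy⟩ : S) ∈ Q0.subgroupOf S := mem_subgroupOf.2 hy
  rw [← h1, mem_comap] at h2
  have h3 : F ⟨y, hQS hy⟩ ∈ Q0.subgroupOf S := h2
  refine ⟨_, mem_subgroupOf.1 h3, ?_⟩
  exact hF ⟨y, hQS hy⟩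

/-- **The climbing theorem.** -/
theorem climb (hTF : TFStatement.{u}) (C : CZ h) (hr : r.Prime) (hr2 : r ≠ 2)
    (hO : ∀ N : Subgroup G, N.Normal → Odd (Nat.card N) → N = ⊥)
    (hact : ∃ x ∈ KK h.z, (∃ k : ℕ, x ^ (r ^ k) = 1) ∧ h.v * x * h.v⁻¹ = x⁻¹ ∧ x ≠ 1)
    (hD : ∀ H : Subgroup G, H ≠ ⊤ → h.S ≤ H →
      (∀ g, g * h.z = h.z * g → ∃ k ∈ KK h.z, k * g ∈ H) →
      ¬ r ∣ (KK h.z ⊓ H).relIndex (KK h.z) → ∃ N, Good h r H N) :
    ∃ P : Subgroup G, IsPGroup r P ∧ (∀ s ∈ h.S, ∀ x ∈ P, s * x * s⁻¹ ∈ P) ∧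
      ¬ r ∣ (P ⊓ KK h.z).relIndex (KK h.z) ∧
      r ^ padicValNat r (centralizer ({h.z} : Set G)).index ∣ inv P h.z := by
  classical
  haveI : Fact r.Prime := ⟨hr⟩
  -- a good pair with maximal `r`-part
  obtain ⟨H, ⟨N, gd⟩, hmax⟩ := Set.exists_max_image {H : Subgroup G | ∃ N, Good h r H N}
    (fun H => padicValNat r (Nat.card H)) (Set.toFinite _)
    ⟨_, _, good_centralizer (h := h) hr.ne_one⟩
  obtain ⟨P, hPN, hPp, hPS, hPi, hPK, hPv⟩ := exists_P hr gd hact
  set H' : Subgroup G := H ⊓ normalizer (P : Set G) with hH'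
  have hH'H : H' ≤ H := inf_le_left
  have hSH' : h.S ≤ H' := fun s hs => ⟨gd.S_le hs, mem_normalizer_of_conj' (hPS s hs)⟩
  have hcov : ∀ c ∈ H, c * h.z = h.z * c → ∃ n ∈ N ⊓ centralizer ({h.z} : Set G), c * n ∈ H' := by
    intro c hc hcz
    obtain ⟨n, hn, hcn⟩ := exists_normalizing hr gd hPN hPp hPS hPi hc hcz
    exact ⟨n, hn, H.mul_mem hc (gd.N_le hn.1), hcn⟩
  obtain ⟨X, _, π, Qt, zt, v, ρ, hπs, hπ, M, hX, hQt, hzt⟩ := C
  obtain ⟨f, hf, hfs, hfk⟩ := exists_surj gd π hπ hπs H' hH'H hcov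
  obtain ⟨f1, -, hfs1, hfk1⟩ := exists_surj gd π hπ hπs H le_rfl
    (fun c hc _ => ⟨1, one_mem _, by rwa [mul_one]⟩)
  -- numbers
  have hPN' : P ≤ N ⊓ H' := le_inf hPN fun x hx => ⟨gd.N_le (hPN hx), le_normalizer hx⟩
  have hkerodd : Odd (Nat.card f.ker) := by
    rw [hfk, card_subgroupOf]
    exact gd.N_odd.of_dvd_nat (card_dvd_of_le inf_le_left)
  have hPker : P.subgroupOf H' ≤ f.ker := by
    rw [hfk]
    intro x hx
    exact mem_subgroupOf.2 (hPN (mem_subgroupOf.1 hx))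
  have hPkeri : ¬ r ∣ (P.subgroupOf H').relIndex f.ker := by
    have h1 : f.ker = (N ⊓ H').subgroupOf H' := by
      rw [hfk, inf_subgroupOf_right]
    rw [h1, relIndex_subgroupOf inf_le_right]
    intro hd
    apply hPi
    rw [← relIndex_mul_relIndex P (N ⊓ H') N hPN' inf_le_left]
    exact Dvd.dvd.mul_right hd _
  have hPnorm : (P.subgroupOf H').Normal := by
    refine ⟨fun x hx g => ?_⟩
    rw [mem_subgroupOf] at hx ⊢
    exact (mem_normalizer_iff.1 g.2.2 _).1 hx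
  have hPp' : IsPGroup r (P.subgroupOf H') :=
    hPp.comap_of_injective H'.subtype H'.subtype_injective
  -- the involution `v`
  have hvH' : h.v ∈ H' := hSH' h.v_mem_S
  have hvz : h.v ∈ centralizer ({h.z} : Set G) := comm_iff_mem.2 v_comm_z
  have hzz : h.z ∈ centralizer ({h.z} : Set G) := comm_iff_mem.2 rfl
  have hfv : f ⟨h.v, hvH'⟩ = π ⟨h.v, hvz⟩ := hf _ _ (by
    show (h.v)⁻¹ * h.v ∈ N
    rw [inv_mul_cancel]; exact one_mem _)
  have hvQ : h.v ∈ h.Q := h.phi_mem_Q.2 (by decide)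
  -- a Sylow `r`-subgroup of `H'`
  obtain ⟨S⟩ : Nonempty (Sylow r H') := inferInstance
  obtain ⟨Q0, hQ0n, hQ0b, hQ0S, hQ0c⟩ := hTF f hfs hkerodd M hX hr hr2 (P.subgroupOf H') hPnorm hPp'
    hPker hPkeri (y := ⟨h.v, hvH'⟩) (Subtype.ext v_sq) (by rw [hfv]; exact hQt _ hvQ)
    (by
      rw [hfv]
      intro h1
      exact v_ne_one (h := h) (odd_sq (K_odd _) ((hπ _).1 h1) v_sq))
    (by
      rw [hfv]
      intro h1
      rw [← hzt ⟨h.z, hzz⟩ rfl] at h1
      have h2 : π (⟨h.z, hzz⟩⁻¹ * ⟨h.v, hvz⟩) = 1 := by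
        rw [map_mul, map_inv, h1, inv_mul_cancel]
      have h3 := (hπ _).1 h2
      have h4 : (h.z)⁻¹ * h.v ∈ KK h.z := h3
      have hzi : h.z⁻¹ = h.z := inv_eq_of_mul_eq_one_right z_sq
      rw [hzi] at h4
      refine zv_ne_one (h := h) (odd_sq (K_odd _) h4 ?_)
      calc h.z * h.v * (h.z * h.v) = h.z * (h.v * h.z) * h.v := by group
        _ = (h.z * h.z) * (h.v * h.v) := by rw [v_comm_z]; group
        _ = 1 := by rw [z_sq, v_sq, one_mul])
    (by
      obtain ⟨x, hx, hvx⟩ := hPv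
      have hxH' : x ∈ H' := (hPN' hx).2
      refine ⟨⟨x, hxH'⟩, mem_subgroupOf.2 hx, ?_⟩
      intro h1
      exact hvx (congrArg Subtype.val h1))
    S S.isPGroup' S.not_dvd_index
  -- subgroups of `G`
  set Q1 : Subgroup G := Q0.map H'.subtype with hQ1
  set S1 : Subgroup G := (S : Subgroup H').map H'.subtype with hS1
  set H2 : Subgroup G := normalizer (Q1 : Set G) with hH2
  have hQ1p : IsPGroup r Q1 := by
    have h1 : IsPGroup r Q0 := S.isPGroup'.to_le hQ0S
    exact h1.map _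
  have hodd_of_p : ∀ L : Subgroup G, IsPGroup r L → Odd (Nat.card L) := by
    intro L hL
    obtain ⟨n, hn⟩ := hL.exists_card_eq
    rw [hn]
    exact (hr.odd_of_ne_two hr2).pow
  have hH2top : H2 ≠ ⊤ := by
    intro h1
    have h2 : Q1.Normal := normalizer_eq_top_iff.1 h1
    have h3 := hO Q1 h2 (hodd_of_p _ hQ1p)
    apply hQ0b
    rw [hQ1, map_eq_bot_iff_of_injective _ H'.subtype_injective] at h3
    exact h3
  have hH'H2 : H' ≤ H2 := by
    intro g hg
    refine mem_normalizer_of_conj' ?_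
    rintro _ ⟨x, hx, rfl⟩
    exact ⟨⟨g, hg⟩ * x * ⟨g, hg⟩⁻¹, hQ0n.conj_mem x hx _, rfl⟩
  obtain ⟨N2, gd2⟩ := hD H2 hH2top (hSH'.trans hH'H2)
    (by
      intro g hg
      obtain ⟨k, hk, hkH⟩ := gd.cover g hg
      have hkz : k * h.z = h.z * k := comm_iff_mem.1 (K_le _ hk)
      have hkg : k * g * h.z = h.z * (k * g) := by
        rw [mul_assoc, hg, ← mul_assoc, hkz, mul_assoc]
      obtain ⟨n, hn, hkgn⟩ := hcov (k * g) hkH hkg
      refine ⟨k * (g * n * g⁻¹), mul_mem hk (K_conj (comm_iff_mem.2 hg) (inf_le gd hn)), ?_⟩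
      have h1 : k * (g * n * g⁻¹) * g = k * g * n := by group
      rw [h1]
      exact hH'H2 hkgn)
    (by
      intro hd
      apply hPK
      have h1 : P ⊓ KK h.z ≤ KK h.z ⊓ H2 :=
        le_inf inf_le_right (inf_le_left.trans (hPN'.trans (inf_le_right.trans hH'H2)))
      rw [← relIndex_mul_relIndex (P ⊓ KK h.z) (KK h.z ⊓ H2) (KK h.z) h1 inf_le_left]
      exact Dvd.dvd.mul_left hd _)
  have hle := hmax H2 ⟨N2, gd2⟩
  -- valuations
  have vmul : ∀ a b : ℕ, a ≠ 0 → b ≠ 0 → padicValNat r (a * b) = padicValNat r a + padicValNat r b :=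
    fun a b ha hb => padicValNat.mul ha hb
  have vzero : ∀ {a : ℕ}, ¬ r ∣ a → padicValNat r a = 0 := fun ha =>
    padicValNat.eq_zero_of_not_dvd ha
  have hcard0 : ∀ L : Subgroup G, Nat.card L ≠ 0 := fun L => Nat.card_pos.ne'
  have hX0 : Nat.card X ≠ 0 := by rw [hX]; norm_num
  have hidx0 : ∀ L L' : Subgroup G, L.relIndex L' ≠ 0 := fun L L' => by
    show (L.subgroupOf L').index ≠ 0
    exact index_ne_zero_of_finite
  have hvP : padicValNat r (Nat.card N) = padicValNat r (Nat.card P) := by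
    rw [← card_mul_relIndex hPN, vmul _ _ (hcard0 _) (hidx0 _ _), vzero hPi, add_zero]
  have hvP' : padicValNat r (Nat.card ↥(N ⊓ H')) = padicValNat r (Nat.card P) := by
    have h1 : ¬ r ∣ P.relIndex (N ⊓ H') := by
      intro hd
      apply hPi
      rw [← relIndex_mul_relIndex P (N ⊓ H') N hPN' inf_le_left]
      exact Dvd.dvd.mul_right hd _
    rw [← card_mul_relIndex hPN', vmul _ _ (hcard0 _) (hidx0 _ _), vzero h1, add_zero]
  have hvH : padicValNat r (Nat.card H) = padicValNat r (Nat.card X) + padicValNat r (Nat.card P) := by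
    rw [card_of_surj f1 hfs1, hfk1, card_subgroupOf, inf_eq_left.2 gd.N_le, vmul _ _ hX0 (hcard0 _),
      hvP]
  have hvH' : padicValNat r (Nat.card H') =
      padicValNat r (Nat.card X) + padicValNat r (Nat.card P) := by
    rw [card_of_surj f hfs, hfk, card_subgroupOf, vmul _ _ hX0 (hcard0 _), hvP']
  have hS1H' : S1 ≤ H' := by rintro _ ⟨x, -, rfl⟩; exact x.2
  have hS1i : ¬ r ∣ S1.relIndex H' := by
    rw [hS1, relIndex_map_subtype]; exact S.not_dvd_index
  have hvS1 : padicValNat r (Nat.card S1) = padicValNat r (Nat.card H') := by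
    rw [← card_mul_relIndex hS1H', vmul _ _ (hcard0 _) (hidx0 _ _), vzero hS1i, add_zero]
  have hS1p : IsPGroup r S1 := S.isPGroup'.map _
  -- `S1` is Sylow in `H2`
  have hS1H2 : ¬ r ∣ S1.relIndex H2 := by
    intro hd
    have h1 : padicValNat r (Nat.card H2) = padicValNat r (Nat.card S1) +
        padicValNat r (S1.relIndex H2) := by
      rw [← card_mul_relIndex (hS1H'.trans hH'H2), vmul _ _ (hcard0 _) (hidx0 _ _)]
    have h2 : 1 ≤ padicValNat r (S1.relIndex H2) :=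
      one_le_padicValNat_of_dvd (hidx0 _ _) hd
    omega
  -- `N_G(S1) ≤ H2`
  have hNS1 : normalizer (S1 : Set G) ≤ H2 := by
    intro g hg
    refine mem_normalizer_of_conj' ?_
    intro x hx
    exact conj_mem_of_characteristic hQ0S hQ0c hg hx
  -- `S1` is Sylow in `G`
  have hS1G : ¬ r ∣ S1.index := by
    intro hd
    obtain ⟨n, hn⟩ := hS1p.exists_card_eq
    have h1 : r ^ (n + 1) ∣ Nat.card G := by
      rw [← S1.card_mul_index, hn, pow_succ]
      exact Nat.mul_dvd_mul_left _ hd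
    have h2 := Sylow.prime_dvd_card_quotient_normalizer h1 hn
    have h3 : r ∣ S1.relIndex (normalizer (S1 : Set G)) := h2
    apply hS1H2
    rw [← relIndex_mul_relIndex S1 (normalizer (S1 : Set G)) H2 le_normalizer hNS1]
    exact Dvd.dvd.mul_right h3 _
  have hvG : padicValNat r (Nat.card G) = padicValNat r (Nat.card S1) := by
    have h1 : S1.index ≠ 0 := index_ne_zero_of_finite
    rw [← S1.card_mul_index, vmul _ _ (hcard0 _) h1, vzero hS1G, add_zero]
  have hvC : padicValNat r (Nat.card (centralizer ({h.z} : Set G))) =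
      padicValNat r (Nat.card X) + padicValNat r (Nat.card (KK h.z)) := by
    have hk : π.ker = (KK h.z).subgroupOf (centralizer ({h.z} : Set G)) := by
      ext g
      rw [MonoidHom.mem_ker, mem_subgroupOf]
      exact hπ g
    rw [card_of_surj π hπs, hk, card_subgroupOf, inf_eq_left.2 (K_le h.z), vmul _ _ hX0 (hcard0 _)]
  have hvI : padicValNat r (Nat.card G) = padicValNat r (Nat.card (centralizer ({h.z} : Set G))) +
      padicValNat r (centralizer ({h.z} : Set G)).index := by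
    have h1 : (centralizer ({h.z} : Set G)).index ≠ 0 := index_ne_zero_of_finite
    rw [← (centralizer ({h.z} : Set G)).card_mul_index, vmul _ _ (hcard0 _) h1]
  refine ⟨P, hPp, hPS, hPK, ?_⟩
  have hPodd : Odd (Nat.card P) := hodd_of_p P hPp
  have hinv := inv_mul_card hPodd (z_sq (h := h)) (fun x hx => hPS _ h.z_mem_S x hx)
  have hinv0 : inv P h.z ≠ 0 := by
    intro h1
    rw [h1, zero_mul] at hinv
    exact hcard0 P hinv.symm
  have hv1 : padicValNat r (Nat.card P) = padicValNat r (inv P h.z) +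
      padicValNat r (Nat.card ↥(P ⊓ centralizer ({h.z} : Set G))) := by
    rw [← hinv, vmul _ _ hinv0 (hcard0 _)]
  have hv2 : padicValNat r (Nat.card ↥(P ⊓ centralizer ({h.z} : Set G))) ≤
      padicValNat r (Nat.card (KK h.z)) := by
    have h1 : P ⊓ centralizer ({h.z} : Set G) ≤ KK h.z :=
      (inf_le_inf_right _ hPN).trans (inf_le gd)
    rw [← card_mul_relIndex h1, vmul _ _ (hcard0 _) (hidx0 _ _)]
    exact Nat.le_add_right _ _
  refine (pow_dvd_pow r ?_).trans pow_padicValNat_dvd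
  omega

end Cfsg.Agent.J2Sylow.Climb
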