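import Mathlib
import Cfsg.Agent.J2Sylow.Basics

set_option autoImplicit false

/-!
# Fusion of involutions in groups with Sylow 2-subgroup of J2 type
-/

namespace Cfsg.Agent.J2Sylow.Model.T

theorem sq_mem_U : ∀ q : T, (q * q) * (q * q) = 1 → q * q ∈ U := by decide +kernel

theorem exists_sqrt : ∃ q : T, q * tau = tau * q ∧ q * q = z := by decide +kernel

theorem cent_tau_noncomm : ∃ p q : T, p * tau = tau * p ∧ q * tau = tau * q ∧ p * q ≠ q * p := by
  decide +kernel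

theorem tau_v : tau * v * tau⁻¹ = v * z := by decide +kernel
theorem tau_vz : tau * (v * z) * tau⁻¹ = v := by decide +kernel

theorem E1_transl : ∀ x u : T, x ∈ E1 → x ∉ U → u ∈ U → ∃ r : T, r ∈ R ∧ r * x * r⁻¹ = x * u := by
  decide +kernel

theorem R_factor : ∀ x : T, x ∈ R → ∃ a : T, a ∈ E1 ∧ a⁻¹ * x ∈ E2 := by decide +kernel

theorem center_R : ∀ x : T, x ∈ R → (∀ y : T, y ∈ R → x * y = y * x) → x ∈ U := by decide +kernel

theorem sq_cent_tau : ∀ x : T, x * tau = tau * x → x * x = z ∨ x = 1 ∨ x = tau ∨ x = z ∨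
    x = tau * z := by decide +kernel

theorem mem_Q_of_sq : ∀ x : T, x ∈ R → x * x = z → x ∈ Q := by decide +kernel

theorem Q_cases : ∀ x : T, x ∈ Q → x * tau = tau * x ∨ (v * x) * tau = tau * (v * x) := by
  decide +kernel

theorem cent_tau_Q : ∀ x : T, x * tau = tau * x → x ∈ Q := by decide +kernel

theorem Q_norm_cent : ∀ x q : T, x * tau = tau * x → q ∈ Q → (q * x * q⁻¹) * tau
    = tau * (q * x * q⁻¹) := by decide +kernel

theorem center_QR : ∀ x : T, x ∈ Q → x ∈ R → (∀ y : T, y ∈ Q → y ∈ R → x * y = y * x) →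
    x ∈ U := by decide +kernel

/-- the centralizer of `tau` -/
def Ct : Subgroup T where
  carrier := {x | x * tau = tau * x}
  one_mem' := by decide
  mul_mem' := by
    intro x y
    revert x y
    decide +kernel
  inv_mem' := by
    intro x
    revert x
    decide +kernel

/-- the intersection of `Q` and `R` -/
def QR : Subgroup T where
  carrier := {x | x.b = F4.fr x.a ∧ x.s = false}
  one_mem' := by decide
  mul_mem' := by
    intro x y
    revert x y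
    decide +kernel
  inv_mem' := by
    intro x
    revert x
    decide +kernel

theorem mem_Ct {x : T} : x ∈ Ct ↔ x * tau = tau * x := Iff.rfl
theorem mem_QR {x : T} : x ∈ QR ↔ x ∈ Q ∧ x ∈ R := Iff.rfl

instance : DecidablePred (· ∈ Ct) := fun x => inferInstanceAs (Decidable (x * tau = tau * x))
instance : DecidablePred (· ∈ QR) := fun x =>
  inferInstanceAs (Decidable (x.b = F4.fr x.a ∧ x.s = false))

theorem card_Ct : Nat.card Ct = 16 := by
  rw [Nat.card_eq_fintype_card, Fintype.card_subtype]; decide +kernel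
theorem card_QR : Nat.card QR = 16 := by
  rw [Nat.card_eq_fintype_card, Fintype.card_subtype]; decide +kernel

/-- An elementary abelian subgroup with more than 4 elements lies in `E1` or in `E2`. -/
theorem le_E (A : Subgroup T) (h2 : ∀ x ∈ A, x * x = 1) (hc : ∀ x ∈ A, ∀ y ∈ A, x * y = y * x)
    (h4 : 4 < Nat.card A) : A ≤ E1 ∨ A ≤ E2 := by
  classical
  have hR : ∀ x ∈ A, x.s = false := by
    intro x hx
    by_contra hs
    have hs' : x.s = true := by simpa using hs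
    have hsub : (A : Set T) ⊆ ({1, x, z, x * z} : Finset T) := by
      intro y hy
      have := comm_of_not_R x y hs' (h2 x hx) (h2 y hy) (hc x hx y hy)
      simpa using this
    have h5 : Nat.card A ≤ 4 := by
      have h6 : Nat.card A = (A : Set T).ncard := rfl
      rw [h6]
      refine (Set.ncard_le_ncard hsub (Finset.finite_toSet _)).trans ?_
      rw [Set.ncard_coe_finset]
      exact Finset.card_le_four
    omega
  by_cases hU : A ≤ U
  · have := Subgroup.card_le_of_le hU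
    rw [card_U] at this
    omega
  · obtain ⟨x, hx, hxU⟩ := SetLike.not_le_iff_exists.1 hU
    rcases inv_R x (h2 x hx) (hR x hx) with h | h
    · exact Or.inl fun y hy => comm_E1 x y h hxU (hc x hx y hy)
    · exact Or.inr fun y hy => comm_E2 x y h hxU (hc x hx y hy)

end Cfsg.Agent.J2Sylow.Model.T

namespace Cfsg.Agent.J2Sylow.Setup

open Model Subgroup

variable {G : Type*} [Group G] (h : Setup G)

/-- Conjugation by an element of `G`, seen as a map into `T`. -/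
theorem exists_hom (K : Subgroup T) (m : G) (hm : ∀ x ∈ K, m * h.φ x * m⁻¹ ∈ h.S) :
    ∃ f : K →* T, Function.Injective f ∧ ∀ x : K, h.φ (f x) = m * h.φ x * m⁻¹ := by
  let f0 : K →* h.φ.range :=
    (((MulAut.conj m).toMonoidHom.comp h.φ).comp K.subtype).codRestrict h.φ.range
      (fun x => hm x x.2)
  let f : K →* T := (MonoidHom.ofInjective h.inj).symm.toMonoidHom.comp f0
  have hf : ∀ x : K, h.φ (f x) = m * h.φ x * m⁻¹ := by
    intro x
    have h1 : MonoidHom.ofInjective h.inj (f x) = f0 x :=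
      (MonoidHom.ofInjective h.inj).apply_symm_apply _
    exact congrArg Subtype.val h1
  refine ⟨f, fun x y hxy => ?_, hf⟩
  have h1 := hf x
  rw [hxy, hf y] at h1
  have h2 : h.φ (x : T) = h.φ (y : T) := by
    have := mul_left_cancel (mul_right_cancel h1)
    exact this.symm
  exact Subtype.ext (h.inj h2)

theorem hom_mul {K : Subgroup T} (f : K →* T) {x y : T} (hx : x ∈ K) (hy : y ∈ K) :
    f ⟨x * y, K.mul_mem hx hy⟩ = f ⟨x, hx⟩ * f ⟨y, hy⟩ := by
  rw [← map_mul]; rfl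

/-- Conjugation maps `E1` and `E2` into `E1` or `E2`. -/
theorem hom_E (K : Subgroup T) (f : K →* T) (hf : Function.Injective f) (hK2 : ∀ x ∈ K, x * x = 1)
    (hKc : ∀ x ∈ K, ∀ y ∈ K, x * y = y * x) (hK : 4 < Nat.card K) :
    (∀ x, f x ∈ T.E1) ∨ (∀ x, f x ∈ T.E2) := by
  have h1 : Nat.card f.range = Nat.card K :=
    (Nat.card_congr (MonoidHom.ofInjective hf).toEquiv).symm
  have h2 : ∀ x ∈ f.range, x * x = 1 := by
    rintro _ ⟨x, rfl⟩
    rw [← map_mul]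
    have : x * x = 1 := Subtype.ext (hK2 x x.2)
    rw [this, map_one]
  have h3 : ∀ x ∈ f.range, ∀ y ∈ f.range, x * y = y * x := by
    rintro _ ⟨x, rfl⟩ _ ⟨y, rfl⟩
    rw [← map_mul, ← map_mul]
    have : x * y = y * x := Subtype.ext (hKc x x.2 y y.2)
    rw [this]
  rcases T.le_E f.range h2 h3 (by omega) with h4 | h4
  · exact Or.inl fun x => h4 ⟨x, rfl⟩
  · exact Or.inr fun x => h4 ⟨x, rfl⟩

theorem conj_E (K : Subgroup T) (m : G) (hm : ∀ x ∈ K, m * h.φ x * m⁻¹ ∈ h.S)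
    (hK2 : ∀ x ∈ K, x * x = 1)
    (hKc : ∀ x ∈ K, ∀ y ∈ K, x * y = y * x) (hK : 4 < Nat.card K) :
    (∀ x ∈ K, m * h.φ x * m⁻¹ ∈ h.E1) ∨ (∀ x ∈ K, m * h.φ x * m⁻¹ ∈ h.E2) := by
  obtain ⟨f, hf, hff⟩ := h.exists_hom K m hm
  rcases hom_E K f hf hK2 hKc hK with h1 | h1
  · left
    intro x hx
    have := hff ⟨x, hx⟩
    rw [← this]
    exact h.phi_mem_E1.2 (h1 _)
  · right
    intro x hx
    have := hff ⟨x, hx⟩
    rw [← this]
    exact h.phi_mem_E2.2 (h1 _)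

theorem conj_E1 (m : G) (hm : ∀ x ∈ T.E1, m * h.φ x * m⁻¹ ∈ h.S) :
    (∀ x ∈ T.E1, m * h.φ x * m⁻¹ ∈ h.E1) ∨ (∀ x ∈ T.E1, m * h.φ x * m⁻¹ ∈ h.E2) :=
  h.conj_E T.E1 m hm (fun x hx => T.E1_sq x hx) (fun x hx y hy => T.E1_comm x y hx hy)
    (by rw [T.card_E1]; norm_num)

theorem conj_E2 (m : G) (hm : ∀ x ∈ T.E2, m * h.φ x * m⁻¹ ∈ h.S) :
    (∀ x ∈ T.E2, m * h.φ x * m⁻¹ ∈ h.E1) ∨ (∀ x ∈ T.E2, m * h.φ x * m⁻¹ ∈ h.E2) :=
  h.conj_E T.E2 m hm (fun x hx => T.E2_sq x hx) (fun x hx y hy => T.E2_comm x y hx hy)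
    (by rw [T.card_E2]; norm_num)

/-- If an element of `G` conjugates `R` into `S` it normalises `R`. -/
theorem conj_R (m : G) (hm : ∀ x ∈ T.R, m * h.φ x * m⁻¹ ∈ h.S) :
    ∀ x ∈ T.R, m * h.φ x * m⁻¹ ∈ h.R := by
  intro x hx
  obtain ⟨a, ha, hb⟩ := T.R_factor x hx
  have hE1 : ∀ x ∈ T.E1, m * h.φ x * m⁻¹ ∈ h.R := by
    rcases h.conj_E1 m (fun x hx => hm x (T.E1_le_R hx)) with h1 | h1
    · exact fun x hx => Subgroup.map_mono T.E1_le_R (h1 x hx)
    · exact fun x hx => Subgroup.map_mono T.E2_le_R (h1 x hx)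
  have hE2 : ∀ x ∈ T.E2, m * h.φ x * m⁻¹ ∈ h.R := by
    rcases h.conj_E2 m (fun x hx => hm x (T.E2_le_R hx)) with h1 | h1
    · exact fun x hx => Subgroup.map_mono T.E1_le_R (h1 x hx)
    · exact fun x hx => Subgroup.map_mono T.E2_le_R (h1 x hx)
  have h1 := h.R.mul_mem (hE1 a ha) (hE2 _ hb)
  have h2 : m * h.φ a * m⁻¹ * (m * h.φ (a⁻¹ * x) * m⁻¹) = m * h.φ x * m⁻¹ := by
    rw [map_mul, map_inv]; group
  rwa [h2] at h1

/-- An element of `G` normalising `R` normalises its centre `U`. -/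
theorem conj_U [Finite G] (m : G) (hm : ∀ x ∈ T.R, m * h.φ x * m⁻¹ ∈ h.R) :
    ∀ x ∈ T.U, m * h.φ x * m⁻¹ ∈ h.U := by
  obtain ⟨f, hf, hff⟩ := h.exists_hom T.R m (fun x hx => h.R_le_S (hm x hx))
  have hfR : ∀ x : T.R, f x ∈ T.R := fun x => by
    rw [← h.phi_mem_R, hff]
    exact hm x x.2
  let f' : T.R → T.R := fun x => ⟨f x, hfR x⟩
  have hf' : Function.Injective f' := fun x y hxy => hf (Subtype.ext_iff.1 hxy)
  have hs : Function.Surjective f' := Finite.surjective_of_injective hf'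
  intro x hx
  have hxR := T.U_le_R hx
  have h1 := hff ⟨x, hxR⟩
  rw [← h1, h.phi_mem_U]
  refine T.center_R _ (hfR _) fun y hy => ?_
  obtain ⟨y', hy'⟩ := hs ⟨y, hy⟩
  have h2 : f y' = y := congrArg Subtype.val hy'
  rw [← h2, ← map_mul, ← map_mul]
  congr 1
  exact Subtype.ext (T.U_central x y' hx y'.2)

theorem mem_U_cases {x : G} (hx : x ∈ h.U) (h1 : x ≠ 1) (hz : x ≠ h.z) :
    x = h.v ∨ x = h.φ (T.v * T.z) := by
  obtain ⟨t, ht, rfl⟩ := hx
  rcases T.U_cases t ht with rfl | rfl | rfl | rfl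
  · exact absurd (map_one h.φ) h1
  · exact absurd rfl hz
  · exact Or.inl rfl
  · exact Or.inr rfl

theorem isConj_v_vz : IsConj (h.φ T.v) (h.φ (T.v * T.z)) := by
  rw [isConj_iff]
  exact ⟨h.φ T.tau, by rw [h.phi_conj, T.tau_v]⟩

theorem isConj_phi {x y : T} (hxy : ∃ r : T, r * x * r⁻¹ = y) : IsConj (h.φ x) (h.φ y) := by
  obtain ⟨r, rfl⟩ := hxy
  rw [isConj_iff]
  exact ⟨h.φ r, by rw [h.phi_conj]⟩

theorem index_R : (h.R.subgroupOf h.S).index = 2 := by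
  have h1 : Nat.card (h.R.subgroupOf h.S) = 64 := by
    rw [← T.card_R, ← h.card_map T.R]
    exact Nat.card_congr (Subgroup.subgroupOfEquivOfLe h.R_le_S).toEquiv
  have h2 := (h.R.subgroupOf h.S).card_mul_index
  rw [h1, h.card_S] at h2
  omega

theorem odd_relIndex_z [Finite G] :
    Odd ((h.S ⊓ centralizer {h.z}).relIndex (centralizer {h.z})) := by
  rw [inf_eq_left.2 h.S_le_centralizer_z]
  exact h.relIndex_odd h.S_le_centralizer_z

/-- Step 1: `tau` is conjugate into `U`, by an element moving `C_S(tau)` into `S`. -/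
theorem step1 [Finite G] (hG : ∀ H : Subgroup G, H.index ≠ 2) :
    ∃ k : G, k * h.tau * k⁻¹ ∈ h.U ∧ k * h.z * k⁻¹ ∈ h.U ∧
      ∀ x : T, x * T.tau = T.tau * x → k * h.φ x * k⁻¹ ∈ h.S := by
  obtain ⟨k, hk1, hk2, hk3⟩ := exists_extremal h.S h.isPGroup_S h.odd_index h.tau h.tau_mem_S
  have hkC : ∀ x ∈ T.Ct, k * h.φ x * k⁻¹ ∈ h.S := by
    intro x hx
    refine hk2 _ (h.phi_mem_S x) ?_
    show h.φ x * h.φ T.tau = h.φ T.tau * h.φ x
    rw [← map_mul, ← map_mul, T.mem_Ct.1 hx]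
  obtain ⟨f, hf, hff⟩ := h.exists_hom T.Ct k hkC
  have htau : T.tau ∈ T.Ct := by decide
  set y : T := f ⟨T.tau, htau⟩ with hy
  have hyφ : h.φ y = k * h.tau * k⁻¹ := hff _
  have hyy : y * y = 1 := by
    rw [hy, ← map_mul]
    have : (⟨T.tau, htau⟩ * ⟨T.tau, htau⟩ : T.Ct) = 1 :=
      Subtype.ext (show T.tau * T.tau = 1 by decide)
    rw [this, map_one]
  have hcomm : ∀ x, f x * y = y * f x := by
    intro x
    rw [hy, ← map_mul, ← map_mul]
    congr 1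
    exact Subtype.ext x.2
  obtain ⟨p, q, hp, hq, hpq⟩ := T.cent_tau_noncomm
  have hpq' : f ⟨p, hp⟩ * f ⟨q, hq⟩ ≠ f ⟨q, hq⟩ * f ⟨p, hp⟩ := by
    rw [← map_mul, ← map_mul]
    intro h0
    exact hpq (congrArg Subtype.val (hf h0))
  have hyR : y ∈ T.R := by
    by_contra hyR
    have hys : y.s = true := by simpa [T.mem_R] using hyR
    -- Thompson transfer
    obtain ⟨g, hg1, hg2⟩ := TwoFusion.IndexTwo.exists_conj_mem hG h.S h.odd_index
      (h.R.subgroupOf h.S) h.index_R ⟨h.tau, h.tau_mem_S⟩ (Subtype.ext (by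
        show h.φ T.tau * h.φ T.tau = 1
        rw [← map_mul, ← map_one h.φ]
        congr 1))
    obtain ⟨r, hr, hrg⟩ := (mem_subgroupOf.1 hg2 : g⁻¹ * h.tau * g ∈ h.R)
    have hrr : r * r = 1 := by
      apply h.inj
      rw [map_mul, map_one, hrg]
      have h0 : h.tau * h.tau = 1 := by
        show h.φ T.tau * h.φ T.tau = 1
        rw [← map_mul, ← map_one h.φ]
        congr 1
      calc g⁻¹ * h.tau * g * (g⁻¹ * h.tau * g) = g⁻¹ * (h.tau * h.tau) * g := by group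
        _ = 1 := by rw [h0]; group
    have hconj : (k * g) * h.φ r * (k * g)⁻¹ = k * h.tau * k⁻¹ := by
      rw [hrg]; group
    obtain ⟨m, hm1, hm2⟩ := exists_conj_extremal h.S h.isPGroup_S hconj hk3
    have key : ∀ E : Subgroup T, (∀ x ∈ E, x * x = 1) → (∀ x ∈ E, ∀ y ∈ E, x * y = y * x) →
        4 < Nat.card E → r ∈ E → False := by
      intro E hE2 hEc hE hrE
      have hmE : ∀ x ∈ E, m * h.φ x * m⁻¹ ∈ h.S := by
        intro x hx
        refine hm2 _ (h.phi_mem_S x) ?_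
        rw [← map_mul, ← map_mul, hEc x hx r hrE]
      obtain ⟨f2, hf2, hff2⟩ := h.exists_hom E m hmE
      have hf2r : f2 ⟨r, hrE⟩ = y := by
        apply h.inj
        rw [hff2, hyφ]
        exact hm1
      rcases hom_E E f2 hf2 hE2 hEc hE with h1 | h1
      · have := h1 ⟨r, hrE⟩
        rw [hf2r] at this
        exact hyR (T.E1_le_R this)
      · have := h1 ⟨r, hrE⟩
        rw [hf2r] at this
        exact hyR (T.E2_le_R this)
    rcases T.inv_R r hrr hr with h1 | h1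
    · exact key T.E1 (fun x hx => T.E1_sq x hx) (fun x hx y hy => T.E1_comm x y hx hy)
        (by rw [T.card_E1]; norm_num) h1
    · exact key T.E2 (fun x hx => T.E2_sq x hx) (fun x hx y hy => T.E2_comm x y hx hy)
        (by rw [T.card_E2]; norm_num) h1
  have hyU : y ∈ T.U := by
    by_contra hyU
    rcases T.inv_R y hyy hyR with h1 | h1
    · have h2 := T.comm_E1 y _ h1 hyU (hcomm ⟨p, hp⟩).symm
      have h3 := T.comm_E1 y _ h1 hyU (hcomm ⟨q, hq⟩).symm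
      exact hpq' (T.E1_comm _ _ h2 h3)
    · have h2 := T.comm_E2 y _ h1 hyU (hcomm ⟨p, hp⟩).symm
      have h3 := T.comm_E2 y _ h1 hyU (hcomm ⟨q, hq⟩).symm
      exact hpq' (T.E2_comm _ _ h2 h3)
  refine ⟨k, ?_, ?_, fun x hx => hkC x hx⟩
  · rw [← hyφ]
    exact h.phi_mem_U.2 hyU
  · obtain ⟨q, hq1, hq2⟩ := T.exists_sqrt
    have h1 : h.φ (f ⟨q, hq1⟩ * f ⟨q, hq1⟩) = k * h.z * k⁻¹ := by
      rw [map_mul, hff]
      have : h.φ q * h.φ q = h.z := by rw [← map_mul, hq2]; rfl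
      calc k * h.φ q * k⁻¹ * (k * h.φ q * k⁻¹) = k * (h.φ q * h.φ q) * k⁻¹ := by group
        _ = _ := by rw [this]
    rw [← h1]
    refine h.phi_mem_U.2 (T.sq_mem_U _ ?_)
    rw [← map_mul, ← map_mul]
    have : (⟨q, hq1⟩ * ⟨q, hq1⟩ * (⟨q, hq1⟩ * ⟨q, hq1⟩) : T.Ct) = 1 := Subtype.ext (by
      show q * q * (q * q) = 1
      rw [hq2]
      decide)
    rw [this, map_one]

/-- If `tau` is conjugate to `v` and `z` is not isolated, then `z` is conjugate to `v`. -/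
theorem isConj_z_v_of_tau [Finite G] (htauv : IsConj h.tau h.v)
    (hz : ∃ g, g * h.z * g⁻¹ ∈ h.S ∧ g * h.z * g⁻¹ ≠ h.z) : IsConj h.z h.v := by
  by_contra hcon
  have hcon' : ¬ IsConj h.z (h.φ (T.v * T.z)) := fun h0 => hcon (h0.trans h.isConj_v_vz.symm)
  -- z is conjugate to an element x of E1 \ U
  have hx : ∃ x : T, x ∈ T.E1 ∧ x ∉ T.U ∧ IsConj (h.φ x) h.z := by
    obtain ⟨g, ⟨x, hx⟩, hg2⟩ := hz
    have hzx : IsConj h.z (h.φ x) := isConj_iff.2 ⟨g, hx.symm⟩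
    have hzz : h.z * h.z = 1 := by
      show h.φ T.z * h.φ T.z = 1
      rw [← map_mul, ← map_one h.φ]
      congr 1
    have hxx : x * x = 1 := by
      apply h.inj
      rw [map_mul, map_one, hx]
      calc g * h.z * g⁻¹ * (g * h.z * g⁻¹) = g * (h.z * h.z) * g⁻¹ := by group
        _ = 1 := by rw [hzz]; group
    have hxR : x ∈ T.R := by
      by_contra hxR
      obtain ⟨r, hr⟩ := T.tau_conj x (by simpa [T.mem_R] using hxR) hxx
      exact hcon (hzx.trans ((h.isConj_phi ⟨r, hr⟩).trans htauv))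
    have hxU : x ∉ T.U := by
      intro hxU
      have h1 : h.φ x ≠ 1 := by
        intro h0
        rw [h0] at hzx
        have h1 : h.z = 1 := by simpa [isConj_iff] using hzx
        have h2 : T.z = 1 := h.inj (h1.trans (map_one h.φ).symm)
        exact absurd h2 (by decide)
      rcases h.mem_U_cases (h.phi_mem_U.2 hxU) h1 (by rw [hx]; exact hg2) with h2 | h2
      · exact hcon (h2 ▸ hzx)
      · exact hcon' (h2 ▸ hzx)
    rcases T.inv_R x hxx hxR with h1 | h1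
    · exact ⟨x, h1, hxU, hzx.symm⟩
    · refine ⟨T.tau * x * T.tau⁻¹, T.tau_swap' x h1, fun h0 => hxU ?_,
        ((h.isConj_phi ⟨T.tau, rfl⟩).symm.trans hzx.symm)⟩
      have h2 := T.U_normal _ T.tau⁻¹ h0
      simpa [mul_assoc] using h2
  obtain ⟨x, hxE, hxU, hxz⟩ := hx
  obtain ⟨g, hg⟩ := isConj_iff.1 hxz
  obtain ⟨m, hm1, hm2⟩ := exists_conj_extremal h.S h.isPGroup_S hg h.odd_relIndex_z
  have hm3 : ∀ y ∈ T.E1, m * h.φ y * m⁻¹ ∈ h.S := by
    intro y hy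
    refine hm2 _ (h.phi_mem_S y) ?_
    rw [← map_mul, ← map_mul, T.E1_comm x y hxE hy]
  -- adjust m such that it normalises E1
  have hn : ∃ n : G, n * h.φ x * n⁻¹ = h.z ∧ ∀ y ∈ T.E1, n * h.φ y * n⁻¹ ∈ h.E1 := by
    rcases h.conj_E1 m hm3 with h1 | h1
    · exact ⟨m, hm1, h1⟩
    · refine ⟨h.tau * m, ?_, fun y hy => ?_⟩
      · calc h.tau * m * h.φ x * (h.tau * m)⁻¹ = h.tau * (m * h.φ x * m⁻¹) * h.tau⁻¹ := by group
          _ = h.tau * h.z * h.tau⁻¹ := by rw [hm1]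
          _ = h.z := by
            rw [← h.z_comm h.tau_mem_S]; group
      · obtain ⟨w, hw, hw2⟩ := h1 y hy
        have h2 : h.tau * m * h.φ y * (h.tau * m)⁻¹ = h.tau * (m * h.φ y * m⁻¹) * h.tau⁻¹ := by
          group
        rw [h2, ← hw2]
        show h.φ T.tau * h.φ w * (h.φ T.tau)⁻¹ ∈ h.E1
        rw [h.phi_conj]
        exact h.phi_mem_E1.2 (T.tau_swap' w hw)
  obtain ⟨n, hn1, hn2⟩ := hn
  obtain ⟨f, hf, hff⟩ := h.exists_hom T.E1 n (fun y hy => h.E1_le_S (hn2 y hy))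
  have hfE : ∀ y : T.E1, f y ∈ T.E1 := fun y => by
    rw [← h.phi_mem_E1, hff]
    exact hn2 y y.2
  let f' : T.E1 → T.E1 := fun x => ⟨f x, hfE x⟩
  have hf' : Function.Injective f' := fun x y hxy => hf (Subtype.ext_iff.1 hxy)
  have hs : Function.Surjective f' := Finite.surjective_of_injective hf'
  have hconjf : ∀ y : T.E1, IsConj (h.φ y) (h.φ (f y)) := fun y => by
    rw [hff, isConj_iff]
    exact ⟨n, rfl⟩
  have hvE : T.v ∈ T.E1 := by decide
  have hzE : T.z ∈ T.E1 := by decide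
  obtain ⟨a, ha'⟩ := hs ⟨T.v, hvE⟩
  have ha : f a = T.v := congrArg Subtype.val ha'
  have hfx : f ⟨x, hxE⟩ = T.z := by
    apply h.inj
    rw [hff]
    exact hn1
  have hav : IsConj (h.φ a) h.v := by
    have := hconjf a
    rwa [ha] at this
  by_cases haU : (a : T) ∈ T.U
  · obtain ⟨r, -, hr⟩ := T.E1_transl x a hxE hxU haU
    have h1 : IsConj (h.φ x) (h.φ (x * a)) := h.isConj_phi ⟨r, hr⟩
    have h2 : f (⟨x, hxE⟩ * a) = T.v * T.z := by
      rw [map_mul, hfx, ha]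
      decide
    have h3 := hconjf (⟨x, hxE⟩ * a)
    rw [h2] at h3
    exact hcon' (hxz.symm.trans (h1.trans h3))
  · set b : T := f ⟨T.z, hzE⟩ with hb
    have hzb : IsConj h.z (h.φ b) := hconjf ⟨T.z, hzE⟩
    by_cases hbU : b ∈ T.U
    · have h1 : b ≠ 1 := by
        intro h0
        have h1 : (⟨T.z, hzE⟩ : T.E1) = 1 := hf (by rw [← hb, h0, map_one])
        have h2 : T.z = 1 := congrArg Subtype.val h1
        exact absurd h2 (by decide)
      have h2 : b ≠ T.z := by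
        intro h0
        have h1 : (⟨T.z, hzE⟩ : T.E1) = ⟨x, hxE⟩ := hf (by rw [← hb, h0, hfx])
        have h2 : T.z = x := congrArg Subtype.val h1
        apply hxU
        rw [← h2]
        decide
      rcases T.U_cases b hbU with h3 | h3 | h3 | h3
      · exact h1 h3
      · exact h2 h3
      · rw [h3] at hzb
        exact hcon hzb
      · rw [h3] at hzb
        exact hcon' hzb
    · have hvU : T.v ∈ T.U := by decide
      have hzU : T.z ∈ T.U := by decide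
      obtain ⟨r, -, hr⟩ := T.E1_transl b T.v (hfE _) hbU hvU
      have h1 : IsConj (h.φ b) (h.φ (b * T.v)) := h.isConj_phi ⟨r, hr⟩
      have h2 : f (⟨T.z, hzE⟩ * a) = b * T.v := by
        rw [map_mul, ha]
      have h3 := hconjf (⟨T.z, hzE⟩ * a)
      rw [h2] at h3
      obtain ⟨r', -, hr'⟩ := T.E1_transl a T.z a.2 haU hzU
      have h4 : IsConj (h.φ (a : T)) (h.φ ((a : T) * T.z)) := h.isConj_phi ⟨r', hr'⟩
      have h5 : (a : T) * T.z = T.z * a := (T.z_comm a).symm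
      rw [h5] at h4
      have h6 : IsConj (h.φ (T.z * a)) (h.φ (b * T.v)) := h3
      exact hcon (hzb.trans (h1.trans (h6.symm.trans (h4.symm.trans hav))))

/-- Step 2: `z` is conjugate to `v`. -/
theorem step2 [Finite G] (hG : ∀ H : Subgroup G, H.index ≠ 2)
    (hz : ∃ g, g * h.z * g⁻¹ ∈ h.S ∧ g * h.z * g⁻¹ ≠ h.z) : IsConj h.z h.v := by
  obtain ⟨k, hk1, hk2, -⟩ := h.step1 hG
  have hktau : IsConj h.tau (k * h.tau * k⁻¹) := isConj_iff.2 ⟨k, rfl⟩
  have hkz : IsConj h.z (k * h.z * k⁻¹) := isConj_iff.2 ⟨k, rfl⟩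
  have hne1 : k * h.tau * k⁻¹ ≠ 1 := by
    intro h0
    have h1 : h.tau = 1 := by simpa using h0
    have h2 : T.tau = 1 := h.inj (h1.trans (map_one h.φ).symm)
    exact absurd h2 (by decide)
  have hne2 : k * h.z * k⁻¹ ≠ 1 := by
    intro h0
    have h1 : h.z = 1 := by simpa using h0
    have h2 : T.z = 1 := h.inj (h1.trans (map_one h.φ).symm)
    exact absurd h2 (by decide)
  by_contra hcon
  have hcon' : ¬ IsConj h.z (h.φ (T.v * T.z)) := fun h0 => hcon (h0.trans h.isConj_v_vz.symm)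
  have hkz' : k * h.z * k⁻¹ = h.z := by
    by_contra h0
    rcases h.mem_U_cases hk2 hne2 h0 with h1 | h1
    · exact hcon (h1 ▸ hkz)
    · exact hcon' (h1 ▸ hkz)
  have hktau' : k * h.tau * k⁻¹ ≠ h.z := by
    intro h0
    rw [← hkz'] at h0
    have h1 : h.tau = h.z := mul_left_cancel (mul_right_cancel h0)
    exact absurd (h.inj h1) (by decide)
  refine hcon (h.isConj_z_v_of_tau ?_ hz)
  rcases h.mem_U_cases hk1 hne1 hktau' with h1 | h1
  · exact h1 ▸ hktau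
  · rw [h1] at hktau
    exact hktau.trans h.isConj_v_vz.symm

theorem ne_one {x : T} (hx : x ≠ 1) (m : G) : m * h.φ x * m⁻¹ ≠ 1 := by
  intro h0
  have h1 : h.φ x = 1 := by simpa using h0
  exact hx (h.inj (h1.trans (map_one h.φ).symm))

/-- Step 3: an element of `N(R)` conjugates `v` to `z`. -/
theorem step3 [Finite G] (hvz : IsConj h.z h.v) :
    ∃ g : G, (∀ x ∈ h.R, g * x * g⁻¹ ∈ h.R) ∧ g * h.v * g⁻¹ = h.z := by
  obtain ⟨g, hg⟩ := isConj_iff.1 hvz.symm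
  obtain ⟨m, hm1, hm2⟩ := exists_conj_extremal h.S h.isPGroup_S hg h.odd_relIndex_z
  refine ⟨m, ?_, hm1⟩
  rintro _ ⟨x, hx, rfl⟩
  refine h.conj_R m (fun x hx => hm2 _ (h.phi_mem_S x) ?_) x hx
  show h.φ x * h.φ T.v = h.φ T.v * h.φ x
  rw [← map_mul, ← map_mul, T.U_central T.v x (by decide) hx]

/-- all of `U#` is fused in `N(R)` to `z`. -/
theorem step3' [Finite G] (hvz : IsConj h.z h.v) {x : G} (hx : x ∈ h.U) (hx1 : x ≠ 1) :
    ∃ g : G, (∀ x ∈ h.R, g * x * g⁻¹ ∈ h.R) ∧ g * x * g⁻¹ = h.z := by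
  by_cases hxz : x = h.z
  · exact ⟨1, fun x hx => by simpa using hx, by simpa using hxz⟩
  obtain ⟨g, hg1, hg2⟩ := h.step3 hvz
  rcases h.mem_U_cases hx hx1 hxz with rfl | rfl
  · exact ⟨g, hg1, hg2⟩
  · refine ⟨g * h.φ T.tau, ?_, ?_⟩
    · rintro _ ⟨y, hy, rfl⟩
      have h1 : g * h.φ T.tau * h.φ y * (g * h.φ T.tau)⁻¹
          = g * (h.φ T.tau * h.φ y * (h.φ T.tau)⁻¹) * g⁻¹ := by group
      rw [h1, h.phi_conj]
      exact hg1 _ (h.phi_mem_R.2 (T.R_normal _ _ hy))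
    · have h1 : g * h.φ T.tau * h.φ (T.v * T.z) * (g * h.φ T.tau)⁻¹
          = g * (h.φ T.tau * h.φ (T.v * T.z) * (h.φ T.tau)⁻¹) * g⁻¹ := by group
      rw [h1, h.phi_conj, T.tau_vz]
      exact hg2

/-- Step 4: `tau` is conjugate to `v` in `C(z)`, by an element moving `C_S(tau)` into
`Q ∩ R`. -/
theorem step4 [Finite G] (hG : ∀ H : Subgroup G, H.index ≠ 2) (hvz : IsConj h.z h.v) :
    ∃ c : G, c * h.z = h.z * c ∧ ∀ x ∈ T.Ct, c * h.φ x * c⁻¹ ∈ T.QR.map h.φ := by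
  obtain ⟨k, hk1, hk2, hk3⟩ := h.step1 hG
  obtain ⟨f, hf, hff⟩ := h.exists_hom T.Ct k hk3
  have htau : T.tau ∈ T.Ct := by decide
  have hzC : T.z ∈ T.Ct := by decide
  have hy : h.φ (f ⟨T.tau, htau⟩) = k * h.tau * k⁻¹ := hff _
  have hz' : h.φ (f ⟨T.z, hzC⟩) = k * h.z * k⁻¹ := hff _
  have hyz : f ⟨T.tau, htau⟩ ≠ f ⟨T.z, hzC⟩ := by
    intro h0
    have h1 := congrArg Subtype.val (hf h0)
    exact absurd h1 (show ¬ (T.tau = T.z) by decide)
  have hfR : ∀ x, f x ∈ T.R := by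
    intro x
    have h1 : f ⟨T.tau, htau⟩ * f x = f x * f ⟨T.tau, htau⟩ := by
      rw [← map_mul, ← map_mul]
      congr 1
      exact Subtype.ext x.2.symm
    have h2 : f ⟨T.z, hzC⟩ * f x = f x * f ⟨T.z, hzC⟩ := by
      rw [← map_mul, ← map_mul]
      congr 1
      exact Subtype.ext (T.z_comm _)
    have hyU : f ⟨T.tau, htau⟩ ∈ T.U := by
      rw [← h.phi_mem_U, hy]; exact hk1
    have hzU : f ⟨T.z, hzC⟩ ∈ T.U := by
      rw [← h.phi_mem_U, hz']; exact hk2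
    have hy1 : f ⟨T.tau, htau⟩ ≠ 1 := by
      intro h0
      have h3 : (⟨T.tau, htau⟩ : T.Ct) = 1 := hf (by rw [h0, map_one])
      exact absurd (congrArg Subtype.val h3) (show ¬ (T.tau = 1) by decide)
    have hz1 : f ⟨T.z, hzC⟩ ≠ 1 := by
      intro h0
      have h3 : (⟨T.z, hzC⟩ : T.Ct) = 1 := hf (by rw [h0, map_one])
      exact absurd (congrArg Subtype.val h3) (show ¬ (T.z = 1) by decide)
    rcases T.U_cases _ hyU with h3 | h3 | h3 | h3
    · exact absurd h3 hy1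
    · rcases T.U_cases _ hzU with h4 | h4 | h4 | h4
      · exact absurd h4 hz1
      · exact absurd (h3.trans h4.symm) hyz
      · rw [h4] at h2
        exact T.comm_v _ h2
      · rw [h4] at h2
        exact T.comm_vz _ h2
    · rw [h3] at h1
      exact T.comm_v _ h1
    · rw [h3] at h1
      exact T.comm_vz _ h1
  obtain ⟨n, hn1, hn2⟩ := h.step3' hvz hk2 (h.ne_one (by decide) k)
  have hcz : n * k * h.z * (n * k)⁻¹ = h.z := by
    refine Eq.trans ?_ hn2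
    group
  refine ⟨n * k, ?_, ?_⟩
  · exact mul_inv_eq_iff_eq_mul.1 hcz
  · intro x hx
    have h1 : n * k * h.φ x * (n * k)⁻¹ = n * (k * h.φ x * k⁻¹) * n⁻¹ := by group
    have h2 : n * k * h.φ x * (n * k)⁻¹ ∈ h.R := by
      rw [h1, ← hff ⟨x, hx⟩]
      exact hn1 _ (h.phi_mem_R.2 (hfR _))
    have hU : ∀ w ∈ h.U, n * w * n⁻¹ ∈ h.U := by
      rintro _ ⟨w, hw, rfl⟩
      exact h.conj_U n (fun x hx => hn1 _ (h.phi_mem_R.2 hx)) w hw
    have hUQ : ∀ w ∈ h.U, w ∈ T.QR.map h.φ := by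
      rintro _ ⟨w, hw, rfl⟩
      exact h.phi_mem_map.2 (T.mem_QR.2 ⟨T.U_le_Q hw, T.U_le_R hw⟩)
    have hz1 : n * k * h.φ T.z * (n * k)⁻¹ = h.z := hcz
    have htU : n * k * h.φ T.tau * (n * k)⁻¹ ∈ h.U := by
      have h3 : n * k * h.φ T.tau * (n * k)⁻¹ = n * (k * h.φ T.tau * k⁻¹) * n⁻¹ := by group
      rw [h3]
      exact hU _ hk1
    rcases T.sq_cent_tau x hx with h3 | h3 | h3 | h3 | h3
    · obtain ⟨w, hw, hw2⟩ := h2
      refine ⟨w, ⟨?_, ?_⟩, hw2⟩
      · refine T.mem_Q_of_sq w hw (h.inj ?_)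
        rw [map_mul, hw2]
        calc n * k * h.φ x * (n * k)⁻¹ * (n * k * h.φ x * (n * k)⁻¹)
            = n * k * h.φ (x * x) * (n * k)⁻¹ := by rw [map_mul]; group
          _ = _ := by rw [h3]; exact hz1
      · exact hw
    · rw [h3, map_one]
      have : n * k * 1 * (n * k)⁻¹ = 1 := by group
      rw [this]
      exact Subgroup.one_mem _
    · rw [h3]
      exact hUQ _ htU
    · rw [h3, hz1]
      exact hUQ _ h.z_mem_U
    · rw [h3, map_mul]
      have h4 : n * k * (h.φ T.tau * h.φ T.z) * (n * k)⁻¹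
          = (n * k * h.φ T.tau * (n * k)⁻¹) * (n * k * h.φ T.z * (n * k)⁻¹) := by group
      rw [h4, hz1]
      exact hUQ _ (h.U.mul_mem htU h.z_mem_U)

theorem card_conj_map (K : Subgroup T) (c : G) :
    Nat.card ((K.map h.φ).map (MulAut.conj c).toMonoidHom) = Nat.card K := by
  rw [← h.card_map K]
  exact Nat.card_congr ((K.map h.φ).equivMapOfInjective _ (MulAut.conj c).injective).toEquiv.symm

/-- Step 5: the second fusion. -/
theorem step5 [Finite G] {c : G} (hcz : c * h.z = h.z * c)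
    (hc : ∀ x ∈ T.Ct, c * h.φ x * c⁻¹ ∈ T.QR.map h.φ) :
    ∃ g : G, g * h.z = h.z * g ∧ (∀ x ∈ h.Q, g * x * g⁻¹ ∈ h.Q) ∧ g * h.tau * g⁻¹ = h.v := by
  let W : Subgroup G := T.QR.map h.φ
  let N : Subgroup G := normalizer (W : Set G) ⊓ centralizer {h.z}
  have hSN : h.S ≤ N := by
    intro s hs
    refine ⟨?_, h.S_le_centralizer_z hs⟩
    obtain ⟨t, rfl⟩ := hs
    have hn : ∀ t w : T, w ∈ T.QR → t * w * t⁻¹ ∈ T.QR := fun t w hw =>
      T.mem_QR.2 ⟨T.Q_normal w t hw.1, T.R_normal w t hw.2⟩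
    show h.φ t ∈ normalizer (W : Set G)
    rw [mem_normalizer_iff]
    intro x
    constructor
    · rintro ⟨w, hw, rfl⟩
      rw [h.phi_conj]
      exact h.phi_mem_map.2 (hn t w hw)
    · rintro ⟨w, hw, hw2⟩
      have h1 : x = h.φ t⁻¹ * h.φ w * (h.φ t⁻¹)⁻¹ := by
        rw [hw2, map_inv]; group
      rw [h1, h.phi_conj]
      exact h.phi_mem_map.2 (hn t⁻¹ w hw)
  -- c C_S(tau) c⁻¹ = W
  have hcW : (T.Ct.map h.φ).map (MulAut.conj c).toMonoidHom = W := by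
    refine Subgroup.eq_of_le_of_card_ge ?_ ?_
    · rintro _ ⟨_, ⟨x, hx, rfl⟩, rfl⟩
      exact hc x hx
    · rw [h.card_conj_map, h.card_map, T.card_Ct, T.card_QR]
  have hQN : h.Q.map (MulAut.conj c).toMonoidHom ≤ N := by
    have key : ∀ q : T, q ∈ T.Q → ∀ w ∈ W, (c * h.φ q * c⁻¹) * w * (c * h.φ q * c⁻¹)⁻¹ ∈ W := by
      intro q hq w hw
      rw [← hcW] at hw
      obtain ⟨_, ⟨x, hx, rfl⟩, rfl⟩ := hw
      have h1 : c * h.φ q * c⁻¹ * (MulAut.conj c).toMonoidHom (h.φ x) * (c * h.φ q * c⁻¹)⁻¹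
          = c * (h.φ q * h.φ x * (h.φ q)⁻¹) * c⁻¹ := by
        simp only [MulEquiv.coe_toMonoidHom, MulAut.conj_apply]; group
      rw [h1, h.phi_conj]
      exact hc _ (T.Q_norm_cent x q hx hq)
    rintro _ ⟨_, ⟨q, hq, rfl⟩, rfl⟩
    have h0 : (MulAut.conj c).toMonoidHom (h.φ q) = c * h.φ q * c⁻¹ := rfl
    rw [h0]
    refine ⟨?_, ?_⟩
    · show c * h.φ q * c⁻¹ ∈ normalizer (W : Set G)
      rw [mem_normalizer_iff]
      intro x
      refine ⟨key q hq x, fun hx => ?_⟩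
      have h1 := key q⁻¹ (T.Q.inv_mem hq) _ hx
      have h2 : c * h.φ q⁻¹ * c⁻¹ * (c * h.φ q * c⁻¹ * x * (c * h.φ q * c⁻¹)⁻¹)
          * (c * h.φ q⁻¹ * c⁻¹)⁻¹ = x := by
        rw [map_inv]; group
      rwa [h2] at h1
    · show c * h.φ q * c⁻¹ ∈ centralizer {h.z}
      rw [mem_centralizer_singleton_iff]
      have h1 : h.φ q * h.z = h.z * h.φ q := (h.z_comm (h.phi_mem_S q)).symm
      have h2 : h.z = c * h.z * c⁻¹ := by rw [hcz]; group
      calc c * h.φ q * c⁻¹ * h.z = c * h.φ q * c⁻¹ * (c * h.z * c⁻¹) := by rw [← h2]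
        _ = c * (h.φ q * h.z) * c⁻¹ := by group
        _ = c * (h.z * h.φ q) * c⁻¹ := by rw [h1]
        _ = (c * h.z * c⁻¹) * (c * h.φ q * c⁻¹) := by group
        _ = _ := by rw [← h2]
  have hQp : IsPGroup 2 (h.Q.map (MulAut.conj c).toMonoidHom) :=
    (h.isPGroup_S.to_le h.Q_le_S).map _
  obtain ⟨d, hd, hdS⟩ := exists_conj_le _ N h.S hQp hQN (h.relIndex_odd hSN)
  have hdz : d * h.z = h.z * d := mem_centralizer_singleton_iff.1 hd.2
  -- the element g = d c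
  have hgz : d * c * h.z = h.z * (d * c) := by
    rw [mul_assoc, hcz, ← mul_assoc, hdz, mul_assoc]
  have hgS : ∀ x ∈ T.Q, d * c * h.φ x * (d * c)⁻¹ ∈ h.S := by
    intro x hx
    have h1 := hdS (c * h.φ x * c⁻¹) ⟨h.φ x, h.phi_mem_Q.2 hx, rfl⟩
    have h2 : d * c * h.φ x * (d * c)⁻¹ = d * (c * h.φ x * c⁻¹) * d⁻¹ := by group
    rwa [h2]
  obtain ⟨f, hf, hff⟩ := h.exists_hom T.Q (d * c) hgS
  have hfC : ∀ x (hx : x ∈ T.Q), x ∈ T.Ct → f ⟨x, hx⟩ ∈ T.QR := by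
    intro x hx hxC
    rw [← h.phi_mem_map, hff]
    have h2 : d * c * h.φ x * (d * c)⁻¹ = d * (c * h.φ x * c⁻¹) * d⁻¹ := by group
    show d * c * h.φ x * (d * c)⁻¹ ∈ W
    rw [h2]
    exact (mem_normalizer_iff.1 hd.1 _).1 (hc x hxC)
  have htQ : T.tau ∈ T.Q := by decide
  have hzQ : T.z ∈ T.Q := by decide
  have hvQ : T.v ∈ T.Q := by decide
  -- every element of QR is the image of an element of Ct
  have hsurj : ∀ w ∈ T.QR, ∃ x, ∃ hx : x ∈ T.Ct, f ⟨x, T.cent_tau_Q x hx⟩ = w := by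
    intro w hw
    let F : T.Ct → T.QR := fun x => ⟨f ⟨x, T.cent_tau_Q x x.2⟩, hfC _ _ x.2⟩
    have hF : Function.Injective F := by
      intro x y hxy
      have h1 := hf (Subtype.ext_iff.1 hxy)
      exact Subtype.ext (Subtype.ext_iff.1 h1 :)
    have hF2 : Function.Bijective F := by
      rw [Fintype.bijective_iff_injective_and_card]
      refine ⟨hF, ?_⟩
      rw [← Nat.card_eq_fintype_card, ← Nat.card_eq_fintype_card, T.card_Ct, T.card_QR]
    obtain ⟨x, hx⟩ := hF2.2 ⟨w, hw⟩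
    exact ⟨x, x.2, congrArg Subtype.val hx⟩
  have htU : f ⟨T.tau, htQ⟩ ∈ T.U := by
    have h1 := hfC _ htQ (by decide)
    refine T.center_QR _ h1.1 h1.2 fun y hy1 hy2 => ?_
    obtain ⟨x, hx, rfl⟩ := hsurj y ⟨hy1, hy2⟩
    rw [← map_mul, ← map_mul]
    congr 1
    exact Subtype.ext hx.symm
  have hfz : f ⟨T.z, hzQ⟩ = T.z := by
    apply h.inj
    rw [hff]
    show d * c * h.z * (d * c)⁻¹ = h.z
    rw [hgz]; group
  have hfv : f ⟨T.v, hvQ⟩ ∈ T.Q := by
    apply T.mem_Q_of_inv_not_R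
    · by_contra hs
      have hR : f ⟨T.v, hvQ⟩ ∈ T.R := by simpa [T.mem_R] using hs
      have h1 := T.U_central _ _ htU hR
      rw [← map_mul, ← map_mul] at h1
      exact absurd (congrArg Subtype.val (hf h1))
        (show ¬ (T.tau * T.v = T.v * T.tau) by decide)
    · rw [← map_mul]
      have : (⟨T.v, hvQ⟩ * ⟨T.v, hvQ⟩ : T.Q) = 1 := Subtype.ext (show T.v * T.v = 1 by decide)
      rw [this, map_one]
  have hfQ : ∀ x, f x ∈ T.Q := by
    rintro ⟨x, hx⟩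
    rcases T.Q_cases x hx with h1 | h1
    · exact (hfC x hx h1).1
    · have h2 := (hfC (T.v * x) (T.Q.mul_mem hvQ hx) h1).1
      have h3 : f ⟨T.v * x, T.Q.mul_mem hvQ hx⟩ = f ⟨T.v, hvQ⟩ * f ⟨x, hx⟩ := hom_mul f hvQ hx
      rw [h3] at h2
      exact (T.Q.mul_mem_cancel_left hfv).1 h2
  have hgQ : ∀ x ∈ h.Q, d * c * x * (d * c)⁻¹ ∈ h.Q := by
    rintro _ ⟨x, hx, rfl⟩
    rw [← hff ⟨x, hx⟩]
    exact h.phi_mem_Q.2 (hfQ _)
  have hgt : d * c * h.tau * (d * c)⁻¹ ∈ h.U := by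
    have h1 := hff ⟨T.tau, htQ⟩
    have h2 := h.phi_mem_U.2 htU
    rw [h1] at h2
    exact h2
  have hgt1 : d * c * h.tau * (d * c)⁻¹ ≠ 1 := h.ne_one (by decide) _
  have hgt2 : d * c * h.tau * (d * c)⁻¹ ≠ h.z := by
    intro h0
    have h1 := hff ⟨T.tau, htQ⟩
    have h2 : h.φ (f ⟨T.tau, htQ⟩) = h.φ (f ⟨T.z, hzQ⟩) := by
      rw [h1, hfz]; exact h0
    exact absurd (congrArg Subtype.val (hf (h.inj h2))) (show ¬ (T.tau = T.z) by decide)
  rcases h.mem_U_cases hgt hgt1 hgt2 with h1 | h1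
  · exact ⟨d * c, hgz, hgQ, h1⟩
  · refine ⟨h.φ T.tau * (d * c), ?_, ?_, ?_⟩
    · rw [mul_assoc, hgz, ← mul_assoc, ← h.z_comm (h.phi_mem_S T.tau), mul_assoc]
    · intro x hx
      obtain ⟨w, hw, hw2⟩ := hgQ x hx
      have h2 : h.φ T.tau * (d * c) * x * (h.φ T.tau * (d * c))⁻¹
          = h.φ T.tau * (d * c * x * (d * c)⁻¹) * (h.φ T.tau)⁻¹ := by group
      rw [h2, ← hw2, h.phi_conj]
      exact h.phi_mem_Q.2 (T.Q_normal _ _ hw)
    · have h2 : h.φ T.tau * (d * c) * h.tau * (h.φ T.tau * (d * c))⁻¹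
          = h.φ T.tau * (d * c * h.tau * (d * c)⁻¹) * (h.φ T.tau)⁻¹ := by group
      rw [h2, h1, h.phi_conj, T.tau_vz]
      rfl

/-- **Fusion**: a group with a Sylow 2-subgroup of J2 type, without subgroups of index 2, in which
`z` is not isolated, has the fusion of `J2` or `J3`. -/
theorem fused [Finite G] (hG : ∀ H : Subgroup G, H.index ≠ 2)
    (hz : ∃ g, g * h.z * g⁻¹ ∈ h.S ∧ g * h.z * g⁻¹ ≠ h.z) : Fused h := by
  have hvz := h.step2 hG hz
  obtain ⟨c, hc1, hc2⟩ := h.step4 hG hvz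
  exact ⟨h.step3 hvz, h.step5 hc1 hc2⟩

/-- The fusion, given `f2` and that `z` is not isolated (index 2 subgroups allowed). -/
theorem fused_of_f2 [Finite G]
    (hf2 : ∃ g : G, g * h.z = h.z * g ∧ (∀ x ∈ h.Q, g * x * g⁻¹ ∈ h.Q) ∧ g * h.tau * g⁻¹ = h.v)
    (hz : ∃ g, g * h.z * g⁻¹ ∈ h.S ∧ g * h.z * g⁻¹ ≠ h.z) : Fused h := by
  obtain ⟨g, -, -, hg⟩ := id hf2
  exact ⟨h.step3 (h.isConj_z_v_of_tau (isConj_iff.2 ⟨g, hg⟩) hz), hf2⟩

end Cfsg.Agent.J2Sylow.Setup
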