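import Mathlib
import Cfsg.Agent.J2Sylow.InvSylow
import Cfsg.Agent.StandardComponent.CentCore

set_option autoImplicit false

/-!
# The weights of a `T`-invariant `r`-subgroup (S1776, step (4), piece B2)

`val_lt_of_not_bal` and `inv_P`.
-/

namespace Cfsg.Agent.J2Sylow.Weights2

open Model Model.F4 Subgroup Cfsg.Agent.J2Sylow InvSylow
open Cfsg.Agent.StandardComponent.CentCore

variable {G : Type*} [Group G]

section Elements

variable (h : Setup G)

theorem el_mul (x c y d : F4) : h.el x c * h.el y d = h.el (x + y) (c + d) := by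
  show h.φ _ * h.φ _ = h.φ _
  rw [← map_mul]
  congr 1
  revert x c y d
  decide

theorem mul_one_F4 (l : F4) : l * e = l := by revert l; decide

theorem mul_o (l : F4) : l * o = o := by revert l; decide

theorem o_add (l : F4) : o + l = l := by revert l; decide

theorem add_o (l : F4) : l + o = l := by revert l; decide

theorem mul_eu (l : F4) : l * e + l * w = l * u := by revert l; decide

theorem el_o : h.el o o = 1 := map_one h.φ

theorem el_e : h.el o e = h.z := rfl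
theorem el_w : h.el o w = h.v := rfl
theorem el_a : h.el e o = h.a := rfl

theorem el_comm (x c y d : F4) : h.el x c * h.el y d = h.el y d * h.el x c := by
  rw [el_mul, el_mul, add_comm x y, add_comm c d]

theorem el_inv (x c : F4) : (h.el x c)⁻¹ = h.el x c := by
  apply inv_eq_of_mul_eq_one_left
  rw [el_mul, F4.add_self, F4.add_self]
  exact el_o h

theorem el_sq (x c : F4) : h.el x c * h.el x c = 1 := by
  rw [el_mul, F4.add_self, F4.add_self]
  exact el_o h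

theorem zz : h.z * h.z = 1 := el_sq h o e
theorem vv : h.v * h.v = 1 := el_sq h o w

theorem el_conj (x c y d : F4) : h.el x c * h.el y d * (h.el x c)⁻¹ = h.el y d := by
  rw [el_comm]; group

/-- the element moving `V_0` to `V_l` -/
noncomputable def ml (l : F4) : G := h.φ ⟨o, l, o, false⟩

theorem ml_conj (l x c : F4) : ml h l * h.el x c * (ml h l)⁻¹ = h.el x (c + l * x) := by
  show h.φ _ * h.φ _ * (h.φ _)⁻¹ = h.φ _
  rw [← map_inv, ← map_mul, ← map_mul]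
  congr 1
  revert l x c
  decide

theorem mem_E1 {s : G} : s ∈ h.E1 ↔ ∃ x c, s = h.el x c := by
  constructor
  · rintro ⟨⟨a, b, c, d⟩, ⟨h1, h2⟩, rfl⟩
    exact ⟨a, c, by subst h1 h2; rfl⟩
  · rintro ⟨x, c, rfl⟩
    exact ⟨⟨x, o, c, false⟩, ⟨rfl, rfl⟩, rfl⟩

theorem mem_cV {l : F4} {x : G} :
    x ∈ centralizer (h.V l) ↔ ∀ t, x * h.el t (l * t) = h.el t (l * t) * x := by
  rw [mem_centralizer_iff]
  constructor
  · intro H t
    exact (H _ ⟨t, rfl⟩).symm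
  · rintro H _ ⟨t, rfl⟩
    exact (H t).symm

theorem mem_cVo {x : G} :
    x ∈ centralizer (h.V o) ↔ ∀ t, x * h.el t o = h.el t o * x := by
  rw [mem_cV]
  have : ∀ t : F4, o * t = o := by decide
  simp only [this]

theorem el_mem_cVo (x c : F4) : h.el x c ∈ centralizer (h.V o) := by
  rw [mem_cVo]
  intro t
  exact el_comm h _ _ _ _

/-- the conjugate of an element of `C(V_0)` by an element of `E1` -/
theorem conj_cVo (x c : F4) {y : G} (hy : y ∈ centralizer (h.V o)) :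
    h.el x c * y * (h.el x c)⁻¹ ∈ centralizer (h.V o) :=
  mul_mem (mul_mem (el_mem_cVo h x c) hy) (inv_mem (el_mem_cVo h x c))

end Elements

section Generic

theorem mem_of_pow_two_pow {H : Subgroup G} {x : G} {n : ℕ} (h : x ^ (2 ^ n) ∈ H)
    (hx : Odd (orderOf x)) : x ∈ H := by
  have h1 : (2 ^ n).Coprime (orderOf x) :=
    Nat.Coprime.pow_left _ (Nat.coprime_two_left.2 hx)
  have h2 : ∃ k : ℕ, (x ^ (2 ^ n)) ^ k = x := by
    obtain ⟨k, hk⟩ := exists_pow_eq_self_of_coprime h1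
    exact ⟨k, hk⟩
  obtain ⟨k, hk⟩ := h2
  rw [← hk]
  exact H.pow_mem h k

theorem mem_of_sq {H : Subgroup G} {x : G} (h : x * x ∈ H) (hx : Odd (orderOf x)) : x ∈ H := by
  refine mem_of_pow_two_pow (n := 1) ?_ hx
  rwa [pow_one, pow_two]

/-- if `s` inverts `x` and `[s, x] ∈ H` then `x ∈ H` (`x` of odd order) -/
theorem mem_of_inverted {H : Subgroup G} {s x : G} (hx : Odd (orderOf x))
    (h1 : s * x * s⁻¹ = x⁻¹) (h2 : s * x * s⁻¹ * x⁻¹ ∈ H) : x ∈ H := by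
  rw [h1] at h2
  have h3 := H.inv_mem h2
  rw [mul_inv_rev, inv_inv] at h3
  exact mem_of_sq h3 hx

/-- if all elements of `D` inverted by `s` are conjugated by `g` to elements of `E` inverted by
`t` -/
theorem inv_le_conj [Finite G] {D E : Subgroup G} {s t : G} (g : G)
    (H : ∀ x ∈ D, s * x * s⁻¹ = x⁻¹ →
      g * x * g⁻¹ ∈ E ∧ t * (g * x * g⁻¹) * t⁻¹ = (g * x * g⁻¹)⁻¹) : inv D s ≤ inv E t := by
  refine Nat.card_le_card_of_injective
    (fun x : {x : G // x ∈ D ∧ s * x * s⁻¹ = x⁻¹} => (⟨g * x * g⁻¹, H x x.2.1 x.2.2⟩ :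
      {x : G // x ∈ E ∧ t * x * t⁻¹ = x⁻¹})) ?_
  intro x y hxy
  have h1 : g * (x : G) * g⁻¹ = g * y * g⁻¹ :=
    congrArg (fun t' : {x : G // x ∈ E ∧ t * x * t⁻¹ = x⁻¹} => (t' : G)) hxy
  exact Subtype.ext (mul_left_cancel (mul_right_cancel h1))

/-- if all elements of `D` inverted by `s` are inverted by `t` and in `E` -/
theorem inv_le [Finite G] {D E : Subgroup G} {s t : G}
    (H : ∀ x ∈ D, s * x * s⁻¹ = x⁻¹ → x ∈ E ∧ t * x * t⁻¹ = x⁻¹) : inv D s ≤ inv E t := by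
  refine Nat.card_le_card_of_injective
    (fun x : {x : G // x ∈ D ∧ s * x * s⁻¹ = x⁻¹} => (⟨x, H x x.2.1 x.2.2⟩ :
      {x : G // x ∈ E ∧ t * x * t⁻¹ = x⁻¹})) ?_
  intro x y hxy
  have h1 : (x : G) = y := congrArg (fun t' : {x : G // x ∈ E ∧ t * x * t⁻¹ = x⁻¹} => (t' : G)) hxy
  exact Subtype.ext h1

/-- for an invariant `r`-group the number of inverted elements is a power of `r` -/
theorem inv_pow_of [Finite G] {D : Subgroup G} {s : G} {r : ℕ} (hr : r.Prime) (hr2 : r ≠ 2)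
    (hD : IsPGroup r D) (hs : s * s = 1) (hn : ∀ x ∈ D, s * x * s⁻¹ ∈ D) :
    ∃ n, inv D s = r ^ n := by
  have : Fact r.Prime := ⟨hr⟩
  obtain ⟨n, hn'⟩ := IsPGroup.iff_card.1 hD
  have ho : Odd (Nat.card D) := by
    rw [hn']
    exact (hr.odd_of_ne_two hr2).pow
  have h1 := inv_mul_card ho hs hn
  obtain ⟨m, -, hm⟩ := (Nat.dvd_prime_pow hr).1 (hn' ▸ Dvd.intro _ h1 : inv D s ∣ r ^ n)
  exact ⟨m, hm⟩

theorem dvd_of_le_pow {r a m : ℕ} (hr : r.Prime) (h : ∃ n, a = r ^ n) (hle : a ≤ r ^ m) :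
    a ∣ r ^ m := by
  obtain ⟨n, rfl⟩ := h
  exact Nat.pow_dvd_pow r ((Nat.pow_le_pow_iff_right hr.one_lt).1 hle)

end Generic

variable {h : Setup G}

theorem z_comm_el (c : F4) : h.el o c * h.z = h.z * h.el o c := el_comm h _ _ _ _

variable [Finite G]

/-- `O(C(a)) ∩ C(V_0) ∩ C(z)` is contained in `O(C(z)) ∩ C(V_0)` -/
theorem D1_le_D2 (T : Tab h) :
    KK h.a ⊓ centralizer (h.V o) ⊓ centralizer {h.z} ≤ KK h.z ⊓ centralizer (h.V o) := by
  rintro x ⟨⟨h1, h2⟩, h3⟩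
  refine ⟨?_, h2⟩
  have h4 : x * h.z = h.z * x := mem_cent.1 h3
  have h5 : x * h.a = h.a * x := core_comm h1
  obtain ⟨n, hn⟩ := T.two x h4 (by rw [h5]; simp)
  exact mem_of_pow_two_pow hn (core_odd_order h1)

omit [Finite G] in
theorem D2_conj (c : F4) : ∀ x ∈ KK h.z ⊓ centralizer (h.V o),
    h.el o c * x * (h.el o c)⁻¹ ∈ KK h.z ⊓ centralizer (h.V o) := fun _ hx =>
  ⟨core_conj_mem (z_comm_el c) hx.1, conj_cVo h _ _ hx.2⟩

omit [Finite G] in
theorem D1_conj (c : F4) : ∀ x ∈ KK h.a ⊓ centralizer (h.V o) ⊓ centralizer {h.z},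
    h.el o c * x * (h.el o c)⁻¹ ∈ KK h.a ⊓ centralizer (h.V o) ⊓ centralizer {h.z} :=
  fun _ hx => ⟨⟨core_conj_mem (el_comm h _ _ _ _) hx.1.1, conj_cVo h _ _ hx.1.2⟩,
    Subgroup.mul_mem _ (Subgroup.mul_mem _ (mem_cent.2 (z_comm_el c)) hx.2)
      (Subgroup.inv_mem _ (mem_cent.2 (z_comm_el c)))⟩

theorem D2_odd : Odd (Nat.card ↥(KK h.z ⊓ centralizer (h.V o))) :=
  Odd.of_dvd_nat (core_odd h.z) (card_dvd_of_le inf_le_left)

theorem D1_odd : Odd (Nat.card ↥(KK h.a ⊓ centralizer (h.V o) ⊓ centralizer {h.z})) :=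
  Odd.of_dvd_nat (core_odd h.a) (card_dvd_of_le (inf_le_left.trans inf_le_left))

theorem val_lt_of_not_bal (T : Tab h) {r : ℕ} (hr : r.Prime) (hB : ¬ Bal r h) :
    padicValNat r (m1 h) < padicValNat r (m2 h) := by
  classical
  -- a bad element
  unfold Bal at hB
  push Not at hB
  obtain ⟨x, hxz, hxV, hxv, ⟨k, hk⟩, hxa⟩ := hB
  have hx2 : x ∈ KK h.z ⊓ centralizer (h.V o) := ⟨hxz, (mem_cVo h).2 hxV⟩
  have hY : IsPGroup r (zpowers x) := by
    intro y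
    obtain ⟨n, hn⟩ := mem_zpowers_iff.1 y.2
    refine ⟨k, Subtype.ext ?_⟩
    show (y : G) ^ r ^ k = 1
    rw [← hn, ← zpow_natCast, ← zpow_mul, mul_comm, zpow_mul, zpow_natCast, hk, one_zpow]
  have hYv : ∀ y ∈ zpowers x, h.v * y * h.v⁻¹ ∈ zpowers x := by
    intro y hy
    obtain ⟨n, rfl⟩ := mem_zpowers_iff.1 hy
    rw [← conj_zpow, hxv, inv_zpow]
    exact inv_mem (zpow_mem (mem_zpowers x) n)
  obtain ⟨P, hYP, hPD, hP, hPi, hAP⟩ := exists_inv_sylow' hr (vv h) (D2_odd (h := h))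
    (D2_conj w) (zpowers_le.2 hx2) hY hYv
  -- a Sylow subgroup of `D1` and one of `D2` containing it
  obtain ⟨P1, -, hP1D, hP1, hP1i, hAP1⟩ := exists_inv_sylow' (Y := ⊥) hr (vv h) (D1_odd (h := h))
    (D1_conj w) bot_le IsPGroup.of_bot (by
      intro y hy
      rw [mem_bot] at hy ⊢
      rw [hy]; group)
  obtain ⟨P2, hP12, hP2D, hP2, hP2i, hAP2⟩ := exists_inv_sylow' hr (vv h) (D2_odd (h := h))
    (D2_conj w) (hP1D.trans (D1_le_D2 T)) hP1 hAP1
  have e1 := inv_eq_pow hr (vv h) (D1_odd (h := h)) (D1_conj w) hP1D hP1 hP1i hAP1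
  have e2 := inv_eq_pow hr (vv h) (D2_odd (h := h)) (D2_conj w) hP2D hP2 hP2i hAP2
  -- conjugate the bad element into `P2`
  obtain ⟨c, hc, hcv, hcP⟩ := conj_of_inv hr (isPGroup_zpowers (vv h)) (D2_odd (h := h))
    (zpowers_inv (vv h) (D2_conj w)) hPD hP hPi (zpowers_inv (vv h) hAP) hP2D hP2 hP2i
    (zpowers_inv (vv h) hAP2)
  have hcv' : h.v * c = c * h.v := hcv h.v (mem_zpowers _)
  have hca : c * h.a = h.a * c := ((mem_cVo h).1 hc.2 e)
  have hx' : c * x * c⁻¹ ∈ P2 := by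
    rw [hcP]
    have : c⁻¹ * (c * x * c⁻¹) * c = x := by group
    rw [this]
    exact hYP (mem_zpowers x)
  have hx'v : h.v * (c * x * c⁻¹) * h.v⁻¹ = (c * x * c⁻¹)⁻¹ := by
    calc h.v * (c * x * c⁻¹) * h.v⁻¹ = (h.v * c) * x * (h.v * c)⁻¹ := by group
      _ = c * (h.v * x * h.v⁻¹) * c⁻¹ := by rw [hcv']; group
      _ = (c * x * c⁻¹)⁻¹ := by rw [hxv]; group
  have hx'a : c * x * c⁻¹ ∉ KK h.a := by
    intro hm
    have hci : c⁻¹ * h.a = h.a * c⁻¹ := (Commute.inv_left hca)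
    have h1 := core_conj_mem hci hm
    have h2 : c⁻¹ * (c * x * c⁻¹) * c⁻¹⁻¹ = x := by group
    rw [h2] at h1
    exact hxa h1
  -- strict inequality
  have hlt : inv P1 h.v < inv P2 h.v := by
    have hfin : Finite {x : G // x ∈ P2 ∧ h.v * x * h.v⁻¹ = x⁻¹} := inferInstance
    let f : {x : G // x ∈ P1 ∧ h.v * x * h.v⁻¹ = x⁻¹} →
      {x : G // x ∈ P2 ∧ h.v * x * h.v⁻¹ = x⁻¹} := fun x => ⟨x, hP12 x.2.1, x.2.2⟩
    have hf : Function.Injective f := by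
      intro x y hxy
      have h1 : (x : G) = y :=
        congrArg (fun t' : {x : G // x ∈ P2 ∧ h.v * x * h.v⁻¹ = x⁻¹} => (t' : G)) hxy
      exact Subtype.ext h1
    refine lt_of_le_of_ne (Nat.card_le_card_of_injective f hf) fun heq => ?_
    obtain ⟨y, hy⟩ := ((Nat.bijective_iff_injective_and_card f).2 ⟨hf, heq⟩).2
      ⟨c * x * c⁻¹, hx', hx'v⟩
    have h1 : (y : G) = c * x * c⁻¹ :=
      congrArg (fun t' : {x : G // x ∈ P2 ∧ h.v * x * h.v⁻¹ = x⁻¹} => (t' : G)) hy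
    apply hx'a
    rw [← h1]
    exact (hP1D y.2.1).1.1
  rw [e1, e2] at hlt
  exact (Nat.pow_lt_pow_iff_right hr.one_lt).1 hlt

/-- the key step at `V_0` -/
theorem step (T : Tab h) {r : ℕ} (hr : r.Prime) (hr2 : r ≠ 2) (hB : ¬ Bal r h)
    {P : Subgroup G} (hP : IsPGroup r P) (hE : ∀ x c, ∀ y ∈ P, h.el x c * y * (h.el x c)⁻¹ ∈ P)
    (hPK : ¬ r ∣ (P ⊓ KK h.z).relIndex (KK h.z)) {c' : F4} (hc' : c' = w ∨ c' = u)
    {D : Subgroup G} (hDP : D ≤ P) (hDV : D ≤ centralizer (h.V o))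
    (hDc : ∀ x ∈ D, x * h.el o c' = h.el o c' * x) (hDz : ∀ x ∈ D, h.z * x * h.z⁻¹ ∈ D) :
    inv D h.z ∣ r ^ padicValNat r (m1 h) := by
  classical
  have : Fact r.Prime := ⟨hr⟩
  -- the Sylow subgroup `P ∩ O(C(z)) ∩ C(V_0)` of `O(C(z)) ∩ C(V_0)`
  have hAE : closure (h.V o) ≤ h.E1 := by
    rw [closure_le]
    rintro _ ⟨x, rfl⟩
    exact (mem_E1 h).2 ⟨_, _, rfl⟩
  have hA2 : IsPGroup 2 (closure (h.V o)) := by
    rintro ⟨t, ht⟩
    refine ⟨1, Subtype.ext ?_⟩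
    obtain ⟨x, c, rfl⟩ := (mem_E1 h).1 (hAE ht)
    show h.el x c ^ 2 ^ 1 = 1
    rw [pow_one, pow_two, el_sq]
  have hCA : centralizer (h.V o) = centralizer ((closure (h.V o) : Subgroup G) : Set G) :=
    (centralizer_closure _).symm
  have hAz : ∀ s ∈ closure (h.V o), ∀ x ∈ KK h.z, s * x * s⁻¹ ∈ KK h.z := by
    intro s hs x hx
    obtain ⟨y, c, rfl⟩ := (mem_E1 h).1 (hAE hs)
    exact core_conj_mem (el_comm h _ _ _ _) hx
  have hAP : ∀ s ∈ closure (h.V o), ∀ x ∈ P ⊓ KK h.z, s * x * s⁻¹ ∈ P ⊓ KK h.z := by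
    intro s hs x hx
    refine ⟨?_, hAz s hs x hx.2⟩
    obtain ⟨y, c, rfl⟩ := (mem_E1 h).1 (hAE hs)
    exact hE _ _ _ hx.1
  have c1 := cent_sylow hr hA2 (core_odd h.z) hAz inf_le_right (hP.to_le inf_le_left) hPK hAP hCA
  have hPv : ∀ x ∈ P ⊓ KK h.z ⊓ centralizer (h.V o), h.v * x * h.v⁻¹ ∈
      P ⊓ KK h.z ⊓ centralizer (h.V o) := fun x hx =>
    ⟨⟨hE o w x hx.1.1, core_conj_mem (z_comm_el w) hx.1.2⟩, conj_cVo h o w hx.2⟩
  have e2 := inv_eq_pow hr (vv h) (D2_odd (h := h)) (D2_conj w)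
    (inf_le_inf_right _ inf_le_right : P ⊓ KK h.z ⊓ centralizer (h.V o) ≤ _)
    (hP.to_le (inf_le_left.trans inf_le_left)) c1 hPv
  -- some element of `U` centralizes `P ∩ C(V_0)` modulo `O(C(a))`
  obtain ⟨y, hy, hst⟩ := T.star r hr hr2 (P ⊓ centralizer (h.V o)) (hP.to_le inf_le_left)
    (fun x hx => (mem_cVo h).1 hx.2 e)
    (fun y x hx => ⟨hE o y x hx.1, conj_cVo h o y hx.2⟩)
  have hodd : ∀ x ∈ P, Odd (orderOf x) := by
    intro x hx
    obtain ⟨n, hn⟩ := IsPGroup.iff_orderOf.1 hP ⟨x, hx⟩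
    rw [Subgroup.orderOf_mk] at hn
    rw [hn]
    exact (hr.odd_of_ne_two hr2).pow
  have hye : y = e := by
    by_contra hye
    have hy' : y = w ∨ y = u := by
      cases y
      · exact absurd rfl hy
      · exact absurd rfl hye
      · exact Or.inl rfl
      · exact Or.inr rfl
    have h1 : inv (P ⊓ KK h.z ⊓ centralizer (h.V o)) h.v ≤
        inv (P ⊓ KK h.z ⊓ centralizer (h.V o) ⊓ KK h.a) h.v := by
      refine inv_le fun x hx hxv => ⟨⟨hx, ?_⟩, hxv⟩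
      refine mem_of_inverted (hodd x hx.1.1) (s := h.el o y) ?_ (hst x ⟨hx.1.1, hx.2⟩)
      rcases hy' with rfl | rfl
      · exact hxv
      · have h2 : h.el o u = h.z * h.v := by
          rw [← el_e, ← el_w, el_mul]; rfl
        have h3 : x * h.z = h.z * x := core_comm hx.1.2
        rw [h2]
        calc h.z * h.v * x * (h.z * h.v)⁻¹ = h.z * (h.v * x * h.v⁻¹) * h.z⁻¹ := by group
          _ = h.z * x⁻¹ * h.z⁻¹ := by rw [hxv]
          _ = x⁻¹ := by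
            have h4 : h.z * x⁻¹ = x⁻¹ * h.z := (Commute.inv_right (show Commute h.z x from h3.symm))
            rw [h4]; group
    have h2 : inv (P ⊓ KK h.z ⊓ centralizer (h.V o) ⊓ KK h.a) h.v ∣ r ^ padicValNat r (m1 h) := by
      refine inv_dvd hr (vv h) (D1_odd (h := h)) (D1_conj w) ?_ ?_ ?_
      · rintro x ⟨⟨⟨h1, h2⟩, h3⟩, h4⟩
        exact ⟨⟨h4, h3⟩, mem_cent.2 (core_comm h2)⟩
      · exact hP.to_le ((inf_le_left.trans inf_le_left).trans inf_le_left)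
      · intro x hx
        exact ⟨hPv x hx.1, core_conj_mem (el_comm h _ _ _ _) hx.2⟩
    rw [e2] at h1
    have h3 := h1.trans (Nat.le_of_dvd (pow_pos hr.pos _) h2)
    have h4 := (Nat.pow_le_pow_iff_right hr.one_lt).1 h3
    exact absurd (val_lt_of_not_bal T hr hB) (not_lt.2 h4)
  subst hye
  -- the `z`-inverted elements of `D` are in `O(C(a))`
  have hDa : ∀ x ∈ D, h.z * x * h.z⁻¹ = x⁻¹ → x ∈ KK h.a := fun x hx hxz =>
    mem_of_inverted (hodd x (hDP hx)) hxz (hst x ⟨hDP hx, hDV hx⟩)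
  -- the element moving `c'` to `e`
  obtain ⟨g, hg1, hg2, k, hk, hg3⟩ : ∃ g : G, (∀ x : F4, g * h.el x o * g⁻¹ = h.el x o) ∧
      g * h.el o c' * g⁻¹ = h.z ∧ ∃ k : F4, (k = w ∨ k = u) ∧ g * h.z * g⁻¹ = h.el o k := by
    obtain ⟨c, hc1, hc2⟩ := T.c3
    rcases hc' with rfl | rfl
    · refine ⟨c * c, fun x => ?_, ?_, u, Or.inr rfl, ?_⟩
      · calc c * c * h.el x o * (c * c)⁻¹ = c * (c * h.el x o * c⁻¹) * c⁻¹ := by group
          _ = h.el x o := by rw [hc1, hc1]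
      · calc c * c * h.el o w * (c * c)⁻¹ = c * (c * h.el o w * c⁻¹) * c⁻¹ := by group
          _ = h.el o (w * (w * w)) := by rw [hc2, hc2]
          _ = h.z := rfl
      · calc c * c * h.el o e * (c * c)⁻¹ = c * (c * h.el o e * c⁻¹) * c⁻¹ := by group
          _ = h.el o (w * (w * e)) := by rw [hc2, hc2]
          _ = _ := rfl
    · exact ⟨c, hc1, hc2 u, w, Or.inl rfl, hc2 e⟩
  have hga : g * h.a = h.a * g := by
    have h1 := hg1 e
    exact mul_inv_eq_iff_eq_mul.1 h1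
  have hgV : ∀ x ∈ centralizer (h.V o), g * x * g⁻¹ ∈ centralizer (h.V o) := by
    have hg : g ∈ centralizer (h.V o) :=
      (mem_cVo h).2 fun t => mul_inv_eq_iff_eq_mul.1 (hg1 t)
    intro x hx
    exact mul_mem (mul_mem hg hx) (inv_mem hg)
  have hkv : h.v = h.el o k ∨ h.v = h.z * h.el o k := by
    rcases hk with rfl | rfl
    · exact Or.inl rfl
    · right
      rw [← el_e, el_mul]; rfl
  -- elements commuting with `z`
  have hvk : ∀ x : G, x * h.z = h.z * x → h.v * x * h.v⁻¹ = h.el o k * x * (h.el o k)⁻¹ := by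
    intro x hx
    rcases hkv with h1 | h1
    · rw [h1]
    · have h2 : (h.el o k * x * (h.el o k)⁻¹) * h.z = h.z * (h.el o k * x * (h.el o k)⁻¹) := by
        have h3 : Commute (h.el o k) h.z := z_comm_el k
        have h4 : Commute x h.z := hx
        exact (h3.mul_left h4).mul_left h3.inv_left
      rw [h1]
      calc h.z * h.el o k * x * (h.z * h.el o k)⁻¹ =
          h.z * (h.el o k * x * (h.el o k)⁻¹) * h.z⁻¹ := by group
        _ = _ := by rw [← h2]; group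
  let D' : Subgroup G := (D ⊓ KK h.a).map (MulAut.conj g).toMonoidHom
  have hD'z : ∀ x ∈ D, (g * x * g⁻¹) * h.z = h.z * (g * x * g⁻¹) := by
    intro x hx
    rw [← hg2]
    calc g * x * g⁻¹ * (g * h.el o c' * g⁻¹) = g * (x * h.el o c') * g⁻¹ := by group
      _ = g * h.el o c' * g⁻¹ * (g * x * g⁻¹) := by rw [hDc x hx]; group
  have hD'1 : D' ≤ KK h.a ⊓ centralizer (h.V o) ⊓ centralizer {h.z} := by
    rintro _ ⟨x, hx, rfl⟩
    exact ⟨⟨core_conj_mem hga hx.2, hgV x (hDV hx.1)⟩, mem_cent.2 (hD'z x hx.1)⟩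
  have hD'r : IsPGroup r D' := (hP.to_le (inf_le_left.trans hDP)).map _
  have hD'v : ∀ x ∈ D', h.v * x * h.v⁻¹ ∈ D' := by
    rintro _ ⟨x, hx, rfl⟩
    show h.v * (g * x * g⁻¹) * h.v⁻¹ ∈ D'
    rw [hvk _ (hD'z x hx.1), ← hg3]
    refine ⟨h.z * x * h.z⁻¹, ⟨hDz x hx.1, core_conj_mem (el_comm h _ _ _ _) hx.2⟩, ?_⟩
    show g * (h.z * x * h.z⁻¹) * g⁻¹ = _
    group
  have h1 : inv D h.z ≤ inv D' h.v := by
    refine inv_le_conj g fun x hx hxz => ⟨⟨x, ⟨hx, hDa x hx hxz⟩, rfl⟩, ?_⟩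
    rw [hvk _ (hD'z x hx), ← hg3]
    calc g * h.z * g⁻¹ * (g * x * g⁻¹) * (g * h.z * g⁻¹)⁻¹ = g * (h.z * x * h.z⁻¹) * g⁻¹ := by
          group
      _ = _ := by rw [hxz]; group
  have h2 := inv_dvd hr (vv h) (D1_odd (h := h)) (D1_conj w) hD'1 hD'r hD'v
  exact dvd_of_le_pow hr (inv_pow_of hr hr2 (hP.to_le hDP) (zz h) hDz)
    (h1.trans (Nat.le_of_dvd (pow_pos hr.pos _) h2))

/-- the key step at `V_l` -/
theorem step_l (T : Tab h) {r : ℕ} (hr : r.Prime) (hr2 : r ≠ 2) (hB : ¬ Bal r h)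
    {P : Subgroup G} (hP : IsPGroup r P) (hE : ∀ x c, ∀ y ∈ P, h.el x c * y * (h.el x c)⁻¹ ∈ P)
    (hPK : ¬ r ∣ (P ⊓ KK h.z).relIndex (KK h.z)) {c' : F4} (hc' : c' = w ∨ c' = u) (l : F4)
    {D : Subgroup G} (hDP : D ≤ P) (hDV : D ≤ centralizer (h.V l))
    (hDc : ∀ x ∈ D, x * h.el o c' = h.el o c' * x) (hDz : ∀ x ∈ D, h.z * x * h.z⁻¹ ∈ D) :
    inv D h.z ∣ r ^ padicValNat r (m1 h) := by
  have : Fact r.Prime := ⟨hr⟩
  let m := ml h l
  have hm : ∀ x c : F4, m⁻¹ * h.el x (c + l * x) * m = h.el x c := by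
    intro x c
    rw [← ml_conj]
    show m⁻¹ * (m * h.el x c * m⁻¹) * m = _
    group
  have hmo : ∀ c : F4, m⁻¹ * h.el o c * m = h.el o c := by
    intro c
    have h1 := hm o c
    rwa [mul_o, add_o] at h1
  have hmz : m⁻¹ * h.z * m = h.z := hmo e
  have hmz' : m⁻¹ * h.z = h.z * m⁻¹ := by
    conv_rhs => rw [← hmz]
    group
  let f := (MulAut.conj m⁻¹).toMonoidHom
  have hf : ∀ x, f x = m⁻¹ * x * m := fun x => by
    show m⁻¹ * x * m⁻¹⁻¹ = _
    rw [inv_inv]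
  have hfi : Function.Injective f := (MulAut.conj m⁻¹).injective
  have hKz : (KK h.z).map f = KK h.z := by
    have hle : (KK h.z).map f ≤ KK h.z := by
      rintro _ ⟨x, hx, rfl⟩
      show m⁻¹ * x * m⁻¹⁻¹ ∈ _
      exact core_conj_mem hmz' hx
    exact Subgroup.eq_of_le_of_card_ge hle (by rw [Subgroup.card_map_of_injective hfi])
  have hPK' : ¬ r ∣ (P.map f ⊓ KK h.z).relIndex (KK h.z) := by
    have h1 : P.map f ⊓ KK h.z = (P ⊓ KK h.z).map f := by
      rw [Subgroup.map_inf _ _ _ hfi, hKz]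
    have h2 : (P.map f ⊓ KK h.z).relIndex (KK h.z) = (P ⊓ KK h.z).relIndex (KK h.z) := by
      have h3 := Subgroup.relIndex_map_map_of_injective (P ⊓ KK h.z) (KK h.z) hfi
      rw [h1]
      rwa [hKz] at h3
    rwa [h2]
  have hE' : ∀ x c, ∀ y ∈ P.map f, h.el x c * y * (h.el x c)⁻¹ ∈ P.map f := by
    rintro x c _ ⟨y, hy, rfl⟩
    refine ⟨h.el x (c + l * x) * y * (h.el x (c + l * x))⁻¹, hE _ _ y hy, ?_⟩
    rw [hf, hf, ← hm x c]
    group
  have hDV' : D.map f ≤ centralizer (h.V o) := by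
    rintro _ ⟨y, hy, rfl⟩
    rw [mem_cVo]
    intro t
    have h1 := (mem_cV h).1 (hDV hy) t
    have h2 := hm t o
    rw [o_add] at h2
    rw [hf, ← h2]
    calc m⁻¹ * y * m * (m⁻¹ * h.el t (l * t) * m) = m⁻¹ * (y * h.el t (l * t)) * m := by group
      _ = _ := by rw [h1]; group
  have hDc' : ∀ x ∈ D.map f, x * h.el o c' = h.el o c' * x := by
    rintro _ ⟨y, hy, rfl⟩
    rw [hf, ← hmo c']
    calc m⁻¹ * y * m * (m⁻¹ * h.el o c' * m) = m⁻¹ * (y * h.el o c') * m := by group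
      _ = _ := by rw [hDc y hy]; group
  have hDz' : ∀ x ∈ D.map f, h.z * x * h.z⁻¹ ∈ D.map f := by
    rintro _ ⟨y, hy, rfl⟩
    refine ⟨h.z * y * h.z⁻¹, hDz y hy, ?_⟩
    rw [hf, hf]
    calc m⁻¹ * (h.z * y * h.z⁻¹) * m = (m⁻¹ * h.z * m) * (m⁻¹ * y * m) * (m⁻¹ * h.z * m)⁻¹ := by
          group
      _ = _ := by rw [hmz]
  have h1 := step T hr hr2 hB (hP.map f) hE' hPK' hc' (Subgroup.map_mono hDP) hDV' hDc' hDz'
  have h2 : inv D h.z ≤ inv (D.map f) h.z := by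
    refine inv_le_conj m⁻¹ fun x hx hxz => ⟨⟨x, hx, rfl⟩, ?_⟩
    rw [inv_inv]
    conv_lhs => rw [← hmz]
    calc m⁻¹ * h.z * m * (m⁻¹ * x * m) * (m⁻¹ * h.z * m)⁻¹ = m⁻¹ * (h.z * x * h.z⁻¹) * m := by group
      _ = _ := by rw [hxz]; group
  exact dvd_of_le_pow hr (inv_pow_of hr hr2 (hP.to_le hDP) (zz h) hDz)
    (h2.trans (Nat.le_of_dvd (pow_pos hr.pos _) h1))

theorem exists_l : ∀ c' l1 l2 : F4, (c' = w ∨ c' = u) → (l1 = o ∨ l1 = e) → (l2 = o ∨ l2 = e) →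
    ∃ l : F4, (l = l1 ∨ l = l1 + c') ∧ (l * w = l2 ∨ l * w = l2 + c') := by
  decide

omit [Finite G] in
theorem comm_mul {x s t : G} (h1 : x * s = s * x) (h2 : x * t = t * x) :
    x * (s * t) = s * t * x := Commute.mul_right h1 h2

/-- **Piece B2.** -/
theorem inv_P (T : Tab h) {r : ℕ} (hr : r.Prime) (hr2 : r ≠ 2) (hB : ¬ Bal r h)
    {P : Subgroup G} (hP : IsPGroup r P) (hE : ∀ s ∈ h.E1, ∀ x ∈ P, s * x * s⁻¹ ∈ P)
    (hPK : ¬ r ∣ (P ⊓ KK h.z).relIndex (KK h.z)) :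
    inv P h.z ∣ r ^ (8 * padicValNat r (m1 h)) := by
  classical
  have : Fact r.Prime := ⟨hr⟩
  have hE' : ∀ x c, ∀ y ∈ P, h.el x c * y * (h.el x c)⁻¹ ∈ P :=
    fun x c y hy => hE _ ((mem_E1 h).2 ⟨x, c, rfl⟩) y hy
  have hPo : Odd (Nat.card P) := by
    obtain ⟨n, hn⟩ := IsPGroup.iff_card.1 hP
    rw [hn]
    exact (hr.odd_of_ne_two hr2).pow
  -- the hyperplanes
  have key : ∀ c' l1 l2 : F4, (c' = w ∨ c' = u) → (l1 = o ∨ l1 = e) → (l2 = o ∨ l2 = e) →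
      inv (P ⊓ centralizer {h.el o c'} ⊓ centralizer {h.el e l1} ⊓ centralizer {h.el w l2}) h.z ∣
        r ^ padicValNat r (m1 h) := by
    intro c' l1 l2 hc' hl1 hl2
    obtain ⟨l, hl, hlw⟩ := exists_l c' l1 l2 hc' hl1 hl2
    refine step_l T hr hr2 hB hP hE' hPK hc' l (fun x hx => hx.1.1.1) ?_ ?_ ?_
    · intro x hx
      have h1 := mem_cent.1 hx.1.1.2
      have h2 := mem_cent.1 hx.1.2
      have h3 := mem_cent.1 hx.2
      have h4 : x * h.el e (l * e) = h.el e (l * e) * x := by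
        rw [mul_one_F4]
        rcases hl with h5 | h5
        · rw [h5]; exact h2
        · have h6 := comm_mul h2 h1
          rw [el_mul] at h6
          rw [h5]
          exact h6
      have h5 : x * h.el w (l * w) = h.el w (l * w) * x := by
        rcases hlw with h6 | h6
        · rw [h6]; exact h3
        · have h7 := comm_mul h3 h1
          rw [el_mul] at h7
          rw [h6]
          exact h7
      rw [mem_cV]
      intro t
      cases t
      · rw [mul_o, el_o]; simp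
      · exact h4
      · exact h5
      · have h6 := comm_mul h4 h5
        rw [el_mul, mul_eu] at h6
        exact h6
    · intro x hx
      exact mem_cent.1 hx.1.1.2
    · intro x hx
      have hc : ∀ y d : F4, ∀ x : G, x ∈ centralizer ({h.el y d} : Set G) →
          h.z * x * h.z⁻¹ ∈ centralizer ({h.el y d} : Set G) := by
        intro y d x hx
        have h1 : h.z ∈ centralizer ({h.el y d} : Set G) := mem_cent.2 (el_comm h o e y d)
        exact mul_mem (mul_mem h1 hx) (inv_mem h1)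
      exact ⟨⟨⟨hE' o e x hx.1.1.1, hc _ _ x hx.1.1.2⟩, hc _ _ x hx.1.2⟩, hc _ _ x hx.2⟩
  -- splitting
  have hInf : ∀ (D : Subgroup G), (∀ x c, ∀ y ∈ D, h.el x c * y * (h.el x c)⁻¹ ∈ D) →
      ∀ s d : F4, ∀ x c, ∀ y ∈ D ⊓ centralizer {h.el s d},
        h.el x c * y * (h.el x c)⁻¹ ∈ D ⊓ centralizer {h.el s d} := by
    intro D hD s d x c y hy
    have h1 : h.el x c ∈ centralizer ({h.el s d} : Set G) := mem_cent.2 (el_comm h x c s d)
    exact ⟨hD x c y hy.1, Subgroup.mul_mem _ (Subgroup.mul_mem _ h1 hy.2)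
      (Subgroup.inv_mem _ h1)⟩
  have hspl : ∀ (D : Subgroup G), D ≤ P → (∀ x c, ∀ y ∈ D, h.el x c * y * (h.el x c)⁻¹ ∈ D) →
      ∀ s d d' : F4, e + d = d' → inv D h.z = inv (D ⊓ centralizer {h.el s d}) h.z *
        inv (D ⊓ centralizer {h.el s d'}) h.z := by
    intro D hDP hD s d d' hd
    have h1 := inv_split (D := D) (s := h.z) (t := h.el s d)
      (Odd.of_dvd_nat hPo (card_dvd_of_le hDP)) (zz h) (el_sq h s d) (el_comm h o e s d)
      (hD o e) (hD s d)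
    have h2 : h.z * h.el s d = h.el s d' := by
      rw [← el_e, el_mul, hd, o_add]
    rw [h2] at h1
    exact h1
  have hw : e + w = u := rfl
  have hoe : e + o = e := rfl
  have e1 := hspl P le_rfl hE' o w u hw
  have e2 : ∀ c', inv (P ⊓ centralizer {h.el o c'}) h.z = _ := fun c' =>
    hspl (P ⊓ centralizer {h.el o c'}) inf_le_left (hInf P hE' o c') e o e hoe
  have e3 : ∀ c' l1, inv (P ⊓ centralizer {h.el o c'} ⊓ centralizer {h.el e l1}) h.z = _ :=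
    fun c' l1 => hspl (P ⊓ centralizer {h.el o c'} ⊓ centralizer {h.el e l1})
      (inf_le_left.trans inf_le_left) (hInf _ (hInf P hE' o c') e l1) w o e hoe
  rw [e1, e2, e2, e3, e3, e3, e3]
  have k1 := key w o o (Or.inl rfl) (Or.inl rfl) (Or.inl rfl)
  have k2 := key w o e (Or.inl rfl) (Or.inl rfl) (Or.inr rfl)
  have k3 := key w e o (Or.inl rfl) (Or.inr rfl) (Or.inl rfl)
  have k4 := key w e e (Or.inl rfl) (Or.inr rfl) (Or.inr rfl)
  have k5 := key u o o (Or.inr rfl) (Or.inl rfl) (Or.inl rfl)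
  have k6 := key u o e (Or.inr rfl) (Or.inl rfl) (Or.inr rfl)
  have k7 := key u e o (Or.inr rfl) (Or.inr rfl) (Or.inl rfl)
  have k8 := key u e e (Or.inr rfl) (Or.inr rfl) (Or.inr rfl)
  have hp : r ^ (8 * padicValNat r (m1 h)) =
      ((r ^ padicValNat r (m1 h) * r ^ padicValNat r (m1 h)) *
        (r ^ padicValNat r (m1 h) * r ^ padicValNat r (m1 h))) *
      ((r ^ padicValNat r (m1 h) * r ^ padicValNat r (m1 h)) *
        (r ^ padicValNat r (m1 h) * r ^ padicValNat r (m1 h))) := by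
    simp only [← pow_add]
    congr 1
    ring
  rw [hp]
  exact Nat.mul_dvd_mul (Nat.mul_dvd_mul (Nat.mul_dvd_mul k1 k2) (Nat.mul_dvd_mul k3 k4))
    (Nat.mul_dvd_mul (Nat.mul_dvd_mul k5 k6) (Nat.mul_dvd_mul k7 k8))

end Cfsg.Agent.J2Sylow.Weights2
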