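import Cfsg.Agent.J2Sylow.Inv
import Cfsg.Agent.J2Sylow.Functor
import Cfsg.Agent.J2Sylow.Basics

/-!
# The elements of `O(C(z))` inverted by `v`, the elements of `O(C(a))` inverted by `z`

(S1776, step (4), piece B2)

* `Tab.inv_m2`, `Tab.inv_m1`: the conjugates of the counts `m2 h`, `m1 h`.
* `inv_K : inv (KK h.z) h.v = m2 h ^ 4`, `inv_J : inv (KK h.a) h.z = m1 h ^ 2 * m2 h ^ 2`.
-/

set_option autoImplicit false

namespace Cfsg.Agent.J2Sylow

open Model Model.F4 Subgroup

section general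

variable {G : Type*} [Group G]

theorem KK_le (x : G) : KK x ≤ centralizer ({x} : Set G) := Functor.K_le x

theorem KK_comm {x y : G} (hy : y ∈ KK x) : y * x = x * y :=
  mem_centralizer_singleton_iff.1 (KK_le x hy)

theorem KK_odd [Finite G] (x : G) : Odd (Nat.card (KK x)) := Functor.K_odd x

theorem KK_map [Finite G] (g x : G) {k : G} (hk : k ∈ KK x) : g * k * g⁻¹ ∈ KK (g * x * g⁻¹) :=
  Functor.K_map g x hk

theorem KK_map_iff [Finite G] {g x x' : G} (hx : g * x * g⁻¹ = x') {k : G} :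
    k ∈ KK x ↔ g * k * g⁻¹ ∈ KK x' := by
  constructor
  · intro h
    rw [← hx]; exact KK_map g x h
  · intro h
    have h1 := KK_map g⁻¹ x' h
    have e1 : g⁻¹ * (g * k * g⁻¹) * (g⁻¹)⁻¹ = k := by group
    have e2 : g⁻¹ * x' * (g⁻¹)⁻¹ = x := by rw [← hx]; group
    rwa [e1, e2] at h1

theorem odd_card_of_le [Finite G] {D D' : Subgroup G} (hle : D ≤ D') (h : Odd (Nat.card D')) :
    Odd (Nat.card D) := by
  obtain ⟨c, hc⟩ := Subgroup.card_dvd_of_le hle
  rw [hc] at h
  exact (Nat.odd_mul.1 h).1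

theorem mem_of_sq_mem {D : Subgroup G} {x : G} (hx : Odd (orderOf x)) (h : x * x ∈ D) : x ∈ D := by
  obtain ⟨m, hm⟩ := hx
  have h1 : x ^ (2 * m + 1 + 1) = x := by rw [pow_succ, ← hm, pow_orderOf_eq_one, one_mul]
  rw [← h1]
  have h2 : x ^ (2 * m + 1 + 1) = (x * x) ^ (m + 1) := by
    rw [← pow_two, ← pow_mul]
    congr 1
  rw [h2]
  exact D.pow_mem h _

theorem mem_of_pow_two_pow_mem {D : Subgroup G} {x : G} (hx : Odd (orderOf x)) {n : ℕ}
    (h : x ^ (2 ^ n) ∈ D) : x ∈ D := by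
  induction n with
  | zero => simpa using h
  | succ n ih =>
    apply ih
    apply mem_of_sq_mem
    · obtain ⟨c, hc⟩ := orderOf_pow_dvd (x := x) (2 ^ n)
      rw [hc] at hx
      exact (Nat.odd_mul.1 hx).1
    · rw [← pow_two, ← pow_mul]
      exact h

theorem inv_congr {D D' : Subgroup G} {s s' : G}
    (h : ∀ x, (x ∈ D ∧ s * x * s⁻¹ = x⁻¹) ↔ (x ∈ D' ∧ s' * x * s'⁻¹ = x⁻¹)) : inv D s = inv D' s' :=
  Nat.card_congr (Equiv.subtypeEquivRight h)

theorem inv_conj {D D' : Subgroup G} {s s' : G} (g : G) (hD : ∀ x, x ∈ D ↔ g * x * g⁻¹ ∈ D')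
    (hs : g * s * g⁻¹ = s') : inv D s = inv D' s' := by
  refine Nat.card_congr ((MulAut.conj g).toEquiv.subtypeEquiv ?_)
  intro x
  change _ ↔ (g * x * g⁻¹ ∈ D' ∧ s' * (g * x * g⁻¹) * s'⁻¹ = (g * x * g⁻¹)⁻¹)
  rw [← hD x, ← hs]
  have e : g * s * g⁻¹ * (g * x * g⁻¹) * (g * s * g⁻¹)⁻¹ = g * (s * x * s⁻¹) * g⁻¹ := by group
  rw [e]
  constructor
  · rintro ⟨h1, h2⟩
    exact ⟨h1, by rw [h2]; group⟩
  · rintro ⟨h1, h2⟩
    refine ⟨h1, ?_⟩
    calc s * x * s⁻¹ = g⁻¹ * (g * (s * x * s⁻¹) * g⁻¹) * g := by group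
      _ = g⁻¹ * (g * x * g⁻¹)⁻¹ * g := by rw [h2]
      _ = _ := by group

end general

namespace Ar

theorem mul_o : ∀ k : F4, k * o = o := by decide
theorem mul_e : ∀ k : F4, k * e = k := by decide
theorem e_mul : ∀ k : F4, e * k = k := by decide
theorem o_mul : ∀ k : F4, o * k = o := by decide
theorem add_o : ∀ k : F4, k + o = k := by decide
theorem o_add : ∀ k : F4, o + k = k := by decide
theorem add_ee : ∀ k : F4, k + e + e = k := by decide
theorem u_mul : ∀ k : F4, u * k = w * (w * k) := by decide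
theorem add_w : ∀ k : F4, k + k * w = k * u := by decide
theorem quot : ∀ k k' : F4, k ≠ o → k' ≠ o → k ≠ k' → ∃ y : F4, (y = w ∨ y = u) ∧ k' = k * y := by decide

end Ar

namespace Setup

variable {G : Type*} [Group G] (h : Setup G)

theorem el_mul (x c x' c' : F4) : h.el x c * h.el x' c' = h.el (x + x') (c + c') := by
  unfold el
  rw [← map_mul]
  congr 1
  revert x c x' c'
  decide +kernel

theorem el_one : h.el o o = 1 := h.φ.map_one

theorem el_sq (x c : F4) : h.el x c * h.el x c = 1 := by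
  rw [el_mul, add_self, add_self]; exact h.el_one

theorem el_inv (x c : F4) : (h.el x c)⁻¹ = h.el x c := inv_eq_of_mul_eq_one_left (h.el_sq x c)

theorem el_comm (x c x' c' : F4) : h.el x c * h.el x' c' = h.el x' c' * h.el x c := by
  rw [el_mul, el_mul, add_comm x, add_comm c]

theorem z_eq : h.z = h.el o e := rfl
theorem v_eq : h.v = h.el o w := rfl
theorem a_eq : h.a = h.el e o := rfl

theorem conj_r (l x c : F4) :
    h.φ ⟨o, l, o, false⟩ * h.el x c * (h.φ ⟨o, l, o, false⟩)⁻¹ = h.el x (c + l * x) := by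
  unfold el
  rw [← map_inv, ← map_mul, ← map_mul]
  congr 1
  revert l x c
  decide +kernel

theorem mem_cent_el {x c : F4} {g : G} : g ∈ centralizer ({h.el x c} : Set G) ↔ g * h.el x c = h.el x c * g :=
  mem_centralizer_singleton_iff

theorem mem_cent_V {l : F4} {g : G} :
    g ∈ centralizer (h.V l) ↔ ∀ t : F4, g * h.el t (l * t) = h.el t (l * t) * g := by
  rw [mem_centralizer_iff]
  constructor
  · intro h1 t
    exact (h1 _ ⟨t, rfl⟩).symm
  · rintro h1 _ ⟨t, rfl⟩
    exact (h1 t).symm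

/-- commuting with `el` is additive -/
theorem comm_el_add {g : G} {x c x' c' : F4} (h1 : g * h.el x c = h.el x c * g)
    (h2 : g * h.el x' c' = h.el x' c' * g) :
    g * h.el (x + x') (c + c') = h.el (x + x') (c + c') * g := by
  rw [← el_mul, ← mul_assoc, h1, mul_assoc, h2, mul_assoc]

theorem comm_one {g : G} : g * h.el o o = h.el o o * g := by
  rw [el_one, mul_one, one_mul]

/-- commuting with `el` after conjugation -/
theorem comm_el_conj {g c : G} {x y x' y' : F4} (hc : c * h.el x y * c⁻¹ = h.el x' y') :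
    g * h.el x y = h.el x y * g ↔ (c * g * c⁻¹) * h.el x' y' = h.el x' y' * (c * g * c⁻¹) := by
  rw [← hc]
  have e1 : (c * g * c⁻¹) * (c * h.el x y * c⁻¹) = c * (g * h.el x y) * c⁻¹ := by group
  have e2 : (c * h.el x y * c⁻¹) * (c * g * c⁻¹) = c * (h.el x y * g) * c⁻¹ := by group
  rw [e1, e2]
  constructor
  · intro h1; rw [h1]
  · intro h1; exact mul_left_cancel (mul_right_cancel h1)

end Setup

namespace Tab

variable {G : Type*} [Group G] [Finite G] {h : Setup G}

/-- elements acting as scalars on `U` and trivially on `V_0` -/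
theorem exists_c (T : Tab h) {k : F4} (hk : k ≠ o) : ∃ c : G,
    ∀ x y : F4, c * h.el x y * c⁻¹ = h.el x (k * y) := by
  obtain ⟨c, hc1, hc2⟩ := T.c3
  have hc : ∀ x y : F4, c * h.el x y * c⁻¹ = h.el x (w * y) := by
    intro x y
    have e1 : h.el x y = h.el x o * h.el o y := by
      rw [h.el_mul, Ar.add_o, Ar.o_add]
    have e2 : h.el x (w * y) = h.el x o * h.el o (w * y) := by
      rw [h.el_mul, Ar.add_o, Ar.o_add]
    rw [e1, e2]
    calc c * (h.el x o * h.el o y) * c⁻¹ = (c * h.el x o * c⁻¹) * (c * h.el o y * c⁻¹) := by group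
      _ = _ := by rw [hc1, hc2]
  cases k with
  | o => exact absurd rfl hk
  | e => exact ⟨1, fun x y => by rw [Ar.e_mul]; group⟩
  | w => exact ⟨c, hc⟩
  | u => exact ⟨c * c, fun x y => by
      rw [Ar.u_mul, ← hc, ← hc]; group⟩

/-- the conjugates of the count `m2 h` -/
theorem inv_m2 (T : Tab h) {k k' : F4} (l : F4) (hk : k ≠ o) (hk' : k' ≠ o) (hkk : k ≠ k') :
    inv (KK (h.el o k) ⊓ centralizer (h.V l)) (h.el o k') = m2 h := by
  -- `V_o → V_l`
  have step1 : inv (KK (h.el o k) ⊓ centralizer (h.V o)) (h.el o k') =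
      inv (KK (h.el o k) ⊓ centralizer (h.V l)) (h.el o k') := by
    have hU : ∀ c : F4, h.φ ⟨o, l, o, false⟩ * h.el o c * (h.φ ⟨o, l, o, false⟩)⁻¹ = h.el o c := by
      intro c
      rw [h.conj_r, Ar.mul_o, Ar.add_o]
    refine inv_conj (h.φ ⟨o, l, o, false⟩) ?_ (hU k')
    intro x
    rw [mem_inf, mem_inf, ← KK_map_iff (hU k), h.mem_cent_V, h.mem_cent_V]
    refine and_congr_right fun _ => forall_congr' fun t => ?_
    apply h.comm_el_conj
    rw [h.conj_r, Ar.o_mul, Ar.o_add]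
  rw [← step1]
  -- scalar
  obtain ⟨y, hy, hyk⟩ : ∃ y : F4, (y = w ∨ y = u) ∧ k' = k * y := Ar.quot k k' hk hk' hkk
  obtain ⟨c, hc⟩ := T.exists_c hk
  have step2 : inv (KK h.z ⊓ centralizer (h.V o)) (h.el o y) =
      inv (KK (h.el o k) ⊓ centralizer (h.V o)) (h.el o k') := by
    have hz : c * h.z * c⁻¹ = h.el o k := by
      rw [h.z_eq, hc, Ar.mul_e]
    refine inv_conj c ?_ (by rw [hc, hyk])
    intro x
    rw [mem_inf, mem_inf, ← KK_map_iff hz, h.mem_cent_V, h.mem_cent_V]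
    refine and_congr_right fun _ => forall_congr' fun t => ?_
    apply h.comm_el_conj
    rw [hc, Ar.o_mul, Ar.mul_o]
  rw [← step2, m2]
  rcases hy with rfl | rfl
  · rfl
  · apply inv_congr
    intro x
    refine and_congr_right fun hx => ?_
    have hxz := KK_comm hx.1
    have e1 : h.el o u = h.v * h.z := by
      rw [h.v_eq, h.z_eq, h.el_mul]; rfl
    rw [e1]
    have e2 : h.v * h.z * x * (h.v * h.z)⁻¹ = h.v * x * h.v⁻¹ := by
      calc h.v * h.z * x * (h.v * h.z)⁻¹ = h.v * (h.z * x) * h.z⁻¹ * h.v⁻¹ := by group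
        _ = h.v * (x * h.z) * h.z⁻¹ * h.v⁻¹ := by rw [hxz]
        _ = _ := by group
    rw [e2]

/-- the conjugates of the count `m1 h` -/
theorem inv_m1 (T : Tab h) {k k' : F4} (hk : k ≠ o) (hk' : k' ≠ o) (hkk : k ≠ k') :
    inv (KK h.a ⊓ centralizer (h.V o) ⊓ centralizer {h.el o k}) (h.el o k') = m1 h := by
  obtain ⟨y, hy, hyk⟩ : ∃ y : F4, (y = w ∨ y = u) ∧ k' = k * y := Ar.quot k k' hk hk' hkk
  obtain ⟨c, hc⟩ := T.exists_c hk
  have step2 : inv (KK h.a ⊓ centralizer (h.V o) ⊓ centralizer {h.z}) (h.el o y) =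
      inv (KK h.a ⊓ centralizer (h.V o) ⊓ centralizer {h.el o k}) (h.el o k') := by
    have ha : c * h.a * c⁻¹ = h.a := by
      rw [h.a_eq, hc, Ar.mul_o]
    have hz : c * h.el o e * c⁻¹ = h.el o k := by
      rw [hc, Ar.mul_e]
    refine inv_conj c ?_ (by rw [hc, hyk])
    intro x
    rw [mem_inf, mem_inf, mem_inf, mem_inf, ← KK_map_iff ha, h.mem_cent_V, h.mem_cent_V, h.mem_cent_el,
      h.z_eq, h.mem_cent_el, h.comm_el_conj hz]
    refine and_congr_left fun _ => and_congr_right fun _ => forall_congr' fun t => ?_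
    apply h.comm_el_conj
    rw [hc, Ar.o_mul, Ar.mul_o]
  rw [← step2, m1]
  rcases hy with rfl | rfl
  · rfl
  · apply inv_congr
    intro x
    refine and_congr_right fun hx => ?_
    have hxz : x * h.z = h.z * x := mem_centralizer_singleton_iff.1 hx.2
    have e1 : h.el o u = h.v * h.z := by
      rw [h.v_eq, h.z_eq, h.el_mul]; rfl
    rw [e1]
    have e2 : h.v * h.z * x * (h.v * h.z)⁻¹ = h.v * x * h.v⁻¹ := by
      calc h.v * h.z * x * (h.v * h.z)⁻¹ = h.v * (h.z * x) * h.z⁻¹ * h.v⁻¹ := by group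
        _ = h.v * (x * h.z) * h.z⁻¹ * h.v⁻¹ := by rw [hxz]
        _ = _ := by group
    rw [e2]

/-- `two` for the other involutions of `U` -/
theorem two' (T : Tab h) {k : F4} (hk : k ≠ o) {g : G} (hg : g * h.el o k = h.el o k * g)
    (hga : g * h.a * g⁻¹ * (h.a)⁻¹ ∈ KK (h.el o k)) : ∃ n : ℕ, g ^ (2 ^ n) ∈ KK (h.el o k) := by
  obtain ⟨c, hc⟩ := T.exists_c hk
  have hz : c * h.el o e * c⁻¹ = h.el o k := by
    rw [hc, Ar.mul_e]
  have ha : c * h.a * c⁻¹ = h.a := by
    rw [h.a_eq, hc, Ar.mul_o]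
  have hz' : c⁻¹ * h.el o k * (c⁻¹)⁻¹ = h.z := by
    rw [← hz, h.z_eq]; group
  have ha' : c⁻¹ * h.a * (c⁻¹)⁻¹ = h.a := by
    nth_rw 1 [← ha]; group
  obtain ⟨n, hn⟩ := T.two (c⁻¹ * g * c) (by
    have h1 := (h.comm_el_conj (g := g) (c := c⁻¹) (x := o) (y := k) (x' := o) (y' := e) hz').1 hg
    rw [inv_inv] at h1
    exact h1) (by
    have h1 := (KK_map_iff hz').1 hga
    have e1 : c⁻¹ * (g * h.a * g⁻¹ * (h.a)⁻¹) * (c⁻¹)⁻¹ =
        (c⁻¹ * g * c) * (c⁻¹ * h.a * (c⁻¹)⁻¹) * (c⁻¹ * g * c)⁻¹ * (c⁻¹ * h.a * (c⁻¹)⁻¹)⁻¹ := by group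
    rw [e1, ha'] at h1
    exact h1)
  refine ⟨n, ?_⟩
  rw [KK_map_iff hz']
  have e2 : c⁻¹ * g ^ (2 ^ n) * (c⁻¹)⁻¹ = (c⁻¹ * g * c) ^ (2 ^ n) := by
    have := conj_pow (i := 2 ^ n) (a := c⁻¹) (b := g)
    rw [inv_inv] at this
    rw [this, inv_inv]
  rw [e2]
  exact hn

end Tab

/-- splitting for `E1`-invariant subgroups -/
theorem inv_split_el {G : Type*} [Group G] (h : Setup G) {D : Subgroup G} (hD : Odd (Nat.card D))
    (hE : ∀ x c : F4, ∀ y ∈ D, h.el x c * y * (h.el x c)⁻¹ ∈ D) (x c x' c' : F4) :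
    inv D (h.el x c) = inv (D ⊓ centralizer {h.el x' c'}) (h.el x c) *
      inv (D ⊓ centralizer {h.el (x + x') (c + c')}) (h.el x c) := by
  rw [← h.el_mul]
  exact inv_split hD (h.el_sq _ _) (h.el_sq _ _) (h.el_comm _ _ _ _) (hE x c) (hE x' c')

theorem inf_cent_inv {G : Type*} [Group G] (h : Setup G) {D : Subgroup G}
    (hE : ∀ x c : F4, ∀ y ∈ D, h.el x c * y * (h.el x c)⁻¹ ∈ D) (x' c' : F4) :
    ∀ x c : F4, ∀ y ∈ D ⊓ centralizer {h.el x' c'}, h.el x c * y * (h.el x c)⁻¹ ∈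
      D ⊓ centralizer {h.el x' c'} := by
  intro x c y hy
  refine ⟨hE x c y hy.1, h.mem_cent_el.2 ?_⟩
  have h1 := h.mem_cent_el.1 hy.2
  have h2 := h.el_comm x c x' c'
  have h3 : h.el x c * h.el x' c' * (h.el x c)⁻¹ = h.el x' c' := by rw [h2]; group
  have h4 := (h.comm_el_conj (g := y) (c := h.el x c) h3).1 h1
  exact h4

section

variable {G : Type*} [Group G] [Finite G] {h : Setup G}

theorem KK_el_inv (h : Setup G) (x' c' : F4) : ∀ x c : F4, ∀ y ∈ KK (h.el x' c'),
    h.el x c * y * (h.el x c)⁻¹ ∈ KK (h.el x' c') := by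
  intro x c y hy
  have h3 : h.el x c * h.el x' c' * (h.el x c)⁻¹ = h.el x' c' := by rw [h.el_comm]; group
  exact (KK_map_iff h3).1 hy

/-- the factors of `inv_K` -/
theorem inv_K_factor (T : Tab h) (l c1 c2 : F4) (h1 : c1 = l ∨ c1 = l + e) (h2 : c2 = l * w ∨ c2 = l * w + e) :
    inv (KK h.z ⊓ centralizer {h.el e c1} ⊓ centralizer {h.el w c2}) h.v = m2 h := by
  have e0 : (o : F4) + o = o := rfl
  rw [← T.inv_m2 l (k := e) (k' := w) (by decide) (by decide) (by decide)]
  apply inv_congr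
  intro x
  refine and_congr_left fun _ => ?_
  rw [mem_inf, mem_inf, mem_inf, h.mem_cent_el, h.mem_cent_el, h.mem_cent_V, and_assoc]
  refine and_congr_right fun hx => ?_
  have hxz : x * h.el o e = h.el o e * x := KK_comm hx
  constructor
  · rintro ⟨a1, a2⟩
    have b1 : x * h.el e l = h.el e l * x := by
      rcases h1 with rfl | rfl
      · exact a1
      · have := h.comm_el_add a1 hxz
        have f1 : e + o = e := rfl
        rwa [f1, Ar.add_ee] at this
    have b2 : x * h.el w (l * w) = h.el w (l * w) * x := by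
      rcases h2 with rfl | rfl
      · exact a2
      · have := h.comm_el_add a2 hxz
        have f1 : w + o = w := rfl
        rwa [f1, Ar.add_ee] at this
    intro t
    cases t with
    | o =>
      rw [Ar.mul_o]; exact h.comm_one
    | e =>
      rw [Ar.mul_e]; exact b1
    | w => exact b2
    | u =>
      have := h.comm_el_add b1 b2
      have f1 : e + w = u := rfl
      rwa [f1, Ar.add_w] at this
  · intro a
    have b1 := a e
    have b2 := a w
    rw [Ar.mul_e] at b1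
    constructor
    · rcases h1 with rfl | rfl
      · exact b1
      · exact h.comm_el_add b1 hxz
    · rcases h2 with rfl | rfl
      · exact b2
      · exact h.comm_el_add b2 hxz

theorem inv_K (T : Tab h) : inv (KK h.z) h.v = m2 h ^ 4 := by
  have hE := KK_el_inv h o e
  have hodd : Odd (Nat.card (KK h.z)) := KK_odd _
  have s1 : inv (KK h.z) h.v = inv (KK h.z ⊓ centralizer {h.el e o}) h.v *
      inv (KK h.z ⊓ centralizer {h.el e w}) h.v := inv_split_el h hodd hE o w e o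
  have s2 : inv (KK h.z ⊓ centralizer {h.el e o}) h.v =
      inv (KK h.z ⊓ centralizer {h.el e o} ⊓ centralizer {h.el w o}) h.v *
      inv (KK h.z ⊓ centralizer {h.el e o} ⊓ centralizer {h.el w w}) h.v :=
    inv_split_el h (odd_card_of_le inf_le_left hodd) (inf_cent_inv h hE e o) o w w o
  have s3 : inv (KK h.z ⊓ centralizer {h.el e w}) h.v =
      inv (KK h.z ⊓ centralizer {h.el e w} ⊓ centralizer {h.el w o}) h.v *
      inv (KK h.z ⊓ centralizer {h.el e w} ⊓ centralizer {h.el w w}) h.v :=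
    inv_split_el h (odd_card_of_le inf_le_left hodd) (inf_cent_inv h hE e w) o w w o
  rw [s1, s2, s3, inv_K_factor T o o o (by decide) (by decide),
    inv_K_factor T e o w (by decide) (by decide), inv_K_factor T u w o (by decide) (by decide),
    inv_K_factor T w w w (by decide) (by decide)]
  ring

/-- the second factors of `inv_J` -/
theorem inv_J_factor (T : Tab h) {k : F4} (hk : k = w ∨ k = u) :
    inv (KK h.a ⊓ centralizer {h.el o k} ⊓ centralizer {h.el w e}) h.z = m2 h := by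
  have hk0 : k ≠ o := by rcases hk with rfl | rfl <;> decide
  have hke : k ≠ e := by rcases hk with rfl | rfl <;> decide
  rw [← T.inv_m2 k hk0 (k' := e) (by decide) hke]
  apply inv_congr
  intro x
  have key : x * h.el o k = h.el o k * x → ((x * h.el e o = h.el e o * x ∧ x * h.el w e = h.el w e * x) ↔
      ∀ t : F4, x * h.el t (k * t) = h.el t (k * t) * x) := by
    intro hx
    constructor
    · rintro ⟨a1, a2⟩
      have b1 : x * h.el e k = h.el e k * x := h.comm_el_add a1 hx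
      have b2 : x * h.el w (k * w) = h.el w (k * w) * x := by
        rcases hk with rfl | rfl
        · exact h.comm_el_add a2 hx
        · exact a2
      intro t
      cases t with
      | o =>
        rw [Ar.mul_o]; exact h.comm_one
      | e =>
        rw [Ar.mul_e]; exact b1
      | w => exact b2
      | u =>
        have := h.comm_el_add b1 b2
        have f1 : e + w = u := rfl
        rwa [f1, Ar.add_w] at this
    · intro a
      have b1 := a e
      have b2 := a w
      constructor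
      · rcases hk with rfl | rfl
        · exact h.comm_el_add b1 hx
        · exact h.comm_el_add b1 hx
      · rcases hk with rfl | rfl
        · exact h.comm_el_add b2 hx
        · exact b2
  rw [mem_inf, mem_inf, mem_inf, h.mem_cent_el, h.mem_cent_el, h.mem_cent_V]
  constructor
  · rintro ⟨⟨⟨c1, c2⟩, c3⟩, c4⟩
    have hxa : x * h.el e o = h.el e o * x := KK_comm c1
    refine ⟨⟨?_, (key c2).1 ⟨hxa, c3⟩⟩, c4⟩
    obtain ⟨n, hn⟩ := T.two' hk0 c2 (by
      have : x * h.a * x⁻¹ * (h.a)⁻¹ = 1 := by rw [h.a_eq, hxa]; group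
      rw [this]; exact one_mem _)
    exact mem_of_pow_two_pow_mem (Functor.odd_orderOf_of_mem (KK_odd _) c1) hn
  · rintro ⟨⟨c1, c2⟩, c4⟩
    have hxk : x * h.el o k = h.el o k * x := KK_comm c1
    obtain ⟨hxa, hxb⟩ := (key hxk).2 c2
    refine ⟨⟨⟨?_, hxk⟩, hxb⟩, c4⟩
    have h1 := T.cen x hxa w
    have e1 : h.el w o = h.el w e * h.z := by rw [h.z_eq, h.el_mul]; rfl
    have c4' : h.z * x * (h.z)⁻¹ = x⁻¹ := c4
    have e2 : x * h.el w o * x⁻¹ * (h.el w o)⁻¹ = x * x := by
      calc x * h.el w o * x⁻¹ * (h.el w o)⁻¹ = (x * h.el w e) * (h.z * x⁻¹ * (h.z)⁻¹) * (h.el w e)⁻¹ := by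
            rw [e1]; group
        _ = (h.el w e * x) * (h.z * x * (h.z)⁻¹)⁻¹ * (h.el w e)⁻¹ := by rw [hxb]; group
        _ = (h.el w e * x) * x * (h.el w e)⁻¹ := by rw [c4', inv_inv]
        _ = (x * h.el w e) * x * (h.el w e)⁻¹ := by rw [hxb]
        _ = x * (h.el w e * x) * (h.el w e)⁻¹ := by group
        _ = x * (x * h.el w e) * (h.el w e)⁻¹ := by rw [hxb]
        _ = x * x := by group
    rw [e2] at h1
    exact mem_of_sq_mem (Functor.odd_orderOf_of_mem (KK_odd _) c1) h1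

/-- the first factors of `inv_J` -/
theorem inv_J_factor' (T : Tab h) {k : F4} (hk : k ≠ o) (hke : k ≠ e) :
    inv (KK h.a ⊓ centralizer {h.el o k} ⊓ centralizer {h.el w o}) h.z = m1 h := by
  rw [← T.inv_m1 hk (k' := e) (by decide) hke]
  apply inv_congr
  intro x
  refine and_congr_left fun _ => ?_
  rw [mem_inf, mem_inf, mem_inf, mem_inf, h.mem_cent_el, h.mem_cent_el, h.mem_cent_V]
  constructor
  · rintro ⟨⟨c1, c2⟩, c3⟩
    have hxa : x * h.el e o = h.el e o * x := KK_comm c1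
    refine ⟨⟨c1, ?_⟩, c2⟩
    intro t
    rw [Ar.o_mul]
    cases t with
    | o => exact h.comm_one
    | e => exact hxa
    | w => exact c3
    | u => exact h.comm_el_add hxa c3
  · rintro ⟨⟨c1, c2⟩, c3⟩
    exact ⟨⟨c1, c3⟩, c2 w⟩

theorem inv_J (T : Tab h) : inv (KK h.a) h.z = m1 h ^ 2 * m2 h ^ 2 := by
  have hE := KK_el_inv h e o
  have hodd : Odd (Nat.card (KK h.a)) := KK_odd _
  have s1 : inv (KK h.a) h.z = inv (KK h.a ⊓ centralizer {h.el o w}) h.z *
      inv (KK h.a ⊓ centralizer {h.el o u}) h.z := inv_split_el h hodd hE o e o w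
  have s2 : inv (KK h.a ⊓ centralizer {h.el o w}) h.z =
      inv (KK h.a ⊓ centralizer {h.el o w} ⊓ centralizer {h.el w o}) h.z *
      inv (KK h.a ⊓ centralizer {h.el o w} ⊓ centralizer {h.el w e}) h.z :=
    inv_split_el h (odd_card_of_le inf_le_left hodd) (inf_cent_inv h hE o w) o e w o
  have s3 : inv (KK h.a ⊓ centralizer {h.el o u}) h.z =
      inv (KK h.a ⊓ centralizer {h.el o u} ⊓ centralizer {h.el w o}) h.z *
      inv (KK h.a ⊓ centralizer {h.el o u} ⊓ centralizer {h.el w e}) h.z :=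
    inv_split_el h (odd_card_of_le inf_le_left hodd) (inf_cent_inv h hE o u) o e w o
  rw [s1, s2, s3, inv_J_factor' T (k := w) (by decide) (by decide), inv_J_factor T (Or.inl rfl),
    inv_J_factor' T (k := u) (by decide) (by decide), inv_J_factor T (Or.inr rfl)]
  ring

end

end Cfsg.Agent.J2Sylow
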