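import Mathlib
import Cfsg.Agent.S0215
import Cfsg.Agent.SignalizersComponents.CoprimeBasic
import Cfsg.Agent.J2Sylow.Fusion
import Cfsg.Agent.J2Sylow.CoreTools
import Cfsg.Agent.J2Sylow.WeightsKJ
import Cfsg.Agent.J2Sylow.Weights2

set_option autoImplicit false

/-!
# Good pairs from covering subgroups (S1776, step (4), piece D)

If `H` contains the Sylow 2-subgroup, covers `C(z)/O(C(z))` and contains a Sylow `r`-subgroup of
`O(C(z))`, and `Bal r` fails for `G` but holds for `H` (whenever `H` has the full fusion) then `z`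
is isolated in `H`, and the `Z*` theorem gives a good pair `(H, N)`.
-/

namespace Cfsg.Agent.J2Sylow.LemmaD

open Model Model.F4 Subgroup Cfsg.Agent.J2Sylow InvSylow
open Cfsg.Agent.StandardComponent.CentCore
open Cfsg.Agent.J2Sylow.Weights2 (vv zz mem_cVo mem_of_inverted inv_le inv_le_conj mem_E1 conj_cVo val_lt_of_not_bal
  D2_conj D2_odd D1_odd D1_conj el_mem_cVo)

variable {G : Type*} [Group G] [Finite G]

/-- the setup of a subgroup containing `S` -/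
noncomputable def setupOf (h : Setup G) {H : Subgroup G} (hS : h.S ≤ H) : Setup H where
  φ := h.φ.codRestrict H (fun t => hS ⟨t, rfl⟩)
  inj := fun x y hxy => h.inj (congrArg (fun t : H => (t : G)) hxy)
  odd_index := by
    have h1 := h.relIndex_odd hS
    have h2 : (h.φ.codRestrict H (fun t => hS ⟨t, rfl⟩)).range = h.S.subgroupOf H := by
      ext x
      rw [mem_subgroupOf, MonoidHom.mem_range, Setup.mem_S]
      constructor
      · rintro ⟨t, rfl⟩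
        exact ⟨t, rfl⟩
      · rintro ⟨t, ht⟩
        exact ⟨t, Subtype.ext ht⟩
    rw [h2]
    exact h1

theorem setupOf_phi (h : Setup G) {H : Subgroup G} (hS : h.S ≤ H) (t : T) :
    (((setupOf h hS).φ t : H) : G) = h.φ t := rfl

/-- correcting an element of `C(z)` normalizing a 2-group `Q` to an element of `H` -/
theorem cover_fix {z : G} {H Q : Subgroup G} (hQH : Q ≤ H) (hQ : IsPGroup 2 Q)
    (hQz : ∀ x ∈ Q, x * z = z * x)
    (cover : ∀ g, g * z = z * g → ∃ k ∈ KK z, k * g ∈ H) {g : G} (hg : g * z = z * g)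
    (hgQ : ∀ x ∈ Q, g * x * g⁻¹ ∈ Q) :
    ∃ k ∈ KK z, k * g ∈ H ∧ ∀ x ∈ Q, k * x = x * k := by
  have : Fact (Nat.Prime 2) := ⟨Nat.prime_two⟩
  obtain ⟨k0, hk0, hk0g⟩ := cover g hg
  have hgN := Functor.mem_normalizer_of_conj' hgQ
  have hinv : ∀ x ∈ Q, g⁻¹ * x * g ∈ Q := by
    intro x hx
    have h1 := (mem_normalizer_iff.mp ((normalizer (Q : Set G)).inv_mem hgN) x).mp hx
    rwa [inv_inv] at h1
  have h1 : ∀ x ∈ Q, k0 * x * k0⁻¹ ∈ H := by
    intro x hx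
    have h2 := H.mul_mem (H.mul_mem hk0g (hQH (hinv x hx))) (H.inv_mem hk0g)
    have h3 : k0 * g * (g⁻¹ * x * g) * (k0 * g)⁻¹ = k0 * x * k0⁻¹ := by group
    rwa [h3] at h2
  have hodd : ¬ 2 ∣ Nat.card ↥(KK z ⊓ H) := by
    have h2 : Odd (Nat.card ↥(KK z ⊓ H)) := Odd.of_dvd_nat (core_odd z) (card_dvd_of_le inf_le_left)
    rwa [← Nat.not_even_iff_odd, even_iff_two_dvd] at h2
  obtain ⟨d, hd, hdQ⟩ := SignalizersComponents.CoprimeBasic.exists_fixed_in_coset Q hQ (KK z ⊓ H)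
    hodd (fun a ha d hd => ⟨core_conj_mem (hQz a ha) hd.1,
      H.mul_mem (H.mul_mem (hQH ha) hd.2) (H.inv_mem (hQH ha))⟩) k0⁻¹ (by
      intro a ha
      refine ⟨?_, ?_⟩
      · rw [inv_inv]
        exact mul_mem hk0 (core_conj_mem (hQz a ha) (inv_mem hk0))
      · rw [inv_inv]
        have h2 := H.mul_mem (h1 a ha) (H.inv_mem (hQH ha))
        have h3 : k0 * a * k0⁻¹ * a⁻¹ = k0 * (a * k0⁻¹ * a⁻¹) := by group
        rwa [h3] at h2)
  refine ⟨(k0⁻¹ * d)⁻¹, inv_mem (mul_mem (inv_mem hk0) hd.1), ?_, ?_⟩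
  · have h2 := H.mul_mem (H.inv_mem hd.2) hk0g
    have h3 : d⁻¹ * (k0 * g) = (k0⁻¹ * d)⁻¹ * g := by group
    rwa [h3] at h2
  · intro x hx
    have h2 : Commute x (k0⁻¹ * d) := hdQ x hx
    exact h2.inv_right.symm

section

variable (h : Setup G) {H : Subgroup G} (hS : h.S ≤ H)

/-- `f2` for `H` -/
theorem f2_of_cover (F : Fused h)
    (cover : ∀ g, g * h.z = h.z * g → ∃ k ∈ KK h.z, k * g ∈ H) :
    ∃ g : H, g * (setupOf h hS).z = (setupOf h hS).z * g ∧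
      (∀ x ∈ (setupOf h hS).Q, g * x * g⁻¹ ∈ (setupOf h hS).Q) ∧
      g * (setupOf h hS).tau * g⁻¹ = (setupOf h hS).v := by
  obtain ⟨g, hg1, hg2, hg3⟩ := F.f2
  obtain ⟨k, hk, hkg, hkQ⟩ := cover_fix (h.Q_le_S.trans hS) (h.isPGroup_S.to_le h.Q_le_S)
    (fun x hx => (h.z_comm (h.Q_le_S hx)).symm) cover hg1 hg2
  have hkz : k * h.z = h.z * k := core_comm hk
  refine ⟨⟨k * g, hkg⟩, ?_, ?_, ?_⟩
  · apply Subtype.ext
    show k * g * h.z = h.z * (k * g)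
    rw [mul_assoc, hg1, ← mul_assoc, hkz, mul_assoc]
  · rintro _ ⟨t, ht, rfl⟩
    have h1 : g * h.φ t * g⁻¹ ∈ h.Q := hg2 _ ⟨t, ht, rfl⟩
    obtain ⟨t', ht', e⟩ := h1
    refine ⟨t', ht', Subtype.ext ?_⟩
    show h.φ t' = k * g * h.φ t * (k * g)⁻¹
    have h2 := hkQ (h.φ t') ⟨t', ht', rfl⟩
    calc h.φ t' = k * h.φ t' * k⁻¹ := by rw [h2]; group
      _ = k * (g * h.φ t * g⁻¹) * k⁻¹ := by rw [e]
      _ = _ := by group
  · apply Subtype.ext
    show k * g * h.tau * (k * g)⁻¹ = h.v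
    have hv : h.v ∈ h.Q := h.phi_mem_Q.2 (by decide)
    have h2 := hkQ _ hv
    calc k * g * h.tau * (k * g)⁻¹ = k * (g * h.tau * g⁻¹) * k⁻¹ := by group
      _ = h.v := by rw [hg3, h2]; group

include hS in
/-- the case where `z` is isolated in `H` -/
theorem good_of_isolated {r : ℕ}
    (cover : ∀ g, g * h.z = h.z * g → ∃ k ∈ KK h.z, k * g ∈ H)
    (rpart : ¬ r ∣ (KK h.z ⊓ H).relIndex (KK h.z))
    (hiso : ∀ g ∈ H, g * h.z * g⁻¹ ∈ h.S → g * h.z * g⁻¹ = h.z) : ∃ N, Good h r H N := by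
  have : Fact (Nat.Prime 2) := ⟨Nat.prime_two⟩
  have hzo : orderOf (setupOf h hS).z = 2 := by
    rw [orderOf_eq_prime_iff]
    refine ⟨?_, ?_⟩
    · apply Subtype.ext
      show h.z ^ 2 = 1
      rw [pow_two, zz]
    · intro h1
      have h2 : h.z = 1 := congrArg (fun t : H => (t : G)) h1
      have h3 : h.φ T.z = h.φ 1 := by rw [map_one]; exact h2
      exact absurd (h.inj h3) (by decide)
  let P : Sylow 2 H := IsPGroup.toSylow (P := (setupOf h hS).S) (setupOf h hS).isPGroup_S (by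
    have h1 : Odd (setupOf h hS).S.index := (setupOf h hS).odd_index
    rwa [← Nat.not_even_iff_odd, even_iff_two_dvd] at h1)
  obtain ⟨N0, hN0, hN0o, hN0c⟩ := Cfsg.Agent.S0215.result P (setupOf h hS).z hzo
    (setupOf h hS).z_mem_S (by
      rintro g ⟨t, ht⟩
      apply Subtype.ext
      refine hiso g g.2 ⟨t, ?_⟩
      exact congrArg (fun t : H => (t : G)) ht)
  let M0 : Subgroup G := N0.map H.subtype
  have hM0H : M0 ≤ H := map_subtype_le _
  have hM0o : Odd (Nat.card M0) := by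
    rw [show Nat.card M0 = Nat.card N0 from card_map_of_injective H.subtype_injective]
    exact hN0o
  have hM0n : ∀ g ∈ H, ∀ x ∈ M0, g * x * g⁻¹ ∈ M0 := by
    rintro g hg _ ⟨x, hx, rfl⟩
    exact ⟨⟨g, hg⟩ * x * ⟨g, hg⟩⁻¹, hN0.conj_mem x hx _, rfl⟩
  have hM0c : ∀ g ∈ H, h.z * g * h.z⁻¹ * g⁻¹ ∈ M0 := fun g hg => ⟨_, hN0c ⟨g, hg⟩, rfl⟩
  have hL : ∀ l ∈ KK h.z ⊓ H, ∀ n ∈ M0, l * n * l⁻¹ ∈ M0 := fun l hl n hn => hM0n l hl.2 n hn
  have hmem : ∀ x, x ∈ M0 ⊔ (KK h.z ⊓ H) ↔ ∃ n ∈ M0, ∃ l ∈ KK h.z ⊓ H, x = n * l :=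
    fun x => CoreTools.mem_sup_iff hL
  refine ⟨M0 ⊔ (KK h.z ⊓ H), ?_⟩
  constructor
  · exact hS
  · exact sup_le hM0H inf_le_right
  · intro g hg x hx
    obtain ⟨n, hn, l, hl, rfl⟩ := (hmem x).1 hx
    obtain ⟨n', hn', hc⟩ := CoreTools.exists_commute_coset hM0o (zz h) (hM0n g hg) (hM0c g hg)
    have hcH : g * n' ∈ H := H.mul_mem hg (hM0H hn')
    rw [hmem]
    refine ⟨(g * n') * (n'⁻¹ * n * (l * n' * l⁻¹)) * (g * n')⁻¹, hM0n _ hcH _ ?_,
      (g * n') * l * (g * n')⁻¹, ⟨core_conj_mem hc hl.1, ?_⟩, by group⟩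
    · exact mul_mem (mul_mem (inv_mem hn') hn) (hL l hl n' hn')
    · exact H.mul_mem (H.mul_mem hcH hl.2) (H.inv_mem hcH)
  · exact CoreTools.odd_sup hM0o (Odd.of_dvd_nat (core_odd h.z) (card_dvd_of_le inf_le_left)) hL
  · intro g hg
    exact (le_sup_left : M0 ≤ M0 ⊔ (KK h.z ⊓ H)) (hM0c g hg)
  · exact le_sup_right
  · exact cover
  · exact rpart

end

/-- Sylow `r`-subgroups of `O(C(z))`: the inverted elements of `C(V_0)` -/
theorem inv_PV {h : Setup G} {r : ℕ} (hr : r.Prime)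
    {P : Subgroup G} (hPK : P ≤ KK h.z) (hP : IsPGroup r P)
    (hE : ∀ x c, ∀ y ∈ P, h.el x c * y * (h.el x c)⁻¹ ∈ P)
    (hPi : ¬ r ∣ P.relIndex (KK h.z)) :
    inv (P ⊓ centralizer (h.V o)) h.v = r ^ padicValNat r (m2 h) := by
  have hAE : closure (h.V o) ≤ h.E1 := by
    rw [closure_le]
    rintro _ ⟨x, rfl⟩
    exact (mem_E1 h).2 ⟨_, _, rfl⟩
  have hA2 : IsPGroup 2 (closure (h.V o)) := by
    rintro ⟨t, ht⟩
    refine ⟨1, Subtype.ext ?_⟩
    obtain ⟨x, c, rfl⟩ := (mem_E1 h).1 (hAE ht)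
    show h.el x c ^ 2 ^ 1 = 1
    rw [pow_one, pow_two, h.el_sq]
  have hCA : centralizer (h.V o) = centralizer ((closure (h.V o) : Subgroup G) : Set G) :=
    (centralizer_closure _).symm
  have hAz : ∀ s ∈ closure (h.V o), ∀ x ∈ KK h.z, s * x * s⁻¹ ∈ KK h.z := by
    intro s hs x hx
    obtain ⟨y, c, rfl⟩ := (mem_E1 h).1 (hAE hs)
    exact core_conj_mem (h.el_comm _ _ _ _) hx
  have hAP : ∀ s ∈ closure (h.V o), ∀ x ∈ P, s * x * s⁻¹ ∈ P := by
    intro s hs x hx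
    obtain ⟨y, c, rfl⟩ := (mem_E1 h).1 (hAE hs)
    exact hE _ _ _ hx
  have c1 := cent_sylow hr hA2 (core_odd h.z) hAz hPK hP hPi hAP hCA
  exact inv_eq_pow hr (vv h) (D2_odd (h := h)) (D2_conj w)
    (inf_le_inf_right _ hPK : P ⊓ centralizer (h.V o) ≤ _)
    (hP.to_le inf_le_left) c1 (fun x hx => ⟨hE o w x hx.1, conj_cVo h o w hx.2⟩)

/-- `O(C_H(a))` as a subgroup of `G` -/
def KH {H : Subgroup G} (a : H) : Subgroup G := (KK a).map H.subtype

omit [Finite G] in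
theorem KH_le {H : Subgroup G} {a : H} : KH a ≤ H := map_subtype_le _

omit [Finite G] in
theorem KH_comm {H : Subgroup G} {a : H} {x : G} (hx : x ∈ KH a) : x * a = a * x := by
  obtain ⟨x, hx, rfl⟩ := hx
  exact congrArg (fun t : H => (t : G)) (core_comm hx)

theorem KH_odd {H : Subgroup G} (a : H) : Odd (Nat.card (KH a)) := by
  rw [show Nat.card (KH a) = Nat.card (KK a) from card_map_of_injective H.subtype_injective]
  exact core_odd a

omit [Finite G] in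
theorem KH_conj {H : Subgroup G} {a : H} {g x : G} (hg : g ∈ H) (hga : g * a = a * g)
    (hx : x ∈ KH a) : g * x * g⁻¹ ∈ KH a := by
  obtain ⟨x, hx, rfl⟩ := hx
  have h1 : (⟨g, hg⟩ : H) * a = a * ⟨g, hg⟩ := Subtype.ext hga
  exact ⟨_, core_conj_mem h1 hx, rfl⟩

omit [Finite G] in
theorem mem_U (h : Setup G) {s : G} : s ∈ h.U ↔ ∃ c, s = h.el o c := by
  constructor
  · rintro ⟨⟨a, b, c, d⟩, ⟨h1, h2, h3⟩, rfl⟩
    exact ⟨c, by subst h1 h2 h3; rfl⟩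
  · rintro ⟨c, rfl⟩
    exact ⟨⟨o, o, c, false⟩, ⟨rfl, rfl, rfl⟩, rfl⟩

/-- **Piece D**, relative to `Std`. -/
theorem good_of_cover' (h : Setup G) (F : Fused h) (T : Tab h) {r : ℕ} (hr : r.Prime)
    (hr2 : r ≠ 2) (hB : ¬ Bal r h) {H : Subgroup G} (hS : h.S ≤ H)
    (cover : ∀ g, g * h.z = h.z * g → ∃ k ∈ KK h.z, k * g ∈ H)
    (rpart : ¬ r ∣ (KK h.z ⊓ H).relIndex (KK h.z))
    (hstd : Fused (setupOf h hS) → Std (setupOf h hS))
    (hind : ∀ h2 : Setup H, (∀ t, ((h2.φ t : H) : G) = h.φ t) → Fused h2 → Std h2 → Bal r h2) :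
    ∃ N, Good h r H N := by
  classical
  by_cases hiso : ∀ g ∈ H, g * h.z * g⁻¹ ∈ h.S → g * h.z * g⁻¹ = h.z
  · exact good_of_isolated h hS cover rpart hiso
  exfalso
  push Not at hiso
  obtain ⟨g0, hg0H, hg0S, hg0z⟩ := hiso
  have F2 : Fused (setupOf h hS) := by
    refine (setupOf h hS).fused_of_f2 (f2_of_cover h hS F cover) ⟨⟨g0, hg0H⟩, ?_, ?_⟩
    · obtain ⟨t, ht⟩ := hg0S
      exact ⟨t, Subtype.ext ht⟩
    · intro h1
      exact hg0z (congrArg (fun t : H => (t : G)) h1)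
  have S2 := hstd F2
  have B2 := hind (setupOf h hS) (fun t => rfl) F2 S2
  have : Fact r.Prime := ⟨hr⟩
  -- facts on `E1`
  have hEH : ∀ x c, h.el x c ∈ H := fun x c => hS ⟨_, rfl⟩
  have hE1p : IsPGroup 2 h.E1 := h.isPGroup_S.to_le h.E1_le_S
  -- an `E1`-invariant Sylow `r`-subgroup
  obtain ⟨P, -, hPK, hP, hPi, hPE⟩ := exists_inv_sylow (A := h.E1) (K := KK h.z ⊓ H) (Y := ⊥) hr
    hE1p (Odd.of_dvd_nat (core_odd h.z) (card_dvd_of_le inf_le_left)) (by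
      rintro s hs x hx
      obtain ⟨y, c, rfl⟩ := (mem_E1 h).1 hs
      exact ⟨core_conj_mem (h.el_comm _ _ _ _) hx.1,
        H.mul_mem (H.mul_mem (hEH y c) hx.2) (H.inv_mem (hEH y c))⟩) bot_le IsPGroup.of_bot (by
      intro s _ x hx
      rw [mem_bot] at hx ⊢
      rw [hx]; group)
  have hPz : P ≤ KK h.z := hPK.trans inf_le_left
  have hPH : P ≤ H := hPK.trans inf_le_right
  have hPi' : ¬ r ∣ P.relIndex (KK h.z) := by
    rw [← relIndex_mul_relIndex P (KK h.z ⊓ H) (KK h.z) hPK inf_le_left, hr.dvd_mul]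
    exact not_or.2 ⟨hPi, rpart⟩
  have hPE' : ∀ x c, ∀ y ∈ P, h.el x c * y * (h.el x c)⁻¹ ∈ P :=
    fun x c y hy => hPE _ ((mem_E1 h).2 ⟨x, c, rfl⟩) y hy
  have e2 := inv_PV hr hPz hP hPE' hPi'
  -- inverted elements lie in `O(C_H(a))`
  have haH : ∀ g : G, g * ((setupOf h hS).a : H) = ((setupOf h hS).a : H) * g ↔
    g * h.a = h.a * g := fun g => Iff.rfl
  let I : Subgroup G := KH (setupOf h hS).a ⊓ centralizer (h.V o)
  have hIo : Odd (Nat.card I) := Odd.of_dvd_nat (KH_odd _) (card_dvd_of_le inf_le_left)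
  have hBx : ∀ x ∈ P, x ∈ centralizer (h.V o) → h.v * x * h.v⁻¹ = x⁻¹ →
      x ∈ KH (setupOf h hS).a := by
    intro x hx hxV hxv
    have h1 : (⟨x, hPH hx⟩ : H) ∈ KK (setupOf h hS).z := by
      have h2 : (KK h.z ⊓ H).subgroupOf H ≤ KK (setupOf h hS).z := by
        refine le_core _ ?_ ?_ ?_
        · intro y hy
          exact Subtype.ext (core_comm hy.1)
        · intro y hy x hx
          exact ⟨core_conj_mem (congrArg Subtype.val hy) hx.1, (y * x * y⁻¹).2⟩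
        · rw [Nat.card_congr (subgroupOfEquivOfLe (inf_le_right : KK h.z ⊓ H ≤ H)).toEquiv]
          exact Odd.of_dvd_nat (core_odd h.z) (card_dvd_of_le inf_le_left)
      exact h2 ⟨hPz hx, hPH hx⟩
    obtain ⟨k, hk⟩ := hP ⟨x, hx⟩
    have h3 := B2 ⟨x, hPH hx⟩ h1 (fun t => Subtype.ext ((mem_cVo h).1 hxV t)) (Subtype.ext hxv)
      ⟨k, Subtype.ext (by
        have h4 : x ^ r ^ k = 1 := congrArg (fun t : P => (t : G)) hk
        exact h4)⟩
    exact ⟨_, h3, rfl⟩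
  have hUI : ∀ c, ∀ x ∈ I, h.el o c * x * (h.el o c)⁻¹ ∈ I := fun c x hx =>
    ⟨KH_conj (hEH o c) (h.el_comm _ _ _ _) hx.1, conj_cVo h o c hx.2⟩
  let Y : Subgroup G := P ⊓ centralizer (h.V o) ⊓ KH (setupOf h hS).a
  have hY1 : inv (P ⊓ centralizer (h.V o)) h.v ≤ inv Y h.v :=
    inv_le fun x hx hxv => ⟨⟨hx, hBx x hx.1 hx.2 hxv⟩, hxv⟩
  have hYI : Y ≤ I := fun x hx => ⟨hx.2, hx.1.2⟩
  have hYE : ∀ c, ∀ x ∈ Y, h.el o c * x * (h.el o c)⁻¹ ∈ Y := fun c x hx =>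
    ⟨⟨hPE' o c x hx.1.1, conj_cVo h o c hx.1.2⟩,
      KH_conj (hEH o c) (h.el_comm _ _ _ _) hx.2⟩
  have hUp : IsPGroup 2 h.U := h.isPGroup_S.to_le h.U_le_S
  have hU : ∀ L : Subgroup G, (∀ c, ∀ x ∈ L, h.el o c * x * (h.el o c)⁻¹ ∈ L) →
      ∀ s ∈ h.U, ∀ x ∈ L, s * x * s⁻¹ ∈ L := by
    intro L hL s hs x hx
    obtain ⟨c, rfl⟩ := (mem_U h).1 hs
    exact hL c x hx
  obtain ⟨P1, hYP1, hP1I, hP1, hP1i, hP1U⟩ := exists_inv_sylow (A := h.U) hr hUp hIo (hU I hUI) hYI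
    (hP.to_le (inf_le_left.trans inf_le_left)) (hU Y hYE)
  have hP1E : ∀ c, ∀ x ∈ P1, h.el o c * x * (h.el o c)⁻¹ ∈ P1 := fun c x hx =>
    hP1U _ ((mem_U h).2 ⟨c, rfl⟩) x hx
  -- the element `c`
  obtain ⟨c, hc1, hc2⟩ := S2
  have hc1' : ∀ x : F4, (c : G) * h.el x o * (c : G)⁻¹ = h.el x o :=
    fun x => congrArg Subtype.val (hc1 x)
  have hc2' : ∀ y : F4, (c : G) * h.el o y * (c : G)⁻¹ = h.el o (w * y) :=
    fun y => congrArg Subtype.val (hc2 y)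
  have hca : (c : G) * h.a = h.a * c := mul_inv_eq_iff_eq_mul.1 (hc1' e)
  have hcV : (c : G) ∈ centralizer (h.V o) :=
    (mem_cVo h).2 fun t => mul_inv_eq_iff_eq_mul.1 (hc1' t)
  let f := (MulAut.conj (c : G)).toMonoidHom
  have hf : ∀ x, f x = c * x * (c : G)⁻¹ := fun x => rfl
  have hfi : Function.Injective f := (MulAut.conj (c : G)).injective
  have hfI : I.map f = I := by
    have hle : I.map f ≤ I := by
      rintro _ ⟨x, hx, rfl⟩
      exact ⟨KH_conj c.2 hca hx.1, Subgroup.mul_mem _ (Subgroup.mul_mem _ hcV hx.2)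
        (Subgroup.inv_mem _ hcV)⟩
    exact Subgroup.eq_of_le_of_card_ge hle (by rw [Subgroup.card_map_of_injective hfi])
  have hP1cI : P1.map f ≤ I := by
    have h1 := Subgroup.map_mono (f := f) hP1I
    rwa [hfI] at h1
  have hP1ci : ¬ r ∣ (P1.map f).relIndex I := by
    have h1 := Subgroup.relIndex_map_map_of_injective P1 I hfi
    rw [hfI] at h1
    rwa [h1]
  have hwu : ∀ y : F4, w * (u * y) = y := by decide
  have hP1cU : ∀ c', ∀ x ∈ P1.map f, h.el o c' * x * (h.el o c')⁻¹ ∈ P1.map f := by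
    rintro c' _ ⟨x, hx, rfl⟩
    refine ⟨h.el o (u * c') * x * (h.el o (u * c'))⁻¹, hP1E _ x hx, ?_⟩
    have h1 := hc2' (u * c')
    rw [hwu] at h1
    rw [hf, hf, ← h1]
    group
  obtain ⟨d, hdI, hdU, hdP⟩ := conj_of_inv (A := h.U) hr hUp hIo (hU I hUI) hP1cI (hP1.map f) hP1ci
    (hU _ hP1cU) hP1I hP1 hP1i hP1U
  have hgP : ∀ p ∈ P1, (d * c) * p * (d * c)⁻¹ ∈ P1 := by
    intro p hp
    rw [hdP]
    refine ⟨p, hp, ?_⟩
    rw [hf]; group
  have hgU : ∀ y : F4, (d * c) * h.el o y * (d * c)⁻¹ = h.el o (w * y) := by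
    intro y
    have h1 := hdU (h.el o (w * y)) ((mem_U h).2 ⟨_, rfl⟩)
    calc (d * c) * h.el o y * (d * c)⁻¹ = d * (c * h.el o y * (c : G)⁻¹) * d⁻¹ := by group
      _ = d * h.el o (w * y) * d⁻¹ := by rw [hc2']
      _ = _ := by rw [← h1]; group
  -- moving around `U`
  have hmove : ∀ k k' : F4, inv (P1 ⊓ centralizer {h.el o k}) (h.el o k') ≤
      inv (P1 ⊓ centralizer {h.el o (w * k)}) (h.el o (w * k')) := by
    intro k k'
    refine inv_le_conj (d * c) fun x hx hxk => ⟨⟨hgP x hx.1, ?_⟩, ?_⟩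
    · exact h.mem_cent_el.2 ((h.comm_el_conj (hgU k)).1 (h.mem_cent_el.1 hx.2))
    · rw [← hgU k']
      calc (d * c) * h.el o k' * (d * c)⁻¹ * ((d * c) * x * (d * c)⁻¹) *
          ((d * c) * h.el o k' * (d * c)⁻¹)⁻¹ = (d * c) * (h.el o k' * x * (h.el o k')⁻¹) *
          (d * c)⁻¹ := by group
        _ = _ := by rw [hxk]; group
  have hn1 : r ^ padicValNat r (m2 h) ≤ inv (P1 ⊓ centralizer {h.el o e}) (h.el o w) := by
    rw [← e2]
    refine hY1.trans (inv_le fun x hx hxv => ⟨⟨hYP1 hx, ?_⟩, hxv⟩)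
    exact h.mem_cent_el.2 (core_comm (hPz hx.1.1))
  have hn2 := hn1.trans (hmove e w)
  have hn3 := hn2.trans (hmove (w * e) (w * w))
  obtain ⟨y, hy, hst⟩ := T.star r hr hr2 P1 hP1 (fun x hx => (mem_cVo h).1 (hP1I hx).2 e)
    (fun y x hx => hP1E y x hx)
  obtain ⟨k, hk, hky, hle⟩ : ∃ k : F4, k ≠ o ∧ k ≠ y ∧
      r ^ padicValNat r (m2 h) ≤ inv (P1 ⊓ centralizer {h.el o k}) (h.el o y) := by
    cases y
    · exact absurd rfl hy
    · exact ⟨u, by decide, by decide, hn3⟩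
    · exact ⟨e, by decide, by decide, hn1⟩
    · exact ⟨w, by decide, by decide, hn2⟩
  have hodd : ∀ x ∈ P1, Odd (orderOf x) := fun x hx =>
    Odd.of_dvd_nat hIo (by
      have h1 := orderOf_dvd_natCard (⟨x, hP1I hx⟩ : I)
      rwa [Subgroup.orderOf_mk] at h1)
  have h1 : inv (P1 ⊓ centralizer {h.el o k}) (h.el o y) ≤
      inv (P1 ⊓ centralizer {h.el o k} ⊓ KK h.a) (h.el o y) :=
    inv_le fun x hx hxy => ⟨⟨hx, mem_of_inverted (hodd x hx.1) hxy (hst x hx.1)⟩, hxy⟩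
  have hcent : ∀ c', ∀ x ∈ centralizer ({h.el o k} : Set G),
      h.el o c' * x * (h.el o c')⁻¹ ∈ centralizer ({h.el o k} : Set G) := by
    intro c' x hx
    have h2 : h.el o c' ∈ centralizer ({h.el o k} : Set G) := h.mem_cent_el.2 (h.el_comm _ _ _ _)
    exact mul_mem (mul_mem h2 hx) (inv_mem h2)
  have h2 : inv (P1 ⊓ centralizer {h.el o k} ⊓ KK h.a) (h.el o y) ∣
      r ^ padicValNat r (inv (KK h.a ⊓ centralizer (h.V o) ⊓ centralizer {h.el o k})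
        (h.el o y)) := by
    refine inv_dvd hr (h.el_sq o y) ?_ ?_ ?_ ?_ ?_
    · exact Odd.of_dvd_nat (core_odd h.a) (card_dvd_of_le (inf_le_left.trans inf_le_left))
    · intro x hx
      exact ⟨⟨core_conj_mem (h.el_comm _ _ _ _) hx.1.1, conj_cVo h o y hx.1.2⟩,
        hcent y x hx.2⟩
    · intro x hx
      exact ⟨⟨hx.2, (hP1I hx.1.1).2⟩, hx.1.2⟩
    · exact hP1.to_le (inf_le_left.trans inf_le_left)
    · intro x hx
      exact ⟨⟨hP1E y x hx.1.1, hcent y x hx.1.2⟩, core_conj_mem (h.el_comm _ _ _ _) hx.2⟩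
  rw [T.inv_m1 hk hy hky] at h2
  have h3 := (hle.trans h1).trans (Nat.le_of_dvd (pow_pos hr.pos _) h2)
  have h4 := (Nat.pow_le_pow_iff_right hr.one_lt).1 h3
  exact absurd (val_lt_of_not_bal T hr hB) (not_lt.2 h4)

end Cfsg.Agent.J2Sylow.LemmaD
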