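import Mathlib
import Cfsg.Prelude.Def_Local
import Cfsg.Agent.Lib.Cores
import Cfsg.Agent.Lib.CoprimeCommutator

/-!
# Counting involutions in cosets of an odd order subgroup

General tools for the Thompson order formula in the presence of cores (S1776, S0503).
-/

set_option autoImplicit false

namespace Cfsg.Agent.J2Sylow.CosetCount

open Subgroup

variable {G : Type*} [Group G]

theorem card_sigma_const {α : Type*} [Finite α] {β : α → Type*} [∀ a, Finite (β a)] (n : ℕ)
    (h : ∀ a, Nat.card (β a) = n) : Nat.card (Σ a, β a) = Nat.card α * n := by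
  classical
  have := Fintype.ofFinite α
  rw [Nat.card_sigma, Finset.sum_congr rfl (fun a _ => h a), Finset.sum_const, Finset.card_univ,
    Nat.card_eq_fintype_card, smul_eq_mul]

/-- fibre counting: all fibres of `f` over `β` have `n` elements -/
theorem card_of_fibres {α β : Type*} [Finite α] [Finite β] (f : α → β) (n : ℕ)
    (h : ∀ b, Nat.card {a // f a = b} = n) : Nat.card α = Nat.card β * n := by
  rw [← card_sigma_const (β := fun b : β => {a // f a = b}) n h]
  exact Nat.card_congr (Equiv.sigmaFiberEquiv f).symm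

/-- orbit-stabiliser for conjugation by a subgroup -/
theorem card_orbit_mul [Finite G] (H : Subgroup G) (t : G) :
    Nat.card {x : G // ∃ s ∈ H, s * t * s⁻¹ = x} * Nat.card ↥(H ⊓ centralizer {t} : Subgroup G) =
      Nat.card H := by
  symm
  apply card_of_fibres (fun s : H => (⟨(s : G) * t * (s : G)⁻¹, s, s.2, rfl⟩ :
    {x : G // ∃ s ∈ H, s * t * s⁻¹ = x}))
  rintro ⟨x, s, hs, rfl⟩
  apply Nat.card_congr
  refine
    { toFun := fun r => ⟨s⁻¹ * (r.1 : G), mem_inf.mpr ⟨H.mul_mem (H.inv_mem hs) r.1.2, ?_⟩⟩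
      invFun := fun c => ⟨⟨s * (c : G), H.mul_mem hs (mem_inf.mp c.2).1⟩, ?_⟩
      left_inv := ?_
      right_inv := ?_ }
  · have h1 : (r.1 : G) * t * (r.1 : G)⁻¹ = s * t * s⁻¹ := congrArg Subtype.val r.2
    rw [mem_centralizer_singleton_iff]
    calc s⁻¹ * (r.1 : G) * t = s⁻¹ * ((r.1 : G) * t * (r.1 : G)⁻¹) * (r.1 : G) := by group
      _ = t * (s⁻¹ * (r.1 : G)) := by rw [h1]; group
  · apply Subtype.ext
    have h1 := mem_centralizer_singleton_iff.mp (mem_inf.mp c.2).2
    change s * (c : G) * t * (s * (c : G))⁻¹ = s * t * s⁻¹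
    calc s * (c : G) * t * (s * (c : G))⁻¹ = s * ((c : G) * t) * (c : G)⁻¹ * s⁻¹ := by group
      _ = s * t * s⁻¹ := by rw [h1]; group
  · intro r
    apply Subtype.ext
    apply Subtype.ext
    change s * (s⁻¹ * (r.1 : G)) = r.1
    group
  · intro c
    apply Subtype.ext
    change s⁻¹ * (s * (c : G)) = c
    group

/-- an involution in the coset `K t` is a `K`-conjugate of `t` (`K` odd, `t` an involution) -/
theorem exists_conj_of_coset [Finite G] {K : Subgroup G} (hK : Odd (Nat.card K)) {t x : G}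
    (ht : t * t = 1) (hx : x * x = 1) (hxt : x * t⁻¹ ∈ K) : ∃ s ∈ K, s * t * s⁻¹ = x := by
  obtain ⟨m, hm⟩ := hK
  set k := x * t⁻¹ with hk
  have hti : t⁻¹ = t := (eq_inv_of_mul_eq_one_left ht).symm
  have hxi : x⁻¹ = x := (eq_inv_of_mul_eq_one_left hx).symm
  have hxk : x = k * t := by rw [hk]; group
  have h1 : t * k * t⁻¹ = k⁻¹ := by
    rw [hk, mul_inv_rev, inv_inv, hxi, hti]
    calc t * (x * t) * t = t * x * (t * t) := by group
      _ = t * x := by rw [ht, mul_one]
  have hkn : k ^ Nat.card K = 1 := by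
    have h5 : (⟨k, hxt⟩ : K) ^ Nat.card K = 1 := pow_card_eq_one'
    exact congrArg Subtype.val h5
  refine ⟨k ^ (m + 1), K.pow_mem hxt _, ?_⟩
  have h2 : t * (k ^ (m + 1))⁻¹ * t⁻¹ = k ^ (m + 1) := by
    have h6 : t * k⁻¹ * t⁻¹ = k := by
      calc t * k⁻¹ * t⁻¹ = (t * k * t⁻¹)⁻¹ := by group
        _ = k := by rw [h1, inv_inv]
    rw [← inv_pow, ← conj_pow, h6]
  have h3 : k ^ (m + 1) * k ^ (m + 1) = k := by
    rw [← pow_add, show m + 1 + (m + 1) = (2 * m + 1) + 1 by ring, pow_succ, ← hm, hkn, one_mul]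
  calc k ^ (m + 1) * t * (k ^ (m + 1))⁻¹ = k ^ (m + 1) * (t * (k ^ (m + 1))⁻¹ * t⁻¹) * t := by group
    _ = k * t := by rw [h2, h3]
    _ = x := hxk.symm

/-- number of involutions in the coset `K t` -/
theorem card_coset [Finite G] {K : Subgroup G} (hK : Odd (Nat.card K)) {t : G} (ht : t * t = 1)
    (hn : ∀ k ∈ K, t * k * t⁻¹ ∈ K) :
    Nat.card {x : G // x * x = 1 ∧ x * t⁻¹ ∈ K} * Nat.card ↥(K ⊓ centralizer {t} : Subgroup G) =
      Nat.card K := by
  rw [← card_orbit_mul K t]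
  congr 1
  apply Nat.card_congr
  refine Equiv.subtypeEquivRight fun x => ⟨fun h => exists_conj_of_coset hK ht h.1 h.2, ?_⟩
  rintro ⟨s, hs, rfl⟩
  constructor
  · calc s * t * s⁻¹ * (s * t * s⁻¹) = s * (t * t) * s⁻¹ := by group
      _ = 1 := by rw [ht]; group
  · have h1 : s * t * s⁻¹ * t⁻¹ = s * (t * s⁻¹ * t⁻¹) := by group
    rw [h1]
    exact K.mul_mem hs (hn _ (K.inv_mem hs))

end Cfsg.Agent.J2Sylow.CosetCount
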