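import Mathlib
import Cfsg.Agent.J2Sylow.Model

/-!
# Decidable facts for the order formula
-/

set_option autoImplicit false

namespace Cfsg.Agent.J2Sylow.OrderFacts

open Model Model.T

/-- an involution of `e Q`, `e ∈ E1 ∖ U`, is conjugate to `e` -/
theorem eQ_conj : ∀ e : T, e ∈ E1 → e ∉ U → ∀ y : T, y * y = 1 → e * y ∈ Q →
    ∃ g : T, g * y * g⁻¹ = e := by
  decide +kernel

theorem inv_notQ : ∀ y : T, y * y = 1 → y ∉ Q → (y ∈ E1 ∨ y ∈ E2) ∧ y ∉ U := by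
  decide +kernel

theorem inv_Q : ∀ y : T, y * y = 1 → y ∈ Q → y ∈ U ∨ y.s = true := by
  decide +kernel

theorem E1_notQ : ∀ e : T, e ∈ E1 → e ∉ U → e ∉ Q := by decide +kernel

theorem pow4 : ∀ q : T, q.s = true → q * q = 1 → ∀ e : T, e ∈ E1 → e ∉ U →
    (q * e) * (q * e) * ((q * e) * (q * e)) = z := by
  decide +kernel

theorem comm_Q : ∀ e : T, e ∈ E1 → ∀ s : T, e * (s * e * s⁻¹) ∈ Q := by decide +kernel

theorem conj_eQ (e s t : T) (he : e ∈ E1) (ht : (t)⁻¹ * (s * e * s⁻¹) ∈ Q) : e * t ∈ Q := by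
  have h1 := comm_Q e he s
  have h2 : e * t = e * (s * e * s⁻¹) * (t⁻¹ * (s * e * s⁻¹))⁻¹ := by group
  rw [h2]
  exact Q.mul_mem h1 (Q.inv_mem ht)

theorem conj_Q : ∀ g q : T, q ∈ Q → g * q * g⁻¹ ∈ Q := by decide +kernel

/-- the noncentral involutions of `Q` outside `R` -/
theorem card_tauClass : Nat.card {q : T // q.s = true ∧ q * q = 1} = 8 := by
  rw [Nat.card_eq_fintype_card, Fintype.card_subtype]; decide +kernel

theorem exists_E1_basis : ∀ e : T, e ∈ E1 → e ∉ U → ∃ f : T, f ∈ E1 ∧ f ∉ U ∧ e * f ∉ U := by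
  decide +kernel

set_option synthInstance.maxSize 100000 in
theorem a5_comm : ∀ a b : alternatingGroup (Fin 5), a * a = 1 → a ≠ 1 → b * b = 1 → b ≠ 1 →
    a ≠ b → a * b = b * a → ∀ c : alternatingGroup (Fin 5),
    a * c = c * a → c = 1 ∨ c = a ∨ c = b ∨ c = a * b := by
  decide +kernel

/-- The involution `(0 1)(2 3)`. -/
def s0 : alternatingGroup (Fin 5) :=
  ⟨Equiv.swap 0 1 * Equiv.swap 2 3, Equiv.Perm.mem_alternatingGroup.2 (by decide)⟩

theorem a5_conj_s0 : ∀ a : alternatingGroup (Fin 5), a * a = 1 → a ≠ 1 →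
    ∃ g : alternatingGroup (Fin 5), g * a * g⁻¹ = s0 := by
  decide +kernel

theorem a5_conj (a b : alternatingGroup (Fin 5)) (ha : a * a = 1) (ha1 : a ≠ 1) (hb : b * b = 1)
    (hb1 : b ≠ 1) : ∃ g : alternatingGroup (Fin 5), g * a * g⁻¹ = b := by
  obtain ⟨x, hx⟩ := a5_conj_s0 a ha ha1
  obtain ⟨y, hy⟩ := a5_conj_s0 b hb hb1
  refine ⟨y⁻¹ * x, ?_⟩
  calc y⁻¹ * x * a * (y⁻¹ * x)⁻¹ = y⁻¹ * (x * a * x⁻¹) * y := by group
    _ = y⁻¹ * (y * b * y⁻¹) * y := by rw [hx, hy]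
    _ = b := by group

end Cfsg.Agent.J2Sylow.OrderFacts
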