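import Mathlib
import Cfsg.Agent.J2Sylow.Basics
import Cfsg.Agent.J2Sylow.Functor
import Cfsg.Agent.J2Sylow.CosetCount
import Cfsg.Agent.J2Sylow.OrderFacts

/-!
# The first term of the Thompson order formula for groups with a Sylow 2-subgroup of type J2

`e` an involution of `E1 ∖ U` which is not conjugate to `z`.  The number of pairs `(x, y)` with
`x ~ z`, `y ~ e` and `z ∈ ⟨x y⟩` is `960 |K|² / (|C_K(e)| |C_K(v)|)`, where `K = O(C(z))`.
-/

set_option autoImplicit false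

namespace Cfsg.Agent.J2Sylow.OrderZ

open Subgroup Model OrderFacts Cfsg.Agent.J2Sylow.Functor CosetCount

variable {G : Type*} [Group G]

/-- elements of a product with a normalised subgroup -/
theorem mem_sup_iff {H N : Subgroup G} (hn : ∀ s ∈ H, ∀ n ∈ N, s * n * s⁻¹ ∈ N) {x : G} :
    x ∈ H ⊔ N ↔ ∃ n ∈ N, ∃ s ∈ H, x = n * s := by
  constructor
  · intro hx
    let P : Subgroup G :=
      { carrier := {x | ∃ n ∈ N, ∃ s ∈ H, x = n * s}
        one_mem' := ⟨1, N.one_mem, 1, H.one_mem, by simp⟩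
        mul_mem' := by
          rintro _ _ ⟨n, hn1, s, hs, rfl⟩ ⟨n', hn1', s', hs', rfl⟩
          exact ⟨n * (s * n' * s⁻¹), N.mul_mem hn1 (hn s hs n' hn1'), s * s', H.mul_mem hs hs',
            by group⟩
        inv_mem' := by
          rintro _ ⟨n, hn1, s, hs, rfl⟩
          exact ⟨s⁻¹ * n⁻¹ * s⁻¹⁻¹, hn _ (H.inv_mem hs) _ (N.inv_mem hn1), s⁻¹, H.inv_mem hs,
            by group⟩ }
    have hle : H ⊔ N ≤ P := sup_le (fun s hs => ⟨1, N.one_mem, s, hs, by simp⟩)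
      (fun n hn' => ⟨n, hn', 1, H.one_mem, by simp⟩)
    exact hle hx
  · rintro ⟨n, hn', s, hs, rfl⟩
    exact mul_mem (mem_sup_right hn') (mem_sup_left hs)

/-- If `w` is an involution in `⟨x y⟩`, `x, y` involutions, then `w` commutes with `x` and `y`. -/
theorem comm_of_mem_zpowers {x y w : G} (hx : x * x = 1) (hy : y * y = 1) (hw : w * w = 1)
    (h : w ∈ zpowers (x * y)) : x * w = w * x ∧ y * w = w * y := by
  obtain ⟨k, rfl⟩ := mem_zpowers_iff.mp h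
  have hxi : x⁻¹ = x := (eq_inv_of_mul_eq_one_left hx).symm
  have hyi : y⁻¹ = y := (eq_inv_of_mul_eq_one_left hy).symm
  have hwi : ((x * y) ^ k)⁻¹ = (x * y) ^ k := (eq_inv_of_mul_eq_one_left hw).symm
  have h1 : x * (x * y) * x⁻¹ = (x * y)⁻¹ := by
    rw [mul_inv_rev, hyi, hxi, ← mul_assoc, hx, one_mul]
  have h2 : x * (x * y) ^ k * x⁻¹ = (x * y) ^ k := by
    rw [← conj_zpow, h1, inv_zpow, hwi]
  have h3 : x * (x * y) ^ k = (x * y) ^ k * x := by
    calc x * (x * y) ^ k = x * (x * y) ^ k * x⁻¹ * x := by group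
      _ = (x * y) ^ k * x := by rw [h2]
  refine ⟨h3, ?_⟩
  have h4 : (x * y) * (x * y) ^ k = (x * y) ^ k * (x * y) := by
    rw [← zpow_one_add, ← zpow_add_one, add_comm]
  have h5 : x * (y * (x * y) ^ k) = x * ((x * y) ^ k * y) := by
    calc x * (y * (x * y) ^ k) = (x * y) * (x * y) ^ k := by group
      _ = (x * y) ^ k * (x * y) := h4
      _ = ((x * y) ^ k * x) * y := by group
      _ = (x * (x * y) ^ k) * y := by rw [h3]
      _ = x * ((x * y) ^ k * y) := by group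
  exact mul_left_cancel h5

/-- `C(z)/(Q O(C(z))) ≅ A5`, as a function on `G` -/
structure Quo (h : Setup G) where
  /-- the map `C(z) → A5` -/
  p : G → alternatingGroup (Fin 5)
  mul : ∀ x y, x * h.z = h.z * x → y * h.z = h.z * y → p (x * y) = p x * p y
  surj : ∀ a, ∃ x, x * h.z = h.z * x ∧ p x = a
  ker : ∀ x, x * h.z = h.z * x → (p x = 1 ↔ x ∈ h.Q ⊔ K h.z)

/-- constructor from the quotient -/
theorem Quo.exists_of_equiv (h : Setup G)
    [hN : ((h.Q ⊔ K h.z).subgroupOf (centralizer {h.z})).Normal]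
    (f : centralizer ({h.z} : Set G) ⧸ (h.Q ⊔ K h.z).subgroupOf (centralizer {h.z}) ≃*
      alternatingGroup (Fin 5)) : Nonempty (Quo h) := by
  classical
  let ψ : centralizer ({h.z} : Set G) →* alternatingGroup (Fin 5) :=
    f.toMonoidHom.comp (QuotientGroup.mk' _)
  have hψ : ∀ x, ψ x = 1 ↔ (x : G) ∈ h.Q ⊔ K h.z := by
    intro x
    have h1 : ψ x = f (QuotientGroup.mk' _ x) := rfl
    rw [h1, map_eq_one_iff f f.injective]
    change (QuotientGroup.mk x : _ ⧸ _) = 1 ↔ _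
    rw [QuotientGroup.eq_one_iff, mem_subgroupOf]
  refine ⟨⟨fun x => if hx : x * h.z = h.z * x then ψ ⟨x, mem_centralizer_singleton_iff.mpr hx⟩
    else 1, ?_, ?_, ?_⟩⟩
  · intro x y hx hy
    have hxy : x * y * h.z = h.z * (x * y) := by
      rw [mul_assoc, hy, ← mul_assoc, hx, mul_assoc]
    simp only [dif_pos hx, dif_pos hy, dif_pos hxy]
    rw [← map_mul]
    rfl
  · intro a
    obtain ⟨c, hc⟩ := f.surjective a
    obtain ⟨x, rfl⟩ := QuotientGroup.mk_surjective c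
    have hx := mem_centralizer_singleton_iff.mp x.2
    refine ⟨x, hx, ?_⟩
    simp only [dif_pos hx]
    exact hc
  · intro x hx
    simp only [dif_pos hx]
    exact hψ _

theorem card_conj_inf {K' : Subgroup G} {c x : G} (hc : ∀ k ∈ K', c * k * c⁻¹ ∈ K')
    (hc' : ∀ k ∈ K', c⁻¹ * k * c ∈ K') :
    Nat.card ↥(K' ⊓ centralizer {x} : Subgroup G) =
      Nat.card ↥(K' ⊓ centralizer {c * x * c⁻¹} : Subgroup G) := by
  refine Nat.card_congr ((MulAut.conj c).toEquiv.subtypeEquiv fun k => ?_)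
  simp only [MulEquiv.toEquiv_eq_coe, EquivLike.coe_coe, MulAut.conj_apply, mem_inf,
    mem_centralizer_singleton_iff]
  constructor
  · rintro ⟨h1, h2⟩
    refine ⟨hc _ h1, ?_⟩
    calc c * k * c⁻¹ * (c * x * c⁻¹) = c * (k * x) * c⁻¹ := by group
      _ = c * (x * k) * c⁻¹ := by rw [h2]
      _ = _ := by group
  · rintro ⟨h1, h2⟩
    refine ⟨?_, ?_⟩
    · have := hc' _ h1
      have e1 : c⁻¹ * (c * k * c⁻¹) * c = k := by group
      rwa [e1] at this
    · calc k * x = c⁻¹ * (c * k * c⁻¹ * (c * x * c⁻¹)) * c := by group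
        _ = c⁻¹ * (c * x * c⁻¹ * (c * k * c⁻¹)) * c := by rw [h2]
        _ = _ := by group

section

variable (h : Setup G)

theorem zz : h.z * h.z = 1 := by
  change h.φ T.z * h.φ T.z = 1
  rw [← map_mul, ← map_one h.φ]
  congr 1

theorem z_ne : h.z ≠ 1 := by
  intro h1
  have h2 : h.φ T.z = h.φ 1 := by rw [map_one]; exact h1
  have h3 := h.inj h2
  revert h3
  decide

theorem phi_comm_z (t : T) : h.φ t * h.z = h.z * h.φ t := (h.z_comm (h.phi_mem_S t)).symm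

theorem z_conj_K {c k : G} (hc : c * h.z = h.z * c) (hk : k ∈ K h.z) : c * k * c⁻¹ ∈ K h.z :=
  K_conj (mem_centralizer_singleton_iff.mpr hc) hk

theorem K_comm_z {k : G} (hk : k ∈ K h.z) : k * h.z = h.z * k :=
  mem_centralizer_singleton_iff.mp (K_le _ hk)

theorem inv_comm_z {c : G} (hc : c * h.z = h.z * c) : c⁻¹ * h.z = h.z * c⁻¹ := by
  calc c⁻¹ * h.z = c⁻¹ * (h.z * c) * c⁻¹ := by group
    _ = c⁻¹ * (c * h.z) * c⁻¹ := by rw [hc]
    _ = h.z * c⁻¹ := by group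

theorem mul_comm_z {c d : G} (hc : c * h.z = h.z * c) (hd : d * h.z = h.z * d) :
    c * d * h.z = h.z * (c * d) := by
  rw [mul_assoc, hd, ← mul_assoc, hc, mul_assoc]

theorem mem_sup_K (H : Subgroup T) {x : G} :
    x ∈ H.map h.φ ⊔ K h.z ↔ ∃ k ∈ K h.z, ∃ t ∈ H, x = k * h.φ t := by
  rw [mem_sup_iff]
  · constructor
    · rintro ⟨k, hk, _, ⟨t, ht, rfl⟩, rfl⟩
      exact ⟨k, hk, t, ht, rfl⟩
    · rintro ⟨k, hk, t, ht, rfl⟩
      exact ⟨k, hk, _, ⟨t, ht, rfl⟩, rfl⟩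
  · rintro _ ⟨t, ht, rfl⟩ n hn
    exact z_conj_K h (phi_comm_z h t) hn

variable [Finite G]

theorem eq_one_of_mem_K {t : T} (ht : h.φ t ∈ K h.z) : t = 1 := by
  have h1 : Odd (orderOf (h.φ t)) := by
    have h2 : orderOf (⟨h.φ t, ht⟩ : K h.z) ∣ Nat.card (K h.z) := orderOf_dvd_natCard _
    rw [orderOf_mk] at h2
    exact Odd.of_dvd_nat (K_odd h.z) h2
  rw [orderOf_injective h.φ h.inj] at h1
  have h3 : orderOf t ∣ 2 ^ 7 := by
    have := orderOf_dvd_natCard t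
    rwa [T.card_T] at this
  obtain ⟨k, -, hk⟩ := (Nat.dvd_prime_pow Nat.prime_two).mp h3
  rcases Nat.eq_zero_or_pos k with rfl | hk0
  · exact orderOf_eq_one_iff.mp (by rw [hk, pow_zero])
  · exfalso
    rw [hk] at h1
    exact (Nat.not_even_iff_odd.mpr h1) ((Nat.even_pow.mpr ⟨even_two, hk0.ne'⟩))

/-- product decomposition -/
theorem unique {k k' : G} (hk : k ∈ K h.z) (hk' : k' ∈ K h.z) {t t' : T}
    (e : k * h.φ t = k' * h.φ t') : k = k' ∧ t = t' := by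
  have h1 : h.φ (t * t'⁻¹) = k⁻¹ * k' := by
    rw [map_mul, map_inv]
    calc h.φ t * (h.φ t')⁻¹ = k⁻¹ * (k * h.φ t) * (h.φ t')⁻¹ := by group
      _ = k⁻¹ * k' := by rw [e]; group
  have h2 : t * t'⁻¹ = 1 := eq_one_of_mem_K h (by
    rw [h1]; exact (K h.z).mul_mem ((K h.z).inv_mem hk) hk')
  have h3 : t = t' := by rwa [mul_inv_eq_one] at h2
  subst h3
  exact ⟨mul_right_cancel e, rfl⟩

theorem card_sup_K (H : Subgroup T) :
    Nat.card ↥(H.map h.φ ⊔ K h.z : Subgroup G) = Nat.card (K h.z) * Nat.card H := by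
  rw [← Nat.card_prod]
  symm
  refine Nat.card_congr (Equiv.ofBijective (fun p : K h.z × H =>
    (⟨(p.1 : G) * h.φ p.2, (mem_sup_K h H).mpr ⟨p.1, p.1.2, p.2, p.2.2, rfl⟩⟩ :
      ↥(H.map h.φ ⊔ K h.z : Subgroup G))) ⟨?_, ?_⟩)
  · rintro ⟨k, t⟩ ⟨k', t'⟩ e
    obtain ⟨h1, h2⟩ := unique h k.2 k'.2 (congrArg Subtype.val e)
    rw [Prod.mk.injEq]
    exact ⟨Subtype.ext h1, Subtype.ext h2⟩
  · rintro ⟨x, hx⟩
    obtain ⟨k, hk, t, ht, rfl⟩ := (mem_sup_K h H).mp hx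
    exact ⟨(⟨k, hk⟩, ⟨t, ht⟩), rfl⟩

end

namespace Quo

variable {h : Setup G} (ψ : Quo h)

theorem p_one : ψ.p 1 = 1 := by
  have h1 := ψ.mul 1 1 (by simp) (by simp)
  rw [mul_one] at h1
  exact (mul_eq_left.mp h1.symm)

theorem p_inv {x : G} (hx : x * h.z = h.z * x) : ψ.p x⁻¹ = (ψ.p x)⁻¹ := by
  have h1 := ψ.mul x⁻¹ x (inv_comm_z h hx) hx
  rw [inv_mul_cancel, ψ.p_one] at h1
  exact eq_inv_of_mul_eq_one_left h1.symm

theorem p_K {k : G} (hk : k ∈ K h.z) : ψ.p k = 1 :=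
  (ψ.ker k (K_comm_z h hk)).mpr (mem_sup_right hk)

theorem p_eq_iff {x y : G} (hx : x * h.z = h.z * x) (hy : y * h.z = h.z * y) :
    ψ.p x = ψ.p y ↔ x⁻¹ * y ∈ h.Q ⊔ K h.z := by
  rw [← ψ.ker _ (mul_comm_z h (inv_comm_z h hx) hy), ψ.mul _ _ (inv_comm_z h hx) hy, ψ.p_inv hx,
    inv_mul_eq_one]

variable [Finite G]

theorem phi_mem_iff {t : T} : h.φ t ∈ h.Q ⊔ K h.z ↔ t ∈ T.Q := by
  constructor
  · intro h1
    obtain ⟨k, hk, s, hs, e⟩ := (mem_sup_K h T.Q).mp h1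
    have h2 := unique h (K h.z).one_mem hk (t := t) (t' := s) (by rw [one_mul]; exact e)
    rw [h2.2]
    exact hs
  · intro ht
    exact mem_sup_left ⟨t, ht, rfl⟩

theorem p_phi {t : T} : ψ.p (h.φ t) = 1 ↔ t ∈ T.Q := by
  rw [ψ.ker _ (phi_comm_z h t), phi_mem_iff]

theorem p_phi_eq {s t : T} : ψ.p (h.φ s) = ψ.p (h.φ t) ↔ s⁻¹ * t ∈ T.Q := by
  rw [ψ.p_eq_iff (phi_comm_z h s) (phi_comm_z h t), ← map_inv, ← map_mul, phi_mem_iff]

/-- an involution of `C(z)` with the same image as `e` is conjugate to `e` -/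
theorem exists_conj_of_eq {e : T} (he : e ∈ T.E1) (heU : e ∉ T.U) {y : G}
    (hy : y * h.z = h.z * y) (hyy : y * y = 1) (hp : ψ.p y = ψ.p (h.φ e)) :
    ∃ c, c * h.z = h.z * c ∧ c * y * c⁻¹ = h.φ e := by
  have hy2 : y ^ 2 = 1 := by rw [pow_two]; exact hyy
  have hP : IsPGroup 2 (zpowers y) := by
    intro ⟨g, hg⟩
    obtain ⟨k, rfl⟩ := mem_zpowers_iff.mp hg
    refine ⟨1, ?_⟩
    apply Subtype.ext
    change (y ^ k) ^ (2 ^ 1) = 1
    rw [pow_one, ← zpow_natCast, ← zpow_mul, mul_comm, zpow_mul]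
    have : y ^ ((2 : ℕ) : ℤ) = 1 := by rw [zpow_natCast]; exact hy2
    rw [this, one_zpow]
  have hmem : y ∈ h.S ⊔ K h.z := by
    have h1 := (ψ.p_eq_iff (phi_comm_z h e) hy).mp hp.symm
    have h2 : y = h.φ e * ((h.φ e)⁻¹ * y) := by group
    rw [h2]
    refine mul_mem (mem_sup_left (h.phi_mem_S e)) ?_
    exact (sup_le_sup_right h.Q_le_S _) h1
  obtain ⟨c, hc, hcS⟩ := exists_conj_le (zpowers y) (h.S ⊔ K h.z) h.S hP (by
    rw [zpowers_le]; exact hmem) (h.relIndex_odd le_sup_left)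
  have hS' : h.S = (⊤ : Subgroup T).map h.φ := by
    rw [← MonoidHom.range_eq_map]; rfl
  have hc' := hc
  rw [hS'] at hc'
  obtain ⟨k, hk, s, -, rfl⟩ := (mem_sup_K h ⊤).mp hc'
  obtain ⟨t, ht⟩ := hcS y (mem_zpowers y)
  have hcz : k * h.φ s * h.z = h.z * (k * h.φ s) := mul_comm_z h (K_comm_z h hk) (phi_comm_z h s)
  have htt : t * t = 1 := by
    apply h.inj
    rw [map_mul, ht, map_one]
    calc k * h.φ s * y * (k * h.φ s)⁻¹ * (k * h.φ s * y * (k * h.φ s)⁻¹)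
        = k * h.φ s * (y * y) * (k * h.φ s)⁻¹ := by group
      _ = 1 := by rw [hyy]; group
  have hpt : ψ.p (h.φ t) = ψ.p (h.φ (s * e * s⁻¹)) := by
    rw [ht, ψ.mul _ _ (mul_comm_z h hcz hy) (inv_comm_z h hcz), ψ.mul _ _ hcz hy,
      ψ.p_inv hcz, ψ.mul _ _ (K_comm_z h hk) (phi_comm_z h s), ψ.p_K hk, one_mul, hp,
      map_mul, map_mul, map_inv,
      ψ.mul _ _ (mul_comm_z h (phi_comm_z h s) (phi_comm_z h e))
        (inv_comm_z h (phi_comm_z h s)), ψ.mul _ _ (phi_comm_z h s) (phi_comm_z h e),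
      ψ.p_inv (phi_comm_z h s)]
  have h3 := ψ.p_phi_eq.mp hpt
  obtain ⟨g, hg⟩ := eQ_conj e he heU t htt (conj_eQ e s t he h3)
  refine ⟨h.φ g * (k * h.φ s), mul_comm_z h (phi_comm_z h g) hcz, ?_⟩
  calc h.φ g * (k * h.φ s) * y * (h.φ g * (k * h.φ s))⁻¹
      = h.φ g * (k * h.φ s * y * (k * h.φ s)⁻¹) * (h.φ g)⁻¹ := by group
    _ = h.φ g * h.φ t * (h.φ g)⁻¹ := by rw [ht]
    _ = h.φ e := by rw [h.phi_conj, hg]

include ψ in
/-- an involution of `C(z)` outside `Q O(C(z))` is conjugate to `e` -/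
theorem exists_conj_e {e : T} (he : e ∈ T.E1) (heU : e ∉ T.U) {y : G}
    (hy : y * h.z = h.z * y) (hyy : y * y = 1) (hn : y ∉ h.Q ⊔ K h.z) :
    ∃ c, c * h.z = h.z * c ∧ c * y * c⁻¹ = h.φ e := by
  have h1 : ψ.p y ≠ 1 := fun h0 => hn ((ψ.ker y hy).mp h0)
  have h2 : ψ.p y * ψ.p y = 1 := by rw [← ψ.mul y y hy hy, hyy, ψ.p_one]
  have h3 : ψ.p (h.φ e) ≠ 1 := fun h0 => E1_notQ e he heU (ψ.p_phi.mp h0)
  have h4 : ψ.p (h.φ e) * ψ.p (h.φ e) = 1 := by
    rw [← ψ.mul _ _ (phi_comm_z h e) (phi_comm_z h e), ← map_mul, T.E1_sq e he, map_one, ψ.p_one]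
  obtain ⟨g, hg⟩ := a5_conj _ _ h2 h1 h4 h3
  obtain ⟨x, hx, rfl⟩ := ψ.surj g
  obtain ⟨c, hc, hc2⟩ := ψ.exists_conj_of_eq he heU (y := x * y * x⁻¹)
    (mul_comm_z h (mul_comm_z h hx hy) (inv_comm_z h hx)) (by
      calc x * y * x⁻¹ * (x * y * x⁻¹) = x * (y * y) * x⁻¹ := by group
        _ = 1 := by rw [hyy]; group) (by
      rw [ψ.mul _ _ (mul_comm_z h hx hy) (inv_comm_z h hx), ψ.mul _ _ hx hy, ψ.p_inv hx]
      exact hg)
  refine ⟨c * x, mul_comm_z h hc hx, ?_⟩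
  rw [← hc2]
  group

/-- an involution of `Q O(C(z))` is `O(C(z))`-conjugate into `Q` -/
theorem exists_conj_Q {y : G} (hyy : y * y = 1) (hn : y ∈ h.Q ⊔ K h.z) :
    ∃ t ∈ T.Q, t * t = 1 ∧ y * (h.φ t)⁻¹ ∈ K h.z ∧ ∃ s ∈ K h.z, s * h.φ t * s⁻¹ = y := by
  obtain ⟨k, hk, t, ht, rfl⟩ := (mem_sup_K h T.Q).mp hn
  have h1 : h.φ (t * t) ∈ K h.z := by
    have h2 : h.φ (t * t) = (h.φ t * k * (h.φ t)⁻¹)⁻¹ * (k⁻¹ * (k * h.φ t * (k * h.φ t))) := by
      rw [map_mul]; group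
    rw [h2, hyy, mul_one]
    exact (K h.z).mul_mem ((K h.z).inv_mem (z_conj_K h (phi_comm_z h t) hk))
      ((K h.z).inv_mem hk)
  have h3 : t * t = 1 := eq_one_of_mem_K h h1
  have h4 : k * h.φ t * (h.φ t)⁻¹ ∈ K h.z := by
    have : k * h.φ t * (h.φ t)⁻¹ = k := by group
    rwa [this]
  refine ⟨t, ht, h3, h4, ?_⟩
  exact exists_conj_of_coset (K_odd h.z) (by rw [← map_mul, h3, map_one]) hyy h4

end Quo

section Fusion

variable {h : Setup G}

theorem v_conj_z (hf : Fused h) : IsConj h.z h.v := by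
  obtain ⟨g, -, hg⟩ := hf.f1
  exact (isConj_iff.mpr ⟨g, hg⟩).symm

theorem tau_conj_z (hf : Fused h) : IsConj h.z h.tau := by
  obtain ⟨g, -, -, hg⟩ := hf.f2
  exact (v_conj_z hf).trans (isConj_iff.mpr ⟨g, hg⟩).symm

theorem conj_z_of_mem_Q (hf : Fused h) {t : T} (ht : t ∈ T.Q) (htt : t * t = 1) (ht1 : t ≠ 1) :
    IsConj h.z (h.φ t) := by
  rcases inv_Q t htt ht with hU | hs
  · rcases T.U_cases t hU with rfl | rfl | rfl | rfl
    · exact absurd rfl ht1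
    · exact IsConj.refl _
    · exact v_conj_z hf
    · refine (v_conj_z hf).trans (isConj_iff.mpr ⟨h.tau, ?_⟩)
      change h.φ T.tau * h.φ T.v * (h.φ T.tau)⁻¹ = _
      rw [h.phi_conj]
      congr 1
  · obtain ⟨g, hg⟩ := T.tau_conj t hs htt
    refine (tau_conj_z hf).trans (isConj_iff.mpr ⟨h.φ g, ?_⟩).symm
    rw [h.phi_conj, hg]
    rfl

theorem ne_one_of_conj {x : G} (hx : IsConj h.z x) : x ≠ 1 := by
  rintro rfl
  have := isConj_one_right.mp hx.symm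
  exact z_ne h this

theorem sq_of_conj {x a : G} (ha : a * a = 1) (hx : IsConj a x) : x * x = 1 := by
  obtain ⟨c, rfl⟩ := isConj_iff.mp hx
  calc c * a * c⁻¹ * (c * a * c⁻¹) = c * (a * a) * c⁻¹ := by group
    _ = 1 := by rw [ha]; group

variable [Finite G] (hf : Fused h) (ψ : Quo h) {e : T} (he : e ∈ T.E1) (heU : e ∉ T.U)
  (hez : ¬ IsConj h.z (h.φ e))

include hf in
/-- involutions of `Q O(C(z))` are conjugate to `z` -/
theorem conj_z_of_mem {x : G} (hx : x ∈ h.Q ⊔ K h.z) (hxx : x * x = 1) (hx1 : x ≠ 1) :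
    IsConj h.z x := by
  obtain ⟨t, ht, htt, -, s, -, hs⟩ := Quo.exists_conj_Q (h := h) hxx hx
  have ht1 : t ≠ 1 := by
    rintro rfl
    rw [map_one] at hs
    apply hx1
    rw [← hs]; group
  exact (conj_z_of_mem_Q hf ht htt ht1).trans (isConj_iff.mpr ⟨s, hs⟩)

include ψ he heU hez in
/-- conjugates of `z` in `C(z)` lie in `Q O(C(z))` -/
theorem mem_of_conj_z {x : G} (hx : IsConj h.z x) (hc : x * h.z = h.z * x) :
    x ∈ h.Q ⊔ K h.z := by
  by_contra hn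
  obtain ⟨c, -, hc2⟩ := ψ.exists_conj_e he heU hc (sq_of_conj (zz h) hx) hn
  exact hez (hx.trans (isConj_iff.mpr ⟨c, hc2⟩))

omit [Finite G] in
theorem phi_sq {e : T} (he : e ∈ T.E1) : h.φ e * h.φ e = 1 := by
  rw [← map_mul, T.E1_sq e he, map_one]

include hf ψ he heU hez in
/-- conjugates of `e` in `C(z)` are conjugate to `e` under `C(z)` -/
theorem exists_conj_of_conj_e {y : G} (hy : IsConj (h.φ e) y) (hc : y * h.z = h.z * y) :
    ∃ c, c * h.z = h.z * c ∧ c * h.φ e * c⁻¹ = y := by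
  have hyy := sq_of_conj (phi_sq he) hy
  have hn : y ∉ h.Q ⊔ K h.z := by
    intro hm
    have hy1 : y ≠ 1 := by
      rintro rfl
      have h1 := isConj_one_right.mp hy.symm
      rw [← map_one h.φ] at h1
      have h2 := h.inj h1
      rw [h2] at heU
      exact heU (one_mem _)
    exact hez ((conj_z_of_mem hf hm hyy hy1).trans hy.symm)
  obtain ⟨c, hcz, hc2⟩ := ψ.exists_conj_e he heU hc hyy hn
  refine ⟨c⁻¹, inv_comm_z h hcz, ?_⟩
  rw [← hc2]
  group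

end Fusion

section Count

variable {h : Setup G} [Finite G] (hf : Fused h) (ψ : Quo h) {e : T} (he : e ∈ T.E1)
  (heU : e ∉ T.U) (hez : ¬ IsConj h.z (h.φ e))

include ψ in
theorem card_centralizer_z :
    Nat.card (centralizer ({h.z} : Set G)) = 1920 * Nat.card (K h.z) := by
  have h1 : Nat.card (centralizer ({h.z} : Set G)) =
      Nat.card (alternatingGroup (Fin 5)) * (Nat.card (K h.z) * 32) := by
    apply card_of_fibres (fun c : centralizer ({h.z} : Set G) => ψ.p c)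
    intro b
    obtain ⟨x, hx, rfl⟩ := ψ.surj b
    have h32 := card_sup_K h T.Q
    rw [T.card_Q] at h32
    rw [← h32]
    have hle : ∀ y ∈ h.Q ⊔ K h.z, y * h.z = h.z * y := by
      intro y hy
      obtain ⟨k, hk, t, -, rfl⟩ := (mem_sup_K h T.Q).mp hy
      exact mul_comm_z h (K_comm_z h hk) (phi_comm_z h t)
    refine Nat.card_congr
      { toFun := fun c => ⟨x⁻¹ * (c.1 : G), (ψ.p_eq_iff hx
          (mem_centralizer_singleton_iff.mp c.1.2)).mp c.2.symm⟩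
        invFun := fun y => ⟨⟨x * (y : G), mem_centralizer_singleton_iff.mpr
          (mul_comm_z h hx (hle _ y.2))⟩, ?_⟩
        left_inv := ?_
        right_inv := ?_ }
    · refine ((ψ.p_eq_iff hx (mul_comm_z h hx (hle _ y.2))).mpr ?_).symm
      have : x⁻¹ * (x * (y : G)) = y := by group
      rw [this]
      exact y.2
    · intro c
      apply Subtype.ext
      apply Subtype.ext
      change x * (x⁻¹ * (c.1 : G)) = c.1
      group
    · intro y
      apply Subtype.ext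
      change x⁻¹ * (x * (y : G)) = y
      group
  have h60 : Nat.card (alternatingGroup (Fin 5)) = 60 := by
    rw [nat_card_alternatingGroup, Nat.card_eq_fintype_card, Fintype.card_fin]
    rfl
  rw [h1, h60]
  ring

include ψ he heU in
theorem card_centralizer_ze :
    Nat.card ↥(centralizer {h.z} ⊓ centralizer {h.φ e} : Subgroup G) =
      16 * Nat.card ↥(K h.z ⊓ centralizer {h.φ e} : Subgroup G) := by
  have hcomm : ∀ t : T, t ∈ T.E1 → h.φ t * h.φ e = h.φ e * h.φ t := by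
    intro t ht
    rw [← map_mul, ← map_mul, T.E1_comm t e ht he]
  have h16 : Nat.card T.E1 = 16 := T.card_E1
  rw [mul_comm, ← h16, ← Nat.card_prod]
  symm
  refine Nat.card_congr (Equiv.ofBijective
    (fun p : ↥(K h.z ⊓ centralizer {h.φ e} : Subgroup G) × T.E1 =>
    (⟨(p.1 : G) * h.φ p.2, ?_⟩ :
      ↥(centralizer {h.z} ⊓ centralizer {h.φ e} : Subgroup G))) ⟨?_, ?_⟩)
  · have h1 := mem_inf.mp p.1.2
    have h2 := mem_centralizer_singleton_iff.mp h1.2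
    refine mem_inf.mpr ⟨mem_centralizer_singleton_iff.mpr
      (mul_comm_z h (K_comm_z h h1.1) (phi_comm_z h _)), mem_centralizer_singleton_iff.mpr ?_⟩
    rw [mul_assoc, hcomm _ p.2.2, ← mul_assoc, h2, mul_assoc]
  · rintro ⟨k, t⟩ ⟨k', t'⟩ e'
    obtain ⟨h1, h2⟩ := unique h (mem_inf.mp k.2).1 (mem_inf.mp k'.2).1
      (congrArg Subtype.val e')
    rw [Prod.mk.injEq]
    exact ⟨Subtype.ext h1, Subtype.ext h2⟩
  · rintro ⟨c, hc⟩
    obtain ⟨hc1, hc2⟩ := mem_inf.mp hc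
    rw [mem_centralizer_singleton_iff] at hc1 hc2
    -- the image of `c` lies in the image of `E1`
    obtain ⟨f, hf, hfU, hef⟩ := exists_E1_basis e he heU
    have hpe1 : ψ.p (h.φ e) ≠ 1 := fun h0 => E1_notQ e he heU (ψ.p_phi.mp h0)
    have hpf1 : ψ.p (h.φ f) ≠ 1 := fun h0 => E1_notQ f hf hfU (ψ.p_phi.mp h0)
    have hpe2 : ψ.p (h.φ e) * ψ.p (h.φ e) = 1 := by
      rw [← ψ.mul _ _ (phi_comm_z h e) (phi_comm_z h e), phi_sq he, ψ.p_one]
    have hpf2 : ψ.p (h.φ f) * ψ.p (h.φ f) = 1 := by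
      rw [← ψ.mul _ _ (phi_comm_z h f) (phi_comm_z h f), phi_sq hf, ψ.p_one]
    have hne : ψ.p (h.φ e) ≠ ψ.p (h.φ f) := by
      intro h0
      have h1 := ψ.p_phi_eq.mp h0
      have h2 : e⁻¹ = e := (eq_inv_of_mul_eq_one_left (T.E1_sq e he)).symm
      rw [h2] at h1
      exact E1_notQ _ (T.E1.mul_mem he hf) hef h1
    have hcm : ψ.p (h.φ e) * ψ.p (h.φ f) = ψ.p (h.φ f) * ψ.p (h.φ e) := by
      rw [← ψ.mul _ _ (phi_comm_z h e) (phi_comm_z h f),
        ← ψ.mul _ _ (phi_comm_z h f) (phi_comm_z h e), hcomm f hf]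
    have hcc : ψ.p (h.φ e) * ψ.p c = ψ.p c * ψ.p (h.φ e) := by
      rw [← ψ.mul _ _ (phi_comm_z h e) hc1, ← ψ.mul _ _ hc1 (phi_comm_z h e), hc2]
    have hex : ∃ t ∈ T.E1, ψ.p (h.φ t) = ψ.p c := by
      rcases a5_comm _ _ hpe2 hpe1 hpf2 hpf1 hne hcm _ hcc with h0 | h0 | h0 | h0
      · exact ⟨1, T.E1.one_mem, by rw [h0, map_one, ψ.p_one]⟩
      · exact ⟨e, he, h0.symm⟩
      · exact ⟨f, hf, h0.symm⟩
      · exact ⟨e * f, T.E1.mul_mem he hf, by
          rw [h0, map_mul, ψ.mul _ _ (phi_comm_z h e) (phi_comm_z h f)]⟩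
    obtain ⟨t, ht, htp⟩ := hex
    have h1 := (ψ.p_eq_iff (phi_comm_z h t) hc1).mp htp
    obtain ⟨k, hk, q, hq, hkq⟩ := (mem_sup_K h T.Q).mp h1
    -- `c = (φ t k φ t⁻¹) φ (t q)`
    have h2 : c = (h.φ t * k * (h.φ t)⁻¹) * h.φ (t * q) := by
      rw [map_mul]
      calc c = h.φ t * ((h.φ t)⁻¹ * c) := by group
        _ = h.φ t * (k * h.φ q) := by rw [hkq]
        _ = _ := by group
    obtain ⟨k', hk', x, hcx⟩ : ∃ k' ∈ K h.z, ∃ x : T, c = k' * h.φ x :=
      ⟨_, z_conj_K h (phi_comm_z h t) hk, _, h2⟩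
    clear h2 hkq h1
    subst hcx
    have h3 : x * e * x⁻¹ = e := by
      have h4 : k' * h.φ (x * e * x⁻¹) * k'⁻¹ = h.φ e := by
        rw [map_mul, map_mul, map_inv]
        calc k' * (h.φ x * h.φ e * (h.φ x)⁻¹) * k'⁻¹
            = (k' * h.φ x * h.φ e) * (k' * h.φ x)⁻¹ := by group
          _ = h.φ e := by rw [hc2]; group
      have h5 : k' * h.φ (x * e * x⁻¹) = (h.φ e * k' * (h.φ e)⁻¹) * h.φ e := by
        calc k' * h.φ (x * e * x⁻¹) = (k' * h.φ (x * e * x⁻¹) * k'⁻¹) * k' := by group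
          _ = h.φ e * k' := by rw [h4]
          _ = _ := by group
      exact (unique h hk' (z_conj_K h (phi_comm_z h e) hk') h5).2
    have h6 : x ∈ T.E1 := T.comm_E1 e x he heU (by
      calc e * x = (x * e * x⁻¹) * x := by rw [h3]
        _ = x * e := by group)
    have h7 : k' * h.φ e = h.φ e * k' := by
      have h8 := hcomm x h6
      calc k' * h.φ e = (k' * h.φ x) * ((h.φ x)⁻¹ * h.φ e) := by group
        _ = (k' * h.φ x) * (h.φ e * (h.φ x)⁻¹) := by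
            rw [show (h.φ x)⁻¹ * h.φ e = h.φ e * (h.φ x)⁻¹ from by
              rw [inv_mul_eq_iff_eq_mul, ← mul_assoc, h8]; group]
        _ = (k' * h.φ x * h.φ e) * (h.φ x)⁻¹ := by group
        _ = h.φ e * k' := by rw [hc2]; group
    exact ⟨(⟨k', mem_inf.mpr ⟨hk', mem_centralizer_singleton_iff.mpr h7⟩⟩, ⟨x, h6⟩), rfl⟩

omit [Finite G] in
include hf in
/-- the centralizers in `O(C(z))` of the involutions of `Q ∖ U` -/
theorem card_K_inf_tau {q : T} (hq : q.s = true) (hqq : q * q = 1) :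
    Nat.card ↥(K h.z ⊓ centralizer {h.φ q} : Subgroup G) =
      Nat.card ↥(K h.z ⊓ centralizer {h.v} : Subgroup G) := by
  obtain ⟨g, hg⟩ := T.tau_conj q hq hqq
  obtain ⟨x, hx, -, hxv⟩ := hf.f2
  have hc : x * h.φ g * h.z = h.z * (x * h.φ g) := mul_comm_z h hx (phi_comm_z h g)
  have h1 := card_conj_inf (K' := K h.z) (c := x * h.φ g) (x := h.φ q)
    (fun k hk => z_conj_K h hc hk) (fun k hk => by
      have h2 := z_conj_K h (inv_comm_z h hc) hk
      rwa [inv_inv] at h2)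
  rw [h1]
  have h3 : x * h.φ g * h.φ q * (x * h.φ g)⁻¹ = h.v := by
    calc x * h.φ g * h.φ q * (x * h.φ g)⁻¹ = x * (h.φ g * h.φ q * (h.φ g)⁻¹) * x⁻¹ := by group
      _ = x * h.tau * x⁻¹ := by rw [h.phi_conj, hg]; rfl
      _ = h.v := hxv
  rw [h3]

include hf ψ he heU hez in
/-- the condition on the pairs with second entry `e` -/
theorem iff_coset (x : G) : (IsConj h.z x ∧ h.z ∈ zpowers (x * h.φ e)) ↔
    ∃ q : T, (q.s = true ∧ q * q = 1) ∧ (x * x = 1 ∧ x * (h.φ q)⁻¹ ∈ K h.z) := by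
  have hK := K_odd h.z
  constructor
  · rintro ⟨hx, hm⟩
    have hxx := sq_of_conj (zz h) hx
    have hcx := (comm_of_mem_zpowers hxx (phi_sq he) (zz h) hm).1
    have hxQ := mem_of_conj_z ψ he heU hez hx hcx
    obtain ⟨q, hqQ, hqq, hk, -⟩ := Quo.exists_conj_Q (h := h) hxx hxQ
    refine ⟨q, ⟨?_, hqq⟩, hxx, hk⟩
    rcases inv_Q q hqq hqQ with hU | hs
    · exfalso
      -- `q ∈ U`: then `(x e)^2 ∈ K`
      set k := x * (h.φ q)⁻¹ with hkdef
      have hxk : x = k * h.φ q := by rw [hkdef]; group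
      have hqe : q * e ∈ T.E1 := T.E1.mul_mem (T.U_le_E1 hU) he
      have hy : x * h.φ e = k * h.φ (q * e) := by rw [hxk, map_mul]; group
      have hy2 : (x * h.φ e) * (x * h.φ e) ∈ K h.z := by
        rw [hy]
        have h1 : k * h.φ (q * e) * (k * h.φ (q * e)) =
            k * (h.φ (q * e) * k * (h.φ (q * e))⁻¹) * (h.φ (q * e) * h.φ (q * e)) := by group
        rw [h1, phi_sq hqe, mul_one]
        exact (K h.z).mul_mem hk (z_conj_K h (phi_comm_z h _) hk)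
      obtain ⟨n, hn⟩ := mem_zpowers_iff.mp hm
      rcases Int.even_or_odd' n with ⟨m, rfl | rfl⟩
      · -- even
        have h1 : (x * h.φ e) ^ (2 * m) ∈ K h.z := by
          rw [zpow_mul, zpow_two]
          exact (K h.z).zpow_mem hy2 m
        rw [hn] at h1
        have h2 := eq_one_of_mem_K h (t := T.z) h1
        revert h2
        decide
      · have h1 : ψ.p h.z = 1 := ψ.p_phi.mpr (T.U_le_Q (by decide))
        rw [← hn, zpow_add, zpow_mul, zpow_two, zpow_one, ψ.mul _ _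
          (K_comm_z h ((K h.z).zpow_mem hy2 m)) (mul_comm_z h hcx (phi_comm_z h e)),
          ψ.p_K ((K h.z).zpow_mem hy2 m), one_mul, ψ.mul _ _ hcx (phi_comm_z h e),
          (ψ.ker _ hcx).mpr hxQ, one_mul] at h1
        exact E1_notQ e he heU (ψ.p_phi.mp h1)
    · exact hs
  · rintro ⟨q, ⟨hs, hqq⟩, hxx, hk⟩
    obtain ⟨s, hsK, hsx⟩ := exists_conj_of_coset hK (t := h.φ q) (by
      rw [← map_mul, hqq, map_one]) hxx hk
    have hqz : IsConj h.z (h.φ q) := conj_z_of_mem_Q hf (T.mem_Q_of_inv_not_R q hs hqq) hqq (by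
      rintro rfl
      revert hs
      decide)
    refine ⟨hqz.trans (isConj_iff.mpr ⟨s, hsx⟩), ?_⟩
    set k := x * (h.φ q)⁻¹ with hkdef
    have hxk : x = k * h.φ q := by rw [hkdef]; group
    have hy : x * h.φ e = k * h.φ (q * e) := by rw [hxk, map_mul]; group
    have h4 := pow_mul_inv_mem hk (s := h.φ (q * e))
      (fun y hy => z_conj_K h (phi_comm_z h _) hy) 4
    rw [← hy] at h4
    have h5 : (h.φ (q * e)) ^ 4 = h.z := by
      have h6 := pow4 q hs hqq e he heU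
      rw [← map_pow]
      change _ = h.φ T.z
      rw [← h6, show 4 = 2 + 2 from rfl, pow_add, pow_two]
    rw [h5] at h4
    -- `(x e)^4 = k' z`
    set k' := (x * h.φ e) ^ 4 * h.z⁻¹ with hk'
    have h7 : (x * h.φ e) ^ 4 = k' * h.z := by rw [hk']; group
    have h8 : Commute k' h.z := K_comm_z h h4
    have h9 : ((x * h.φ e) ^ 4) ^ Nat.card (K h.z) = h.z := by
      rw [h7, h8.mul_pow]
      have h10 : k' ^ Nat.card (K h.z) = 1 := by
        have h5 : (⟨k', h4⟩ : K h.z) ^ Nat.card (K h.z) = 1 := pow_card_eq_one'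
        exact congrArg Subtype.val h5
      obtain ⟨m, hm⟩ := hK
      rw [h10, one_mul, hm, pow_add, pow_mul, pow_two, zz h, one_pow, one_mul, pow_one]
    rw [← h9, ← pow_mul]
    exact pow_mem (mem_zpowers _) _

include hf ψ he heU hez in
/-- the number of `x ~ z` with `z ∈ ⟨x e⟩` -/
theorem card_M : Nat.card {x : G // IsConj h.z x ∧ h.z ∈ zpowers (x * h.φ e)} *
    Nat.card ↥(K h.z ⊓ centralizer {h.v} : Subgroup G) = 8 * Nat.card (K h.z) := by
  have hK := K_odd h.z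
  rw [Nat.card_congr (Equiv.subtypeEquivRight (iff_coset hf ψ he heU hez))]
  have e1 : {x : G // ∃ q : T, (q.s = true ∧ q * q = 1) ∧ (x * x = 1 ∧ x * (h.φ q)⁻¹ ∈ K h.z)} ≃
      Σ q : {q : T // q.s = true ∧ q * q = 1},
        {x : G // x * x = 1 ∧ x * (h.φ q.1)⁻¹ ∈ K h.z} := by
    symm
    refine Equiv.ofBijective (fun p => ⟨p.2.1, p.1.1, p.1.2, p.2.2⟩) ⟨?_, ?_⟩
    · rintro ⟨⟨q, hq⟩, ⟨x, hx⟩⟩ ⟨⟨q', hq'⟩, ⟨x', hx'⟩⟩ e'
      have h1 : x = x' := congrArg Subtype.val e'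
      subst h1
      have h2 : q = q' := by
        have h3 := unique h hx.2 hx'.2 (t := q) (t' := q') (by group)
        exact h3.2
      subst h2
      rfl
    · rintro ⟨x, q, hq, hx⟩
      exact ⟨⟨⟨q, hq⟩, ⟨x, hx⟩⟩, rfl⟩
  set κ := Nat.card ↥(K h.z ⊓ centralizer {h.v} : Subgroup G) with hκ
  have hκ0 : 0 < κ := Nat.card_pos
  have h2 : ∀ q : {q : T // q.s = true ∧ q * q = 1},
      Nat.card {x : G // x * x = 1 ∧ x * (h.φ q.1)⁻¹ ∈ K h.z} = Nat.card (K h.z) / κ := by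
    rintro ⟨q, hq, hqq⟩
    have h3 := card_coset hK (t := h.φ q) (by rw [← map_mul, hqq, map_one])
      (fun k hk => z_conj_K h (phi_comm_z h q) hk)
    rw [card_K_inf_tau hf hq hqq, ← hκ] at h3
    exact (Nat.div_eq_of_eq_mul_left hκ0 h3.symm).symm
  rw [Nat.card_congr e1, card_sigma_const _ h2, card_tauClass, mul_assoc]
  congr 1
  have hdvd : κ ∣ Nat.card (K h.z) := card_dvd_of_le inf_le_left
  exact Nat.div_mul_cancel hdvd

include hf ψ he heU hez in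
/-- **the first term of the Thompson order formula** -/
theorem card_pairs : Nat.card {p : G × G // IsConj h.z p.1 ∧ IsConj (h.φ e) p.2 ∧
      h.z ∈ zpowers (p.1 * p.2)} *
    (Nat.card ↥(K h.z ⊓ centralizer {h.φ e} : Subgroup G) *
      Nat.card ↥(K h.z ⊓ centralizer {h.v} : Subgroup G)) = 960 * Nat.card (K h.z) ^ 2 := by
  set κv := Nat.card ↥(K h.z ⊓ centralizer {h.v} : Subgroup G) with hκv
  set κe := Nat.card ↥(K h.z ⊓ centralizer {h.φ e} : Subgroup G) with hκe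
  -- the number of possible `y`
  have hY : Nat.card {y : G // IsConj (h.φ e) y ∧ y * h.z = h.z * y} * κe =
      120 * Nat.card (K h.z) := by
    have h1 := card_orbit_mul (centralizer ({h.z} : Set G)) (h.φ e)
    have h2 : ∀ y : G, (∃ s ∈ centralizer ({h.z} : Set G), s * h.φ e * s⁻¹ = y) ↔
        (IsConj (h.φ e) y ∧ y * h.z = h.z * y) := by
      intro y
      constructor
      · rintro ⟨s, hs, rfl⟩
        have hs' := mem_centralizer_singleton_iff.mp hs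
        exact ⟨isConj_iff.mpr ⟨s, rfl⟩, mul_comm_z h (mul_comm_z h hs' (phi_comm_z h e))
          (inv_comm_z h hs')⟩
      · rintro ⟨hy1, hy2⟩
        obtain ⟨c, hc, hc2⟩ := exists_conj_of_conj_e hf ψ he heU hez hy1 hy2
        exact ⟨c, mem_centralizer_singleton_iff.mpr hc, hc2⟩
    rw [Nat.card_congr (Equiv.subtypeEquivRight h2), card_centralizer_ze ψ he heU,
      card_centralizer_z ψ, ← hκe] at h1
    have h3 : 16 * (Nat.card {y : G // IsConj (h.φ e) y ∧ y * h.z = h.z * y} * κe) =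
        16 * (120 * Nat.card (K h.z)) := by
      linarith
    exact Nat.eq_of_mul_eq_mul_left (by norm_num) h3
  -- fibres
  have hM : ∀ y : {y : G // IsConj (h.φ e) y ∧ y * h.z = h.z * y},
      Nat.card {x : G // IsConj h.z x ∧ h.z ∈ zpowers (x * y.1)} =
        Nat.card {x : G // IsConj h.z x ∧ h.z ∈ zpowers (x * h.φ e)} := by
    rintro ⟨y, hy1, hy2⟩
    obtain ⟨c, hc, hc2⟩ := exists_conj_of_conj_e hf ψ he heU hez hy1 hy2
    symm
    refine Nat.card_congr ((MulAut.conj c).toEquiv.subtypeEquiv fun x => ?_)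
    simp only [MulEquiv.toEquiv_eq_coe, EquivLike.coe_coe, MulAut.conj_apply]
    have h1 : IsConj h.z x ↔ IsConj h.z (c * x * c⁻¹) := by
      have h2 : IsConj x (c * x * c⁻¹) := isConj_iff.mpr ⟨c, rfl⟩
      exact ⟨fun h3 => h3.trans h2, fun h3 => h3.trans h2.symm⟩
    rw [← h1, ← hc2]
    have h3 : c * x * c⁻¹ * (c * h.φ e * c⁻¹) = c * (x * h.φ e) * c⁻¹ := by group
    have h4 : h.z = c * h.z * c⁻¹ := by rw [hc]; group
    rw [h3]
    refine and_congr_right fun _ => ?_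
    constructor
    · intro hm
      obtain ⟨n, hn⟩ := mem_zpowers_iff.mp hm
      rw [mem_zpowers_iff]
      refine ⟨n, ?_⟩
      rw [conj_zpow, hn, ← h4]
    · intro hm
      obtain ⟨n, hn⟩ := mem_zpowers_iff.mp hm
      rw [mem_zpowers_iff]
      refine ⟨n, ?_⟩
      rw [conj_zpow, h4] at hn
      exact mul_left_cancel (mul_right_cancel hn)
  have key : ∀ p : G × G, (IsConj h.z p.1 ∧ IsConj (h.φ e) p.2 ∧ h.z ∈ zpowers (p.1 * p.2)) ↔
      ((IsConj (h.φ e) p.2 ∧ p.2 * h.z = h.z * p.2) ∧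
        (IsConj h.z p.1 ∧ h.z ∈ zpowers (p.1 * p.2))) := by
    rintro ⟨x, y⟩
    constructor
    · rintro ⟨hx, hy, hm⟩
      exact ⟨⟨hy, (comm_of_mem_zpowers (sq_of_conj (zz h) hx) (sq_of_conj (phi_sq he) hy)
        (zz h) hm).2⟩, hx, hm⟩
    · rintro ⟨⟨hy, -⟩, hx, hm⟩
      exact ⟨hx, hy, hm⟩
  have e2 : {p : G × G // (IsConj (h.φ e) p.2 ∧ p.2 * h.z = h.z * p.2) ∧
        (IsConj h.z p.1 ∧ h.z ∈ zpowers (p.1 * p.2))} ≃
      Σ y : {y : G // IsConj (h.φ e) y ∧ y * h.z = h.z * y},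
        {x : G // IsConj h.z x ∧ h.z ∈ zpowers (x * y.1)} :=
    { toFun := fun p => ⟨⟨p.1.2, p.2.1⟩, ⟨p.1.1, p.2.2⟩⟩
      invFun := fun q => ⟨(q.2.1, q.1.1), q.1.2, q.2.2⟩
      left_inv := fun p => rfl
      right_inv := fun q => rfl }
  rw [Nat.card_congr (Equiv.subtypeEquivRight key), Nat.card_congr e2, card_sigma_const _ hM]
  have h8 := card_M hf ψ he heU hez
  rw [← hκv] at h8
  calc Nat.card {y : G // IsConj (h.φ e) y ∧ y * h.z = h.z * y} *
        Nat.card {x : G // IsConj h.z x ∧ h.z ∈ zpowers (x * h.φ e)} * (κe * κv)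
      = (Nat.card {y : G // IsConj (h.φ e) y ∧ y * h.z = h.z * y} * κe) *
        (Nat.card {x : G // IsConj h.z x ∧ h.z ∈ zpowers (x * h.φ e)} * κv) := by ring
    _ = (120 * Nat.card (K h.z)) * (8 * Nat.card (K h.z)) := by rw [hY, h8]
    _ = 960 * Nat.card (K h.z) ^ 2 := by ring

end Count

end Cfsg.Agent.J2Sylow.OrderZ
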