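import Mathlib
import Cfsg.Agent.S0213
import Cfsg.Agent.Lib.ProductSet
import Cfsg.Agent.J2Sylow.CosetCount
import Cfsg.Agent.J2Sylow.OrderZ
import Cfsg.Agent.J2Sylow.Inv

/-!
# The part of the order formula used in step (4) of S1776 (piece A)
-/

set_option autoImplicit false

namespace Cfsg.Agent.J2Sylow.OrderPart

open Subgroup Cfsg.Agent.J2Sylow.CosetCount
open scoped Pointwise
open Cfsg.Agent.J2Sylow.OrderZ (comm_of_mem_zpowers sq_of_conj card_conj_inf mem_sup_iff)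

/-! ### counting by equivalence classes -/

theorem dvd_mul_card_of_rel {α : Type*} [Finite α] (r : Setoid α) (n c : ℕ)
    (h : ∀ a : α, n ∣ c * Nat.card {b : α // r b a}) : n ∣ c * Nat.card α := by
  classical
  have := Fintype.ofFinite (Quotient r)
  have h1 : Nat.card α = ∑ q : Quotient r, Nat.card {a : α // (Quotient.mk r a) = q} := by
    rw [← Nat.card_sigma]
    exact Nat.card_congr (Equiv.sigmaFiberEquiv (Quotient.mk r)).symm
  rw [h1, Finset.mul_sum]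
  refine Finset.dvd_sum fun q _ => ?_
  obtain ⟨a, rfl⟩ := Quotient.exists_rep q
  have h2 := h a
  rw [Nat.card_congr (Equiv.subtypeEquivRight fun b => (Quotient.eq (r := r)))]
  exact h2

variable {G : Type*} [Group G]

theorem sq_of_orderOf {x : G} (hx : orderOf x = 2) : x * x = 1 := by
  rw [← pow_two, ← hx, pow_orderOf_eq_one]

theorem ne_one_of_orderOf {x : G} (hx : orderOf x = 2) : x ≠ 1 := by
  rintro rfl; simp at hx

theorem orderOf_of_isConj {x y : G} (h : IsConj x y) : orderOf y = orderOf x := by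
  obtain ⟨c, hc⟩ := isConj_iff.mp h
  rw [← hc]
  exact orderOf_injective (MulAut.conj c).toMonoidHom (MulAut.conj c).injective x

/-- a product of two commuting elements of a set of "good" elements -/
theorem comm_mul {x y z : G} (hx : x * z = z * x) (hy : y * z = z * y) :
    x * y * z = z * (x * y) := by rw [mul_assoc, hy, ← mul_assoc, hx, mul_assoc]

theorem comm_inv {x z : G} (hx : x * z = z * x) : x⁻¹ * z = z * x⁻¹ := by
  calc x⁻¹ * z = x⁻¹ * (z * x) * x⁻¹ := by group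
    _ = x⁻¹ * (x * z) * x⁻¹ := by rw [hx]
    _ = z * x⁻¹ := by group

/-- `x` and `y x`-like elements have the same powers modulo a normalised subgroup -/
theorem pow_mem_of_coset {N : Subgroup G} {x y : G} (hN : ∀ k ∈ N, x * k * x⁻¹ ∈ N)
    (hxy : y * x⁻¹ ∈ N) (n : ℕ) : y ^ n * (x ^ n)⁻¹ ∈ N := by
  have h1 := Cfsg.Agent.J2Sylow.Functor.pow_mul_inv_mem hxy hN n
  have h2 : y * x⁻¹ * x = y := by group
  rwa [h2] at h1

/-- in a group with odd normal subgroup `J`, having odd order is a property of the image -/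
theorem odd_of_coset [Finite G] {J : Subgroup G} (hJ : Odd (Nat.card J)) {x y : G}
    (hN : ∀ k ∈ J, x * k * x⁻¹ ∈ J) (hxy : y * x⁻¹ ∈ J) (ho : Odd (orderOf x)) :
    Odd (orderOf y) := by
  have h1 := pow_mem_of_coset hN hxy (orderOf x)
  rw [pow_orderOf_eq_one, inv_one, mul_one] at h1
  have h2 : (y ^ orderOf x) ^ Nat.card J = 1 := by
    have h5 : (⟨y ^ orderOf x, h1⟩ : J) ^ Nat.card J = 1 := pow_card_eq_one'
    exact congrArg Subtype.val h5
  rw [← pow_mul] at h2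
  exact Odd.of_dvd_nat (ho.mul hJ) (orderOf_dvd_of_pow_eq_one h2)

section

variable [Finite G] {z a y : G} {K J : Subgroup G}

omit [Finite G] in
/-- all commuting pairs `(z-type, a-type)` with second entry `a` are conjugate -/
theorem exists_conj_za (h2 : ∀ b, IsConj a b → b * z = z * b → ∃ g, g * z = z * g ∧ g * b * g⁻¹ = a)
    {u : G} (hu : IsConj z u) (hua : u * a = a * u) : ∃ g, g * a = a * g ∧ g * u * g⁻¹ = z := by
  obtain ⟨c, hc⟩ := isConj_iff.mp hu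
  have h3 : (c⁻¹ * a * c) * z = z * (c⁻¹ * a * c) := by
    have h4 : z = c⁻¹ * u * c := by rw [← hc]; group
    rw [h4]
    calc c⁻¹ * a * c * (c⁻¹ * u * c) = c⁻¹ * (a * u) * c := by group
      _ = c⁻¹ * (u * a) * c := by rw [hua]
      _ = _ := by group
  obtain ⟨g, hg1, hg2⟩ := h2 (c⁻¹ * a * c) (isConj_iff.mpr ⟨c⁻¹, by group⟩) h3
  refine ⟨g * c⁻¹, ?_, ?_⟩
  · calc g * c⁻¹ * a = (g * (c⁻¹ * a * c) * g⁻¹) * (g * c⁻¹) := by group
      _ = a * (g * c⁻¹) := by rw [hg2]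
  · calc g * c⁻¹ * u * (g * c⁻¹)⁻¹ = g * (c⁻¹ * u * c) * g⁻¹ := by group
      _ = g * z * g⁻¹ := by rw [← hc]; group
      _ = z := by rw [hg1]; group

/-- the number of `J`-conjugates of a `z`-type element of `C(a)` -/
theorem card_orbit_J (hz : z * z = 1) (hza : z * a = a * z) (hJodd : Odd (Nat.card J))
    (hJn : ∀ g : G, g * a = a * g → ∀ x ∈ J, g * x * g⁻¹ ∈ J)
    (h2 : ∀ b, IsConj a b → b * z = z * b → ∃ g, g * z = z * g ∧ g * b * g⁻¹ = a)
    {u : G} (hu : IsConj z u) (hua : u * a = a * u) :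
    Nat.card {x : G // ∃ s ∈ J, s * u * s⁻¹ = x} = inv J z := by
  have h3 := card_orbit_mul J u
  have h4 := inv_mul_card (D := J) hJodd hz (hJn z hza)
  obtain ⟨g, hg1, hg2⟩ := exists_conj_za h2 hu hua
  have h5 := card_conj_inf (K' := J) (c := g) (x := u) (hJn g hg1) (fun k hk => by
    have := hJn g⁻¹ (comm_inv hg1) k hk
    rwa [inv_inv] at this)
  rw [hg2] at h5
  rw [h5, ← h4] at h3
  exact Nat.eq_of_mul_eq_mul_right Nat.card_pos h3

/-- `j²` divides the number of pairs -/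
theorem sq_dvd (hz : z * z = 1) (hza : z * a = a * z) (hJodd : Odd (Nat.card J))
    (hJC : ∀ x ∈ J, x * a = a * x)
    (hJn : ∀ g : G, g * a = a * g → ∀ x ∈ J, g * x * g⁻¹ ∈ J)
    (h2 : ∀ b, IsConj a b → b * z = z * b → ∃ g, g * z = z * g ∧ g * b * g⁻¹ = a) :
    inv J z * inv J z ∣ Nat.card {p : G × G // (IsConj z p.1 ∧ p.1 * a = a * p.1) ∧
      (IsConj z p.2 ∧ p.2 * a = a * p.2) ∧ Odd (orderOf (p.1 * p.2))} := by
  set α := {p : G × G // (IsConj z p.1 ∧ p.1 * a = a * p.1) ∧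
      (IsConj z p.2 ∧ p.2 * a = a * p.2) ∧ Odd (orderOf (p.1 * p.2))} with hα
  let r : Setoid α :=
    { r := fun p q => (∃ s ∈ J, s * q.1.1 * s⁻¹ = p.1.1) ∧ (∃ s ∈ J, s * q.1.2 * s⁻¹ = p.1.2)
      iseqv := by
        refine ⟨?_, ?_, ?_⟩
        · intro p
          exact ⟨⟨1, J.one_mem, by group⟩, ⟨1, J.one_mem, by group⟩⟩
        · rintro p q ⟨⟨s, hs, e⟩, ⟨t, ht, e'⟩⟩
          exact ⟨⟨s⁻¹, J.inv_mem hs, by rw [← e]; group⟩, ⟨t⁻¹, J.inv_mem ht, by rw [← e']; group⟩⟩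
        · rintro p q w ⟨⟨s, hs, e⟩, ⟨t, ht, e'⟩⟩ ⟨⟨s', hs', f⟩, ⟨t', ht', f'⟩⟩
          exact ⟨⟨s * s', J.mul_mem hs hs', by rw [← e, ← f]; group⟩,
            ⟨t * t', J.mul_mem ht ht', by rw [← e', ← f']; group⟩⟩ }
  have h3 := dvd_mul_card_of_rel r (inv J z * inv J z) 1 ?_
  · rwa [one_mul] at h3
  rintro ⟨⟨u, w⟩, ⟨hu1, hu2⟩, ⟨hw1, hw2⟩, ho⟩
  rw [one_mul]
  have h4 : Nat.card {b : α // r b ⟨(u, w), ⟨hu1, hu2⟩, ⟨hw1, hw2⟩, ho⟩} =
      Nat.card ({x : G // ∃ s ∈ J, s * u * s⁻¹ = x} × {x : G // ∃ s ∈ J, s * w * s⁻¹ = x}) := by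
    refine Nat.card_congr
      { toFun := fun b => (⟨b.1.1.1, b.2.1⟩, ⟨b.1.1.2, b.2.2⟩)
        invFun := fun x => ⟨⟨(x.1.1, x.2.1), ?_, ?_, ?_⟩, x.1.2, x.2.2⟩
        left_inv := fun b => rfl
        right_inv := fun x => rfl }
    · obtain ⟨s, hs, e⟩ := x.1.2
      refine ⟨hu1.trans (isConj_iff.mpr ⟨s, e⟩), ?_⟩
      change x.1.1 * a = a * x.1.1
      rw [← e]
      exact comm_mul (comm_mul (hJC s hs) hu2) (comm_inv (hJC s hs))
    · obtain ⟨s, hs, e⟩ := x.2.2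
      refine ⟨hw1.trans (isConj_iff.mpr ⟨s, e⟩), ?_⟩
      change x.2.1 * a = a * x.2.1
      rw [← e]
      exact comm_mul (comm_mul (hJC s hs) hw2) (comm_inv (hJC s hs))
    · obtain ⟨s, hs, e⟩ := x.1.2
      obtain ⟨t, ht, e'⟩ := x.2.2
      change Odd (orderOf (x.1.1 * x.2.1))
      refine odd_of_coset hJodd (x := u * w) (hJn _ (comm_mul hu2 hw2)) ?_ ho
      rw [← e, ← e']
      have e3 : s * u * s⁻¹ * (t * w * t⁻¹) * (u * w)⁻¹ =
          s * (u * (s⁻¹ * t) * u⁻¹) * ((u * w) * t⁻¹ * (u * w)⁻¹) := by group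
      rw [e3]
      exact J.mul_mem (J.mul_mem hs (hJn u hu2 _ (J.mul_mem (J.inv_mem hs) ht)))
        (hJn _ (comm_mul hu2 hw2) _ (J.inv_mem ht))
  rw [h4, Nat.card_prod, card_orbit_J hz hza hJodd hJn h2 hu1 hu2,
    card_orbit_J hz hza hJodd hJn h2 hw1 hw2]

omit [Finite G] in
/-- `u a` is of type `a` for `u` of type `z` commuting with `a` -/
theorem mul_a_conj (hca : IsConj a (z * a))
    (h2 : ∀ b, IsConj a b → b * z = z * b → ∃ g, g * z = z * g ∧ g * b * g⁻¹ = a)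
    {u : G} (hu : IsConj z u) (hua : u * a = a * u) : IsConj a (u * a) := by
  obtain ⟨g, hg1, hg2⟩ := exists_conj_za h2 hu hua
  refine hca.trans (isConj_iff.mpr ⟨g⁻¹, ?_⟩)
  rw [← hg2]
  calc g⁻¹ * (g * u * g⁻¹ * a) * g⁻¹⁻¹ = u * (g⁻¹ * (a * g)) := by group
    _ = u * a := by rw [← hg1]; group

omit [Finite G] in
/-- the second term of the order formula as a number of pairs of involutions of `C(a)` -/
theorem card_second (hz : z * z = 1) (ha : a * a = 1) (hnc : ¬ IsConj z a)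
    (hca : IsConj a (z * a))
    (h2 : ∀ b, IsConj a b → b * z = z * b → ∃ g, g * z = z * g ∧ g * b * g⁻¹ = a) :
    Nat.card {p : G × G // IsConj z p.1 ∧ IsConj a p.2 ∧ a ∈ zpowers (p.1 * p.2)} =
    Nat.card {p : G × G // (IsConj z p.1 ∧ p.1 * a = a * p.1) ∧
      (IsConj z p.2 ∧ p.2 * a = a * p.2) ∧ Odd (orderOf (p.1 * p.2))} := by
  have hai : a⁻¹ = a := (eq_inv_of_mul_eq_one_left ha).symm
  refine Nat.card_congr ((Equiv.prodCongr (Equiv.refl G) (Equiv.mulRight a)).subtypeEquiv ?_)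
  rintro ⟨u, v⟩
  simp only [Equiv.prodCongr_apply, Prod.map_apply, Equiv.refl_apply, Equiv.coe_mulRight]
  constructor
  · rintro ⟨hu, hv, hm⟩
    have huu := sq_of_conj hz hu
    have hvv := sq_of_conj ha hv
    obtain ⟨hua, hva⟩ := comm_of_mem_zpowers huu hvv ha hm
    obtain ⟨k, hk⟩ := mem_zpowers_iff.mp hm
    have hui : u⁻¹ = u := (eq_inv_of_mul_eq_one_left huu).symm
    have hvi : v⁻¹ = v := (eq_inv_of_mul_eq_one_left hvv).symm
    set x := u * v with hx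
    have hux : u * x * u⁻¹ = x⁻¹ := by
      rw [hx, mul_inv_rev, hui, hvi, ← mul_assoc, huu, one_mul]
    have hvx : v * x * v⁻¹ = x⁻¹ := by
      rw [hx, mul_inv_rev, hui, hvi]
      calc v * (u * v) * v = v * u * (v * v) := by group
        _ = v * u := by rw [hvv, mul_one]
    have huxn : ∀ n : ℤ, u * x ^ n * u⁻¹ = x ^ (-n) := by
      intro n
      rw [← conj_zpow, hux, inv_zpow, zpow_neg]
    have hvxn : ∀ n : ℤ, v * x ^ n * v⁻¹ = x ^ (-n) := by
      intro n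
      rw [← conj_zpow, hvx, inv_zpow, zpow_neg]
    have hodd : Odd k := by
      rcases Int.even_or_odd' k with ⟨m, rfl | rfl⟩
      · exfalso
        -- `u ~ u a`
        have h5 : x ^ (-m) * u * (x ^ (-m))⁻¹ = u * a := by
          have h6 := huxn m
          calc x ^ (-m) * u * (x ^ (-m))⁻¹ = (u * x ^ m * u⁻¹) * u * (x ^ (-m))⁻¹ := by rw [h6]
            _ = u * (x ^ m * (x ^ (-m))⁻¹) := by group
            _ = u * a := by rw [← hk, ← zpow_neg, ← zpow_add]; congr 2; ring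
        have h6 : IsConj z (u * a) := hu.trans (isConj_iff.mpr ⟨_, h5⟩)
        exact hnc (h6.trans (mul_a_conj hca h2 hu hua).symm)
      · exact ⟨m, rfl⟩
    refine ⟨⟨hu, hua⟩, ⟨?_, comm_mul hva rfl⟩, ?_⟩
    · obtain ⟨m, rfl⟩ := hodd
      refine hu.trans (isConj_iff.mpr ⟨x ^ (-(m + 1)), ?_⟩)
      have h6 := hvxn (m + 1)
      have h7 : u = v * x⁻¹ := by rw [hx, mul_inv_rev, hui, hvi, ← mul_assoc, hvv, one_mul]
      calc x ^ (-(m + 1)) * u * (x ^ (-(m + 1)))⁻¹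
          = (v * x ^ (m + 1) * v⁻¹) * (v * x⁻¹) * (x ^ (-(m + 1)))⁻¹ := by rw [h6, ← h7]
        _ = v * (x ^ (m + 1) * x⁻¹ * (x ^ (-(m + 1)))⁻¹) := by group
        _ = v * a := by
            rw [← hk, ← zpow_neg, ← zpow_neg_one, ← zpow_add, ← zpow_add]
            congr 2
            ring
    · have h8 : u * (v * a) = x ^ (k + 1) := by
        rw [zpow_add_one, hk, ← mul_assoc, ← hx]
        exact comm_mul hua hva
      have h9 : (x ^ (k + 1)) ^ k = 1 := by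
        rw [← zpow_mul, mul_comm, zpow_mul, hk]
        obtain ⟨m, rfl⟩ := hodd
        rw [show (2 * m + 1 + 1 : ℤ) = 2 * (m + 1) by ring, zpow_mul, zpow_two, ha, one_zpow]
      rw [h8]
      have h10 := orderOf_dvd_iff_zpow_eq_one.mpr h9
      have h11 : orderOf (x ^ (k + 1)) ∣ k.natAbs := by
        rw [← Int.natCast_dvd]; exact h10
      exact Odd.of_dvd_nat (Int.natAbs_odd.mpr hodd) h11
  · rintro ⟨⟨hu, hua⟩, ⟨hw, hwa⟩, ho⟩
    have h5 := mul_a_conj hca h2 hw hwa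
    have h6 : v * a * a = v := by rw [mul_assoc, ha, mul_one]
    rw [h6] at h5
    refine ⟨hu, h5, ?_⟩
    have h7 : u * v = (u * (v * a)) * a := by
      rw [mul_assoc, h6]
    have h8 : Commute (u * (v * a)) a := comm_mul hua hwa
    have h9 : (u * v) ^ orderOf (u * (v * a)) = a := by
      obtain ⟨m, hm⟩ := ho
      rw [h7, h8.mul_pow, pow_orderOf_eq_one, one_mul, hm, pow_add, pow_mul, pow_two, ha, one_pow,
        one_mul, pow_one]
    rw [mem_zpowers_iff]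
    refine ⟨(orderOf (u * (v * a)) : ℕ), ?_⟩
    rw [zpow_natCast]
    exact h9

omit [Finite G] in
/-- the group of pairs of elements of `C(z)` which are congruent modulo `K` -/
def pairs (z : G) (K : Subgroup G)
    (hKn : ∀ g : G, g * z = z * g → ∀ x ∈ K, g * x * g⁻¹ ∈ K) : Subgroup (G × G) where
  carrier := {p | (p.1 * z = z * p.1 ∧ p.2 * z = z * p.2) ∧ p.1⁻¹ * p.2 ∈ K}
  one_mem' := by
    refine ⟨⟨by simp, by simp⟩, ?_⟩
    simp
  mul_mem' := by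
    rintro ⟨g, g'⟩ ⟨x, x'⟩ ⟨⟨h1, h2⟩, h3⟩ ⟨⟨h4, h5⟩, h6⟩
    refine ⟨⟨comm_mul h1 h4, comm_mul h2 h5⟩, ?_⟩
    change (g * x)⁻¹ * (g' * x') ∈ K
    have e : (g * x)⁻¹ * (g' * x') = x⁻¹ * (g⁻¹ * g') * x⁻¹⁻¹ * (x⁻¹ * x') := by group
    rw [e]
    exact K.mul_mem (hKn _ (comm_inv h4) _ h3) h6
  inv_mem' := by
    rintro ⟨g, g'⟩ ⟨⟨h1, h2⟩, h3⟩
    refine ⟨⟨comm_inv h1, comm_inv h2⟩, ?_⟩
    change g⁻¹⁻¹ * g'⁻¹ ∈ K
    have e : g⁻¹⁻¹ * g'⁻¹ = g * (g⁻¹ * g')⁻¹ * g⁻¹ := by group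
    rw [e]
    exact hKn g h1 _ (K.inv_mem h3)

omit [Finite G] in
theorem card_pairs' (hKC : ∀ x ∈ K, x * z = z * x)
    (hKn : ∀ g : G, g * z = z * g → ∀ x ∈ K, g * x * g⁻¹ ∈ K) :
    Nat.card (pairs z K hKn) = Nat.card (centralizer ({z} : Set G)) * Nat.card K := by
  rw [← Nat.card_prod]
  refine Nat.card_congr
    { toFun := fun p => (⟨p.1.1, mem_centralizer_singleton_iff.mpr p.2.1.1⟩,
        ⟨p.1.1⁻¹ * p.1.2, p.2.2⟩)
      invFun := fun q => ⟨(q.1, q.1 * q.2), ⟨mem_centralizer_singleton_iff.mp q.1.2,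
        comm_mul (mem_centralizer_singleton_iff.mp q.1.2) (hKC _ q.2.2)⟩, ?_⟩
      left_inv := ?_
      right_inv := ?_ }
  · change (q.1 : G)⁻¹ * ((q.1 : G) * q.2) ∈ K
    rw [inv_mul_cancel_left]
    exact q.2.2
  · rintro ⟨⟨g, g'⟩, hp⟩
    apply Subtype.ext
    apply Prod.ext
    · rfl
    · change g * (g⁻¹ * g') = g'
      group
  · rintro ⟨g, k⟩
    apply Prod.ext
    · rfl
    · apply Subtype.ext
      change (g : G)⁻¹ * ((g : G) * k) = k
      group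

/-- membership of `z` in a cyclic subgroup of `C(z)` depends only on the image modulo `K` -/
theorem mem_zpowers_of_coset (hz : z * z = 1) (hKodd : Odd (Nat.card K))
    (hKC : ∀ x ∈ K, x * z = z * x)
    (hKn : ∀ g : G, g * z = z * g → ∀ x ∈ K, g * x * g⁻¹ ∈ K) {x x' : G} (hx : x * z = z * x)
    (hxx : x' * x⁻¹ ∈ K) (hm : z ∈ zpowers x) : z ∈ zpowers x' := by
  obtain ⟨n, hn⟩ := mem_powers_iff_mem_zpowers.mpr hm
  simp only at hn
  have h1 := pow_mem_of_coset (hKn x hx) hxx n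
  rw [hn] at h1
  set k := x' ^ n * z⁻¹ with hk
  have h2 : x' ^ n = k * z := by rw [hk]; group
  have h8 : Commute k z := hKC k h1
  have h9 : (x' ^ n) ^ Nat.card K = z := by
    have h10 : k ^ Nat.card K = 1 := by
      have h5 : (⟨k, h1⟩ : K) ^ Nat.card K = 1 := pow_card_eq_one'
      exact congrArg Subtype.val h5
    obtain ⟨m, hm⟩ := hKodd
    rw [h2, h8.mul_pow, h10, one_mul, hm, pow_add, pow_mul, pow_two, hz, one_pow, one_mul, pow_one]
  rw [← h9, ← pow_mul]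
  exact pow_mem (mem_zpowers _) _

/-- the stabiliser of a pair -/
theorem card_stab (hKC : ∀ x ∈ K, x * z = z * x)
    (hKn : ∀ g : G, g * z = z * g → ∀ x ∈ K, g * x * g⁻¹ ∈ K) {u v : G}
    (h3 : ∀ g : G, g * z = z * g → g * v = v * g → ∃ n : ℕ, g ^ (2 ^ n) ∈ K) :
    ∃ m, m ≤ Nat.card (G × G) ∧ Nat.card ↥(pairs z K hKn ⊓ centralizer {(u, v)} : Subgroup (G × G))
      = 2 ^ m * (Nat.card ↥(K ⊓ centralizer {u} : Subgroup G) *
        Nat.card ↥(K ⊓ centralizer {v} : Subgroup G)) := by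
  set S := (pairs z K hKn ⊓ centralizer {(u, v)} : Subgroup (G × G)) with hS
  set L := ((K ⊓ centralizer {u}).prod (K ⊓ centralizer {v}) : Subgroup (G × G)) with hL
  have hmem : ∀ p : G × G, p ∈ S ↔ ((p.1 * z = z * p.1 ∧ p.2 * z = z * p.2) ∧ p.1⁻¹ * p.2 ∈ K) ∧
      (p.1 * u = u * p.1 ∧ p.2 * v = v * p.2) := by
    rintro ⟨g, g'⟩
    rw [hS, mem_inf, mem_centralizer_singleton_iff]
    refine and_congr Iff.rfl ?_
    rw [Prod.mk_mul_mk, Prod.mk_mul_mk, Prod.mk.injEq]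
  have hmemL : ∀ p : G × G, p ∈ L ↔ (p.1 ∈ K ∧ p.1 * u = u * p.1) ∧
      (p.2 ∈ K ∧ p.2 * v = v * p.2) := by
    rintro ⟨g, g'⟩
    rw [hL, mem_prod, mem_inf, mem_inf, mem_centralizer_singleton_iff,
      mem_centralizer_singleton_iff]
  have hLS : L ≤ S := by
    intro p hp
    rw [hmemL] at hp
    rw [hmem]
    exact ⟨⟨⟨hKC _ hp.1.1, hKC _ hp.2.1⟩, K.mul_mem (K.inv_mem hp.1.1) hp.2.1⟩, hp.1.2, hp.2.2⟩
  have hnorm : (L.subgroupOf S).Normal := by
    refine ⟨?_⟩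
    rintro ⟨⟨l, l'⟩, hl0⟩ hl ⟨⟨g, g'⟩, hg⟩
    rw [mem_subgroupOf] at hl ⊢
    rw [hmem] at hg
    rw [hmemL] at hl ⊢
    obtain ⟨⟨⟨g1, g2⟩, g3⟩, g4, g5⟩ := hg
    obtain ⟨⟨l1, l2⟩, l3, l4⟩ := hl
    exact ⟨⟨hKn g g1 l l1, comm_mul (comm_mul g4 l2) (comm_inv g4)⟩,
      ⟨hKn g' g2 l' l3, comm_mul (comm_mul g5 l4) (comm_inv g5)⟩⟩
  have hP : IsPGroup 2 (S ⧸ L.subgroupOf S) := by
    intro x
    obtain ⟨⟨⟨g, g'⟩, hg⟩, rfl⟩ := QuotientGroup.mk_surjective x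
    have hg' := hg
    rw [hmem] at hg'
    obtain ⟨⟨⟨g1, g2⟩, g3⟩, g4, g5⟩ := hg'
    obtain ⟨n, hn⟩ := h3 g' g2 g5
    refine ⟨n, ?_⟩
    rw [← QuotientGroup.mk_pow, QuotientGroup.eq_one_iff, mem_subgroupOf, hmemL]
    change (g ^ 2 ^ n ∈ K ∧ g ^ 2 ^ n * u = u * g ^ 2 ^ n) ∧
      (g' ^ 2 ^ n ∈ K ∧ g' ^ 2 ^ n * v = v * g' ^ 2 ^ n)
    have h4 : g ^ 2 ^ n ∈ K := by
      have h5 : g * g'⁻¹ ∈ K := by
        have e : g * g'⁻¹ = g' * (g⁻¹ * g')⁻¹ * g'⁻¹ := by group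
        rw [e]
        exact hKn g' g2 _ (K.inv_mem g3)
      have h6 := pow_mem_of_coset (hKn g' g2) h5 (2 ^ n)
      have e : g ^ 2 ^ n = g ^ 2 ^ n * (g' ^ 2 ^ n)⁻¹ * g' ^ 2 ^ n := by group
      rw [e]
      exact K.mul_mem h6 hn
    have h7 : Commute g u := g4
    have h8 : Commute g' v := g5
    exact ⟨⟨h4, h7.pow_left _⟩, hn, h8.pow_left _⟩
  obtain ⟨m, hm⟩ := (IsPGroup.iff_card (p := 2)).mp hP
  have hcard : Nat.card S = 2 ^ m * Nat.card L := by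
    have h5 := Subgroup.card_eq_card_quotient_mul_card_subgroup (L.subgroupOf S)
    rw [h5, hm, Nat.card_congr (subgroupOfEquivOfLe hLS).toEquiv]
  refine ⟨m, ?_, ?_⟩
  · have h6 : 2 ^ m ≤ Nat.card (G × G) := by
      have h7 : 2 ^ m ≤ Nat.card S := by
        rw [hcard]
        exact Nat.le_mul_of_pos_right _ Nat.card_pos
      exact h7.trans (Nat.card_le_card_of_injective _ (Subtype.val_injective))
    exact (Nat.lt_two_pow_self).le.trans h6
  · rw [hcard, hL, Nat.card_congr ((K ⊓ centralizer {u}).prodEquiv (K ⊓ centralizer {v})).toEquiv,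
      Nat.card_prod]

/-- divisibility of the first term -/
theorem first_dvd {y : G} (hz : z * z = 1) (ha : a * a = 1) (hz1 : z ≠ 1) (ha1 : a ≠ 1)
    (hy : y * y = 1) (hzy : z * y = y * z)
    (hKodd : Odd (Nat.card K)) (hKC : ∀ x ∈ K, x * z = z * x)
    (hKn : ∀ g : G, g * z = z * g → ∀ x ∈ K, g * x * g⁻¹ ∈ K)
    (h1 : ∀ u, IsConj z u → u ≠ z → u * z = z * u → ∃ g, g * z = z * g ∧ g * u * g⁻¹ = y)
    (h2 : ∀ b, IsConj a b → b * z = z * b → ∃ g, g * z = z * g ∧ g * b * g⁻¹ = a)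
    (h3 : ∀ g : G, g * z = z * g → g * a * g⁻¹ * a⁻¹ ∈ K → ∃ n : ℕ, g ^ (2 ^ n) ∈ K) :
    Nat.card (centralizer ({z} : Set G)) * inv K y ∣
      (2 ^ Nat.card (G × G) * Nat.card ↥(K ⊓ centralizer {a} : Subgroup G)) *
      Nat.card {p : G × G // IsConj z p.1 ∧ IsConj a p.2 ∧ z ∈ zpowers (p.1 * p.2)} := by
  set β := {p : G × G // IsConj z p.1 ∧ IsConj a p.2 ∧ z ∈ zpowers (p.1 * p.2)} with hβ
  let A := pairs z K hKn
  let r : Setoid β :=
    { r := fun p q => ∃ s ∈ A, s * q.1 * s⁻¹ = p.1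
      iseqv := by
        refine ⟨?_, ?_, ?_⟩
        · intro p
          exact ⟨1, A.one_mem, by group⟩
        · rintro p q ⟨s, hs, e⟩
          exact ⟨s⁻¹, A.inv_mem hs, by rw [← e]; group⟩
        · rintro p q w ⟨s, hs, e⟩ ⟨s', hs', f⟩
          exact ⟨s * s', A.mul_mem hs hs', by rw [← e, ← f]; group⟩ }
  refine dvd_mul_card_of_rel r _ _ ?_
  rintro ⟨⟨u, v⟩, hu, hv, hm⟩
  change IsConj z u at hu
  change IsConj a v at hv
  change z ∈ zpowers (u * v) at hm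
  have huu := sq_of_conj hz hu
  have hvv := sq_of_conj ha hv
  obtain ⟨huz, hvz⟩ := comm_of_mem_zpowers huu hvv hz hm
  -- the class is an orbit
  have h4 : Nat.card {b : β // r b ⟨(u, v), hu, hv, hm⟩} =
      Nat.card {x : G × G // ∃ s ∈ A, s * (u, v) * s⁻¹ = x} := by
    refine Nat.card_congr
      { toFun := fun b => ⟨b.1.1, b.2⟩
        invFun := fun x => ⟨⟨x.1, ?_⟩, x.2⟩
        left_inv := fun b => rfl
        right_inv := fun x => rfl }
    obtain ⟨⟨x, x'⟩, ⟨s, s'⟩, hs, e⟩ := x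
    change (s * u * s⁻¹, s' * v * s'⁻¹) = (x, x') at e
    rw [Prod.mk.injEq] at e
    obtain ⟨rfl, rfl⟩ := e
    obtain ⟨⟨s1, s2⟩, s3⟩ := hs
    change s * z = z * s at s1
    change s' * z = z * s' at s2
    change s⁻¹ * s' ∈ K at s3
    refine ⟨hu.trans (isConj_iff.mpr ⟨s, rfl⟩), hv.trans (isConj_iff.mpr ⟨s', rfl⟩), ?_⟩
    change z ∈ zpowers (s * u * s⁻¹ * (s' * v * s'⁻¹))
    -- conjugate back by `s`
    have h5 : z ∈ zpowers (u * (s⁻¹ * s') * v * (s⁻¹ * s')⁻¹) := by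
      refine mem_zpowers_of_coset hz hKodd hKC hKn (x := u * v) (comm_mul huz hvz) ?_ hm
      have e : u * (s⁻¹ * s') * v * (s⁻¹ * s')⁻¹ * (u * v)⁻¹ =
          (u * (s⁻¹ * s') * u⁻¹) * ((u * v) * (s⁻¹ * s')⁻¹ * (u * v)⁻¹) := by group
      rw [e]
      exact K.mul_mem (hKn u huz _ s3) (hKn _ (comm_mul huz hvz) _ (K.inv_mem s3))
    obtain ⟨n, hn⟩ := mem_zpowers_iff.mp h5
    rw [mem_zpowers_iff]
    refine ⟨n, ?_⟩
    have e : s * u * s⁻¹ * (s' * v * s'⁻¹) = s * (u * (s⁻¹ * s') * v * (s⁻¹ * s')⁻¹) * s⁻¹ := by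
      group
    rw [e, conj_zpow, hn, s1]
    group
  rw [h4]
  have h5 := card_orbit_mul A ((u, v) : G × G)
  -- `u ≠ z`
  have huz' : u ≠ z := by
    rintro rfl
    have h6 : (u * v) * (u * v) = 1 := by
      calc (u * v) * (u * v) = u * (v * u) * v := by group
        _ = (u * u) * (v * v) := by rw [hvz]; group
        _ = 1 := by rw [huu, hvv, one_mul]
    obtain ⟨n, hn⟩ := mem_zpowers_iff.mp hm
    rcases Int.even_or_odd' n with ⟨m, rfl | rfl⟩
    · rw [zpow_mul, zpow_two, h6, one_zpow] at hn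
      exact hz1 hn.symm
    · rw [zpow_add, zpow_mul, zpow_two, h6, one_zpow, one_mul, zpow_one] at hn
      have h7 : v = 1 := mul_left_cancel (a := u) (by rw [hn, mul_one])
      rw [h7] at hv
      exact ha1 (isConj_one_right.mp hv.symm)
  obtain ⟨g, hg1, hg2⟩ := h1 u hu huz' huz
  obtain ⟨x, hx1, hx2⟩ := h2 v hv hvz
  have hstab : ∀ g : G, g * z = z * g → g * v = v * g → ∃ n : ℕ, g ^ (2 ^ n) ∈ K := by
    intro g hg hgv
    obtain ⟨n, hn⟩ := h3 (x * g * x⁻¹) (comm_mul (comm_mul hx1 hg) (comm_inv hx1)) (by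
      have e : x * g * x⁻¹ * a * (x * g * x⁻¹)⁻¹ * a⁻¹ = 1 := by
        rw [← hx2]
        calc x * g * x⁻¹ * (x * v * x⁻¹) * (x * g * x⁻¹)⁻¹ * (x * v * x⁻¹)⁻¹
            = x * (g * v) * g⁻¹ * v⁻¹ * x⁻¹ := by group
          _ = 1 := by rw [hgv]; group
      rw [e]
      exact K.one_mem)
    refine ⟨n, ?_⟩
    rw [conj_pow] at hn
    have h6 := hKn x⁻¹ (comm_inv hx1) _ hn
    have e : x⁻¹ * (x * g ^ 2 ^ n * x⁻¹) * x⁻¹⁻¹ = g ^ 2 ^ n := by group
    rwa [e] at h6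
  obtain ⟨m, hmle, hm2⟩ := card_stab (u := u) (v := v) hKC hKn hstab
  change _ * Nat.card ↥(pairs z K hKn ⊓ centralizer {(u, v)} : Subgroup (G × G)) = _ at h5
  have hcu := card_conj_inf (K' := K) (c := g) (x := u) (hKn g hg1) (fun k hk => by
    have := hKn g⁻¹ (comm_inv hg1) k hk
    rwa [inv_inv] at this)
  have hcv := card_conj_inf (K' := K) (c := x) (x := v) (hKn x hx1) (fun k hk => by
    have := hKn x⁻¹ (comm_inv hx1) k hk
    rwa [inv_inv] at this)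
  rw [hg2] at hcu
  rw [hx2] at hcv
  rw [hm2, hcu, hcv, card_pairs' hKC hKn] at h5
  have h6 := inv_mul_card (D := K) hKodd hy (hKn y hzy.symm)
  set κy := Nat.card ↥(K ⊓ centralizer {y} : Subgroup G) with hκy
  set κa := Nat.card ↥(K ⊓ centralizer {a} : Subgroup G) with hκa
  have hκ0 : 0 < κy := Nat.card_pos
  set o := Nat.card {x : G × G // ∃ s ∈ A, s * (u, v) * s⁻¹ = x} with ho
  have h7 : κy * (o * 2 ^ m * κa) =
      κy * (Nat.card (centralizer ({z} : Set G)) * inv K y) := by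
    calc κy * (o * 2 ^ m * κa) = o * (2 ^ m * (κy * κa)) := by ring
      _ = Nat.card (centralizer ({z} : Set G)) * Nat.card K := h5
      _ = Nat.card (centralizer ({z} : Set G)) * (inv K y * κy) := by rw [h6]
      _ = κy * (Nat.card (centralizer ({z} : Set G)) * inv K y) := by ring
  have h8 := Nat.eq_of_mul_eq_mul_left hκ0 h7
  rw [← h8]
  obtain ⟨c, hc⟩ := Nat.exists_eq_add_of_le hmle
  rw [hc, pow_add]
  exact ⟨2 ^ c, by ring⟩

/-- the subgroup `C_K(a) J` of `C(a)` -/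
theorem dvd_card_centralizer_a (hz : z * z = 1) (hza : z * a = a * z)
    (hJodd : Odd (Nat.card J)) (hKC : ∀ x ∈ K, x * z = z * x)
    (hJC : ∀ x ∈ J, x * a = a * x)
    (hJn : ∀ g : G, g * a = a * g → ∀ x ∈ J, g * x * g⁻¹ ∈ J)
    (h0 : ∀ x ∈ J, x * z = z * x → x ∈ K) :
    Nat.card ↥(K ⊓ centralizer {a} : Subgroup G) * inv J z ∣
      Nat.card (centralizer ({a} : Set G)) := by
  set H := (K ⊓ centralizer {a} : Subgroup G) with hH
  have h1 := Cfsg.Agent.Lib.ProductSet.card_mul_card_inf J H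
  have h2 := inv_mul_card (D := J) hJodd hz (hJn z hza)
  have h3 : J ⊓ H = J ⊓ centralizer {z} := by
    ext x
    simp only [hH, mem_inf, mem_centralizer_singleton_iff]
    constructor
    · rintro ⟨h4, h5, -⟩
      exact ⟨h4, hKC x h5⟩
    · rintro ⟨h4, h5⟩
      exact ⟨h4, h0 x h4 h5, hJC x h4⟩
  have h4 : Nat.card ((J : Set G) * (H : Set G) : Set G) = Nat.card ↥(H ⊔ J : Subgroup G) := by
    refine Nat.card_congr (Equiv.setCongr ?_)
    ext x
    rw [SetLike.mem_coe, mem_sup_iff (fun s hs n hn =>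
      hJn s (mem_centralizer_singleton_iff.mp (mem_inf.mp hs).2) n hn), Set.mem_mul]
    constructor
    · rintro ⟨k, hk, s, hs, rfl⟩
      exact ⟨k, hk, s, hs, rfl⟩
    · rintro ⟨k, hk, s, hs, rfl⟩
      exact ⟨k, hk, s, hs, rfl⟩
  rw [h3, h4, ← h2] at h1
  have h5 : Nat.card ↥(H ⊔ J : Subgroup G) = Nat.card H * inv J z := by
    have h6 : 0 < Nat.card ↥(J ⊓ centralizer {z} : Subgroup G) := Nat.card_pos
    refine Nat.eq_of_mul_eq_mul_right h6 ?_
    rw [h1]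
    ring
  rw [← h5]
  refine card_dvd_of_le (sup_le (hH ▸ inf_le_right) ?_)
  intro x hx
  exact mem_centralizer_singleton_iff.mpr (hJC x hx)

end

set_option linter.unusedVariables false in
/-- **piece A of step (4)** -/
theorem order_part {G : Type*} [Group G] [Finite G] {z a y : G} {K J : Subgroup G}
    (hz : orderOf z = 2) (ha : orderOf a = 2) (hy : orderOf y = 2) (hnc : ¬ IsConj z a)
    (hall : ∀ t : G, orderOf t = 2 → IsConj z t ∨ IsConj a t) (hza : z * a = a * z)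
    (hca : IsConj a (z * a)) (hzy : z * y = y * z) (hy1 : IsConj z y) (hyz : y ≠ z)
    (hKodd : Odd (Nat.card K)) (hJodd : Odd (Nat.card J)) (hKC : ∀ x ∈ K, x * z = z * x)
    (hKn : ∀ g : G, g * z = z * g → ∀ x ∈ K, g * x * g⁻¹ ∈ K) (hJC : ∀ x ∈ J, x * a = a * x)
    (hJn : ∀ g : G, g * a = a * g → ∀ x ∈ J, g * x * g⁻¹ ∈ J)
    (h0 : ∀ x ∈ J, x * z = z * x → x ∈ K)
    (h1 : ∀ u, IsConj z u → u ≠ z → u * z = z * u → ∃ g, g * z = z * g ∧ g * u * g⁻¹ = y)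
    (h2 : ∀ b, IsConj a b → b * z = z * b → ∃ g, g * z = z * g ∧ g * b * g⁻¹ = a)
    (h3 : ∀ g : G, g * z = z * g → g * a * g⁻¹ * a⁻¹ ∈ K → ∃ n : ℕ, g ^ (2 ^ n) ∈ K)
    (d : ℕ) (hd : Odd d) (hd1 : d ∣ inv J z * inv J z) (hd2 : d ∣ inv J z * inv K y) :
    d ∣ (centralizer ({z} : Set G)).index := by
  have hzz := sq_of_orderOf hz
  have haa := sq_of_orderOf ha
  have hyy := sq_of_orderOf hy
  have hTOF := Cfsg.Agent.S0213.result z a hz ha hnc hall
  have hA := first_dvd hzz haa (ne_one_of_orderOf hz) (ne_one_of_orderOf ha) hyy hzy hKodd hKC hKn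
    h1 h2 h3
  have hB := sq_dvd hzz hza hJodd hJC hJn h2
  rw [← card_second hzz haa hnc hca h2] at hB
  have hC := dvd_card_centralizer_a hzz hza hJodd hKC hJC hJn h0
  set Nz := Nat.card {p : G × G // IsConj z p.1 ∧ IsConj a p.2 ∧ z ∈ zpowers (p.1 * p.2)} with hNz
  set Na := Nat.card {p : G × G // IsConj z p.1 ∧ IsConj a p.2 ∧ a ∈ zpowers (p.1 * p.2)} with hNa
  set κa := Nat.card ↥(K ⊓ centralizer {a} : Subgroup G) with hκa
  set Cz := Nat.card (centralizer ({z} : Set G)) with hCz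
  set P := 2 ^ Nat.card (G × G) with hP
  have hCz0 : 0 < Cz := Nat.card_pos
  have hidx := Subgroup.card_mul_index (centralizer ({z} : Set G))
  rw [← hCz] at hidx
  obtain ⟨c, hc⟩ := hC
  obtain ⟨e, he⟩ := hA
  obtain ⟨f, hf⟩ := hB
  have h5 : Cz * (P * (centralizer ({z} : Set G)).index) =
      Cz * ((inv J z * inv K y) * (c * e) + P * Na) := by
    calc Cz * (P * (centralizer ({z} : Set G)).index)
        = P * (Cz * (centralizer ({z} : Set G)).index) := by ring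
      _ = P * Nat.card G := by rw [hidx]
      _ = P * (κa * inv J z * c * Nz + Cz * Na) := by rw [hTOF, hc]
      _ = (P * κa * Nz) * (inv J z * c) + Cz * (P * Na) := by ring
      _ = (Cz * inv K y * e) * (inv J z * c) + Cz * (P * Na) := by rw [he]
      _ = _ := by ring
  have h6 := Nat.eq_of_mul_eq_mul_left hCz0 h5
  have h7 : d ∣ P * (centralizer ({z} : Set G)).index := by
    rw [h6, hf]
    exact dvd_add (hd2.mul_right _) (((hd1.mul_right f)).mul_left P)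
  have h8 : d.Coprime P := by
    rw [hP]
    exact (hd.coprime_two_right).pow_right _
  exact h8.dvd_of_dvd_mul_left h7

end Cfsg.Agent.J2Sylow.OrderPart
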