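import Mathlib
import Cfsg.Prelude.Def_Local
import Cfsg.Prelude.Def_Involutions
import Cfsg.Agent.J2Sylow.Hyp
import Cfsg.Agent.J2Sylow.Basics
import Cfsg.Agent.StandardComponent.CentCore

set_option autoImplicit false

/-!
# Factoring out a normal subgroup of odd order (piece F of step (4) of S1776)

If `N` is a normal subgroup of odd order of `G` then a `Setup` of `G` gives one of `G ⧸ N`, the
fusion is the same, and the balance property `Bal r` of `G ⧸ N` implies the one of `G`.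
-/

namespace Cfsg.Agent.J2Sylow.Quot

open Model Model.F4 Subgroup Cfsg.Agent.J2Sylow
open Cfsg.Agent.StandardComponent.CentCore

section Generic

variable {G : Type*} [Group G]

/-- involutions `x`, `y` with `|xy|` odd are conjugate in `⟨xy⟩` -/
theorem exists_conj_of_odd {x y : G} (hx : x * x = 1) (hy : y * y = 1)
    (ho : Odd (orderOf (x * y))) : ∃ g ∈ zpowers (x * y), g * x * g⁻¹ = y := by
  obtain ⟨k, hk⟩ := ho
  have h1 : (x * y) ^ (2 * k + 1) = 1 := by rw [← hk]; exact pow_orderOf_eq_one _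
  have hxi : x⁻¹ = x := inv_eq_of_mul_eq_one_left hx
  have hyi : y⁻¹ = y := inv_eq_of_mul_eq_one_left hy
  have hinv : ∀ k : ℕ, x * ((x * y) ^ k)⁻¹ = (x * y) ^ k * x := by
    intro k
    have h2 : x * (x * y)⁻¹ * x⁻¹ = x * y := by
      rw [mul_inv_rev, hxi, hyi]
      calc x * (y * x) * x = x * y * (x * x) := by simp only [mul_assoc]
        _ = x * y := by rw [hx, mul_one]
    have h3 : x * ((x * y) ^ k)⁻¹ * x⁻¹ = (x * y) ^ k := by
      rw [← inv_pow, ← conj_pow, h2]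
    exact mul_inv_eq_iff_eq_mul.1 h3
  refine ⟨(x * y) ^ k, npow_mem_zpowers _ _, ?_⟩
  rw [mul_assoc, hinv k, ← mul_assoc, ← pow_add]
  have h4 : (x * y) ^ (k + k) * (x * y) = 1 := by
    rw [← pow_succ, ← h1]; congr 1; omega
  rw [mul_eq_one_iff_eq_inv.mp h4, mul_inv_rev, hxi, hyi, mul_assoc, hx, mul_one]

theorem odd_orderOf_of_mem {N : Subgroup G} (hN : Odd (Nat.card N)) {x : G} (hx : x ∈ N) :
    Odd (orderOf x) := by
  have h1 := orderOf_dvd_natCard (⟨x, hx⟩ : N)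
  rw [Subgroup.orderOf_mk] at h1
  exact Odd.of_dvd_nat hN h1

/-- involutions which are equal modulo a subgroup of odd order are conjugate in it -/
theorem exists_conj_of_mul_mem {N : Subgroup G} (hN : Odd (Nat.card N)) {x y : G}
    (hx : x * x = 1) (hy : y * y = 1) (hxy : x * y ∈ N) : ∃ n ∈ N, n * x * n⁻¹ = y := by
  obtain ⟨n, hn, e⟩ := exists_conj_of_odd hx hy (odd_orderOf_of_mem hN hxy)
  exact ⟨n, (zpowers_le.2 hxy) hn, e⟩

/-- an element centralizing the involution `s` modulo `N` centralizes it after multiplication by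
an element of `N` -/
theorem exists_mul_comm {N : Subgroup G} (hN : Odd (Nat.card N)) {s g : G}
    (hs : s * s = 1) (hg : g * s * g⁻¹ * s⁻¹ ∈ N) : ∃ n ∈ N, (n * g) * s = s * (n * g) := by
  have hsi : s⁻¹ = s := inv_eq_of_mul_eq_one_left hs
  rw [hsi] at hg
  have h1 : (g * s * g⁻¹) * (g * s * g⁻¹) = 1 := by
    calc (g * s * g⁻¹) * (g * s * g⁻¹) = g * (s * s) * g⁻¹ := by group
      _ = 1 := by rw [hs]; group
  obtain ⟨n, hn, e⟩ := exists_conj_of_mul_mem hN h1 hs hg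
  refine ⟨n, hn, ?_⟩
  calc n * g * s = n * (g * s * g⁻¹) * n⁻¹ * (n * g) := by group
    _ = s * (n * g) := by rw [e]

variable [Finite G] (N : Subgroup G) [N.Normal]

/-- The order of the preimage of a subgroup of a quotient. -/
theorem card_comap_mk (W : Subgroup (G ⧸ N)) :
    Nat.card (W.comap (QuotientGroup.mk' N)) = Nat.card W * Nat.card N := by
  have h1 : (W.comap (QuotientGroup.mk' N)).index = W.index :=
    Subgroup.index_comap_of_surjective W (QuotientGroup.mk'_surjective N)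
  have h2 := (W.comap (QuotientGroup.mk' N)).card_mul_index
  have h3 := W.card_mul_index
  have h4 : Nat.card G = Nat.card (G ⧸ N) * Nat.card N := card_eq_card_quotient_mul_card_subgroup N
  rw [h1] at h2
  have h5 : 0 < W.index := Nat.pos_of_ne_zero index_ne_zero_of_finite
  apply Nat.eq_of_mul_eq_mul_right h5
  rw [h2, h4, ← h3]
  ring

/-- `O(C(s))` maps into `O(C(sN))` -/
theorem mk_mem_KK (hN : Odd (Nat.card N)) {s x : G} (hs : s * s = 1) (hx : x ∈ KK s) :
    (x : G ⧸ N) ∈ KK (s : G ⧸ N) := by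
  have hle : (KK s).map (QuotientGroup.mk' N) ≤ KK (s : G ⧸ N) := by
    refine le_core _ ?_ ?_ ?_
    · rintro _ ⟨y, hy, rfl⟩
      show ((y * s : G) : G ⧸ N) = ((s * y : G) : G ⧸ N)
      rw [core_comm hy]
    · intro g hg _ hy
      obtain ⟨y, hy, rfl⟩ := hy
      obtain ⟨g, rfl⟩ := QuotientGroup.mk_surjective g
      have hg' : ((g * s : G) : G ⧸ N) = ((s * g : G) : G ⧸ N) := hg
      have h1 : g * s * g⁻¹ * s⁻¹ ∈ N := by
        have h2 := (QuotientGroup.eq (s := N)).1 hg'.symm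
        have h3 := (inferInstance : N.Normal).conj_mem _ h2 (s * g)
        have h4 : s * g * ((s * g)⁻¹ * (g * s)) * (s * g)⁻¹ = g * s * g⁻¹ * s⁻¹ := by group
        rwa [h4] at h3
      obtain ⟨n, hn, e⟩ := exists_mul_comm hN hs h1
      refine ⟨(n * g) * y * (n * g)⁻¹, core_conj_mem e hy, ?_⟩
      have h5 : ((n : G) : G ⧸ N) = 1 := (QuotientGroup.eq_one_iff n).2 hn
      show (((n * g) * y * (n * g)⁻¹ : G) : G ⧸ N) = (g : G ⧸ N) * (y : G ⧸ N) * (g : G ⧸ N)⁻¹
      rw [QuotientGroup.mk_mul, QuotientGroup.mk_mul, QuotientGroup.mk_inv, QuotientGroup.mk_mul,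
        h5, one_mul]
    · have h1 : Nat.card ((KK s).map (QuotientGroup.mk' N)) ∣ Nat.card (KK s) :=
        Subgroup.card_map_dvd _ _
      exact Odd.of_dvd_nat (core_odd s) h1
  exact hle ⟨x, hx, rfl⟩

/-- elements of `C(s)` which map into `O(C(sN))` are in `O(C(s))` -/
theorem mem_KK_of_mk (hN : Odd (Nat.card N)) {s x : G} (hxs : x * s = s * x)
    (hx : (x : G ⧸ N) ∈ KK (s : G ⧸ N)) : x ∈ KK s := by
  let D : Subgroup G := (KK (s : G ⧸ N)).comap (QuotientGroup.mk' N) ⊓ centralizer {s}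
  have hD : D ≤ KK s := by
    refine le_core _ (fun y hy => mem_cent.1 hy.2) ?_ ?_
    · intro g hg y hy
      refine ⟨?_, ?_⟩
      · have h1 : (g : G ⧸ N) * (s : G ⧸ N) = (s : G ⧸ N) * (g : G ⧸ N) := by
          rw [← QuotientGroup.mk_mul, ← QuotientGroup.mk_mul, hg]
        exact core_conj_mem h1 hy.1
      · have h2 := mem_cent.1 hy.2
        have h3 : Commute g s := hg
        have h4 : Commute y s := h2
        exact mem_cent.2 ((h3.mul_left h4).mul_left h3.inv_left)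
    · have h1 := card_comap_mk N (KK (s : G ⧸ N))
      have h3 : Nat.card D ∣ Nat.card ((KK (s : G ⧸ N)).comap (QuotientGroup.mk' N)) :=
        Subgroup.card_dvd_of_le inf_le_left
      rw [h1] at h3
      exact Odd.of_dvd_nat ((core_odd _).mul hN) h3
  exact hD ⟨hx, mem_cent.2 hxs⟩

end Generic

section Main

variable {G : Type*} [Group G] [Finite G] (h : Setup G) (N : Subgroup G) [N.Normal]

/-- the setup of the quotient -/
noncomputable def setup (hN : Odd (Nat.card N)) : Setup (G ⧸ N) where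
  φ := (QuotientGroup.mk' N).comp h.φ
  inj := by
    rw [injective_iff_map_eq_one]
    intro t ht
    have h1 : h.φ t ∈ N := (QuotientGroup.eq_one_iff _).1 ht
    have h2 := odd_orderOf_of_mem hN h1
    rw [orderOf_injective h.φ h.inj] at h2
    have h3 : orderOf t ∣ 2 ^ 7 := by
      have := orderOf_dvd_natCard t
      rw [T.card_T] at this
      exact this
    obtain ⟨k, -, hk⟩ := (Nat.dvd_prime_pow Nat.prime_two).1 h3
    rcases Nat.eq_zero_or_pos k with h0 | h0
    · rw [h0, pow_zero] at hk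
      exact orderOf_eq_one_iff.1 hk
    · rw [hk] at h2
      exact absurd h2 (by rw [Nat.not_odd_iff_even]; exact (Nat.even_pow' h0.ne').2 even_two)
  odd_index := by
    have h1 : ((QuotientGroup.mk' N).comp h.φ).range = h.φ.range.map (QuotientGroup.mk' N) :=
      MonoidHom.range_comp _ _
    rw [h1]
    exact Odd.of_dvd_nat h.odd_index
      (Subgroup.index_map_dvd _ (QuotientGroup.mk'_surjective N))

/-- **Piece F.** -/
theorem bal_of_quotient (hN : Odd (Nat.card N)) : ∃ h' : Setup (G ⧸ N),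
    (∀ t, h'.φ t = (h.φ t : G ⧸ N)) ∧ (Fused h → Fused h') ∧ (Std h → Std h') ∧
    (IsConj h'.z h'.a → IsConj h.z h.a) ∧ ∀ r, Bal r h' → Bal r h := by
  have hφ : ∀ t, (setup h N hN).φ t = (h.φ t : G ⧸ N) := fun t => rfl
  have hzz : h.z * h.z = 1 := by
    show h.φ T.z * h.φ T.z = 1
    rw [← map_mul, show T.z * T.z = 1 by decide, map_one]
  have haa : h.a * h.a = 1 := by
    show h.φ ⟨e, o, o, false⟩ * h.φ ⟨e, o, o, false⟩ = 1
    rw [← map_mul, show (⟨e, o, o, false⟩ : T) * ⟨e, o, o, false⟩ = 1 by decide, map_one]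
  refine ⟨setup h N hN, hφ, ?_, ?_, ?_, ?_⟩
  · rintro ⟨⟨g, hg1, hg2⟩, ⟨k, hk1, hk2, hk3⟩⟩
    refine ⟨⟨(g : G ⧸ N), ?_, ?_⟩, ⟨(k : G ⧸ N), ?_, ?_, ?_⟩⟩
    · rintro _ ⟨t, ht, rfl⟩
      obtain ⟨t', ht', e⟩ := hg1 (h.φ t) ⟨t, ht, rfl⟩
      refine ⟨t', ht', ?_⟩
      rw [hφ, hφ, e]; rfl
    · show ((g * h.v * g⁻¹ : G) : G ⧸ N) = _
      rw [hg2]; rfl
    · show ((k * h.z : G) : G ⧸ N) = ((h.z * k : G) : G ⧸ N)
      rw [hk1]
    · rintro _ ⟨t, ht, rfl⟩
      obtain ⟨t', ht', e⟩ := hk2 (h.φ t) ⟨t, ht, rfl⟩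
      refine ⟨t', ht', ?_⟩
      rw [hφ, hφ, e]; rfl
    · show ((k * h.tau * k⁻¹ : G) : G ⧸ N) = _
      rw [hk3]; rfl
  · rintro ⟨c, hc1, hc2⟩
    refine ⟨(c : G ⧸ N), fun x => ?_, fun y => ?_⟩
    · show ((c * h.el x o * c⁻¹ : G) : G ⧸ N) = _
      rw [hc1]; rfl
    · show ((c * h.el o y * c⁻¹ : G) : G ⧸ N) = _
      rw [hc2]; rfl
  · intro hc
    obtain ⟨g, hg⟩ := isConj_iff.1 hc
    obtain ⟨g, rfl⟩ := QuotientGroup.mk_surjective g
    have h1 : ((g * h.z * g⁻¹ : G) : G ⧸ N) = ((h.a : G) : G ⧸ N) := hg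
    have h2 : g * h.z * g⁻¹ * h.a ∈ N := by
      rw [← QuotientGroup.eq_one_iff, QuotientGroup.mk_mul, h1, ← QuotientGroup.mk_mul, haa]
      rfl
    have h3 : (g * h.z * g⁻¹) * (g * h.z * g⁻¹) = 1 := by
      calc (g * h.z * g⁻¹) * (g * h.z * g⁻¹) = g * (h.z * h.z) * g⁻¹ := by group
        _ = 1 := by rw [hzz]; group
    obtain ⟨n, -, e⟩ := exists_conj_of_mul_mem hN h3 haa h2
    exact isConj_iff.2 ⟨n * g, by rw [← e]; group⟩
  · intro r hB x hx hV hv hr
    refine mem_KK_of_mk N hN ?_ ?_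
    · exact hV e
    · refine hB (x : G ⧸ N) (mk_mem_KK N hN hzz hx) ?_ ?_ ?_
      · intro t
        show ((x * h.el t o : G) : G ⧸ N) = ((h.el t o * x : G) : G ⧸ N)
        rw [hV t]
      · show ((h.v * x * h.v⁻¹ : G) : G ⧸ N) = ((x⁻¹ : G) : G ⧸ N)
        rw [hv]
      · obtain ⟨k, hk⟩ := hr
        exact ⟨k, by rw [← QuotientGroup.mk_pow, hk]; rfl⟩

end Main

end Cfsg.Agent.J2Sylow.Quot
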