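import Mathlib
import Cfsg.Agent.Lib.ElemAbGL
import Cfsg.Agent.Lib.DicksonAct

set_option autoImplicit false
set_option linter.style.haveILetI false

/-!
# Automorphisms of elementary abelian groups of order at most `r²`
-/

namespace Cfsg.Agent.J2Sylow.TFLinear

open Subgroup

theorem unit_eq_one {r : ℕ} [hr : Fact r.Prime] {u : (ZMod r)ˣ} {k : ℕ} (h : u ^ (r ^ k) = 1) :
    u = 1 := by
  have h1 : u ^ (r - 1) = 1 := ZMod.units_pow_card_sub_one_eq_one r u
  have h2 : Nat.Coprime (r ^ k) (r - 1) := by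
    refine Nat.Coprime.pow_left k ?_
    have h3 : 1 ≤ r := hr.out.one_le
    have h4 : Nat.Coprime (r - 1 + 1) (r - 1) := by
      simp
    rwa [Nat.sub_add_cancel h3] at h4
  have h3 := Nat.Coprime.eq_one_of_dvd
    (Nat.Coprime.coprime_dvd_left (orderOf_dvd_of_pow_eq_one h) h2)
    (orderOf_dvd_of_pow_eq_one h1)
  exact orderOf_eq_one_iff.1 h3

theorem gl_two {r : ℕ} [hr : Fact r.Prime] (hr2 : r ≠ 2) {g : GL (Fin 2) (ZMod r)}
    (hg : g * g = 1) (hd : Matrix.GeneralLinearGroup.det g = 1) : g = 1 ∨ g = -1 := by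
  have h2 : (2 : ZMod r) ≠ 0 := by
    intro h
    have h3 : ((2 : ℕ) : ZMod r) = 0 := by exact_mod_cast h
    rw [ZMod.natCast_eq_zero_iff] at h3
    exact hr2 ((Nat.prime_dvd_prime_iff_eq hr.out Nat.prime_two).1 h3)
  have hdet : (g : Matrix (Fin 2) (Fin 2) (ZMod r)).det = 1 := by
    have := congrArg Units.val hd
    simpa using this
  let s : Matrix.SpecialLinearGroup (Fin 2) (ZMod r) := ⟨g, hdet⟩
  have hss : s * s = 1 := by
    apply Subtype.ext
    exact congrArg Units.val hg
  rcases Lib.DicksonAct.eq_one_or_of_sq_eq_one h2 hss with h | h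
  · left
    apply Units.ext
    have := congrArg Subtype.val h
    simpa [s] using this
  · right
    apply Units.ext
    have := congrArg Subtype.val h
    simpa [s] using this

theorem sl_lemma {W : Type*} [CommGroup W] [Finite W] {r : ℕ} [hr : Fact r.Prime] (hr2 : r ≠ 2)
    (hexp : ∀ x : W, x ^ r = 1) (hc : Nat.card W ∣ r ^ 2) {α β : MulAut W}
    (hα : ∃ k : ℕ, α ^ (r ^ k) = 1) (hβ : ∃ k : ℕ, β ^ (r ^ k) = 1) {τ1 τ2 : MulAut W}
    (h1 : τ1 ∈ closure {α, β}) (h2 : τ2 ∈ closure {α, β}) (hs1 : τ1 * τ1 = 1)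
    (hs2 : τ2 * τ2 = 1) : τ1 = 1 ∨ τ2 = 1 ∨ τ1 * τ2 = 1 := by
  obtain ⟨n, hn, hcn⟩ := (Nat.dvd_prime_pow hr.out).1 hc
  obtain ⟨e⟩ := Lib.ElemAbGL.mulAut_equiv_GL (V := W) r n hexp hcn
  let d : MulAut W →* (ZMod r)ˣ := Matrix.GeneralLinearGroup.det.comp e.toMonoidHom
  have hd : closure {α, β} ≤ d.ker := by
    rw [closure_le]
    rintro x (rfl | rfl)
    · obtain ⟨k, hk⟩ := hα
      rw [SetLike.mem_coe, MonoidHom.mem_ker]
      apply unit_eq_one (k := k)
      rw [← map_pow, hk, map_one]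
    · obtain ⟨k, hk⟩ := hβ
      rw [SetLike.mem_coe, MonoidHom.mem_ker]
      apply unit_eq_one (k := k)
      rw [← map_pow, hk, map_one]
  have hd1 : d τ1 = 1 := hd h1
  have hd2 : d τ2 = 1 := hd h2
  have hinj : ∀ τ : MulAut W, e τ = 1 → τ = 1 := fun τ h => by
    rw [← map_one e] at h
    exact e.injective h
  interval_cases n
  · left
    apply hinj
    apply Units.ext
    ext i
    exact i.elim0
  · left
    apply hinj
    apply Units.ext
    have h3 : ((e τ1 : GL (Fin 1) (ZMod r)) : Matrix (Fin 1) (Fin 1) (ZMod r)).det = 1 := by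
      have := congrArg Units.val hd1
      simpa [d] using this
    rw [Matrix.det_fin_one] at h3
    ext i j
    have hi : i = 0 := Subsingleton.elim _ _
    have hj : j = 0 := Subsingleton.elim _ _
    subst hi
    subst hj
    rw [h3]
    simp
  · have e1 := gl_two hr2 (g := e τ1) (by rw [← map_mul, hs1, map_one]) hd1
    have e2 := gl_two hr2 (g := e τ2) (by rw [← map_mul, hs2, map_one]) hd2
    rcases e1 with e1 | e1
    · left; exact hinj _ e1
    · rcases e2 with e2 | e2
      · right; left; exact hinj _ e2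
      · right; right
        apply hinj
        rw [map_mul, e1, e2]
        simp

/-- an automorphism of 5-power order of a group of order dividing 9 is trivial -/
theorem five_lemma {W : Type*} [Group W] [Finite W] (hc : Nat.card W ∣ 3 ^ 2) {α : MulAut W}
    (hα : ∃ k : ℕ, α ^ (5 ^ k) = 1) : α = 1 := by
  classical
  haveI : Fact (Nat.Prime 5) := ⟨by norm_num⟩
  obtain ⟨k, hk⟩ := hα
  have hp : IsPGroup 5 (zpowers α) := by
    rw [IsPGroup.iff_card]
    obtain ⟨j, -, hj⟩ := (Nat.dvd_prime_pow (by norm_num : Nat.Prime 5)).1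
      (orderOf_dvd_of_pow_eq_one hk)
    exact ⟨j, by rw [Nat.card_zpowers, hj]⟩
  have hmod := hp.card_modEq_card_fixedPoints W
  -- the fixed points as a subgroup
  let F : Subgroup W := (MonoidHom.eqLocus α.toMonoidHom (MonoidHom.id W))
  have hF : Nat.card (MulAction.fixedPoints (zpowers α) W) = Nat.card F := by
    apply Nat.card_congr
    refine Equiv.subtypeEquivRight ?_
    intro x
    constructor
    · intro hx
      exact hx ⟨α, mem_zpowers α⟩
    · rintro hx ⟨_, j, rfl⟩
      have hx' : α x = x := hx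
      show (α ^ j) x = x
      have h1 : α ∈ MulAction.stabilizer (MulAut W) x := hx'
      exact (MulAction.stabilizer (MulAut W) x).zpow_mem h1 j
  rw [hF] at hmod
  have hdvd : Nat.card F ∣ Nat.card W := card_subgroup_dvd_card F
  obtain ⟨n, hn, hcn⟩ := (Nat.dvd_prime_pow (by norm_num : Nat.Prime 3)).1 hc
  have hFW : Nat.card F = Nat.card W := by
    rw [hcn] at hdvd hmod ⊢
    obtain ⟨m, hm, hcm⟩ := (Nat.dvd_prime_pow (by norm_num : Nat.Prime 3)).1 hdvd
    rw [hcm] at hmod ⊢
    interval_cases n <;> interval_cases m <;> first | rfl | (exfalso; revert hmod; decide)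
  have hFt : F = ⊤ := eq_top_of_card_eq F hFW
  ext x
  have hx : x ∈ F := by rw [hFt]; exact mem_top x
  exact hx

end Cfsg.Agent.J2Sylow.TFLinear
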