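import Mathlib
import Cfsg.Agent.J2Sylow.TFLinear

set_option autoImplicit false
set_option linter.style.haveILetI false
set_option linter.unusedSectionVars false

/-!
# Two "transvections" on a normal elementary abelian `r`-subgroup
-/

namespace Cfsg.Agent.J2Sylow.TFBase

open Subgroup Cfsg.Agent.J2Sylow.TFLinear

variable {H : Type*} [Group H] {r : ℕ}

/-- coprime action on `V ≥ U ≥ 1` -/
theorem cop {U V : Subgroup H} (hUV : U ≤ V) (hexp : ∀ w ∈ V, w ^ r = 1) {t : H}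
    (h1 : ∀ w ∈ V, t * w * t⁻¹ * w⁻¹ ∈ U) (h2 : ∀ u ∈ U, t * u = u * t) {n : ℕ}
    (hn : t ^ n = 1) (hnr : Nat.Coprime n r) {w : H} (hw : w ∈ V) : t * w = w * t := by
  set u := t * w * t⁻¹ * w⁻¹ with hu
  have huU : u ∈ U := h1 w hw
  have htw : t * w * t⁻¹ = u * w := by rw [hu]; group
  have key : ∀ k : ℕ, t ^ k * w * (t ^ k)⁻¹ = u ^ k * w := by
    intro k
    induction k with
    | zero => simp
    | succ k ih =>
      have h3 : t ^ (k + 1) * w * (t ^ (k + 1))⁻¹ = t * (t ^ k * w * (t ^ k)⁻¹) * t⁻¹ := by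
        rw [pow_succ']; group
      have h4 : t * u ^ k = u ^ k * t := ((show Commute t u from h2 u huU).pow_right k).eq
      calc t ^ (k + 1) * w * (t ^ (k + 1))⁻¹ = t * (u ^ k * w) * t⁻¹ := by rw [h3, ih]
        _ = (t * u ^ k) * w * t⁻¹ := by group
        _ = u ^ k * (t * w * t⁻¹) := by rw [h4]; group
        _ = u ^ (k + 1) * w := by rw [htw, pow_succ]; group
  have h5 := key n
  rw [hn, inv_one, mul_one, one_mul] at h5
  have h6 : u ^ n = 1 := by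
    have : u ^ n * w = 1 * w := by rw [one_mul]; exact h5.symm
    exact mul_right_cancel this
  have h7 : u ^ r = 1 := hexp u (hUV huU)
  have h8 : u = 1 := by
    have h9 := Nat.Coprime.eq_one_of_dvd
      (Nat.Coprime.coprime_dvd_left (orderOf_dvd_of_pow_eq_one h6) hnr)
      (orderOf_dvd_of_pow_eq_one h7)
    exact orderOf_eq_one_iff.1 h9
  rw [h8, one_mul] at htw
  exact mul_inv_eq_iff_eq_mul.1 htw

variable [Finite H]

/-- the commutator subgroup `[V, x]` for `V` normal abelian -/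
theorem exists_brk {V : Subgroup H} (hV : V.Normal) (hcomm : ∀ a ∈ V, ∀ b ∈ V, a * b = b * a)
    (x : H) (hx : Nat.card V ∣ r * Nat.card ↥(V ⊓ centralizer ({x} : Set H))) :
    ∃ A : Subgroup H, A ≤ V ∧ Nat.card A ∣ r ∧ ∀ w ∈ V, x * w * x⁻¹ * w⁻¹ ∈ A := by
  have hmem : ∀ w ∈ V, x * w * x⁻¹ * w⁻¹ ∈ V := fun w hw =>
    V.mul_mem (hV.conj_mem w hw x) (V.inv_mem hw)
  let δ : V →* H := MonoidHom.mk' (fun w => x * (w : H) * x⁻¹ * (w : H)⁻¹) (by
    intro a b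
    have h1 := hcomm _ (hmem b b.2) _ (V.inv_mem a.2)
    have h2 : x * ((a : H) * b) * x⁻¹ * ((a : H) * b)⁻¹ =
        (x * (a : H) * x⁻¹) * ((x * (b : H) * x⁻¹ * (b : H)⁻¹) * (a : H)⁻¹) := by group
    show x * ((a : H) * b) * x⁻¹ * ((a : H) * b)⁻¹ = _
    rw [h2, h1]; group)
  refine ⟨δ.range, ?_, ?_, ?_⟩
  · rintro _ ⟨w, rfl⟩
    exact hmem w w.2
  · have h1 : Nat.card V = Nat.card δ.range * Nat.card δ.ker := by
      rw [Subgroup.card_eq_card_quotient_mul_card_subgroup δ.ker]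
      congr 1
      exact Nat.card_congr (QuotientGroup.quotientKerEquivRange δ).toEquiv
    have h2 : Nat.card δ.ker = Nat.card ↥(V ⊓ centralizer ({x} : Set H)) := by
      have h3 : δ.ker.map V.subtype = V ⊓ centralizer ({x} : Set H) := by
        ext w
        constructor
        · rintro ⟨w', hw', rfl⟩
          refine ⟨w'.2, mem_centralizer_singleton_iff.2 ?_⟩
          have h4 : x * (w' : H) * x⁻¹ * (w' : H)⁻¹ = 1 := hw'
          have h5 : x * (w' : H) = w' * x := by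
            calc x * (w' : H) = (x * (w' : H) * x⁻¹ * (w' : H)⁻¹) * (w' * x) := by group
              _ = _ := by rw [h4, one_mul]
          exact h5.symm
        · rintro ⟨h4, h5⟩
          refine ⟨⟨w, h4⟩, ?_, rfl⟩
          have h6 : w * x = x * w := mem_centralizer_singleton_iff.1 h5
          show x * w * x⁻¹ * w⁻¹ = 1
          rw [← h6]; group
      rw [← h3]
      exact Nat.card_congr (δ.ker.equivMapOfInjective _ V.subtype_injective).toEquiv
    rw [h1, h2] at hx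
    exact Nat.dvd_of_mul_dvd_mul_right Nat.card_pos hx
  · intro w hw
    exact ⟨⟨w, hw⟩, rfl⟩

/-- the subgroup `U = [V, x][V, x']` -/
theorem exists_U {V : Subgroup H} (hV : V.Normal) (hcomm : ∀ a ∈ V, ∀ b ∈ V, a * b = b * a)
    {x x' : H} (hx : Nat.card V ∣ r * Nat.card ↥(V ⊓ centralizer ({x} : Set H)))
    (hx' : Nat.card V ∣ r * Nat.card ↥(V ⊓ centralizer ({x'} : Set H))) :
    ∃ U : Subgroup H, U ≤ V ∧ Nat.card U ∣ r ^ 2 ∧ closure {x, x'} ≤ normalizer (U : Set H) ∧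
      ∀ y ∈ closure {x, x'}, ∀ w ∈ V, y * w * y⁻¹ * w⁻¹ ∈ U := by
  obtain ⟨A, hAV, hA, hAx⟩ := exists_brk hV hcomm x hx
  obtain ⟨B, hBV, hB, hBx⟩ := exists_brk hV hcomm x' hx'
  have hUV : A ⊔ B ≤ V := sup_le hAV hBV
  have key : ∀ y ∈ closure {x, x'}, ∀ w ∈ V, y * w * y⁻¹ * w⁻¹ ∈ A ⊔ B := by
    intro y hy
    induction hy using closure_induction with
    | mem y hy =>
      intro w hw
      rcases hy with rfl | rfl
      · exact mem_sup_left (hAx w hw)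
      · exact mem_sup_right (hBx w hw)
    | one => intro w hw; simp
    | mul a b _ _ ha hb =>
      intro w hw
      have h1 := ha _ (hV.conj_mem w hw b)
      have h2 := hb w hw
      have h3 : a * b * w * (a * b)⁻¹ * w⁻¹ =
          (a * (b * w * b⁻¹) * a⁻¹ * (b * w * b⁻¹)⁻¹) * (b * w * b⁻¹ * w⁻¹) := by group
      rw [h3]
      exact mul_mem h1 h2
    | inv a _ ha =>
      intro w hw
      have h1 := ha _ (hV.conj_mem w hw a⁻¹)
      have h2 := inv_mem h1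
      have h3 : (a * (a⁻¹ * w * a⁻¹⁻¹) * a⁻¹ * (a⁻¹ * w * a⁻¹⁻¹)⁻¹)⁻¹ = a⁻¹ * w * a⁻¹⁻¹ * w⁻¹ := by
        group
      rwa [h3] at h2
  refine ⟨A ⊔ B, hUV, ?_, ?_, key⟩
  · have hc : ∀ (a : A) (b : B), Commute ((A.subtype : A →* H) a) ((B.subtype : B →* H) b) :=
      fun a b => hcomm _ (hAV a.2) _ (hBV b.2)
    have h1 : (A.subtype.noncommCoprod B.subtype hc).range = A ⊔ B := by
      rw [MonoidHom.noncommCoprod_range, range_subtype, range_subtype]
    have h2 := card_range_dvd (A.subtype.noncommCoprod B.subtype hc)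
    rw [h1, Nat.card_prod] at h2
    refine h2.trans ?_
    rw [pow_two]
    exact Nat.mul_dvd_mul hA hB
  · intro y hy
    rw [mem_normalizer_iff]
    intro u
    constructor
    · intro hu
      have h1 := key y hy u (hUV hu)
      have h2 : y * u * y⁻¹ = (y * u * y⁻¹ * u⁻¹) * u := by group
      rw [h2]
      exact mul_mem h1 hu
    · intro hu
      have h1 := key y⁻¹ (inv_mem hy) _ (hUV hu)
      have h2 : u = (y⁻¹ * (y * u * y⁻¹) * y⁻¹⁻¹ * (y * u * y⁻¹)⁻¹) * (y * u * y⁻¹) := by group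
      rw [h2]
      exact mul_mem h1 hu

theorem lift_closure {G G' : Type*} [Group G] [Group G'] {N : Subgroup G} (ψ : N →* G') {x x' t : G}
    (hx : x ∈ N) (hx' : x' ∈ N) (htN : t ∈ N) (ht : t ∈ closure {x, x'}) :
    ψ ⟨t, htN⟩ ∈ closure {ψ ⟨x, hx⟩, ψ ⟨x', hx'⟩} := by
  have h1 : (closure {(⟨x, hx⟩ : N), ⟨x', hx'⟩}).map N.subtype = closure {x, x'} := by
    rw [MonoidHom.map_closure, Set.image_pair]
    rfl
  rw [← h1] at ht
  obtain ⟨s, hs, hst⟩ := ht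
  have h2 : (closure {(⟨x, hx⟩ : N), ⟨x', hx'⟩}).map ψ = closure {ψ ⟨x, hx⟩, ψ ⟨x', hx'⟩} := by
    rw [MonoidHom.map_closure, Set.image_pair]
  rw [← h2]
  refine ⟨s, hs, ?_⟩
  congr 1
  exact Subtype.ext hst

theorem normalizer_hom_eq_one {U : Subgroup H} {t : H} (ht : t ∈ normalizer (U : Set H))
    (h1 : U.normalizerMonoidHom ⟨t, ht⟩ = 1) : ∀ u ∈ U, t * u = u * t := by
  intro u hu
  have h2 := congrArg (fun φ : MulAut U => ((φ ⟨u, hu⟩ : U) : H)) h1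
  have h3 : t * u * t⁻¹ = u := h2
  exact mul_inv_eq_iff_eq_mul.1 h3

/-- two 2-elements -/
theorem two_elements [hr : Fact r.Prime] (hr2 : r ≠ 2) {V : Subgroup H} (hV : V.Normal)
    (hcomm : ∀ a ∈ V, ∀ b ∈ V, a * b = b * a) (hexp : ∀ w ∈ V, w ^ r = 1)
    {x x' : H} (hx : Nat.card V ∣ r * Nat.card ↥(V ⊓ centralizer ({x} : Set H)))
    (hx' : Nat.card V ∣ r * Nat.card ↥(V ⊓ centralizer ({x'} : Set H)))
    (hxr : ∃ k : ℕ, x ^ (r ^ k) = 1) (hxr' : ∃ k : ℕ, x' ^ (r ^ k) = 1)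
    {E : Subgroup H} (hE : IsPGroup 2 E) {t1 t2 : H} (h1 : t1 ∈ E) (h2 : t2 ∈ E)
    (hY1 : t1 ∈ closure {x, x'}) (hY2 : t2 ∈ closure {x, x'})
    (hs1 : ∀ w ∈ V, t1 * t1 * w = w * (t1 * t1)) (hs2 : ∀ w ∈ V, t2 * t2 * w = w * (t2 * t2)) :
    (∀ w ∈ V, t1 * w = w * t1) ∨ (∀ w ∈ V, t2 * w = w * t2) ∨
      (∀ w ∈ V, t1 * t2 * w = w * (t1 * t2)) := by
  obtain ⟨U, hUV, hUc, hUn, hU⟩ := exists_U hV hcomm hx hx'
  letI : CommGroup U := { (inferInstance : Group U) with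
    mul_comm := fun a b => Subtype.ext (hcomm a (hUV a.2) b (hUV b.2)) }
  have hxY : x ∈ closure {x, x'} := subset_closure (by simp)
  have hxY' : x' ∈ closure {x, x'} := subset_closure (by simp)
  set ψ : normalizer (U : Set H) →* MulAut U := U.normalizerMonoidHom with hψ
  have hpow : ∀ {t : H} (ht : t ∈ normalizer (U : Set H)) {n : ℕ}, t ^ n = 1 →
      ψ ⟨t, ht⟩ ^ n = 1 := by
    intro t ht n hn
    rw [← map_pow]
    have : (⟨t, ht⟩ : normalizer (U : Set H)) ^ n = 1 := Subtype.ext hn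
    rw [this, map_one]
  have hsq : ∀ {t : H} (ht : t ∈ normalizer (U : Set H)), (∀ w ∈ V, t * t * w = w * (t * t)) →
      ψ ⟨t, ht⟩ * ψ ⟨t, ht⟩ = 1 := by
    intro t ht hs
    rw [← map_mul]
    ext u
    have h3 := hs u (hUV u.2)
    show (t * t) * (u : H) * (t * t)⁻¹ = u
    rw [h3]; group
  have hfin : ∀ {t : H} (ht : t ∈ normalizer (U : Set H)), t ∈ E → t ∈ closure {x, x'} →
      ψ ⟨t, ht⟩ = 1 → ∀ w ∈ V, t * w = w * t := by
    intro t ht htE htY h3 w hw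
    obtain ⟨k, hk⟩ := hE ⟨t, htE⟩
    have hk' : t ^ (2 ^ k) = 1 := congrArg Subtype.val hk
    refine cop hUV hexp (fun w hw => hU t htY w hw) (normalizer_hom_eq_one ht h3) hk' ?_ hw
    exact Nat.Coprime.pow_left k ((Nat.coprime_primes Nat.prime_two hr.out).2 (Ne.symm hr2))
  have hmain := sl_lemma (W := U) hr2 (fun u => Subtype.ext (hexp u (hUV u.2))) hUc
    (α := ψ ⟨x, hUn hxY⟩) (β := ψ ⟨x', hUn hxY'⟩)
    (by obtain ⟨k, hk⟩ := hxr; exact ⟨k, hpow _ hk⟩)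
    (by obtain ⟨k, hk⟩ := hxr'; exact ⟨k, hpow _ hk⟩)
    (τ1 := ψ ⟨t1, hUn hY1⟩) (τ2 := ψ ⟨t2, hUn hY2⟩)
    (lift_closure ψ _ _ _ hY1) (lift_closure ψ _ _ _ hY2) (hsq _ hs1) (hsq _ hs2)
  rcases hmain with h3 | h3 | h3
  · left; exact hfin _ h1 hY1 h3
  · right; left; exact hfin _ h2 hY2 h3
  · right; right
    rw [← map_mul] at h3
    exact hfin _ (E.mul_mem h1 h2) (mul_mem hY1 hY2) h3

/-- an element of order a power of 5, `r = 3` -/
theorem five_element {V : Subgroup H} (hV : V.Normal)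
    (hcomm : ∀ a ∈ V, ∀ b ∈ V, a * b = b * a) (hexp : ∀ w ∈ V, w ^ 3 = 1)
    {x x' : H} (hx : Nat.card V ∣ 3 * Nat.card ↥(V ⊓ centralizer ({x} : Set H)))
    (hx' : Nat.card V ∣ 3 * Nat.card ↥(V ⊓ centralizer ({x'} : Set H)))
    {t : H} (hY : t ∈ closure {x, x'}) (ht : ∃ k : ℕ, t ^ (5 ^ k) = 1) :
    ∀ w ∈ V, t * w = w * t := by
  obtain ⟨U, hUV, hUc, hUn, hU⟩ := exists_U hV hcomm hx hx'
  obtain ⟨k, hk⟩ := ht
  have h1 : U.normalizerMonoidHom ⟨t, hUn hY⟩ = 1 := by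
    refine five_lemma hUc ⟨k, ?_⟩
    rw [← map_pow]
    have : (⟨t, hUn hY⟩ : normalizer (U : Set H)) ^ (5 ^ k) = 1 := Subtype.ext hk
    rw [this, map_one]
  intro w hw
  refine cop hUV hexp (fun w hw => hU t hY w hw) (normalizer_hom_eq_one _ h1) hk ?_ hw
  exact Nat.Coprime.pow_left k (by norm_num)

end Cfsg.Agent.J2Sylow.TFBase
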