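import Mathlib
import Cfsg.Agent.J2Sylow.TFBase

set_option autoImplicit false
set_option linter.style.haveILetI false
set_option linter.unusedSectionVars false

/-!
# The Thompson subgroup step: group theoretic preparations
-/

namespace Cfsg.Agent.J2Sylow.TFGroup

open Subgroup Cfsg.Agent.J2Sylow.TFLinear Cfsg.Agent.J2Sylow.TFBase

/-- `Ω₁(Z(P))` -/
def Om {H : Type*} [Group H] (r : ℕ) (P : Subgroup H) : Subgroup H where
  carrier := {w | w ∈ P ∧ w ^ r = 1 ∧ ∀ p ∈ P, w * p = p * w}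
  one_mem' := ⟨P.one_mem, one_pow _, fun p _ => by rw [one_mul, mul_one]⟩
  mul_mem' := by
    rintro a b ⟨ha, ha1, ha2⟩ ⟨hb, hb1, hb2⟩
    refine ⟨P.mul_mem ha hb, ?_, fun p hp => ?_⟩
    · rw [(show Commute a b from ha2 b hb).mul_pow, ha1, hb1, one_mul]
    · rw [mul_assoc, hb2 p hp, ← mul_assoc, ha2 p hp, mul_assoc]
  inv_mem' := by
    rintro a ⟨ha, ha1, ha2⟩
    refine ⟨P.inv_mem ha, ?_, fun p hp => ?_⟩
    · rw [inv_pow, ha1, inv_one]
    · exact ((show Commute a p from ha2 p hp).inv_left).eq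

section Om

variable {H : Type*} [Group H] {r : ℕ} {P : Subgroup H}

theorem Om_le : Om r P ≤ P := fun _ h => h.1

theorem Om_exp : ∀ w ∈ Om r P, w ^ r = 1 := fun _ h => h.2.1

theorem Om_comm' : ∀ a ∈ Om r P, ∀ b ∈ P, a * b = b * a := fun _ ha b hb => ha.2.2 b hb

theorem Om_comm : ∀ a ∈ Om r P, ∀ b ∈ Om r P, a * b = b * a := fun _ ha b hb => ha.2.2 b hb.1

theorem Om_normal (hP : P.Normal) : (Om r P).Normal := by
  refine ⟨?_⟩
  rintro w ⟨h1, h2, h3⟩ g
  refine ⟨hP.conj_mem w h1 g, ?_, ?_⟩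
  · rw [conj_pow, h2]; group
  · intro p hp
    have h4 := h3 _ (hP.conj_mem p hp g⁻¹)
    rw [inv_inv] at h4
    calc g * w * g⁻¹ * p = g * (w * (g⁻¹ * p * g)) * g⁻¹ := by group
      _ = g * ((g⁻¹ * p * g) * w) * g⁻¹ := by rw [h4]
      _ = _ := by group

theorem Om_ne_bot [Finite H] (hr : r.Prime) (hP : IsPGroup r P) (h1 : ∃ x ∈ P, x ≠ 1) :
    Om r P ≠ ⊥ := by
  haveI : Fact r.Prime := ⟨hr⟩
  obtain ⟨x, hx, hx1⟩ := h1
  haveI : Nontrivial P := ⟨⟨⟨x, hx⟩, 1, fun h => hx1 (congrArg Subtype.val h)⟩⟩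
  have h2 := hP.bot_lt_center
  have hc : IsPGroup r (center P) := hP.to_subgroup _
  have h3 : Nontrivial (center P) := (nontrivial_iff_ne_bot _).2 h2.ne'
  obtain ⟨n, hn, hcard⟩ := (hc.nontrivial_iff_card).1 h3
  obtain ⟨w, hw⟩ := exists_prime_orderOf_dvd_card' (G := center P) r (by
    rw [hcard]; exact dvd_pow_self r hn.ne')
  intro h4
  have hwmem : ((w : P) : H) ∈ Om r P := by
    refine ⟨(w : P).2, ?_, fun p hp => ?_⟩
    · have h5 : w ^ r = 1 := by rw [← hw]; exact pow_orderOf_eq_one w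
      have h6 := congrArg (fun z : center P => ((z : P) : H)) h5
      simpa using h6
    · have h5 := mem_center_iff.1 w.2 ⟨p, hp⟩
      exact (congrArg Subtype.val h5).symm
  rw [h4, mem_bot] at hwmem
  have h5 : w = 1 := Subtype.ext (Subtype.ext hwmem)
  rw [h5, orderOf_one] at hw
  exact hr.one_lt.ne hw

end Om

variable {H X : Type*} [Group H] [Finite H] [Group X] {r : ℕ}

theorem card_sup_mul {V B : Subgroup H} (hV : V.Normal) :
    Nat.card ↥(V ⊔ B) * Nat.card ↥(V ⊓ B) = Nat.card V * Nat.card B := by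
  have cm : ∀ {L N : Subgroup H}, L ≤ N → Nat.card L * L.relIndex N = Nat.card N := by
    intro L N hLN
    have h1 := relIndex_mul_relIndex ⊥ L N bot_le hLN
    rwa [relIndex_bot_left, relIndex_bot_left] at h1
  have h1 := cm (le_sup_left : V ≤ V ⊔ B)
  have h2 := cm (inf_le_right : V ⊓ B ≤ B)
  rw [inf_relIndex_right] at h2
  have h3 : V.relIndex (V ⊔ B) = V.relIndex B := relIndex_sup_left _ _
  rw [h3] at h1
  rw [← h1, ← h2]; ring

/-- 2-elements (more generally elements of order prime to the kernel) over `D.map π` -/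
theorem mem_of_map {π : H →* X} {D : Subgroup H} (hD : D.Normal) {t : H} {n m : ℕ}
    (hn : t ^ n = 1) (hker : ∀ k ∈ π.ker, k ^ m ∈ D) (hnm : Nat.Coprime n m)
    (ht : π t ∈ D.map π) : t ∈ D := by
  obtain ⟨c, hc, hct⟩ := ht
  have hk : c⁻¹ * t ∈ π.ker := by
    rw [MonoidHom.mem_ker, map_mul, map_inv, hct, inv_mul_cancel]
  have h1 : ((c⁻¹ * t : H) : H ⧸ D) = (t : H ⧸ D) := by
    rw [QuotientGroup.mk_mul, QuotientGroup.mk_inv, (QuotientGroup.eq_one_iff c).2 hc, inv_one,
      one_mul]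
  have h2 : (t : H ⧸ D) ^ n = 1 := by rw [← QuotientGroup.mk_pow, hn, QuotientGroup.mk_one]
  have h3 : (t : H ⧸ D) ^ m = 1 := by
    rw [← h1, ← QuotientGroup.mk_pow]
    exact (QuotientGroup.eq_one_iff _).2 (hker _ hk)
  have h4 := Nat.Coprime.eq_one_of_dvd
    (Nat.Coprime.coprime_dvd_left (orderOf_dvd_of_pow_eq_one h2) hnm)
    (orderOf_dvd_of_pow_eq_one h3)
  exact (QuotientGroup.eq_one_iff t).1 (orderOf_eq_one_iff.1 h4)

/-- lifting a 2-subgroup -/
theorem exists_lift_two {Y Z : Type*} [Group Y] [Finite Y] [Group Z] (f : Y →* Z)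
    {A : Subgroup Z} (hA : IsPGroup 2 A) (hAf : A ≤ f.range) :
    ∃ E : Subgroup Y, IsPGroup 2 E ∧ ∀ a ∈ A, ∃ e ∈ E, f e = a := by
  haveI : Fact (Nat.Prime 2) := ⟨Nat.prime_two⟩
  let Y0 : Subgroup Y := A.comap f
  let f0 : Y0 →* A := MonoidHom.codRestrict (f.comp Y0.subtype) A (fun y => y.2)
  have hf0 : Function.Surjective f0 := by
    rintro ⟨a, ha⟩
    obtain ⟨y, hy⟩ := hAf ha
    exact ⟨⟨y, by show f y ∈ A; rw [hy]; exact ha⟩, Subtype.ext hy⟩
  obtain ⟨E0⟩ : Nonempty (Sylow 2 Y0) := inferInstance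
  have h1 : ((E0.mapSurjective hf0 : Sylow 2 A) : Subgroup A) = ⊤ := by
    have h2 : IsPGroup 2 (⊤ : Subgroup A) := hA.of_equiv topEquiv.symm
    exact ((E0.mapSurjective hf0).is_maximal' h2 le_top).symm
  refine ⟨(E0 : Subgroup Y0).map Y0.subtype, E0.isPGroup'.map _, ?_⟩
  intro a ha
  have h3 : (⟨a, ha⟩ : A) ∈ ((E0.mapSurjective hf0 : Sylow 2 A) : Subgroup A) := by
    rw [h1]; exact mem_top _
  obtain ⟨e, he, hea⟩ := h3
  exact ⟨e, ⟨e, he, rfl⟩, congrArg Subtype.val hea⟩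

/-- lifting a 2-subgroup inside a subgroup `Y` of `H` -/
theorem exists_lift_two' {Z : Type*} [Group Z] (f : H →* Z) (Y : Subgroup H)
    {A : Subgroup Z} (hA : IsPGroup 2 A) (hAf : A ≤ Y.map f) :
    ∃ E : Subgroup H, IsPGroup 2 E ∧ E ≤ Y ∧ ∀ a ∈ A, ∃ e ∈ E, f e = a := by
  obtain ⟨E, hE, hEA⟩ := exists_lift_two (f.comp Y.subtype) hA (by
    rw [MonoidHom.range_comp, range_subtype]; exact hAf)
  refine ⟨E.map Y.subtype, hE.map _, ?_, ?_⟩
  · rintro _ ⟨x, -, rfl⟩; exact x.2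
  · intro a ha
    obtain ⟨e, he, hea⟩ := hEA a ha
    exact ⟨e, ⟨e, he, rfl⟩, hea⟩

theorem card_conj {V : Subgroup H} (hV : V.Normal) (x g : H) :
    Nat.card ↥(V ⊓ centralizer ({g * x * g⁻¹} : Set H)) =
      Nat.card ↥(V ⊓ centralizer ({x} : Set H)) := by
  have h1 : (V ⊓ centralizer ({x} : Set H)).map (MulAut.conj g).toMonoidHom =
      V ⊓ centralizer ({g * x * g⁻¹} : Set H) := by
    ext w
    constructor
    · rintro ⟨w', ⟨h1, h2⟩, rfl⟩
      have h2' : w' * x = x * w' := mem_centralizer_singleton_iff.1 h2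
      refine ⟨hV.conj_mem w' h1 g, mem_centralizer_singleton_iff.2 ?_⟩
      show g * w' * g⁻¹ * (g * x * g⁻¹) = g * x * g⁻¹ * (g * w' * g⁻¹)
      calc g * w' * g⁻¹ * (g * x * g⁻¹) = g * (w' * x) * g⁻¹ := by group
        _ = g * (x * w') * g⁻¹ := by rw [h2']
        _ = _ := by group
    · rintro ⟨h1, h2⟩
      have h2' : w * (g * x * g⁻¹) = g * x * g⁻¹ * w := mem_centralizer_singleton_iff.1 h2
      refine ⟨g⁻¹ * w * g, ⟨?_, mem_centralizer_singleton_iff.2 ?_⟩, ?_⟩
      · have := hV.conj_mem w h1 g⁻¹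
        rwa [inv_inv] at this
      · calc g⁻¹ * w * g * x = g⁻¹ * (w * (g * x * g⁻¹)) * g := by group
          _ = g⁻¹ * (g * x * g⁻¹ * w) * g := by rw [h2']
          _ = _ := by group
      · show g * (g⁻¹ * w * g) * g⁻¹ = w
        group
  rw [← h1]
  exact (Nat.card_congr ((V ⊓ centralizer ({x} : Set H)).equivMapOfInjective _
    (MulAut.conj g).injective).toEquiv).symm

/-- the maximal elementary abelian subgroups of `S`: either they generate a subgroup which is
normal in `H` (when they are all in `P`) or there is a "transvection" -/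
theorem exists_J_or (hr : r.Prime) {P S : Subgroup H} (hP : P.Normal) (hPS : P ≤ S)
    (hS : IsPGroup r S) (hne : Om r P ≠ ⊥) (hidx : P.relIndex S ∣ r) :
    (∃ Q0 : Subgroup H, Q0.Normal ∧ Q0 ≠ ⊥ ∧ Q0 ≤ S ∧ (Q0.subgroupOf S).Characteristic) ∨
    ∃ x ∈ S, x ∉ P ∧
      Nat.card ↥(Om r P) ∣ r * Nat.card ↥(Om r P ⊓ centralizer ({x} : Set H)) := by
  classical
  haveI : Fact r.Prime := ⟨hr⟩
  set V := Om r P with hV
  have hVn : V.Normal := Om_normal hP
  -- elementary abelian subgroups of `S`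
  let El : Subgroup H → Prop := fun E => E ≤ S ∧ (∀ a ∈ E, ∀ b ∈ E, a * b = b * a) ∧
    ∀ a ∈ E, a ^ r = 1
  have hElV : El V := ⟨Om_le.trans hPS, Om_comm, Om_exp⟩
  obtain ⟨E0, hE0, hmax⟩ := Set.exists_max_image {E : Subgroup H | El E}
    (fun E => Nat.card E) (Set.toFinite _) ⟨V, hElV⟩
  set m := Nat.card E0 with hm
  have cm : ∀ {L N : Subgroup H}, L ≤ N → Nat.card L * L.relIndex N = Nat.card N := by
    intro L N hLN
    have h1 := relIndex_mul_relIndex ⊥ L N bot_le hLN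
    rwa [relIndex_bot_left, relIndex_bot_left] at h1
  by_cases hall : ∀ E : Subgroup H, El E → Nat.card E = m → E ≤ P
  · left
    let Ω : Set H := {x | ∃ E : Subgroup H, El E ∧ Nat.card E = m ∧ x ∈ E}
    refine ⟨closure Ω, ?_, ?_, ?_, ?_⟩
    · refine ⟨fun n hn g => ?_⟩
      induction hn using closure_induction with
      | mem x hx =>
        obtain ⟨E, hE, hEm, hxE⟩ := hx
        apply Subgroup.subset_closure
        refine ⟨E.map (MulAut.conj g).toMonoidHom, ⟨?_, ?_, ?_⟩, ?_, ⟨x, hxE, rfl⟩⟩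
        · rintro _ ⟨y, hy, rfl⟩
          exact hPS (hP.conj_mem y (hall E hE hEm hy) g)
        · rintro _ ⟨a, ha, rfl⟩ _ ⟨b, hb, rfl⟩
          rw [← map_mul, hE.2.1 a ha b hb, map_mul]
        · rintro _ ⟨a, ha, rfl⟩
          rw [← map_pow, hE.2.2 a ha, map_one]
        · rw [← hEm]
          exact card_map_of_injective (MulAut.conj g).injective
      | one => simp
      | mul a b _ _ ha hb =>
        have : g * (a * b) * g⁻¹ = (g * a * g⁻¹) * (g * b * g⁻¹) := by group
        rw [this]; exact mul_mem ha hb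
      | inv a _ ha =>
        have : g * a⁻¹ * g⁻¹ = (g * a * g⁻¹)⁻¹ := by group
        rw [this]; exact inv_mem ha
    · intro hbot
      have h1 : E0 ≤ closure Ω := fun x hx => subset_closure ⟨E0, hE0, rfl, hx⟩
      rw [hbot, le_bot_iff] at h1
      have h2 := hmax V hElV
      have h3 : Nat.card V ≤ 1 := by
        have : Nat.card E0 = 1 := by rw [h1]; exact card_bot
        have h4 : Nat.card V ≤ Nat.card E0 := h2
        omega
      exact hne (eq_bot_of_card_le _ h3)
    · rw [closure_le]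
      rintro x ⟨E, hE, -, hx⟩
      exact hE.1 hx
    · rw [characteristic_iff_le_comap]
      intro ϕ
      -- the closure inside `S`
      have h1 : closure Ω = (closure {s : S | (s : H) ∈ Ω}).map S.subtype := by
        rw [MonoidHom.map_closure]
        congr 1
        ext x
        constructor
        · rintro ⟨E, hE, hEm, hx⟩
          exact ⟨⟨x, hE.1 hx⟩, ⟨E, hE, hEm, hx⟩, rfl⟩
        · rintro ⟨s, hs, rfl⟩
          exact hs
      have h2 : (closure Ω).subgroupOf S = closure {s : S | (s : H) ∈ Ω} := by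
        rw [h1]
        exact comap_map_eq_self_of_injective S.subtype_injective _
      rw [h2, closure_le]
      rintro s ⟨E, hE, hEm, hs⟩
      rw [SetLike.mem_coe, mem_comap]
      apply Subgroup.subset_closure
      refine ⟨((E.subgroupOf S).map ϕ.toMonoidHom).map S.subtype, ⟨?_, ?_, ?_⟩, ?_,
        ⟨ϕ s, ⟨s, mem_subgroupOf.2 hs, rfl⟩, rfl⟩⟩
      · rintro _ ⟨y, -, rfl⟩; exact y.2
      · rintro _ ⟨_, ⟨a, ha, rfl⟩, rfl⟩ _ ⟨_, ⟨b, hb, rfl⟩, rfl⟩
        have h3 : a * b = b * a := Subtype.ext (hE.2.1 a (mem_subgroupOf.1 ha) b (mem_subgroupOf.1 hb))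
        rw [← map_mul, ← map_mul, h3, map_mul, map_mul]
      · rintro _ ⟨_, ⟨a, ha, rfl⟩, rfl⟩
        have h3 : a ^ r = 1 := Subtype.ext (by
          rw [coe_pow]; exact hE.2.2 a (mem_subgroupOf.1 ha))
        rw [← map_pow, ← map_pow, h3, map_one, map_one]
      · rw [card_map_of_injective S.subtype_injective, card_map_of_injective ϕ.injective, ← hEm]
        have h3 : (E.subgroupOf S).map S.subtype = E := by
          rw [subgroupOf_map_subtype, inf_eq_left.2 hE.1]
        conv_rhs => rw [← h3]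
        exact (card_map_of_injective S.subtype_injective).symm
  · right
    push Not at hall
    obtain ⟨E, hE, hEm, hEP⟩ := hall
    obtain ⟨x, hxE, hxP⟩ := Set.not_subset.1 hEP
    refine ⟨x, hE.1 hxE, hxP, ?_⟩
    set B := E ⊓ P with hB
    have hElF : El (V ⊔ B) := by
      have hVB : ∀ b ∈ B, ∀ v ∈ V, b * v = v * b := fun b hb v hv => (hv.2.2 b hb.2).symm
      have hmem : ∀ x ∈ V ⊔ B, ∃ v ∈ V, ∃ b ∈ B, x = v * b := by
        intro x hx
        have h1 : (x : H) ∈ ((V ⊔ B : Subgroup H) : Set H) := hx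
        rw [normal_mul] at h1
        obtain ⟨v, hv, b, hb, rfl⟩ := Set.mem_mul.1 h1
        exact ⟨v, hv, b, hb, rfl⟩
      refine ⟨sup_le (Om_le.trans hPS) (inf_le_left.trans hE.1), ?_, ?_⟩
      · intro a ha b hb
        obtain ⟨v, hv, c, hc, rfl⟩ := hmem a ha
        obtain ⟨v', hv', c', hc', rfl⟩ := hmem b hb
        have h1 := Om_comm v hv v' hv'
        have h2 := hE.2.1 c hc.1 c' hc'.1
        have h3 := hVB c hc v' hv'
        have h4 := hVB c' hc' v hv
        calc v * c * (v' * c') = v * (c * v') * c' := by group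
          _ = (v * v') * (c * c') := by rw [h3]; group
          _ = (v' * v) * (c' * c) := by rw [h1, h2]
          _ = v' * (v * c') * c := by group
          _ = v' * (c' * v) * c := by rw [h4]
          _ = _ := by group
      · intro a ha
        obtain ⟨v, hv, c, hc, rfl⟩ := hmem a ha
        rw [(show Commute v c from (hVB c hc v hv).symm).mul_pow, Om_exp v hv, hE.2.2 c hc.1,
          one_mul]
    have h1 : Nat.card ↥(V ⊔ B) ≤ m := hmax (V ⊔ B) hElF
    have h2 := card_sup_mul (B := B) hVn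
    have h3 : Nat.card B * B.relIndex E = m := by rw [← hEm]; exact cm inf_le_left
    have h4 : B.relIndex E ≤ r := by
      have h5 : B.relIndex E = P.relIndex E := by rw [hB, inf_comm, inf_relIndex_right]
      rw [h5]
      have h6 : P.relIndex E ≤ P.relIndex S := relIndex_le_of_le_right hE.1 (by
        show (P.subgroupOf S).index ≠ 0
        exact index_ne_zero_of_finite)
      exact h6.trans (Nat.le_of_dvd hr.pos hidx)
    have h5 : Nat.card ↥(V ⊓ B) ≤ Nat.card ↥(V ⊓ centralizer ({x} : Set H)) := by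
      apply card_le_of_le
      intro w hw
      exact ⟨hw.1, mem_centralizer_singleton_iff.2 (hE.2.1 w hw.2.1 x hxE)⟩
    have h6 : Nat.card V ≤ r * Nat.card ↥(V ⊓ centralizer ({x} : Set H)) := by
      have hBpos : 0 < Nat.card B := Nat.card_pos
      have h7 : Nat.card V * Nat.card B ≤ (r * Nat.card ↥(V ⊓ centralizer ({x} : Set H))) * Nat.card B := by
        rw [← h2]
        calc Nat.card ↥(V ⊔ B) * Nat.card ↥(V ⊓ B)
            ≤ m * Nat.card ↥(V ⊓ centralizer ({x} : Set H)) := Nat.mul_le_mul h1 h5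
          _ = Nat.card B * B.relIndex E * Nat.card ↥(V ⊓ centralizer ({x} : Set H)) := by rw [h3]
          _ ≤ Nat.card B * r * Nat.card ↥(V ⊓ centralizer ({x} : Set H)) :=
              Nat.mul_le_mul_right _ (Nat.mul_le_mul_left _ h4)
          _ = _ := by ring
      exact Nat.le_of_mul_le_mul_right h7 hBpos
    obtain ⟨a, ha⟩ := (hS.to_le hElV.1).exists_card_eq
    obtain ⟨b, hb⟩ := (hS.to_le ((inf_le_left : V ⊓ centralizer ({x} : Set H) ≤ V).trans hElV.1)).exists_card_eq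
    rw [ha, hb] at h6 ⊢
    rw [← pow_succ'] at h6 ⊢
    exact pow_dvd_pow r ((Nat.pow_le_pow_iff_right hr.one_lt).1 h6)

end Cfsg.Agent.J2Sylow.TFGroup
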