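import Mathlib
import Cfsg.Agent.J2Type.Model

set_option autoImplicit false

/-!
# Facts on the group `X` of order 1920 (`C(z)/O(C(z))`)
-/

namespace Cfsg.Agent.J2Sylow.TFX

open Subgroup Cfsg.Agent.J2Type.Model

variable {X : Type*} [Group X] {Qt : Subgroup X} {zt : X} {v : Fin 5 → X} {ρ : X →* SP}

/-- the permutation part -/
def sg (ρ : X →* SP) : X →* Equiv.Perm (Fin 5) where
  toFun x := (ρ x).σ
  map_one' := by rw [map_one, one_σ]
  map_mul' x y := by rw [map_mul, mul_σ]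

theorem sg_apply (x : X) : sg ρ x = (ρ x).σ := rfl

theorem mem_Q_iff (M : IsModel Qt zt v ρ) {x : X} : x ∈ Qt ↔ sg ρ x = 1 := M.mem_Q x

theorem sign_sg (M : IsModel Qt zt v ρ) (x : X) : Equiv.Perm.sign (sg ρ x) = 1 :=
  ((M.range (ρ x)).1 ⟨x, rfl⟩).1

theorem exists_sg (M : IsModel Qt zt v ρ) (τ : Equiv.Perm (Fin 5)) (hτ : Equiv.Perm.sign τ = 1) :
    ∃ x, sg ρ x = τ := by
  obtain ⟨x, hx⟩ := (M.range ⟨τ, fun _ => 0⟩).2 ⟨hτ, by simp⟩
  exact ⟨x, by rw [sg_apply, hx]⟩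

theorem Q_normal (M : IsModel Qt zt v ρ) : Qt.Normal := by
  constructor
  intro n hn g
  rw [mem_Q_iff M] at hn ⊢
  rw [map_mul, map_mul, hn, map_inv]
  group

theorem zp_sq (M : IsModel Qt zt v ρ) (a : ZMod 2) : zp zt a * zp zt a = 1 := zp_self zt M.z_sq a

/-- Squares of elements of `Qt`. -/
theorem sq_Q (M : IsModel Qt zt v ρ) (q : X) (hq : q ∈ Qt) : q * q = 1 ∨ q * q = zt := by
  have hc := zp_comm zt M.z_comm
  rcases M.cover q hq with ⟨a, rfl⟩ | ⟨a, i, rfl⟩ | ⟨a, i, j, hij, rfl⟩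
  · left; exact zp_sq M a
  · left
    calc zp zt a * v i * (zp zt a * v i) = zp zt a * (v i * zp zt a) * v i := by group
      _ = zp zt a * (zp zt a * v i) * v i := by rw [hc]
      _ = (zp zt a * zp zt a) * (v i * v i) := by group
      _ = 1 := by rw [zp_sq M, M.v_sq, one_mul]
  · right
    calc zp zt a * (v i * v j) * (zp zt a * (v i * v j))
        = zp zt a * ((v i * v j) * zp zt a) * (v i * v j) := by group
      _ = zp zt a * (zp zt a * (v i * v j)) * (v i * v j) := by rw [hc]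
      _ = (zp zt a * zp zt a) * (v i * (v j * v i) * v j) := by group
      _ = v i * (v j * v i) * v j := by rw [zp_sq M, one_mul]
      _ = v i * (zt * (v i * v j)) * v j := by rw [M.v_anti j i hij.ne']
      _ = (v i * zt) * v i * (v j * v j) := by group
      _ = (zt * v i) * v i * (v j * v j) := by rw [M.z_comm]
      _ = zt * (v i * v i) * (v j * v j) := by group
      _ = zt := by rw [M.v_sq, M.v_sq, mul_one, mul_one]

theorem Q_two (M : IsModel Qt zt v ρ) : ∀ q ∈ Qt, q ^ 4 = 1 := by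
  intro q hq
  have h4 : q ^ 4 = (q * q) * (q * q) := by
    rw [show (4 : ℕ) = 2 + 2 from rfl, pow_add, pow_two]
  rw [h4]
  rcases sq_Q M q hq with h | h
  · rw [h, one_mul]
  · rw [h, M.z_sq]

theorem range_sg (M : IsModel Qt zt v ρ) : (sg ρ).range = alternatingGroup (Fin 5) := by
  ext τ
  rw [MonoidHom.mem_range, Equiv.Perm.mem_alternatingGroup]
  constructor
  · rintro ⟨x, rfl⟩
    exact sign_sg M x
  · exact exists_sg M τ

theorem ker_sg (M : IsModel Qt zt v ρ) : (sg ρ).ker = Qt := by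
  ext x
  rw [MonoidHom.mem_ker, mem_Q_iff M]

theorem card_alt5 : Nat.card (alternatingGroup (Fin 5)) = 60 := by
  rw [nat_card_alternatingGroup]
  simp
  decide

theorem card_Q (M : IsModel Qt zt v ρ) (hX : Nat.card X = 1920) : Nat.card Qt = 32 := by
  have h1 := Subgroup.card_mul_index (sg ρ).ker
  rw [index_ker, range_sg M, card_alt5, ker_sg M, hX] at h1
  omega

/-- `[g, v i]` for `g` moving `i`. -/
theorem comm_v (M : IsModel Qt zt v ρ) (g : X) (i : Fin 5) :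
    ∃ a, g * v i * g⁻¹ * (v i)⁻¹ = zp zt a * (v (sg ρ g i) * v i) := by
  refine ⟨(ρ g).s i, ?_⟩
  rw [M.conj, sg_apply]
  have h1 : (v i)⁻¹ = v i := inv_eq_of_mul_eq_one_left (M.v_sq i)
  rw [h1, mul_assoc]

theorem zt_mem_of (M : IsModel Qt zt v ρ) (N : Subgroup X) (hN : N.Normal) {g : X} (hg : g ∈ N)
    (hgQ : g ∈ Qt) (h1 : g ≠ 1) (h2 : g ≠ zt) : zt ∈ N := by
  have hc := zp_comm zt M.z_comm
  have hinv : ∀ i, (v i)⁻¹ = v i := fun i => inv_eq_of_mul_eq_one_left (M.v_sq i)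
  have hzinv : zt⁻¹ = zt := inv_eq_of_mul_eq_one_left M.z_sq
  -- some v k does not commute with g
  have key : ∃ k, v k * g = zt * (g * v k) := by
    rcases M.cover g hgQ with ⟨a, rfl⟩ | ⟨a, i, rfl⟩ | ⟨a, i, j, hij, rfl⟩
    · exfalso
      rcases zmod2_cases a with rfl | rfl
      · exact h1 (zp_zero zt)
      · exact h2 (zp_one zt)
    · obtain ⟨k, hk⟩ : ∃ k : Fin 5, k ≠ i := exists_ne i
      refine ⟨k, ?_⟩
      calc v k * (zp zt a * v i) = (v k * zp zt a) * v i := by group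
        _ = (zp zt a * v k) * v i := by rw [hc]
        _ = zp zt a * (v k * v i) := by group
        _ = zp zt a * (zt * (v i * v k)) := by rw [M.v_anti k i hk]
        _ = (zp zt a * zt) * (v i * v k) := by group
        _ = (zt * zp zt a) * (v i * v k) := by rw [M.z_comm]
        _ = _ := by group
    · refine ⟨i, ?_⟩
      have e1 : v i * (v i * v j) = zt * ((v i * v j) * v i) := by
        calc v i * (v i * v j) = v i * (zt * (v j * v i)) := by rw [M.v_anti i j hij.ne]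
          _ = (v i * zt) * (v j * v i) := by group
          _ = (zt * v i) * (v j * v i) := by rw [M.z_comm]
          _ = _ := by group
      calc v i * (zp zt a * (v i * v j)) = (v i * zp zt a) * (v i * v j) := by group
        _ = (zp zt a * v i) * (v i * v j) := by rw [hc]
        _ = zp zt a * (v i * (v i * v j)) := by group
        _ = zp zt a * (zt * ((v i * v j) * v i)) := by rw [e1]
        _ = (zp zt a * zt) * ((v i * v j) * v i) := by group
        _ = (zt * zp zt a) * ((v i * v j) * v i) := by rw [M.z_comm]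
        _ = _ := by group
  obtain ⟨k, hk⟩ := key
  have h3 : v k * g * (v k)⁻¹ * g⁻¹ ∈ N := N.mul_mem (hN.conj_mem g hg (v k)) (N.inv_mem hg)
  have h4 : v k * g * (v k)⁻¹ * g⁻¹ = zt := by
    rw [hk]
    group
  rwa [h4] at h3

/-- Transport in the alternating group: pairs. -/
theorem two_trans : ∀ i j k l : Fin 5, i ≠ j → k ≠ l → ∃ τ : Equiv.Perm (Fin 5),
    Equiv.Perm.sign τ = 1 ∧ τ i = k ∧ τ j = l := by
  intro i j k l hij hkl
  -- any permutation with i -> k, j -> l, corrected by a transposition of the rest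
  obtain ⟨τ, h1, h2⟩ : ∃ τ : Equiv.Perm (Fin 5), τ i = k ∧ τ j = l := by
    refine ⟨Equiv.swap (Equiv.swap i k j) l * Equiv.swap i k, ?_, ?_⟩
    · rw [Equiv.Perm.mul_apply, Equiv.swap_apply_left, Equiv.swap_apply_of_ne_of_ne _ hkl]
      intro h0
      have h3 : Equiv.swap i k (Equiv.swap i k j) = Equiv.swap i k k := by rw [← h0]
      rw [Equiv.swap_apply_self, Equiv.swap_apply_right] at h3
      exact hij h3.symm
    · rw [Equiv.Perm.mul_apply, Equiv.swap_apply_left]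
  rcases Int.units_eq_one_or (Equiv.Perm.sign τ) with h | h
  · exact ⟨τ, h, h1, h2⟩
  · obtain ⟨a, b, hab, ha1, ha2, hb1, hb2⟩ : ∃ a b : Fin 5, a ≠ b ∧ a ≠ k ∧ a ≠ l ∧ b ≠ k ∧
        b ≠ l := by
      clear h1 h2 h
      revert k l
      decide
    refine ⟨Equiv.swap a b * τ, ?_, ?_, ?_⟩
    · rw [Equiv.Perm.sign_mul, h, Equiv.Perm.sign_swap hab]
      rfl
    · rw [Equiv.Perm.mul_apply, h1, Equiv.swap_apply_of_ne_of_ne ha1.symm hb1.symm]
    · rw [Equiv.Perm.mul_apply, h2, Equiv.swap_apply_of_ne_of_ne ha2.symm hb2.symm]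

theorem Q_le_of_zt (M : IsModel Qt zt v ρ) (N : Subgroup X) (hz : zt ∈ N)
    (hv : ∀ i, v i ∈ N) : Qt ≤ N := by
  have hzp : ∀ a, zp zt a ∈ N := zp_mem N zt hz
  intro q hq
  rcases M.cover q hq with ⟨a, rfl⟩ | ⟨a, i, rfl⟩ | ⟨a, i, j, hij, rfl⟩
  · exact hzp a
  · exact N.mul_mem (hzp a) (hv i)
  · exact N.mul_mem (hzp a) (N.mul_mem (hv i) (hv j))

/-- `v i` from the products `v i * v j`. -/
theorem v_mem_of_pairs (M : IsModel Qt zt v ρ) (N : Subgroup X) (hz : zt ∈ N)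
    (hvv : ∀ i j, i ≠ j → v i * v j ∈ N) (i : Fin 5) : v i ∈ N := by
  have h4 : v 4 ∈ N := by
    have h1 : v 4 = ((v 0 * v 1) * (v 2 * v 3))⁻¹ := by
      rw [eq_inv_iff_mul_eq_one]
      have h2 := M.v_prod
      have h3 : (v 0 * v 1 * v 2 * v 3) * v 4 = 1 := h2
      have h5 := mul_eq_one_iff_eq_inv.1 h3
      have h6 : v 4 * (v 0 * v 1 * v 2 * v 3) = 1 := by rw [h5]; group
      rw [← h6]; group
    rw [h1]
    exact N.inv_mem (N.mul_mem (hvv 0 1 (by decide)) (hvv 2 3 (by decide)))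
  by_cases hi : i = 4
  · rw [hi]; exact h4
  · have h1 := hvv i 4 hi
    exact (N.mul_mem_cancel_right h4).1 h1

/-- (x2) -/
theorem Q_le_normal (M : IsModel Qt zt v ρ) (N : Subgroup X) (hN : N.Normal) {g : X}
    (hg : g ∈ N) (h1 : g ≠ 1) (h2 : g ≠ zt) : Qt ≤ N := by
  have hzinv : zt⁻¹ = zt := inv_eq_of_mul_eq_one_left M.z_sq
  -- reduce to g in Q
  obtain ⟨g', hg', hQ', h1', h2'⟩ : ∃ g' ∈ N, g' ∈ Qt ∧ g' ≠ 1 ∧ g' ≠ zt := by
    by_cases hgQ : g ∈ Qt
    · exact ⟨g, hg, hgQ, h1, h2⟩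
    · have hs : sg ρ g ≠ 1 := fun h0 => hgQ ((mem_Q_iff M).2 h0)
      obtain ⟨i, hi⟩ : ∃ i, sg ρ g i ≠ i := by
        by_contra hcon
        push Not at hcon
        exact hs (Equiv.ext hcon)
      obtain ⟨a, ha⟩ := comm_v M g i
      refine ⟨g * v i * g⁻¹ * (v i)⁻¹, ?_, ?_, ?_, ?_⟩
      · have h3 : g * v i * g⁻¹ * (v i)⁻¹ = g * (v i * g⁻¹ * (v i)⁻¹) := by group
        rw [h3]
        exact N.mul_mem hg (hN.conj_mem _ (N.inv_mem hg) _)
      · rw [ha]
        exact Qt.mul_mem (zp_mem Qt zt M.z_mem a) (Qt.mul_mem (M.v_mem _) (M.v_mem _))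
      · intro h0
        rw [mul_inv_eq_one] at h0
        rw [M.conj] at h0
        have h5 := M.v_inj ((ρ g).s i) 0 ((ρ g).σ i) i (by rw [zp_zero, one_mul]; exact h0)
        exact hi h5.2
      · intro h0
        rw [mul_inv_eq_iff_eq_mul, M.conj] at h0
        have h5 := M.v_inj ((ρ g).s i) 1 ((ρ g).σ i) i (by rw [zp_one]; exact h0)
        exact hi h5.2
  have hz := zt_mem_of M N hN hg' hQ' h1' h2'
  have hzp : ∀ a, zp zt a ∈ N := zp_mem N zt hz
  rcases M.cover g' hQ' with ⟨a, rfl⟩ | ⟨a, i, rfl⟩ | ⟨a, i, j, hij, rfl⟩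
  · exfalso
    rcases zmod2_cases a with rfl | rfl
    · exact h1' (zp_zero zt)
    · exact h2' (zp_one zt)
  · have hvi : v i ∈ N := (N.mul_mem_cancel_left (hzp a)).1 hg'
    refine Q_le_of_zt M N hz fun k => ?_
    obtain ⟨τ, hτ, hτi⟩ : ∃ τ : Equiv.Perm (Fin 5), Equiv.Perm.sign τ = 1 ∧ τ i = k := by
      obtain ⟨j, hj⟩ : ∃ j : Fin 5, i ≠ j := (exists_ne i).imp fun _ h => h.symm
      obtain ⟨l, hl⟩ : ∃ l : Fin 5, k ≠ l := (exists_ne k).imp fun _ h => h.symm
      obtain ⟨τ, h3, h4, -⟩ := two_trans i j k l hj hl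
      exact ⟨τ, h3, h4⟩
    obtain ⟨x, hx⟩ := exists_sg M τ hτ
    have h3 := hN.conj_mem _ hvi x
    rw [M.conj] at h3
    have h4 : (ρ x).σ i = k := by
      have : (ρ x).σ = τ := hx
      rw [this, hτi]
    rw [h4] at h3
    exact (N.mul_mem_cancel_left (hzp _)).1 h3
  · have hvij : v i * v j ∈ N := (N.mul_mem_cancel_left (hzp a)).1 hg'
    refine Q_le_of_zt M N hz (v_mem_of_pairs M N hz fun k l hkl => ?_)
    obtain ⟨τ, hτ, hτi, hτj⟩ := two_trans i j k l hij.ne hkl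
    obtain ⟨x, hx⟩ := exists_sg M τ hτ
    have h3 := hN.conj_mem _ hvij x
    have h4 : x * (v i * v j) * x⁻¹ = (x * v i * x⁻¹) * (x * v j * x⁻¹) := by group
    rw [h4, M.conj, M.conj] at h3
    have h5 : (ρ x).σ i = k := by
      have : (ρ x).σ = τ := hx
      rw [this, hτi]
    have h6 : (ρ x).σ j = l := by
      have : (ρ x).σ = τ := hx
      rw [this, hτj]
    rw [h5, h6] at h3
    have h7 : zp zt ((ρ x).s i) * v k * (zp zt ((ρ x).s j) * v l)
        = zp zt ((ρ x).s i) * (zp zt ((ρ x).s j) * (v k * v l)) := by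
      calc zp zt ((ρ x).s i) * v k * (zp zt ((ρ x).s j) * v l)
          = zp zt ((ρ x).s i) * (v k * zp zt ((ρ x).s j)) * v l := by group
        _ = zp zt ((ρ x).s i) * (zp zt ((ρ x).s j) * v k) * v l := by
            rw [zp_comm zt M.z_comm]
        _ = _ := by group
    rw [h7] at h3
    exact (N.mul_mem_cancel_left (hzp _)).1 ((N.mul_mem_cancel_left (hzp _)).1 h3)

/-- (x1) -/
theorem normal_top (M : IsModel Qt zt v ρ) (N : Subgroup X) (hN : N.Normal) {g : X}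
    (hg : g ∈ N) (hgQ : g ∉ Qt) : N = ⊤ := by
  have hQN : Qt ≤ N := Q_le_normal M N hN hg (fun h0 => hgQ (h0 ▸ Qt.one_mem))
    (fun h0 => hgQ (h0 ▸ M.z_mem))
  have hr := range_sg M
  -- the image of N in A5
  let f : X →* alternatingGroup (Fin 5) := (sg ρ).codRestrict (alternatingGroup (Fin 5))
    (fun x => by rw [Equiv.Perm.mem_alternatingGroup]; exact sign_sg M x)
  have hf : Function.Surjective f := by
    rintro ⟨τ, hτ⟩
    obtain ⟨x, hx⟩ := exists_sg M τ (Equiv.Perm.mem_alternatingGroup.1 hτ)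
    exact ⟨x, Subtype.ext hx⟩
  have hfker : ∀ x, f x = 1 → x ∈ Qt := fun x hx => by
    rw [mem_Q_iff M]
    exact congrArg Subtype.val hx
  have hNf : (N.map f).Normal := hN.map f hf
  have hsimple : IsSimpleGroup (alternatingGroup (Fin 5)) := alternatingGroup.isSimpleGroup (by simp)
  rcases hNf.eq_bot_or_eq_top with h1 | h1
  · exfalso
    apply hgQ
    apply hfker
    have h2 : f g ∈ N.map f := ⟨g, hg, rfl⟩
    rw [h1, Subgroup.mem_bot] at h2
    exact h2
  · rw [Subgroup.eq_top_iff']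
    intro x
    have h2 : f x ∈ N.map f := h1 ▸ Subgroup.mem_top _
    obtain ⟨n, hn, hnx⟩ := h2
    have h3 : f (n⁻¹ * x) = 1 := by rw [map_mul, map_inv, hnx]; group
    have h4 := N.mul_mem hn (hQN (hfker _ h3))
    rwa [mul_inv_cancel_left] at h4

/-- the permutation of a 3-element outside `Qt` -/
theorem conj_three (M : IsModel Qt zt v ρ) {w : X} (hw : ∃ k, w ^ (3 ^ k) = 1) (hw1 : w ∉ Qt) :
    ∃ μ : Equiv.Perm (Fin 5), sg ρ w
      = MulAut.conj μ (Equiv.swap (0 : Fin 5) 1 * Equiv.swap 0 2) := by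
  obtain ⟨k, hk⟩ := hw
  have h3 : Nat.Prime 3 := Nat.prime_three
  have hc1 : sg ρ w ≠ 1 := fun h0 => hw1 ((mem_Q_iff M).2 h0)
  have hck : (sg ρ w) ^ (3 ^ k) = 1 := by rw [← map_pow, hk, map_one]
  obtain ⟨j, -, hj⟩ := (Nat.dvd_prime_pow h3).1 (orderOf_dvd_of_pow_eq_one hck)
  have hdvd : orderOf (sg ρ w) ∣ 120 := by
    have := orderOf_dvd_natCard (sg ρ w)
    rw [Nat.card_perm, Nat.card_eq_fintype_card, Fintype.card_fin] at this
    exact this
  have hord : orderOf (sg ρ w) = 3 := by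
    rw [hj] at hdvd ⊢
    have h1 : j ≠ 0 := by
      rintro rfl
      rw [pow_zero] at hj
      exact hc1 (orderOf_eq_one_iff.1 hj)
    have h2 : j < 2 := by
      by_contra hcon
      have h4 : 3 ^ 2 ∣ 3 ^ j := pow_dvd_pow 3 (by omega)
      have := h4.trans hdvd
      norm_num at this
    have : j = 1 := by omega
    rw [this, pow_one]
  have hcyc : (sg ρ w).IsCycle := Equiv.Perm.isCycle_of_prime_order' (by rw [hord]; exact h3)
    (by rw [hord]; simp)
  have h3c : (Equiv.swap (0 : Fin 5) 1 * Equiv.swap 0 2).IsThreeCycle :=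
    Equiv.Perm.isThreeCycle_swap_mul_swap_same (by decide) (by decide) (by decide)
  have hconj : IsConj (Equiv.swap (0 : Fin 5) 1 * Equiv.swap 0 2) (sg ρ w) := by
    refine h3c.isCycle.isConj hcyc ?_
    rw [h3c.card_support, ← hcyc.orderOf, hord]
  obtain ⟨μ, hμ⟩ := isConj_iff.1 hconj
  exact ⟨μ, by rw [MulAut.conj_apply, hμ]⟩

/-- the permutation of a 5-element outside `Qt` -/
theorem conj_five (M : IsModel Qt zt v ρ) {w : X} (hw : ∃ k, w ^ (5 ^ k) = 1) (hw1 : w ∉ Qt) :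
    ∃ μ : Equiv.Perm (Fin 5), sg ρ w = MulAut.conj μ (finRotate 5) := by
  obtain ⟨k, hk⟩ := hw
  have h3 : Nat.Prime 5 := Nat.prime_five
  have hc1 : sg ρ w ≠ 1 := fun h0 => hw1 ((mem_Q_iff M).2 h0)
  have hck : (sg ρ w) ^ (5 ^ k) = 1 := by rw [← map_pow, hk, map_one]
  obtain ⟨j, -, hj⟩ := (Nat.dvd_prime_pow h3).1 (orderOf_dvd_of_pow_eq_one hck)
  have hdvd : orderOf (sg ρ w) ∣ 120 := by
    have := orderOf_dvd_natCard (sg ρ w)
    rw [Nat.card_perm, Nat.card_eq_fintype_card, Fintype.card_fin] at this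
    exact this
  have hord : orderOf (sg ρ w) = 5 := by
    rw [hj] at hdvd ⊢
    have h1 : j ≠ 0 := by
      rintro rfl
      rw [pow_zero] at hj
      exact hc1 (orderOf_eq_one_iff.1 hj)
    have h2 : j < 2 := by
      by_contra hcon
      have h4 : 5 ^ 2 ∣ 5 ^ j := pow_dvd_pow 5 (by omega)
      have := h4.trans hdvd
      norm_num at this
    have : j = 1 := by omega
    rw [this, pow_one]
  have hcyc : (sg ρ w).IsCycle := Equiv.Perm.isCycle_of_prime_order' (by rw [hord]; exact h3)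
    (by rw [hord]; simp)
  have hconj : IsConj (finRotate 5) (sg ρ w) := by
    refine (isCycle_finRotate (n := 3)).isConj hcyc ?_
    rw [← hcyc.orderOf, hord, support_finRotate]
    simp
  obtain ⟨μ, hμ⟩ := isConj_iff.1 hconj
  exact ⟨μ, by rw [MulAut.conj_apply, hμ]⟩

theorem conj_eq_one_iff {μ a : Equiv.Perm (Fin 5)} : MulAut.conj μ a = 1 ↔ a = 1 :=
  map_eq_one_iff _ (MulAut.conj μ).injective

theorem sign_conj (μ a : Equiv.Perm (Fin 5)) :
    Equiv.Perm.sign (MulAut.conj μ a) = Equiv.Perm.sign a := by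
  rw [MulAut.conj_apply, Equiv.Perm.sign_mul, Equiv.Perm.sign_mul, Equiv.Perm.sign_inv,
    mul_comm, ← mul_assoc, Int.units_mul_self, one_mul]

/-- (x3) -/
theorem three (M : IsModel Qt zt v ρ) {w : X} (hw : ∃ k, w ^ (3 ^ k) = 1) (hw1 : w ∉ Qt) :
    ∃ g : X, w * (g * w * g⁻¹) ∉ Qt ∧ (w * (g * w * g⁻¹)) ^ 5 ∈ Qt := by
  obtain ⟨μ, hμ⟩ := conj_three M hw hw1
  obtain ⟨g, hg⟩ := exists_sg M (MulAut.conj μ (finRotate 5 ^ 2)) (by
    rw [sign_conj]
    decide)
  refine ⟨g, ?_, ?_⟩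
  · rw [mem_Q_iff M]
    simp only [map_mul, map_inv, hμ, hg]
    simp only [← map_mul, ← map_inv]
    rw [conj_eq_one_iff]
    decide +kernel
  · rw [mem_Q_iff M]
    simp only [map_mul, map_inv, map_pow, hμ, hg]
    simp only [← map_mul, ← map_inv, ← map_pow]
    rw [conj_eq_one_iff]
    decide +kernel

/-- (x4) -/
theorem five_A (M : IsModel Qt zt v ρ) {w : X} (hw : ∃ k, w ^ (5 ^ k) = 1) (hw1 : w ∉ Qt) :
    ∃ g a b : X, a ∈ closure {w, g * w * g⁻¹} ∧ b ∈ closure {w, g * w * g⁻¹} ∧ a ∉ Qt ∧ b ∉ Qt ∧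
      a * b ∉ Qt ∧ a * a ∈ Qt ∧ b * b ∈ Qt ∧ a * b * a⁻¹ * b⁻¹ ∈ Qt := by
  obtain ⟨μ, hμ⟩ := conj_five M hw hw1
  obtain ⟨g, hg⟩ := exists_sg M (MulAut.conj μ (Equiv.swap (2 : Fin 5) 3 * Equiv.swap 3 4)) (by
    rw [sign_conj]
    decide)
  have hw' : w ∈ closure {w, g * w * g⁻¹} := subset_closure (by simp)
  have hg' : g * w * g⁻¹ ∈ closure {w, g * w * g⁻¹} := subset_closure (by simp)
  refine ⟨g, w * w * (g * w * g⁻¹)⁻¹, (g * w * g⁻¹) * (g * w * g⁻¹) * w * (g * w * g⁻¹),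
    mul_mem (mul_mem hw' hw') (inv_mem hg'), mul_mem (mul_mem (mul_mem hg' hg') hw') hg',
    ?_, ?_, ?_, ?_, ?_, ?_⟩
  all_goals
    rw [mem_Q_iff M]
    simp only [map_mul, map_inv, hμ, hg]
    simp only [← map_mul, ← map_inv]
    rw [conj_eq_one_iff]
    decide +kernel

theorem conj_pow (M : IsModel Qt zt v ρ) (w : X) (n : ℕ) (i : Fin 5) :
    ∃ a, w ^ n * v i * (w ^ n)⁻¹ = zp zt a * v ((sg ρ w ^ n) i) := by
  refine ⟨(ρ (w ^ n)).s i, ?_⟩
  rw [M.conj]
  congr 3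
  rw [← map_pow, sg_apply]

/-- (x5) -/
theorem five_B (M : IsModel Qt zt v ρ) {w : X} (hw : ∃ k, w ^ (5 ^ k) = 1) (hw1 : w ∉ Qt) :
    ∃ q ∈ Qt, v 0 ∈ closure {w, q * w * q⁻¹} ∧ v 1 ∈ closure {w, q * w * q⁻¹} := by
  refine ⟨v 0, M.v_mem 0, ?_⟩
  set K : Subgroup X := closure {w, v 0 * w * (v 0)⁻¹} with hK
  have hwK : w ∈ K := subset_closure (by simp)
  have hgK : v 0 * w * (v 0)⁻¹ ∈ K := subset_closure (by simp)
  have hc := zp_comm zt M.z_comm
  have hinv : ∀ i, (v i)⁻¹ = v i := fun i => inv_eq_of_mul_eq_one_left (M.v_sq i)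
  obtain ⟨μ, hμ⟩ := conj_five M hw hw1
  set c : Equiv.Perm (Fin 5) := sg ρ w with hcdef
  have hinj : ∀ n m : ℕ, n < 5 → m < 5 → (c ^ n) 0 = (c ^ m) 0 → n = m := by
    intro n m hn hm h0
    rw [hμ, ← map_pow, ← map_pow, MulAut.conj_apply, MulAut.conj_apply] at h0
    simp only [Equiv.Perm.mul_apply] at h0
    have h1 := μ.injective h0
    revert h1
    generalize μ⁻¹ 0 = x
    interval_cases n <;> interval_cases m <;> revert x <;> decide
  have htrans : ∀ i : Fin 5, ∃ n : ℕ, (c ^ n) 0 = i := by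
    intro i
    have h1 : ∀ x y : Fin 5, ∃ n : Fin 5, (finRotate 5 ^ (n : ℕ)) x = y := by decide
    obtain ⟨n, hn⟩ := h1 (μ⁻¹ 0) (μ⁻¹ i)
    refine ⟨n, ?_⟩
    rw [hμ, ← map_pow, MulAut.conj_apply]
    simp only [Equiv.Perm.mul_apply]
    rw [hn]
    simp
  -- the elements v_{c^{n+1} 0} v_{c^n 0} up to z
  have hel : ∀ n : ℕ, ∃ a, zp zt a * (v ((c ^ (n + 1)) 0) * v ((c ^ n) 0)) ∈ K := by
    intro n
    have h1 : w ^ n * (w * (v 0 * w * (v 0)⁻¹)⁻¹) * (w ^ n)⁻¹ ∈ K :=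
      K.mul_mem (K.mul_mem (K.pow_mem hwK n) (K.mul_mem hwK (K.inv_mem hgK)))
        (K.inv_mem (K.pow_mem hwK n))
    obtain ⟨a, ha⟩ := conj_pow M w (n + 1) 0
    obtain ⟨b, hb⟩ := conj_pow M w n 0
    refine ⟨a + b, ?_⟩
    have h2 : w ^ n * (w * (v 0 * w * (v 0)⁻¹)⁻¹) * (w ^ n)⁻¹
        = (w ^ (n + 1) * v 0 * (w ^ (n + 1))⁻¹) * (w ^ n * v 0 * (w ^ n)⁻¹)⁻¹ := by
      rw [pow_succ]; group
    rw [h2, ha, hb] at h1
    have h3 : zp zt a * v ((c ^ (n + 1)) 0) * (zp zt b * v ((c ^ n) 0))⁻¹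
        = zp zt (a + b) * (v ((c ^ (n + 1)) 0) * v ((c ^ n) 0)) := by
      have h4 : (zp zt b)⁻¹ = zp zt b := inv_eq_of_mul_eq_one_left (zp_sq M b)
      rw [mul_inv_rev, hinv, h4]
      calc zp zt a * v ((c ^ (n + 1)) 0) * (v ((c ^ n) 0) * zp zt b)
          = zp zt a * ((v ((c ^ (n + 1)) 0) * v ((c ^ n) 0)) * zp zt b) := by group
        _ = zp zt a * (zp zt b * (v ((c ^ (n + 1)) 0) * v ((c ^ n) 0))) := by rw [hc]
        _ = _ := by rw [zp_add zt M.z_sq, mul_assoc]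
    rwa [h3] at h1
  -- z is in K
  have hz : zt ∈ K := by
    obtain ⟨a, ha⟩ := hel 1
    obtain ⟨b, hb⟩ := hel 0
    have n10 : (c ^ (1 + 1)) 0 ≠ (c ^ 1) 0 := fun h0 => by
      have := hinj 2 1 (by norm_num) (by norm_num) h0; omega
    have n20 : (c ^ (1 + 1)) 0 ≠ (c ^ 0) 0 := fun h0 => by
      have := hinj 2 0 (by norm_num) (by norm_num) h0; omega
    have n21 : (c ^ 1) 0 ≠ (c ^ 0) 0 := fun h0 => by
      have := hinj 1 0 (by norm_num) (by norm_num) h0; omega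
    have e1 : (c ^ (0 + 1)) 0 = (c ^ 1) 0 := rfl
    rw [e1] at hb
    generalize (c ^ (1 + 1)) 0 = i at *
    generalize (c ^ 1) 0 = j at *
    generalize (c ^ 0) 0 = k at *
    have hAB := K.mul_mem (K.mul_mem ha hb) (K.inv_mem (K.mul_mem hb ha))
    have e2 : zp zt a * (v i * v j) * (zp zt b * (v j * v k))
        = zp zt a * zp zt b * (v i * v k) := by
      calc zp zt a * (v i * v j) * (zp zt b * (v j * v k))
          = zp zt a * ((v i * v j) * zp zt b) * (v j * v k) := by group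
        _ = zp zt a * (zp zt b * (v i * v j)) * (v j * v k) := by rw [hc]
        _ = zp zt a * zp zt b * (v i * (v j * v j) * v k) := by group
        _ = _ := by rw [M.v_sq, mul_one]
    have e3 : zp zt b * (v j * v k) * (zp zt a * (v i * v j))
        = zp zt a * zp zt b * (zt * (v i * v k)) := by
      have e4 : v j * v k * (v i * v j) = zt * (v i * v k) := by
        calc v j * v k * (v i * v j) = v j * (v k * v i) * v j := by group
          _ = v j * (zt * (v i * v k)) * v j := by rw [M.v_anti k i n20.symm]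
          _ = (v j * zt) * v i * (v k * v j) := by group
          _ = (zt * v j) * v i * (zt * (v j * v k)) := by rw [M.z_comm, M.v_anti k j n21.symm]
          _ = zt * (v j * v i) * zt * v j * v k := by group
          _ = zt * (zt * (v i * v j)) * zt * v j * v k := by rw [M.v_anti j i n10.symm]
          _ = (zt * zt) * v i * (v j * zt) * v j * v k := by group
          _ = (zt * zt) * v i * (zt * v j) * v j * v k := by rw [M.z_comm (v j)]
          _ = (zt * zt) * (v i * zt) * (v j * v j) * v k := by group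
          _ = (zt * zt) * (zt * v i) * (v j * v j) * v k := by rw [M.z_comm (v i)]
          _ = zt * (v i * v k) := by rw [M.z_sq, M.v_sq]; group
      calc zp zt b * (v j * v k) * (zp zt a * (v i * v j))
          = zp zt b * ((v j * v k) * zp zt a) * (v i * v j) := by group
        _ = zp zt b * (zp zt a * (v j * v k)) * (v i * v j) := by rw [hc]
        _ = (zp zt b * zp zt a) * (v j * v k * (v i * v j)) := by group
        _ = (zp zt a * zp zt b) * (v j * v k * (v i * v j)) := by rw [hc]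
        _ = _ := by rw [e4]
    rw [e2, e3] at hAB
    have e5 : zp zt a * zp zt b * (v i * v k) * (zp zt a * zp zt b * (zt * (v i * v k)))⁻¹
        = zt := by
      have hzinv : zt⁻¹ = zt := inv_eq_of_mul_eq_one_left M.z_sq
      calc zp zt a * zp zt b * (v i * v k) * (zp zt a * zp zt b * (zt * (v i * v k)))⁻¹
          = (zp zt a * zp zt b) * zt⁻¹ * (zp zt a * zp zt b)⁻¹ := by group
        _ = (zp zt a * zp zt b) * zt * (zp zt a * zp zt b)⁻¹ := by rw [hzinv]
        _ = zt := by rw [M.z_comm]; group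
    rwa [e5] at hAB
  have hzp : ∀ a, zp zt a ∈ K := zp_mem K zt hz
  have hel' : ∀ n : ℕ, v ((c ^ (n + 1)) 0) * v ((c ^ n) 0) ∈ K := by
    intro n
    obtain ⟨a, ha⟩ := hel n
    exact (K.mul_mem_cancel_left (hzp a)).1 ha
  have hv0 : ∀ n : ℕ, v ((c ^ n) 0) * v 0 ∈ K := by
    intro n
    induction n with
    | zero =>
      rw [pow_zero]
      show v 0 * v 0 ∈ K
      rw [M.v_sq]
      exact K.one_mem
    | succ n ih =>
      have h1 := K.mul_mem (hel' n) ih
      have h2 : v ((c ^ (n + 1)) 0) * v ((c ^ n) 0) * (v ((c ^ n) 0) * v 0)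
          = v ((c ^ (n + 1)) 0) * v 0 := by
        calc v ((c ^ (n + 1)) 0) * v ((c ^ n) 0) * (v ((c ^ n) 0) * v 0)
            = v ((c ^ (n + 1)) 0) * (v ((c ^ n) 0) * v ((c ^ n) 0)) * v 0 := by group
          _ = _ := by rw [M.v_sq, mul_one]
      rwa [h2] at h1
  have hvi : ∀ i, v i * v 0 ∈ K := by
    intro i
    obtain ⟨n, rfl⟩ := htrans i
    exact hv0 n
  have hvv : ∀ i j, i ≠ j → v i * v j ∈ K := by
    intro i j _
    have h1 := K.mul_mem (hvi i) (K.inv_mem (hvi j))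
    have h2 : v i * v 0 * (v j * v 0)⁻¹ = v i * v j := by
      rw [mul_inv_rev, hinv, hinv]
      calc v i * v 0 * (v 0 * v j) = v i * (v 0 * v 0) * v j := by group
        _ = _ := by rw [M.v_sq, mul_one]
    rwa [h2] at h1
  exact ⟨v_mem_of_pairs M K hz hvv 0, v_mem_of_pairs M K hz hvv 1⟩

end Cfsg.Agent.J2Sylow.TFX
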