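import Mathlib
import Cfsg.Agent.J2Sylow.TFGroup
import Cfsg.Agent.J2Sylow.TFX

set_option autoImplicit false
set_option linter.style.haveILetI false
set_option linter.unusedSectionVars false

/-!
# The Thompson subgroup step (piece C of step (4) of S1776)
-/

namespace Cfsg.Agent.J2Sylow.TF

open Subgroup Cfsg.Agent.J2Type.Model Cfsg.Agent.J2Sylow.TFBase Cfsg.Agent.J2Sylow.TFGroup

theorem exists_char {H X : Type*} [Group H] [Finite H] [Group X] (π : H →* X)
    (hπ : Function.Surjective π) (hker : Odd (Nat.card π.ker))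
    {Qt : Subgroup X} {zt : X} {v : Fin 5 → X} {ρ : X →* SP} (M : IsModel Qt zt v ρ)
    (hX : Nat.card X = 1920)
    {r : ℕ} (hr : r.Prime) (hr2 : r ≠ 2) (P : Subgroup H) (hPn : P.Normal) (hP : IsPGroup r P)
    (hPk : P ≤ π.ker) (hPi : ¬ r ∣ P.relIndex π.ker)
    {y : H} (hy2 : y * y = 1) (hyQ : π y ∈ Qt) (hy1 : π y ≠ 1) (hyz : π y ≠ zt)
    (hact : ∃ x ∈ P, y * x ≠ x * y) (S : Subgroup H) (hS : IsPGroup r S) (hSi : ¬ r ∣ S.index) :
    ∃ Q0 : Subgroup H, Q0.Normal ∧ Q0 ≠ ⊥ ∧ Q0 ≤ S ∧ (Q0.subgroupOf S).Characteristic := by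
  classical
  haveI : Fact r.Prime := ⟨hr⟩
  haveI : Finite X := Nat.finite_of_card_ne_zero (by rw [hX]; norm_num)
  have hr4 : Nat.Coprime r 4 := by
    have : Nat.Coprime r (2 ^ 2) := Nat.Coprime.pow_right 2 ((Nat.coprime_primes hr Nat.prime_two).2 hr2)
    simpa using this
  -- `P ≤ S`
  have hPS : P ≤ S := by
    have h1 : IsPGroup r ↥(P ⊔ S) := hP.to_sup_of_normal_left hS
    have h2 := (hS.toSylow hSi).is_maximal' h1 le_sup_right
    have h3 : P ⊔ S = S := h2
    rw [← h3]; exact le_sup_left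
  -- `S ∩ ker π ≤ P`
  have hSk : ∀ s ∈ S, π s = 1 → s ∈ P := by
    intro s hs hs1
    have h1 : IsPGroup r ↥(S ⊓ π.ker) := hS.to_le inf_le_left
    have h2 : P ≤ S ⊓ π.ker := le_inf hPS hPk
    have h3 : ¬ r ∣ P.relIndex (S ⊓ π.ker) := by
      intro hd
      apply hPi
      rw [← relIndex_mul_relIndex P (S ⊓ π.ker) π.ker h2 inf_le_right]
      exact Dvd.dvd.mul_right hd _
    obtain ⟨n, hn⟩ := h1.index (P.subgroupOf (S ⊓ π.ker))
    have h4 : P.relIndex (S ⊓ π.ker) = r ^ n := hn
    have h5 : n = 0 := by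
      by_contra h6
      apply h3
      rw [h4]
      exact dvd_pow_self r h6
    rw [h5, pow_zero] at h4
    exact (relIndex_eq_one.1 h4) ⟨hs, hs1⟩
  -- elements of `S` over `Qt`
  have hSQ : ∀ s ∈ S, π s ∈ Qt → s ∈ P := by
    intro s hs hsQ
    apply hSk s hs
    obtain ⟨k, hk⟩ := hS ⟨s, hs⟩
    have hk' : s ^ (r ^ k) = 1 := congrArg Subtype.val hk
    have h1 : π s ^ (r ^ k) = 1 := by rw [← map_pow, hk', map_one]
    have h2 := TFX.Q_two M _ hsQ
    exact orderOf_eq_one_iff.1 (Nat.Coprime.eq_one_of_dvd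
      (Nat.Coprime.coprime_dvd_left (orderOf_dvd_of_pow_eq_one h1) (Nat.Coprime.pow_left k hr4))
      (orderOf_dvd_of_pow_eq_one h2))
  -- 2-elements over the image of a normal subgroup
  have htwo : ∀ (D : Subgroup H), D.Normal → ∀ t : H, (∃ k : ℕ, t ^ (2 ^ k) = 1) → π t ∈ D.map π →
      t ∈ D := by
    intro D hD t ⟨k, hk⟩ ht
    refine mem_of_map hD hk (m := Nat.card π.ker) ?_ ?_ ht
    · intro x hx
      have h1 : (⟨x, hx⟩ : π.ker) ^ Nat.card π.ker = 1 := pow_card_eq_one'
      have h2 : x ^ Nat.card π.ker = 1 := congrArg Subtype.val h1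
      rw [h2]; exact D.one_mem
    · exact Nat.Coprime.pow_left k (Nat.coprime_two_left.2 hker)
  -- the alternative for normal subgroups
  have halt : ∀ (D : Subgroup H), D.Normal → D.map π ≤ Qt ∨ D.map π = ⊤ := by
    intro D hD
    by_cases h1 : D.map π ≤ Qt
    · left; exact h1
    · right
      obtain ⟨g, hg, hgQ⟩ := Set.not_subset.1 h1
      exact TFX.normal_top M _ (hD.map π hπ) hg hgQ
  -- `P ≤ D`, `D` covers `X`: then `S ≤ D`
  have hcovS : ∀ (D : Subgroup H), D.Normal → P ≤ D → D.map π = ⊤ → S ≤ D := by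
    intro D hD hPD hDt s hs
    obtain ⟨k, hk⟩ := hS ⟨s, hs⟩
    have hk' : s ^ (r ^ k) = 1 := congrArg Subtype.val hk
    refine mem_of_map hD hk' (m := D.relIndex π.ker) ?_ ?_ (by rw [hDt]; exact mem_top _)
    · intro x hx
      have h1 : D.relIndex π.ker = Nat.card (π.ker.map (QuotientGroup.mk' D)) := by
        have h2 := relIndex_ker (QuotientGroup.mk' D) (K := π.ker)
        rwa [QuotientGroup.ker_mk'] at h2
      have h2 : (QuotientGroup.mk' D) x ∈ π.ker.map (QuotientGroup.mk' D) := ⟨x, hx, rfl⟩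
      have h3 : (⟨_, h2⟩ : π.ker.map (QuotientGroup.mk' D)) ^ Nat.card (π.ker.map (QuotientGroup.mk' D)) = 1 :=
        pow_card_eq_one'
      have h4 := congrArg Subtype.val h3
      rw [h1]
      have h5 : (QuotientGroup.mk' D) (x ^ Nat.card (π.ker.map (QuotientGroup.mk' D))) = 1 := by
        rw [map_pow]; exact h4
      exact (QuotientGroup.eq_one_iff _).1 h5
    · refine Nat.Coprime.pow_left k ((Nat.Prime.coprime_iff_not_dvd hr).2 ?_)
      intro h1
      exact hPi (h1.trans (relIndex_dvd_of_le_left π.ker hPD))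
  -- `C_S(P) ≤ P`
  have hCP : ∀ s ∈ S, (∀ p ∈ P, s * p = p * s) → s ∈ P := by
    intro s hs hsP
    by_contra hsn
    have hDn : (centralizer (P : Set H)).Normal := inferInstance
    have hsD : s ∈ centralizer (P : Set H) := by
      rw [mem_centralizer_iff]
      intro p hp
      exact (hsP p hp).symm
    rcases halt _ hDn with h1 | h1
    · exact hsn (hSQ s hs (h1 ⟨s, hsD, rfl⟩))
    · have h2 : y ∈ centralizer (P : Set H) :=
        htwo _ hDn y ⟨1, by rw [pow_one, pow_two]; exact hy2⟩ (by rw [h1]; exact mem_top _)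
      obtain ⟨x, hx, hyx⟩ := hact
      exact hyx (mem_centralizer_iff.1 h2 x hx).symm
  set V := Om r P with hV
  have hVn : V.Normal := Om_normal hPn
  have hVb : V ≠ ⊥ := by
    obtain ⟨x, hx, hyx⟩ := hact
    refine Om_ne_bot hr hP ⟨x, hx, ?_⟩
    rintro rfl
    exact hyx (by rw [mul_one, one_mul])
  -- Case 0
  by_cases hSP : S ≤ P
  · have hSPe : P = S := le_antisymm hPS hSP
    refine ⟨P, hPn, ?_, hPS, ?_⟩
    · intro h1
      exact hVb (le_bot_iff.1 (h1 ▸ Om_le))
    · rw [hSPe, subgroupOf_self]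
      infer_instance
  set D := centralizer (V : Set H) with hD
  have hDn : D.Normal := inferInstance
  have hPD : P ≤ D := by
    intro p hp
    rw [hD, mem_centralizer_iff]
    intro w hw
    exact hw.2.2 p hp
  have hmemD : ∀ t : H, (∀ w ∈ V, t * w = w * t) → t ∈ D := by
    intro t ht
    rw [hD, mem_centralizer_iff]
    exact fun w hw => (ht w hw).symm
  rcases halt D hDn with hDQ | hDt
  swap
  · -- Case 1: `V = Ω₁(Z(S))`
    have hSD := hcovS D hDn hPD hDt
    refine ⟨V, hVn, hVb, Om_le.trans hPS, ?_⟩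
    rw [characteristic_iff_le_comap]
    intro ϕ s hs
    rw [mem_subgroupOf] at hs
    rw [mem_comap, mem_subgroupOf]
    have h1 : ∀ t : S, s * t = t * s := by
      intro t
      apply Subtype.ext
      exact mem_centralizer_iff.1 (hSD t.2) _ hs
    have h2 : ∀ t : S, ϕ s * t = t * ϕ s := by
      intro t
      obtain ⟨t', rfl⟩ := ϕ.surjective t
      rw [← map_mul, h1, map_mul]
    have h3 : ∀ p ∈ P, ((ϕ s : S) : H) * p = p * ((ϕ s : S) : H) := by
      intro p hp
      exact congrArg Subtype.val (h2 ⟨p, hPS hp⟩)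
    refine ⟨hCP _ (ϕ s).2 h3, ?_, h3⟩
    have h4 : s ^ r = 1 := Subtype.ext (by rw [coe_pow]; exact hs.2.1)
    have h5 : (ϕ s) ^ r = 1 := by rw [← map_pow, h4, map_one]
    exact congrArg Subtype.val h5
  -- numbers
  have hcardS : Nat.card (S.map π) ∣ 1920 := by
    rw [← hX]; exact card_subgroup_dvd_card _
  have hSmap : IsPGroup r (S.map π) := hS.map π
  obtain ⟨n, hn⟩ := hSmap.exists_card_eq
  have hn0 : n ≠ 0 := by
    rintro rfl
    rw [pow_zero] at hn
    apply hSP
    intro s hs
    apply hSk s hs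
    have h1 : S.map π = ⊥ := eq_bot_of_card_eq _ hn
    have h2 : π s ∈ S.map π := ⟨s, hs, rfl⟩
    rw [h1] at h2
    exact mem_bot.1 h2
  have h15 : r ^ n ∣ 15 := by
    rw [hn] at hcardS
    have h1 : Nat.Coprime (r ^ n) (2 ^ 7) :=
      Nat.Coprime.pow n 7 ((Nat.coprime_primes hr Nat.prime_two).2 hr2)
    have h2 : (1920 : ℕ) = 2 ^ 7 * 15 := by norm_num
    rw [h2] at hcardS
    exact h1.dvd_of_dvd_mul_left hcardS
  have hr35 : r = 3 ∨ r = 5 := by
    have h1 : r ∣ 15 := (dvd_pow_self r hn0).trans h15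
    have h2 : (15 : ℕ) = 3 * 5 := by norm_num
    rw [h2, hr.dvd_mul] at h1
    rcases h1 with h1 | h1
    · left; exact (Nat.prime_dvd_prime_iff_eq hr Nat.prime_three).1 h1
    · right; exact (Nat.prime_dvd_prime_iff_eq hr Nat.prime_five).1 h1
  have hn1 : n = 1 := by
    by_contra h1
    have h2 : r ^ 2 ∣ 15 := (pow_dvd_pow r (by omega)).trans h15
    rcases hr35 with rfl | rfl <;> revert h2 <;> decide
  have hPidx : P.relIndex S ∣ r := by
    have h1 : π.ker.relIndex S = Nat.card (S.map π) := relIndex_ker π (K := S)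
    have h2 : P.relIndex S = π.ker.relIndex S := by
      rw [← inf_relIndex_right π.ker S]
      congr 1
      exact le_antisymm (le_inf hPk hPS) fun s hs => hSk s hs.2 hs.1
    rw [h2, h1, hn, hn1, pow_one]
  -- Case 2
  rcases exists_J_or hr hPn hPS hS hVb hPidx with h1 | ⟨x, hxS, hxP, hx⟩
  · exact h1
  exfalso
  have hxQ : π x ∉ Qt := fun h1 => hxP (hSQ x hxS h1)
  obtain ⟨kx, hkx⟩ := hS ⟨x, hxS⟩
  have hxr : x ^ (r ^ kx) = 1 := congrArg Subtype.val hkx
  have hconj : ∀ g : H, Nat.card V ∣ r * Nat.card ↥(V ⊓ centralizer ({g * x * g⁻¹} : Set H)) := by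
    intro g
    rw [card_conj hVn]; exact hx
  have hconjr : ∀ g : H, ∃ k : ℕ, (g * x * g⁻¹) ^ (r ^ k) = 1 := by
    intro g
    refine ⟨kx, ?_⟩
    rw [conj_pow, hxr]; group
  have hDmem : ∀ t ∈ D, π t ∈ Qt := fun t ht => hDQ ⟨t, ht, rfl⟩
  rcases hr35 with rfl | rfl
  · -- `r = 3`
    obtain ⟨g, hg1, hg5⟩ := TFX.three M (w := π x) ⟨kx, by rw [← map_pow, hxr, map_one]⟩ hxQ
    obtain ⟨g', rfl⟩ := hπ g
    set x' := g' * x * g'⁻¹ with hx'
    have hπx' : π x' = π g' * π x * (π g')⁻¹ := by rw [hx', map_mul, map_mul, map_inv]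
    set t0 := x * x' with ht0
    have hπt0 : π t0 = π x * (π g' * π x * (π g')⁻¹) := by rw [ht0, map_mul, hπx']
    obtain ⟨a, m, hm5, ham⟩ := Nat.exists_eq_pow_mul_and_not_dvd (orderOf_pos t0).ne' 5 (by norm_num)
    have ht : (t0 ^ m) ^ (5 ^ a) = 1 := by
      rw [← pow_mul, mul_comm m, ← ham, pow_orderOf_eq_one]
    have hY : t0 ∈ closure {x, x'} :=
      mul_mem (Subgroup.subset_closure (by simp)) (Subgroup.subset_closure (by simp))
    have h1 := five_element hVn Om_comm Om_exp (x' := x') hx (hconj g') (pow_mem hY m) ⟨a, ht⟩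
    have h2 := hDmem _ (hmemD _ h1)
    rw [map_pow, hπt0] at h2
    apply hg1
    set c := π x * (π g' * π x * (π g')⁻¹) with hc
    have hcop : IsCoprime (m : ℤ) ((5 : ℕ) : ℤ) :=
      Nat.isCoprime_iff_coprime.2
        ((Nat.Prime.coprime_iff_not_dvd (by norm_num : Nat.Prime 5)).2 hm5).symm
    obtain ⟨s, t, hst⟩ := hcop
    have h3 : c = (c ^ m) ^ s * (c ^ 5) ^ t := by
      rw [← zpow_natCast c m, ← zpow_natCast c 5, ← zpow_mul, ← zpow_mul, ← zpow_add]
      have : (m : ℤ) * s + ((5 : ℕ) : ℤ) * t = 1 := by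
        push_cast
        push_cast at hst
        linarith [hst, mul_comm s (m : ℤ), mul_comm t (5 : ℤ)]
      rw [this, zpow_one]
    rw [h3]
    exact mul_mem (zpow_mem h2 s) (zpow_mem hg5 t)
  · -- `r = 5`
    have key : ∀ (g' : H) (A : Subgroup X) (Qn : Subgroup X) (_ : Qn.Normal)
        (f : X →* X ⧸ Qn) (_ : f = QuotientGroup.mk' Qn) (a b : X), Qn ≤ D.map π →
        a ∈ closure {π x, π g' * π x * (π g')⁻¹} → b ∈ closure {π x, π g' * π x * (π g')⁻¹} →
        IsPGroup 2 (closure {f a, f b}) → a * a ∈ Qn → b * b ∈ Qn →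
        a ∈ D.map π ∨ b ∈ D.map π ∨ a * b ∈ D.map π := by
      intro g' _ Qn hQn f hf a b hQD ha hb h2g haa hbb
      set x' := g' * x * g'⁻¹ with hx'
      have hπx' : π x' = π g' * π x * (π g')⁻¹ := by rw [hx', map_mul, map_mul, map_inv]
      have hYmap : (closure {x, x'}).map π = closure {π x, π x'} := by
        rw [MonoidHom.map_closure, Set.image_pair]
      have hmem : ∀ c ∈ closure {π x, π g' * π x * (π g')⁻¹}, f c ∈ (closure {x, x'}).map (f.comp π) := by
        intro c hc
        rw [← hπx', ← hYmap] at hc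
        obtain ⟨y', hy', rfl⟩ := hc
        exact ⟨y', hy', rfl⟩
      obtain ⟨E, hE, hEY, hEA⟩ := exists_lift_two' (f.comp π) (closure {x, x'}) h2g (by
        rw [closure_le]
        rintro _ (rfl | rfl)
        · exact hmem a ha
        · exact hmem b hb)
      obtain ⟨t1, ht1, ht1a⟩ := hEA (f a) (Subgroup.subset_closure (by simp))
      obtain ⟨t2, ht2, ht2b⟩ := hEA (f b) (Subgroup.subset_closure (by simp))
      have hfQ : ∀ c c' : X, f c = f c' → c⁻¹ * c' ∈ Qn := by
        intro c c' hcc
        rw [hf] at hcc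
        exact QuotientGroup.eq.1 hcc
      have e1 : a⁻¹ * π t1 ∈ Qn := hfQ _ _ ht1a.symm
      have e2 : b⁻¹ * π t2 ∈ Qn := hfQ _ _ ht2b.symm
      have hf1 : ∀ c ∈ Qn, f c = 1 := by
        intro c hc
        rw [hf]; exact (QuotientGroup.eq_one_iff c).2 hc
      have hf2 : ∀ c, f c = 1 → c ∈ Qn := by
        intro c hc
        rw [hf] at hc; exact (QuotientGroup.eq_one_iff c).1 hc
      have s1 : t1 * t1 ∈ D := by
        obtain ⟨k, hk⟩ := hE ⟨t1 * t1, E.mul_mem ht1 ht1⟩
        refine htwo D hDn _ ⟨k, congrArg Subtype.val hk⟩ (hQD ?_)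
        apply hf2
        have h3 : f (π t1) = f a := ht1a
        rw [map_mul, map_mul, h3, ← map_mul]
        exact hf1 _ haa
      have s2 : t2 * t2 ∈ D := by
        obtain ⟨k, hk⟩ := hE ⟨t2 * t2, E.mul_mem ht2 ht2⟩
        refine htwo D hDn _ ⟨k, congrArg Subtype.val hk⟩ (hQD ?_)
        apply hf2
        have h3 : f (π t2) = f b := ht2b
        rw [map_mul, map_mul, h3, ← map_mul]
        exact hf1 _ hbb
      have hDc : ∀ t ∈ D, ∀ w ∈ V, t * w = w * t := fun t ht w hw =>
        (mem_centralizer_iff.1 ht w hw).symm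
      have hmain := two_elements (r := 5) (by norm_num) hVn Om_comm Om_exp (x' := x') hx (hconj g')
        ⟨kx, hxr⟩ (hconjr g') hE ht1 ht2 (hEY ht1) (hEY ht2) (hDc _ s1) (hDc _ s2)
      have back : ∀ (c : X) (t : H), c⁻¹ * π t ∈ Qn → t ∈ D → c ∈ D.map π := by
        intro c t hct ht
        have h3 : π t ∈ D.map π := ⟨t, ht, rfl⟩
        have h4 : c = π t * (c⁻¹ * π t)⁻¹ := by group
        rw [h4]
        exact mul_mem h3 (inv_mem (hQD hct))
      rcases hmain with h3 | h3 | h3
      · left; exact back a t1 e1 (hmemD _ h3)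
      · right; left; exact back b t2 e2 (hmemD _ h3)
      · right; right
        refine back (a * b) (t1 * t2) ?_ (hmemD _ h3)
        have h5 : (a * b)⁻¹ * π (t1 * t2) = (b⁻¹ * (a⁻¹ * π t1) * b⁻¹⁻¹) * (b⁻¹ * π t2) := by
          rw [map_mul]; group
        rw [h5]
        exact mul_mem (hQn.conj_mem _ e1 b⁻¹) e2
    by_cases hB : ∀ c ∈ D.map π, c = 1 ∨ c = zt
    · -- case B
      obtain ⟨q, hq, hv0, hv1⟩ := TFX.five_B M (w := π x) ⟨kx, by rw [← map_pow, hxr, map_one]⟩ hxQ
      obtain ⟨g', rfl⟩ := hπ q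
      have h1 := key g' ⊥ ⊥ inferInstance _ rfl (v 0) (v 1) bot_le hv0 hv1 (by
        have h2 : IsPGroup 2 Qt := by
          intro c
          refine ⟨2, ?_⟩
          apply Subtype.ext
          exact TFX.Q_two M _ c.2
        have h3 : closure {QuotientGroup.mk' (⊥ : Subgroup X) (v 0), QuotientGroup.mk' (⊥ : Subgroup X) (v 1)} ≤
            Qt.map (QuotientGroup.mk' (⊥ : Subgroup X)) := by
          rw [closure_le]
          rintro _ (rfl | rfl)
          · exact ⟨v 0, M.v_mem 0, rfl⟩
          · exact ⟨v 1, M.v_mem 1, rfl⟩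
        exact (h2.map _).to_le h3) (by rw [M.v_sq]; exact one_mem _) (by rw [M.v_sq]; exact one_mem _)
      have hii : ∀ i : Fin 5, i ≠ i + 1 := by decide
      have hvi : ∀ i : Fin 5, v i ≠ 1 ∧ v i ≠ zt := by
        intro i
        constructor
        · intro h2
          have h3 := M.v_anti i (i + 1) (hii i)
          rw [h2, one_mul, mul_one] at h3
          have h4 : zt = 1 := by
            have : zt * v (i + 1) = 1 * v (i + 1) := by rw [← h3, one_mul]
            exact mul_right_cancel this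
          exact M.z_ne h4
        · intro h2
          have h3 := M.v_anti i (i + 1) (hii i)
          rw [h2, M.z_comm (v (i + 1))] at h3
          have h4 : zt = 1 := by
            have : zt * (zt * v (i + 1)) = 1 * (zt * v (i + 1)) := by rw [← h3, one_mul]
            exact mul_right_cancel this
          exact M.z_ne h4
      rcases h1 with h1 | h1 | h1
      · rcases hB _ h1 with h2 | h2
        · exact (hvi 0).1 h2
        · exact (hvi 0).2 h2
      · rcases hB _ h1 with h2 | h2
        · exact (hvi 1).1 h2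
        · exact (hvi 1).2 h2
      · have h3 : v 0 = zp zt 0 * v 1 ∨ v 0 = zp zt 1 * v 1 := by
          rcases hB _ h1 with h2 | h2
          · left
            rw [zp_zero, one_mul]
            calc v 0 = v 0 * (v 1 * v 1) := by rw [M.v_sq, mul_one]
              _ = (v 0 * v 1) * v 1 := by group
              _ = v 1 := by rw [h2, one_mul]
          · right
            rw [zp_one]
            calc v 0 = v 0 * (v 1 * v 1) := by rw [M.v_sq, mul_one]
              _ = (v 0 * v 1) * v 1 := by group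
              _ = zt * v 1 := by rw [h2]
        rcases h3 with h3 | h3
        · have h4 := M.v_inj 0 0 0 1 (by rw [zp_zero, one_mul, one_mul]; rwa [zp_zero, one_mul] at h3)
          exact absurd h4.2 (by decide)
        · have h4 := M.v_inj 0 1 0 1 (by rw [zp_zero, one_mul]; exact h3)
          exact absurd h4.2 (by decide)
    · -- case A
      push Not at hB
      obtain ⟨c, hc, hc1, hcz⟩ := hB
      have hQD : Qt ≤ D.map π := TFX.Q_le_normal M _ (hDn.map π hπ) hc hc1 hcz
      obtain ⟨g, a, b, ha, hb, haQ, hbQ, habQ, haa, hbb, hab⟩ :=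
        TFX.five_A M (w := π x) ⟨kx, by rw [← map_pow, hxr, map_one]⟩ hxQ
      obtain ⟨g', rfl⟩ := hπ g
      have hQn : Qt.Normal := by
        refine ⟨fun q hq g => ?_⟩
        rw [M.mem_Q] at hq ⊢
        rw [map_mul, map_mul, mul_σ, mul_σ, hq, mul_one, map_inv, inv_σ, mul_inv_cancel]
      have h1 := key g' ⊥ Qt hQn _ rfl a b hQD ha hb (by
        -- a commuting pair of involutions generates a 2-group
        set f := QuotientGroup.mk' Qt with hf
        have hfa : f a * f a = 1 := by
          rw [← map_mul]; exact (QuotientGroup.eq_one_iff _).2 haa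
        have hfb : f b * f b = 1 := by
          rw [← map_mul]; exact (QuotientGroup.eq_one_iff _).2 hbb
        have hfab : f a * f b = f b * f a := by
          have h2 : f (a * b * a⁻¹ * b⁻¹) = 1 := (QuotientGroup.eq_one_iff _).2 hab
          rw [map_mul, map_mul, map_mul, map_inv, map_inv] at h2
          calc f a * f b = (f a * f b * (f a)⁻¹ * (f b)⁻¹) * (f b * f a) := by group
            _ = _ := by rw [h2, one_mul]
        have hcl : ∀ c ∈ closure {f a, f b}, c * c = 1 ∧ c * f a = f a * c ∧ c * f b = f b * c := by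
          intro c hc
          induction hc using closure_induction with
          | mem c hc =>
            rcases hc with rfl | rfl
            · exact ⟨hfa, rfl, hfab⟩
            · exact ⟨hfb, hfab.symm, rfl⟩
          | one => simp
          | mul c d hc' hd' hc hd =>
            have hcd : c * d = d * c := by
              have : ∀ e ∈ closure {f a, f b}, c * e = e * c := by
                intro e he
                induction he using closure_induction with
                | mem e he =>
                  rcases he with rfl | rfl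
                  · exact hc.2.1
                  · exact hc.2.2
                | one => simp
                | mul e e' _ _ h3 h4 => rw [← mul_assoc, h3, mul_assoc, h4, mul_assoc]
                | inv e _ h3 => exact ((show Commute c e from h3).inv_right).eq
              exact this d hd'
            refine ⟨?_, ?_, ?_⟩
            · calc c * d * (c * d) = c * (d * c) * d := by group
                _ = (c * c) * (d * d) := by rw [← hcd]; group
                _ = 1 := by rw [hc.1, hd.1, one_mul]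
            · rw [mul_assoc, hd.2.1, ← mul_assoc, hc.2.1, mul_assoc]
            · rw [mul_assoc, hd.2.2, ← mul_assoc, hc.2.2, mul_assoc]
          | inv c _ hc =>
            refine ⟨?_, ?_, ?_⟩
            · rw [← mul_inv_rev, hc.1, inv_one]
            · exact ((show Commute c (f a) from hc.2.1).inv_left).eq
            · exact ((show Commute c (f b) from hc.2.2).inv_left).eq
        intro c
        refine ⟨1, ?_⟩
        apply Subtype.ext
        rw [pow_one, pow_two]
        exact (hcl c c.2).1) haa hbb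
      rcases h1 with h1 | h1 | h1
      · exact haQ (hDQ h1)
      · exact hbQ (hDQ h1)
      · exact habQ (hDQ h1)

end Cfsg.Agent.J2Sylow.TF
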