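import Mathlib
import Cfsg.Agent.J2Sylow.TF
import Cfsg.Agent.J2Sylow.Climb
import Cfsg.Agent.J2Sylow.LemmaD
import Cfsg.Agent.J2Sylow.Quot
import Cfsg.Agent.J2Sylow.WeightsKJ
import Cfsg.Agent.J2Sylow.Weights2
import Cfsg.Agent.J2Sylow.OrderPart

set_option autoImplicit false
set_option linter.style.haveILetI false
set_option linter.unusedSectionVars false

/-!
# The balance theorem (step (4) of S1776): assembly
-/

namespace Cfsg.Agent.J2Sylow.BalAll

open Subgroup Model Model.F4 Cfsg.Agent.J2Sylow Cfsg.Agent.J2Sylow.CoreTools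
open Cfsg.Agent.J2Sylow.Climb

universe u

theorem tf : TFStatement.{u} := by
  intro H X _ _ _ π h1 h2 Qt zt v ρ M hX r hr hr2 P h3 h4 h5 h6 y h7 h8 h9 h10 h11 S h12 h13
  exact TF.exists_char π h1 h2 M hX hr hr2 P h3 h4 h5 h6 h7 h8 h9 h10 h11 S h12 h13

section Final

variable {G : Type u} [Group G] [Finite G] {h : Setup G}

omit [Finite G] in
theorem conj_phi (s t : T) : h.φ s * h.φ t * (h.φ s)⁻¹ = h.φ (s * t * s⁻¹) := by simp

omit [Finite G] in
theorem a_sq : h.a * h.a = 1 := by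
  show h.φ _ * h.φ _ = 1
  rw [← map_mul, ← map_one h.φ]
  congr 1

omit [Finite G] in
theorem a_ne : h.a ≠ 1 := by
  intro h1
  have h2 : h.φ ⟨e, o, o, false⟩ = h.φ 1 := by rw [map_one]; exact h1
  exact absurd (h.inj h2) (by decide)

omit [Finite G] in
theorem z_ne : h.z ≠ 1 := by
  intro h1
  have h2 : h.φ Model.T.z = h.φ 1 := by rw [map_one]; exact h1
  exact absurd (h.inj h2) (by decide)

theorem orderOf_two {x : G} (h2 : x * x = 1) (h1 : x ≠ 1) : orderOf x = 2 :=
  orderOf_eq_prime (by rw [pow_two]; exact h2) h1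

/-- a contradiction in a group with trivial odd core -/
theorem bal_of_core_eq_bot (T : Tab h) (C : CZ h) (F : Fused h) {r : ℕ} (hr : r.Prime) (hr2 : r ≠ 2)
    (hO : ∀ N : Subgroup G, N.Normal → Odd (Nat.card N) → N = ⊥)
    (hstd : ∀ (H : Subgroup G) (h2 : Setup H), (∀ t, ((h2.φ t : H) : G) = h.φ t) → Fused h2 →
      Std h2)
    (hind : ∀ (H : Subgroup G) (h2 : Setup H), H ≠ ⊤ → (∀ t, ((h2.φ t : H) : G) = h.φ t) →
      Fused h2 → Std h2 → Bal r h2) : Bal r h := by
  classical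
  haveI : Fact r.Prime := ⟨hr⟩
  by_contra hB
  have hact : ∃ x ∈ KK h.z, (∃ k : ℕ, x ^ (r ^ k) = 1) ∧ h.v * x * h.v⁻¹ = x⁻¹ ∧ x ≠ 1 := by
    have hB' := hB
    unfold Bal at hB'
    push Not at hB'
    obtain ⟨x, hx, -, hxv, hxr, hxa⟩ := hB'
    refine ⟨x, hx, hxr, hxv, ?_⟩
    rintro rfl
    exact hxa (one_mem _)
  obtain ⟨P, hP, hPS, hPK, hPi⟩ := climb tf C hr hr2 hO hact (by
    intro H hH hSH cover rpart
    exact LemmaD.good_of_cover' h F T hr hr2 hB hSH cover rpart
      (fun hf => hstd H _ (fun t => LemmaD.setupOf_phi h hSH t) hf)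
      (fun h2 hc hf hs => hind H h2 hH hc hf hs))
  have hlt := Weights2.val_lt_of_not_bal T hr hB
  have hPle := Weights2.inv_P T hr hr2 hB hP (fun s hs => hPS s (h.E1_le_S hs)) hPK
  -- the order formula
  set μ := padicValNat r (m1 h) with hμ
  set ν := padicValNat r (m2 h) with hν
  have hvz : IsConj h.z h.v := by
    obtain ⟨g, -, hg⟩ := F.f1
    exact (isConj_iff.2 ⟨g, hg⟩).symm
  have hza : h.z * h.a = h.a * h.z := by
    show h.φ _ * h.φ _ = h.φ _ * h.φ _
    rw [← map_mul, ← map_mul]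
    congr 1
  have hzv : h.z * h.v = h.v * h.z := by
    show h.φ _ * h.φ _ = h.φ _ * h.φ _
    rw [← map_mul, ← map_mul]
    congr 1
  -- `z a` is conjugate to `a`
  have hca : IsConj h.a (h.z * h.a) := by
    refine isConj_iff.2 ⟨h.φ ⟨o, e, o, false⟩, ?_⟩
    show h.φ _ * h.φ _ * (h.φ _)⁻¹ = h.φ _ * h.φ _
    rw [conj_phi, ← map_mul]
    congr 1
  have hr' : r ^ μ ∣ m1 h := pow_padicValNat_dvd
  have hr'' : r ^ ν ∣ m2 h := pow_padicValNat_dvd
  have hJ := inv_J T
  have hK := inv_K T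
  have hbase : r ^ (2 * μ + 2 * ν) ∣ inv (KK h.a) h.z := by
    rw [hJ, pow_add, pow_mul', pow_mul']
    exact Nat.mul_dvd_mul (pow_dvd_pow_of_dvd hr' 2) (pow_dvd_pow_of_dvd hr'' 2)
  have hbase2 : r ^ (4 * ν) ∣ inv (KK h.z) h.v := by
    rw [hK, pow_mul']
    exact pow_dvd_pow_of_dvd hr'' 4
  have hdvd := OrderPart.order_part (z := h.z) (a := h.a) (y := h.v) (K := KK h.z) (J := KK h.a)
    (orderOf_two z_sq z_ne) (orderOf_two a_sq a_ne) (orderOf_two v_sq v_ne_one) T.nconj T.cls hza hca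
    hzv hvz (by
      intro h1
      have h2 : h.φ Model.T.v = h.φ Model.T.z := h1
      exact absurd (h.inj h2) (by decide)) (Functor.K_odd _) (Functor.K_odd _)
    (fun x hx => comm_iff_mem.1 (Functor.K_le _ hx))
    (fun g hg x hx => Functor.K_conj (comm_iff_mem.2 hg) hx)
    (fun x hx => comm_iff_mem.1 (Functor.K_le _ hx))
    (fun g hg x hx => Functor.K_conj (comm_iff_mem.2 hg) hx)
    (by
      intro x hx hxz
      have hxa : x * h.a = h.a * x := comm_iff_mem.1 (Functor.K_le _ hx)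
      obtain ⟨n, hn⟩ := T.two x hxz (by
        have : x * h.a * x⁻¹ * (h.a)⁻¹ = 1 := by rw [hxa]; group
        rw [this]; exact one_mem _)
      exact mem_of_pow_two_pow_mem (Functor.odd_orderOf_of_mem (Functor.K_odd _) hx) hn)
    T.zz T.za T.two (r ^ (4 * μ + 4 * ν)) (hr.odd_of_ne_two hr2).pow
    (by
      have h1 : 4 * μ + 4 * ν = (2 * μ + 2 * ν) + (2 * μ + 2 * ν) := by ring
      rw [h1, pow_add]
      exact Nat.mul_dvd_mul hbase hbase)
    (by
      have h1 : r ^ (4 * μ + 4 * ν) ∣ r ^ ((2 * μ + 2 * ν) + 4 * ν) := pow_dvd_pow r (by omega)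
      refine h1.trans ?_
      rw [pow_add]
      exact Nat.mul_dvd_mul hbase hbase2)
  have hidx0 : (centralizer ({h.z} : Set G)).index ≠ 0 := index_ne_zero_of_finite
  have h1 : 4 * μ + 4 * ν ≤ padicValNat r (centralizer ({h.z} : Set G)).index :=
    (padicValNat_dvd_iff_le hidx0).1 hdvd
  have h2 : padicValNat r (centralizer ({h.z} : Set G)).index ≤ 8 * μ :=
    (Nat.pow_dvd_pow_iff_le_right hr.one_lt).1 (hPi.trans hPle)
  omega

end Final

/-- **The balance theorem.** -/
theorem bal_all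
    (hTab : ∀ (G : Type u) [Group G] [Finite G] (h : Setup G), Fused h → Std h →
      ¬ IsConj h.z h.a → Tab h ∧ CZ h)
    (hstd : ∀ (G : Type u) [Group G] [Finite G] (h : Setup G), Fused h → Std h →
      ¬ IsConj h.z h.a → ∀ (H : Subgroup G) (h2 : Setup H), (∀ t, ((h2.φ t : H) : G) = h.φ t) →
      Fused h2 → Std h2) {r : ℕ} (hr : r.Prime) (hr2 : r ≠ 2) :
    ∀ (n : ℕ) (G : Type u) [Group G] [Finite G], Nat.card G = n → ∀ h : Setup G, Fused h →
      Std h → ¬ IsConj h.z h.a → Bal r h := by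
  intro n
  induction n using Nat.strong_induction_on with
  | _ n ih =>
    intro G _ _ hn h F hS hJ
    obtain ⟨T, C⟩ := hTab G h F hS hJ
    by_cases hO : ∀ N : Subgroup G, N.Normal → Odd (Nat.card N) → N = ⊥
    · refine bal_of_core_eq_bot T C F hr hr2 hO (hstd G h F hS hJ) ?_
      intro H h2 hH hc hF2 hS2
      have hlt : Nat.card H < n := by
        rw [← hn]
        exact lt_of_le_of_ne (Nat.le_of_dvd Nat.card_pos (card_subgroup_dvd_card H))
          fun h1 => hH (eq_top_of_card_eq H h1)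
      refine ih _ hlt H rfl h2 hF2 hS2 ?_
      intro h1
      apply hJ
      obtain ⟨g, hg⟩ := isConj_iff.1 h1
      refine isConj_iff.2 ⟨g, ?_⟩
      have h3 := congrArg (fun t : H => (t : G)) hg
      have e1 : ((h2.z : H) : G) = h.z := hc _
      have e2 : ((h2.a : H) : G) = h.a := hc _
      rw [← e1, ← e2]
      exact h3
    · push Not at hO
      obtain ⟨N, hN, hNodd, hNb⟩ := hO
      obtain ⟨h', hφ, hF, hStd', hJ', hBal⟩ := Quot.bal_of_quotient h N hNodd
      apply hBal r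
      have hlt : Nat.card (G ⧸ N) < n := by
        rw [← hn, Subgroup.card_eq_card_quotient_mul_card_subgroup N]
        have h1 : 1 < Nat.card N := by
          rcases Nat.lt_or_ge 1 (Nat.card N) with h2 | h2
          · exact h2
          · exact absurd (eq_bot_of_card_le N h2) hNb
        have h2 : 0 < Nat.card (G ⧸ N) := Nat.card_pos
        nlinarith
      exact ih _ hlt (G ⧸ N) rfl h' (hF F) (hStd' hS) (fun h1 => hJ (hJ' h1))

end Cfsg.Agent.J2Sylow.BalAll
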