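import Mathlib
import Cfsg.Agent.J2Sylow.Basics

set_option autoImplicit false

/-! Auxiliary group theory for the structure of `C(a)`. -/

namespace Cfsg.Agent.J2Sylow.CentAux

open Subgroup

variable {G : Type*} [Group G]

/-- product decomposition in `H ⊔ K` when `H` normalises `K`. -/
theorem exists_mul_of_mem_sup {H K : Subgroup G} (hHK : ∀ a ∈ H, ∀ k ∈ K, a * k * a⁻¹ ∈ K)
    {x : G} (hx : x ∈ H ⊔ K) : ∃ a ∈ H, ∃ k ∈ K, x = a * k := by
  let M : Subgroup G :=
    { carrier := {x | ∃ a ∈ H, ∃ k ∈ K, x = a * k}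
      one_mem' := ⟨1, H.one_mem, 1, K.one_mem, (mul_one 1).symm⟩
      mul_mem' := by
        rintro _ _ ⟨a, ha, k, hk, rfl⟩ ⟨b, hb, l, hl, rfl⟩
        refine ⟨a * b, H.mul_mem ha hb, b⁻¹ * k * b * l, K.mul_mem ?_ hl, by group⟩
        have := hHK b⁻¹ (H.inv_mem hb) k hk
        rwa [inv_inv] at this
      inv_mem' := by
        rintro _ ⟨a, ha, k, hk, rfl⟩
        exact ⟨a⁻¹, H.inv_mem ha, a * k⁻¹ * a⁻¹, hHK a ha _ (K.inv_mem hk), by group⟩ }
  have h1 : H ⊔ K ≤ M := by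
    refine sup_le ?_ ?_
    · intro a ha
      exact ⟨a, ha, 1, K.one_mem, (mul_one a).symm⟩
    · intro k hk
      exact ⟨1, H.one_mem, k, hk, (one_mul k).symm⟩
  exact h1 hx

/-- `C_N(A)`-type statement: an element normalising a Sylow 2-subgroup `A` of `C` has an odd power
in `A`. -/
theorem exists_odd_pow_mem [Finite G] (A C : Subgroup G) (hA : IsPGroup 2 A) (hAC : A ≤ C)
    (hodd : Odd (A.relIndex C)) {x : G} (hxC : x ∈ C) (hx : ∀ a ∈ A, x * a * x⁻¹ ∈ A) :
    ∃ k : ℕ, Odd k ∧ x ^ k ∈ A := by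
  have : Fact (Nat.Prime 2) := ⟨Nat.prime_two⟩
  obtain ⟨m, k, hk, hmk⟩ := Nat.exists_eq_two_pow_mul_odd (n := orderOf x) (orderOf_pos x).ne'
  refine ⟨k, hk, ?_⟩
  have hy : (x ^ k) ^ 2 ^ m = 1 := by
    rw [← pow_mul, mul_comm, ← hmk, pow_orderOf_eq_one]
  have hcyc : IsPGroup 2 (zpowers (x ^ k)) := by
    rw [IsPGroup.iff_card, Nat.card_zpowers]
    have hd : orderOf (x ^ k) ∣ 2 ^ m := orderOf_dvd_of_pow_eq_one hy
    obtain ⟨j, _, hj⟩ := (Nat.dvd_prime_pow Nat.prime_two).mp hd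
    exact ⟨j, hj⟩
  have hxn : x ∈ normalizer (A : Set G) := by
    have hinj : Function.Injective (fun a : A => (⟨x * a * x⁻¹, hx a a.2⟩ : A)) := by
      intro a b hab
      apply Subtype.ext
      have := congrArg Subtype.val hab
      simpa using this
    have hsurj := Finite.injective_iff_surjective.mp hinj
    rw [mem_normalizer_iff]
    intro a
    constructor
    · exact hx a
    · intro h
      obtain ⟨b, hb⟩ := hsurj ⟨_, h⟩
      have := congrArg Subtype.val hb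
      simp only [mul_left_inj, mul_right_inj] at this
      rw [← this]
      exact b.2
  have hle : zpowers (x ^ k) ≤ normalizer (A : Set G) := by
    rw [zpowers_le]
    exact pow_mem hxn k
  have hB : IsPGroup 2 (A ⊔ zpowers (x ^ k) : Subgroup G) := hA.to_sup_of_normal_left' hcyc hle
  set B := A ⊔ zpowers (x ^ k) with hBdef
  have hBC : B ≤ C := sup_le hAC (by rw [zpowers_le]; exact pow_mem hxC k)
  have h1 : A.relIndex B ∣ A.relIndex C :=
    ⟨_, (relIndex_mul_relIndex A B C le_sup_left hBC).symm⟩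
  have h2 : ∃ n, A.relIndex B = 2 ^ n := by
    have h3 := hB.index (A.subgroupOf B)
    exact h3
  obtain ⟨n, hn⟩ := h2
  have h3 : n = 0 := by
    by_contra h0
    rw [hn] at h1
    have h4 : 2 ∣ A.relIndex C := (dvd_pow_self 2 h0).trans h1
    exact (Nat.not_even_iff_odd.mpr hodd) (even_iff_two_dvd.mpr h4)
  rw [h3, pow_zero, relIndex_eq_one] at hn
  have h5 : x ^ k ∈ B := (le_sup_right : zpowers (x ^ k) ≤ B) (mem_zpowers (x ^ k))
  exact hn h5

/-- the odd part of an element -/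
theorem exists_odd_part [Finite G] (x : G) : ∃ j n m : ℕ, Odd n ∧ (x ^ j) ^ n = 1 ∧
    (∀ y : ℕ, Odd y → x ^ y = 1 → x ^ j = x) ∧ j = 2 ^ m * (j / 2 ^ m) ∧
    ∃ i : ℕ, (x ^ i) ^ 2 ^ m = 1 ∧ x * x ^ i = x ^ j := by
  obtain ⟨m, n, hn, hmn⟩ := Nat.exists_eq_two_pow_mul_odd (n := orderOf x) (orderOf_pos x).ne'
  have hcop : Nat.Coprime (2 ^ m) n := Nat.Coprime.pow_left m (Nat.coprime_two_left.mpr hn)
  -- j = 0 mod 2^m, j = 1 mod n
  obtain ⟨k, hk1, hk2⟩ := Nat.chineseRemainder hcop 0 1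
  obtain ⟨q, hq⟩ := (Nat.modEq_zero_iff_dvd).mp hk1
  refine ⟨k, n, m, hn, ?_, ?_, ?_, ?_⟩
  · rw [← pow_mul, hq, mul_right_comm, ← hmn, pow_mul, pow_orderOf_eq_one, one_pow]
  · intro y hy hxy
    have h1 : orderOf x ∣ y := orderOf_dvd_of_pow_eq_one hxy
    have h2 : m = 0 := by
      by_contra h0
      have h3 : 2 ∣ y := ((dvd_pow_self 2 h0).trans ⟨n, hmn⟩).trans h1
      exact (Nat.not_even_iff_odd.mpr hy) (even_iff_two_dvd.mpr h3)
    rw [h2, pow_zero, one_mul] at hmn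
    rw [← hmn] at hk2
    conv_rhs => rw [← pow_one x]
    exact pow_eq_pow_iff_modEq.mpr hk2
  · rw [hq, Nat.mul_div_cancel_left _ (by positivity)]
  · obtain ⟨l, hl⟩ : ∃ l, k + orderOf x = 1 + n * l := by
      have h1 : (1 : ℕ) ≡ k + orderOf x [MOD n] := by
        have h2 : k + orderOf x ≡ 1 + 0 [MOD n] := by
          apply Nat.ModEq.add hk2
          rw [Nat.modEq_zero_iff_dvd, hmn]
          exact dvd_mul_left n _
        rw [add_zero] at h2
        exact h2.symm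
      obtain ⟨l, hl⟩ := (Nat.modEq_iff_dvd' (by have := orderOf_pos x; omega)).mp h1
      exact ⟨l, by have := orderOf_pos x; omega⟩
    refine ⟨n * l, ?_, ?_⟩
    · rw [← pow_mul, mul_comm, ← mul_assoc, ← hmn, pow_mul, pow_orderOf_eq_one, one_pow]
    · rw [← pow_succ', add_comm, ← hl, pow_add, pow_orderOf_eq_one, mul_one]

/-- the action of a normaliser of a self-centralising-type four-subgroup: a three-cycle. -/
theorem exists_three_cycle {L : Type*} [Group L] [Finite L] [IsSimpleGroup L] (V : Sylow 2 L)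
    (hV : Nat.card V = 4) (hne : (V : Subgroup L) ≠ ⊤) :
    ∃ x : L, (∃ n : ℕ, Odd n ∧ x ^ n = 1) ∧ (∀ v ∈ V, x * v * x⁻¹ ∈ V) ∧
      ∀ v ∈ V, v ≠ 1 → ∀ w ∈ V, w ≠ 1 → ∃ i : ℕ, x ^ i * v * (x ^ i)⁻¹ = w := by
  have : Fact (Nat.Prime 2) := ⟨Nat.prime_two⟩
  have hcomm : ∀ a ∈ V, ∀ b ∈ V, a * b = b * a := by
    intro a ha b hb
    have h := IsPGroup.isMulCommutative_of_card_eq_prime_sq (p := 2) (G := V) (by rw [hV]; rfl)
    exact congrArg Subtype.val (h.is_comm.comm (⟨a, ha⟩ : V) ⟨b, hb⟩)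
  have hex : ∃ x : L, x ∈ normalizer ((V : Subgroup L) : Set L) ∧ ∃ v ∈ V, x * v * x⁻¹ ≠ v := by
    by_contra hcon
    push Not at hcon
    have hP : normalizer ((V : Subgroup L) : Set L) ≤ centralizer ((V : Subgroup L) : Set L) := by
      intro x hx
      rw [mem_centralizer_iff]
      intro v hv
      have := hcon x hx v hv
      rw [mul_inv_eq_iff_eq_mul] at this
      exact this.symm
    have hcompl := MonoidHom.ker_transferSylow_isComplement' V hP
    rcases IsSimpleGroup.eq_bot_or_eq_top_of_normal (MonoidHom.transferSylow V hP).ker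
      inferInstance with h | h
    · rw [h, isComplement'_bot_left] at hcompl
      exact hne hcompl
    · rw [h, isComplement'_top_left] at hcompl
      have : Nat.card (V : Subgroup L) = 1 := by rw [hcompl]; exact card_bot
      change Nat.card (V : Subgroup L) = 4 at hV
      omega
  obtain ⟨x0, hx0, p, hp, hpx0⟩ := hex
  obtain ⟨j0, n0, m0, hn0, hxn0, -, -, i0, hi0, hij⟩ := exists_odd_part x0
  have hi0V : x0 ^ i0 ∈ V := by
    have h1 : ∀ v ∈ (V : Subgroup L), x0 ^ i0 * v * (x0 ^ i0)⁻¹ ∈ (V : Subgroup L) := fun v hv =>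
      (mem_normalizer_iff.mp (pow_mem hx0 i0) v).mp hv
    obtain ⟨k1, hk1, hk1V⟩ := exists_odd_pow_mem (V : Subgroup L) ⊤ V.isPGroup' le_top
      (by rw [relIndex_top_right]; exact Nat.not_even_iff_odd.mp fun h =>
            V.not_dvd_index (even_iff_two_dvd.mp h)) (mem_top _) h1
    -- a power of x0^i0 is in V with odd exponent, and it is a 2-element
    have h2 : orderOf (x0 ^ i0) ∣ 2 ^ m0 := orderOf_dvd_of_pow_eq_one hi0
    have h3 : Nat.Coprime (orderOf (x0 ^ i0)) k1 :=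
      Nat.Coprime.coprime_dvd_left h2 (Nat.Coprime.pow_left m0 (Nat.coprime_two_left.mpr hk1))
    obtain ⟨q, hq⟩ := exists_pow_eq_self_of_coprime h3.symm
    rw [← hq]
    exact pow_mem hk1V q
  set x := x0 ^ j0 with hxdef
  have hx : x ∈ normalizer ((V : Subgroup L) : Set L) := pow_mem hx0 j0
  have hpx : x * p * x⁻¹ ≠ p := by
    rw [← hij]
    have h1 : x0 ^ i0 * p * (x0 ^ i0)⁻¹ = p := by
      rw [hcomm _ hi0V p hp, mul_inv_cancel_right]
    have h2 : x0 * x0 ^ i0 * p * (x0 * x0 ^ i0)⁻¹ = x0 * (x0 ^ i0 * p * (x0 ^ i0)⁻¹) * x0⁻¹ := by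
      group
    rw [h2, h1]
    exact hpx0
  have hxV : ∀ v ∈ V, x * v * x⁻¹ ∈ V := fun v hv => (mem_normalizer_iff.mp hx v).mp hv
  obtain ⟨k, hk, hkV⟩ := exists_odd_pow_mem (V : Subgroup L) ⊤ V.isPGroup' le_top
    (by rw [relIndex_top_right]; exact Nat.not_even_iff_odd.mp fun h =>
          V.not_dvd_index (even_iff_two_dvd.mp h)) (mem_top x) hxV
  have hkc : ∀ v ∈ V, x ^ k * v * (x ^ k)⁻¹ = v := fun v hv => by
    rw [hcomm _ hkV v hv, mul_inv_cancel_right]
  set q := x * p * x⁻¹ with hq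
  have hqV : q ∈ V := hxV p hp
  have hp1 : p ≠ 1 := by
    rintro rfl
    exact hpx (by rw [hq]; group)
  have hq1 : q ≠ 1 := fun e => hp1 (by
    have : p = x⁻¹ * q * x := by rw [hq]; group
    rw [this, e]; group)
  set r := x * q * x⁻¹ with hr
  have hrV : r ∈ V := hxV q hqV
  have hr1 : r ≠ 1 := fun e => hq1 (by
    have : q = x⁻¹ * r * x := by rw [hr]; group
    rw [this, e]; group)
  have hrq : r ≠ q := fun e => hpx (by
    have h1 : q = x⁻¹ * r * x := by rw [hr]; group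
    have h2 : p = x⁻¹ * q * x := by rw [hq]; group
    rw [h2, ← e, ← h1, e])
  have hrp : r ≠ p := by
    intro e
    -- x swaps p and q
    have h2 : ∀ j : ℕ, x ^ (2 * j) * p * (x ^ (2 * j))⁻¹ = p := by
      intro j
      induction j with
      | zero => simp
      | succ j ih =>
        have : x ^ (2 * (j + 1)) * p * (x ^ (2 * (j + 1)))⁻¹ =
            x * (x * (x ^ (2 * j) * p * (x ^ (2 * j))⁻¹) * x⁻¹) * x⁻¹ := by
          rw [mul_add, mul_one, pow_add, pow_two]
          have hc : x ^ (2 * j) * (x * x) = (x * x) * x ^ (2 * j) := by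
            rw [← pow_two, ← pow_add, ← pow_add, add_comm]
          rw [hc]
          group
        rw [this, ih, ← hq, ← hr, e]
    obtain ⟨j, hj⟩ := hk
    have h3 := hkc p hp
    have h4 : x ^ k * p * (x ^ k)⁻¹ = x * (x ^ (2 * j) * p * (x ^ (2 * j))⁻¹) * x⁻¹ := by
      rw [hj, pow_succ']
      group
    rw [h4, h2, ← hq] at h3
    exact hpx h3
  -- the elements of V
  have hcov : ∀ w ∈ V, w ≠ 1 → w = p ∨ w = q ∨ w = r := by
    intro w hw hw1
    by_contra hcon
    push Not at hcon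
    have h5 : ({1, p, q, r, w} : Set L) ⊆ ((V : Subgroup L) : Set L) := by
      rintro y (rfl | rfl | rfl | rfl | rfl)
      · exact V.one_mem
      · exact hp
      · exact hqV
      · exact hrV
      · exact hw
    have h6 : ({1, p, q, r, w} : Set L).ncard = 5 := by
      rw [Set.ncard_insert_of_notMem, Set.ncard_insert_of_notMem, Set.ncard_eq_three.mpr
        ⟨q, r, w, hrq.symm, fun e => hcon.2.1 e.symm, fun e => hcon.2.2 e.symm, rfl⟩]
      · rintro (e | e | e)
        · exact hpx e.symm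
        · exact hrp e.symm
        · exact hcon.1 e.symm
      · rintro (e | e | e | e)
        · exact hp1 e.symm
        · exact hq1 e.symm
        · exact hr1 e.symm
        · exact hw1 e.symm
    have h7 := Set.ncard_le_ncard h5 (Set.toFinite _)
    rw [h6] at h7
    have h8 : ((V : Subgroup L) : Set L).ncard = 4 := hV
    omega
  have hxr : x * r * x⁻¹ = p := by
    rcases hcov (x * r * x⁻¹) (hxV r hrV) (fun e => hr1 (by
      have : r = x⁻¹ * (x * r * x⁻¹) * x := by group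
      rw [this, e]; group)) with e | e | e
    · exact e
    · exfalso
      apply hrp
      have h1 : x * r * x⁻¹ = x * p * x⁻¹ := e
      simpa using h1
    · exfalso
      apply hrq
      have h1 : x * r * x⁻¹ = x * q * x⁻¹ := e
      simpa using h1
  have h1 : ∀ y : L, x ^ 1 * y * (x ^ 1)⁻¹ = x * y * x⁻¹ := fun y => by rw [pow_one]
  have h2 : ∀ y : L, x ^ 2 * y * (x ^ 2)⁻¹ = x * (x * y * x⁻¹) * x⁻¹ := fun y => by
    rw [pow_two]; group
  have h0 : ∀ y : L, x ^ 0 * y * (x ^ 0)⁻¹ = y := fun y => by rw [pow_zero]; group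
  refine ⟨x, ⟨n0, hn0, hxn0⟩, hxV, ?_⟩
  intro v hv hv1 w hw hw1
  rcases hcov v hv hv1 with rfl | rfl | rfl <;> rcases hcov w hw hw1 with rfl | rfl | rfl
  · exact ⟨0, h0 _⟩
  · exact ⟨1, h1 _⟩
  · exact ⟨2, h2 _⟩
  · exact ⟨2, (h2 _).trans (by rw [← hr, hxr])⟩
  · exact ⟨0, h0 _⟩
  · exact ⟨1, h1 _⟩
  · exact ⟨1, (h1 _).trans hxr⟩
  · exact ⟨2, (h2 _).trans (by rw [hxr])⟩
  · exact ⟨0, h0 _⟩

end Cfsg.Agent.J2Sylow.CentAux
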