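import Mathlib
import Cfsg.Prelude.Def_Solvable
import Cfsg.Agent.Lib.Cores
import Cfsg.Agent.Lib.MinNormal
import Cfsg.Agent.Lib.MinNormalNonabelian
import Cfsg.Agent.Lib.SylowNormalInf

/-!
# Groups with a Sylow 2-subgroup of order 4 with all involutions fused

`Y` finite, `O(Y) = 1`, `U` a Sylow 2-subgroup of order 4, `c` normalising `U` and moving every
nontrivial element of `U`.  Then `Y` is `U:3` or has a normal perfect subgroup `L` containing `U`
with trivial centraliser.
-/

set_option autoImplicit false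

namespace Cfsg.Agent.J2Sylow.KleinFusion

open Subgroup Cfsg Cfsg.Agent.Lib
open scoped commutatorElement

variable {Y : Type*} [Group Y] [Finite Y]

/-- a `c`-invariant nontrivial subgroup of `U` is `U`. -/
theorem eq_of_le {U N : Subgroup Y} (hU : Nat.card U = 4) (c : Y)
    (hc' : ∀ u ∈ U, c * u * c⁻¹ = u → u = 1) (hN : N ≤ U) (hN0 : N ≠ ⊥)
    (hNc : ∀ u ∈ N, c * u * c⁻¹ ∈ N) : N = U := by
  obtain ⟨u, huN, hu1⟩ := N.bot_or_exists_ne_one.resolve_left hN0
  have h1 := hNc u huN
  have h2 : c * u * c⁻¹ ≠ u := fun h => hu1 (hc' u (hN huN) h)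
  have h3 : c * u * c⁻¹ ≠ 1 := fun h => hu1 (by
    have : u = c⁻¹ * (c * u * c⁻¹) * c := by group
    rw [this, h]; group)
  have h4 : 3 ≤ Nat.card N := by
    have h5 : ({1, u, c * u * c⁻¹} : Set Y) ⊆ (N : Set Y) := by
      rintro x (rfl | rfl | rfl)
      · exact N.one_mem
      · exact huN
      · exact h1
    have h6 : ({1, u, c * u * c⁻¹} : Set Y).ncard = 3 := by
      rw [Set.ncard_eq_three]
      exact ⟨1, u, c * u * c⁻¹, hu1.symm, h3.symm, h2.symm, rfl⟩
    have h7 := Set.ncard_le_ncard h5 (Set.toFinite _)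
    rw [h6] at h7
    exact h7
  have h5 : Nat.card N ∣ 4 := hU ▸ Subgroup.card_dvd_of_le hN
  have h6 : Nat.card N = 4 := by
    have := Nat.le_of_dvd (by norm_num) h5
    interval_cases h : Nat.card N
    · norm_num at h5
    · rfl
  exact Subgroup.eq_of_le_of_card_ge hN (by rw [hU, h6])

omit [Finite Y] in
theorem conj_mul_comm_of_card_four {U : Subgroup Y} (hU : Nat.card U = 4) {x y : Y} (hx : x ∈ U)
    (hy : y ∈ U) : x * y = y * x := by
  have : Fact (Nat.Prime 2) := ⟨Nat.prime_two⟩
  have h := IsPGroup.isMulCommutative_of_card_eq_prime_sq (p := 2) (G := U) (by rw [hU]; rfl)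
  exact congrArg Subtype.val (h.is_comm.comm (⟨x, hx⟩ : U) ⟨y, hy⟩)

/-- if a Sylow subgroup `U` is abelian and normal and `O_{p'}(Y) = 1` then `C(U) = U`. -/
theorem centralizer_eq {U : Sylow 2 Y} (hcomm : ∀ x ∈ U, ∀ y ∈ U, x * y = y * x)
    (hn : (U : Subgroup Y).Normal) (hO : pPrimeCore 2 Y = ⊥) :
    centralizer ((U : Subgroup Y) : Set Y) = U := by
  have : Fact (Nat.Prime 2) := ⟨Nat.prime_two⟩
  have hle : (U : Subgroup Y) ≤ centralizer ((U : Subgroup Y) : Set Y) := by
    intro x hx
    rw [mem_centralizer_iff]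
    intro y hy
    exact hcomm y hy x hx
  set C := centralizer ((U : Subgroup Y) : Set Y) with hC
  have hCn : C.Normal := by
    rw [hC]
    infer_instance
  let P : Sylow 2 C := U.subtype hle
  have hPmem : ∀ x : C, x ∈ P ↔ (x : Y) ∈ U := fun x => Iff.rfl
  have hP : normalizer ((P : Subgroup C) : Set C) ≤ centralizer ((P : Subgroup C) : Set C) := by
    intro x _
    rw [mem_centralizer_iff]
    intro y hy
    apply Subtype.ext
    have h1 : (x : Y) ∈ centralizer ((U : Subgroup Y) : Set Y) := x.2
    rw [mem_centralizer_iff] at h1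
    exact h1 y ((hPmem y).mp hy)
  have hcompl := MonoidHom.ker_transferSylow_isComplement' P hP
  set K := (MonoidHom.transferSylow P hP).ker with hK
  have hKcop : (Nat.card K).Coprime 2 := by
    have h2 : ¬ 2 ∣ (P : Subgroup C).index := P.not_dvd_index
    rw [hcompl.index_eq_card] at h2
    exact (Nat.Prime.coprime_iff_not_dvd Nat.prime_two).mpr h2 |>.symm
  have hKO : K ≤ pPrimeCore 2 C := Cores.le_pPrimeCore inferInstance hKcop
  have h3 := Cores.map_subtype_pPrimeCore 2 hCn
  rw [hO, inf_bot_eq, Subgroup.map_eq_bot_iff_of_injective _ C.subtype_injective] at h3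
  rw [h3, le_bot_iff] at hKO
  rw [hKO, Subgroup.isComplement'_bot_left] at hcompl
  apply le_antisymm _ hle
  intro x hx
  have h4 : (⟨x, hx⟩ : C) ∈ (P : Subgroup C) := by rw [hcompl]; trivial
  exact h4

theorem card_eq_twelve {U : Subgroup Y} (hU : Nat.card U = 4) (hodd : Odd U.index)
    (hn : U.Normal) (hC : centralizer (U : Set Y) = U) (c : Y)
    (hc' : ∀ u ∈ U, c * u * c⁻¹ = u → u = 1) : Nat.card Y = 12 := by
  classical
  -- action on the three nontrivial elements
  let Ω : Type _ := {u : Y // u ∈ U ∧ u ≠ 1}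
  have hΩ : Nat.card Ω = 3 := by
    have h1 : Nat.card Ω = ((U : Set Y) \ {1}).ncard := by
      rw [← Nat.card_coe_set_eq]
      rfl
    rw [h1, Set.ncard_sdiff_singleton_of_mem U.one_mem, ← Nat.card_coe_set_eq]
    change Nat.card U - 1 = 3
    rw [hU]
  let act : Y →* Equiv.Perm Ω :=
    { toFun := fun g =>
        { toFun := fun u => ⟨g * u.1 * g⁻¹, hn.conj_mem _ u.2.1 g, fun h => u.2.2 (by
            have : u.1 = g⁻¹ * (g * u.1 * g⁻¹) * g := by group
            rw [this, h]; group)⟩
          invFun := fun u => ⟨g⁻¹ * u.1 * g, by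
              have := hn.conj_mem _ u.2.1 g⁻¹
              rwa [inv_inv] at this, fun h => u.2.2 (by
            have : u.1 = g * (g⁻¹ * u.1 * g) * g⁻¹ := by group
            rw [this, h]; group)⟩
          left_inv := fun u => Subtype.ext (by simp only; group)
          right_inv := fun u => Subtype.ext (by simp only; group) }
      map_one' := by
        ext u
        simp
      map_mul' := fun g h => by
        ext u
        simp only [Equiv.coe_fn_mk, Equiv.Perm.coe_mul, Function.comp_apply]
        group }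
  have hact : ∀ g (u : Ω), (act g u : Y) = g * u.1 * g⁻¹ := fun g u => rfl
  have hker : act.ker = U := by
    rw [← hC]
    ext g
    rw [MonoidHom.mem_ker, mem_centralizer_iff]
    constructor
    · intro h u hu
      by_cases hu1 : u = 1
      · rw [hu1, one_mul, mul_one]
      · have h1 := hact g ⟨u, hu, hu1⟩
        rw [h, Equiv.Perm.coe_one, id] at h1
        change u = g * u * g⁻¹ at h1
        rw [eq_mul_inv_iff_mul_eq] at h1
        exact h1
    · intro h
      ext u
      rw [hact, Equiv.Perm.coe_one, id, ← h u.1 u.2.1, mul_inv_cancel_right]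
  have h1 : U.index ∣ 6 := by
    rw [← hker, Subgroup.index_ker]
    have h2 : Nat.card (Equiv.Perm Ω) = 6 := by
      rw [Nat.card_perm, hΩ]
      rfl
    rw [← h2]
    exact Subgroup.card_subgroup_dvd_card _
  have h2 : U.index ≠ 1 := by
    intro h
    rw [Subgroup.index_eq_one] at h
    obtain ⟨u, hu⟩ : Nonempty Ω := by
      rw [← not_isEmpty_iff]
      intro h
      rw [Nat.card_of_isEmpty] at hΩ
      omega
    have hcU : c ∈ U := by rw [h]; trivial
    exact hu.2 (hc' u hu.1 (by
      rw [conj_mul_comm_of_card_four hU hcU hu.1, mul_inv_cancel_right]))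
  have h3 : U.index = 3 := by
    have := Nat.le_of_dvd (by norm_num) h1
    interval_cases h : U.index
    · exact absurd hodd (by decide)
    · exact absurd rfl h2
    · exact absurd hodd (by decide)
    · rfl
    · norm_num at h1
    · norm_num at h1
    · exact absurd hodd (by decide)
  rw [← Subgroup.card_mul_index U, hU, h3]

/-- the main structure theorem -/
theorem klein_fusion (U : Sylow 2 Y) (hU : Nat.card U = 4) (c : Y)
    (hc : ∀ u ∈ U, c * u * c⁻¹ ∈ U) (hc' : ∀ u ∈ U, c * u * c⁻¹ = u → u = 1)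
    (hO : pPrimeCore 2 Y = ⊥) :
    ((U : Subgroup Y).Normal ∧ Nat.card Y = 12 ∧
      centralizer ((U : Subgroup Y) : Set Y) = U) ∨
    ∃ L : Subgroup Y, L.Normal ∧ ⁅L, L⁆ = L ∧ (U : Subgroup Y) ≤ L ∧
      centralizer (L : Set Y) = ⊥ ∧
      (∀ M : Subgroup Y, M.Normal → M ≤ L → M = ⊥ ∨ M = L) := by
  have : Fact (Nat.Prime 2) := ⟨Nat.prime_two⟩
  have hU0 : (U : Subgroup Y) ≠ ⊥ := by
    intro h
    have h1 : Nat.card (U : Subgroup Y) = 1 := by rw [h]; exact Subgroup.card_bot
    change Nat.card (U : Subgroup Y) = 4 at hU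
    omega
  have htop : (⊤ : Subgroup Y) ≠ ⊥ := fun h => hU0 (le_bot_iff.mp (h ▸ le_top))
  obtain ⟨N, -, hN0, hNn, hmin⟩ := MinNormal.exists_minimal_normal_le (⊤ : Subgroup Y) htop
  have hNnorm : N.Normal := by
    rw [← Subgroup.normalizer_eq_top_iff]
    exact top_le_iff.mp hNn
  have hmin' : ∀ M : Subgroup Y, M.Normal → M ≤ N → M = ⊥ ∨ M = N := by
    intro M hM hMN
    exact hmin M hMN (by rw [Subgroup.normalizer_eq_top_iff.mpr hM])
  -- `N` has even order
  have heven : ¬ (Nat.card N).Coprime 2 := by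
    intro h
    have := Cores.le_pPrimeCore hNnorm h
    rw [hO, le_bot_iff] at this
    exact hN0 this
  have hUN : (U : Subgroup Y) ⊓ N ≠ ⊥ := by
    intro h
    have h1 := SylowNormalInf.not_dvd_relIndex U N
    have h2 := SylowNormalInf.card_inf_mul_relIndex (U : Subgroup Y) N
    rw [h, Subgroup.card_bot, one_mul] at h2
    rw [h2] at h1
    exact heven ((Nat.Prime.coprime_iff_not_dvd Nat.prime_two).mpr h1).symm
  have hUle : (U : Subgroup Y) ≤ N := by
    have h1 := eq_of_le (U := (U : Subgroup Y)) (N := (U : Subgroup Y) ⊓ N) hU c hc' inf_le_left hUN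
      (fun u hu => ⟨hc u hu.1, hNnorm.conj_mem u hu.2 c⟩)
    rw [← h1]
    exact inf_le_right
  by_cases hab : ∀ x ∈ N, ∀ y ∈ N, Commute x y
  · left
    obtain ⟨p, hp, hpg, -⟩ := MinNormalNonabelian.abelian_structure N hN0 hmin' hab
    have hp2 : p = 2 := by
      by_contra hne
      have : Fact p.Prime := ⟨hp⟩
      obtain ⟨k, hk⟩ := IsPGroup.iff_card.mp hpg
      apply heven
      rw [hk]
      exact Nat.Coprime.pow_left k ((Nat.coprime_primes hp Nat.prime_two).mpr hne)
    subst hp2
    have hNU : N ≤ (U : Subgroup Y) := (Cores.le_pCore hNnorm hpg).trans (Cores.pCore_le_sylow U)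
    have hUn : (U : Subgroup Y).Normal := by
      rw [le_antisymm hUle hNU]
      exact hNnorm
    have hCC := centralizer_eq (fun x hx y hy =>
      conj_mul_comm_of_card_four (U := (U : Subgroup Y)) hU hx hy) hUn hO
    refine ⟨hUn, ?_, hCC⟩
    refine card_eq_twelve (U := (U : Subgroup Y)) hU ?_ hUn hCC c hc'
    exact Nat.not_even_iff_odd.mp fun h => U.not_dvd_index (even_iff_two_dvd.mp h)
  · right
    have hcomm : ⁅N, N⁆ = N := by
      rcases hmin' ⁅N, N⁆ inferInstance (Subgroup.commutator_le_right N N) with h | h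
      · exfalso
        apply hab
        intro x hx y hy
        have h1 : ⁅x, y⁆ ∈ ⁅N, N⁆ := Subgroup.commutator_mem_commutator hx hy
        rw [h, Subgroup.mem_bot, commutatorElement_eq_one_iff_mul_comm] at h1
        exact h1
      · exact h
    have hZ : centralizer (N : Set Y) ⊓ N = ⊥ := by
      rcases hmin' (centralizer (N : Set Y) ⊓ N) inferInstance inf_le_right with h | h
      · exact h
      · exfalso
        apply hab
        intro x hx y hy
        rw [← h] at hx
        exact (mem_centralizer_iff.mp hx.1 y hy).symm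
    refine ⟨N, hNnorm, hcomm, hUle, ?_, hmin'⟩
    have hcop : (Nat.card (centralizer (N : Set Y))).Coprime 2 := by
      apply Nat.Coprime.symm
      rw [Nat.Prime.coprime_iff_not_dvd Nat.prime_two]
      intro h
      have h1 := SylowNormalInf.card_inf_mul_relIndex N (centralizer (N : Set Y))
      rw [inf_comm, hZ, Subgroup.card_bot, one_mul] at h1
      rw [← h1] at h
      have h2 : N.relIndex (centralizer (N : Set Y)) ∣ N.index :=
        Subgroup.relIndex_dvd_index_of_normal N _
      exact U.not_dvd_index ((h.trans h2).trans (Subgroup.index_dvd_of_le hUle))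
    have h1 := Cores.le_pPrimeCore (G := Y) (p := 2)
      (N := centralizer (N : Set Y)) inferInstance hcop
    rw [hO, le_bot_iff] at h1
    exact h1

end Cfsg.Agent.J2Sylow.KleinFusion
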