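import Mathlib
import Cfsg.Agent.J2Sylow.KleinFusion
import Cfsg.Agent.J2Sylow.CentAux
import Cfsg.Agent.J2Type.TransferAb
import Cfsg.Agent.S0215

set_option autoImplicit false

/-!
# Abstract structure of `C(a)`

`C` finite with elementary abelian Sylow 2-subgroup `A = V × U`, `|U| = 4`, the elements of `V`
isolated and an element `c` moving the involutions of `U`.  Structure of `C/O(C)`.
-/

namespace Cfsg.Agent.J2Sylow.CentAbs

open Subgroup Cfsg Cfsg.Agent.Lib
open scoped commutatorElement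

/-- The hypotheses. -/
structure Hyp {C : Type*} [Group C] (A V U : Subgroup C) : Prop where
  sq : ∀ x ∈ A, x * x = 1
  odd : Odd A.index
  cardU : Nat.card U = 4
  VA : V ≤ A
  UA : U ≤ A
  inf : V ⊓ U = ⊥
  sup : ∀ x ∈ A, ∃ u ∈ U, ∃ v ∈ V, x = u * v
  iso : ∀ v ∈ V, ∀ g : C, g * v * g⁻¹ ∈ A → g * v * g⁻¹ = v
  c : ∃ c : C, (∀ u ∈ U, c * u * c⁻¹ ∈ U) ∧ (∀ u ∈ U, c * u * c⁻¹ = u → u = 1)

/-- The conclusion for `W = C/O(C)`, with `V` and `U` the images. -/
structure Concl {W : Type*} [Group W] (V U X L : Subgroup W) : Prop where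
  central : ∀ v ∈ V, ∀ w : W, v * w = w * v
  Xnormal : X.Normal
  Lnormal : L.Normal
  inf : V ⊓ X = ⊥
  sup : V ⊔ X = ⊤
  le : L ≤ X
  Ule : U ≤ L
  cardU : Nat.card U = 4
  sqU : ∀ x ∈ U, x * x = 1
  oddU : Odd (U.relIndex X)
  cent : centralizer (L : Set W) ⊓ X = ⊥
  conj : ∃ c ∈ X, (∀ u ∈ U, c * u * c⁻¹ ∈ U) ∧ (∀ u ∈ U, c * u * c⁻¹ = u → u = 1)
  type : (L = X ∧ Nat.card L = 12 ∧ U.Normal ∧ centralizer (U : Set W) ⊓ X = U) ∨
    (⁅L, L⁆ = L ∧ ∀ M : Subgroup W, M.Normal → M ≤ L → M = ⊥ ∨ M = L)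

section cyc

variable {C : Type*} [Group C] [Finite C]

omit [Finite C] in
theorem comm_of_sq {A : Subgroup C} (hsq : ∀ x ∈ A, x * x = 1) {x y : C} (hx : x ∈ A)
    (hy : y ∈ A) : x * y = y * x := by
  have hi : ∀ z ∈ A, z⁻¹ = z := fun z hz => inv_eq_of_mul_eq_one_left (hsq z hz)
  have h1 := hi _ (A.mul_mem hx hy)
  rw [mul_inv_rev, hi x hx, hi y hy] at h1
  exact h1.symm

/-- `c` acts on `U` as a three-cycle. -/
theorem eq_mul {U : Subgroup C} (hU : Nat.card U = 4) (hsq : ∀ x ∈ U, x * x = 1) {c : C}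
    (hc : ∀ u ∈ U, c * u * c⁻¹ ∈ U) (hc' : ∀ u ∈ U, c * u * c⁻¹ = u → u = 1) {u : C}
    (hu : u ∈ U) : u = (c * u * c⁻¹) * (c * (c * u * c⁻¹) * c⁻¹) := by
  by_cases hu1 : u = 1
  · rw [hu1]; group
  set p := c * u * c⁻¹ with hp
  set q := c * p * c⁻¹ with hq
  have hpU := hc u hu
  have hqU := hc p hpU
  have hp1 : p ≠ 1 := fun e => hu1 (by
    have : u = c⁻¹ * p * c := by rw [hp]; group
    rw [this, e]; group)
  have hq1 : q ≠ 1 := fun e => hp1 (by
    have : p = c⁻¹ * q * c := by rw [hq]; group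
    rw [this, e]; group)
  have hpu : p ≠ u := fun e => hu1 (hc' u hu e)
  have hqp : q ≠ p := fun e => hp1 (hc' p hpU e)
  have hqu : q ≠ u := by
    intro e
    have h1 : c * (u * p) * c⁻¹ = u * p := by
      have : c * (u * p) * c⁻¹ = (c * u * c⁻¹) * (c * p * c⁻¹) := by group
      rw [this, ← hp, ← hq, e]
      exact comm_of_sq hsq hpU hu
    have h2 := hc' _ (U.mul_mem hu hpU) h1
    have h3 : p = u := by
      have := eq_inv_of_mul_eq_one_left h2
      rw [this]
      exact (inv_eq_of_mul_eq_one_left (hsq p hpU)).symm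
    exact hpu h3
  -- U = {1,u,p,q} = {1,u,p,up}
  have hup1 : u * p ≠ 1 := fun e => hpu (by
    have := eq_inv_of_mul_eq_one_left e
    rw [this]
    exact (inv_eq_of_mul_eq_one_left (hsq p hpU)).symm)
  have hupu : u * p ≠ u := fun e => hp1 (mul_eq_left.mp e)
  have hupp : u * p ≠ p := fun e => hu1 (mul_eq_right.mp e)
  have hfour : q = u * p := by
    by_contra hne
    have h5 : ({1, u, p, q, u * p} : Set C) ⊆ (U : Set C) := by
      rintro y (rfl | rfl | rfl | rfl | rfl)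
      · exact U.one_mem
      · exact hu
      · exact hpU
      · exact hqU
      · exact U.mul_mem hu hpU
    have h6 : ({1, u, p, q, u * p} : Set C).ncard = 5 := by
      rw [Set.ncard_insert_of_notMem, Set.ncard_insert_of_notMem, Set.ncard_eq_three.mpr
        ⟨p, q, u * p, hqp.symm, fun e => hupp e.symm, hne, rfl⟩]
      · rintro (e | e | e)
        · exact hpu e.symm
        · exact hqu e.symm
        · exact hupu e.symm
      · rintro (e | e | e | e)
        · exact hu1 e.symm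
        · exact hp1 e.symm
        · exact hq1 e.symm
        · exact hup1 e.symm
    have h7 := Set.ncard_le_ncard h5 (Set.toFinite _)
    rw [h6] at h7
    have h8 : (U : Set C).ncard = 4 := hU
    omega
  rw [hfour, comm_of_sq hsq hu hpU, ← mul_assoc, hsq p hpU, one_mul]

end cyc

variable {C : Type*} [Group C] [Finite C] {A V U : Subgroup C}

/-- Glauberman's theorem for isolated elements. -/
theorem commutator_mem (hH : Hyp A V U) {v : C} (hv : v ∈ V) (g : C) :
    v * g * v⁻¹ * g⁻¹ ∈ pPrimeCore 2 C := by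
  have : Fact (Nat.Prime 2) := ⟨Nat.prime_two⟩
  by_cases hv1 : v = 1
  · rw [hv1, one_mul, inv_one, mul_one, mul_inv_cancel]
    exact one_mem _
  have hAp : IsPGroup 2 A := by
    intro x
    exact ⟨1, by rw [pow_one, pow_two]; exact Subtype.ext (hH.sq x x.2)⟩
  have hAi : ¬ 2 ∣ A.index := fun h => (Nat.not_even_iff_odd.mpr hH.odd) (even_iff_two_dvd.mpr h)
  obtain ⟨N, hN, hNodd, hNc⟩ := S0215.result (hAp.toSylow hAi) v
    (orderOf_eq_prime (by rw [pow_two, hH.sq v (hH.VA hv)]) hv1) (hH.VA hv)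
    (fun g hg => hH.iso v hv g hg)
  exact Cores.le_pPrimeCore hN (Nat.coprime_two_right.mpr hNodd) (hNc g)

/-- structure of `C/O(C)`. -/
theorem main (hH : Hyp A V U) : ∃ X L : Subgroup (C ⧸ pPrimeCore 2 C),
    haveI := Cores.pPrimeCore_normal (G := C) 2
    Concl (V.map (QuotientGroup.mk' (pPrimeCore 2 C))) (U.map (QuotientGroup.mk' (pPrimeCore 2 C)))
      X L := by
  have : Fact (Nat.Prime 2) := ⟨Nat.prime_two⟩
  have hOn := Cores.pPrimeCore_normal (G := C) 2
  set O := pPrimeCore 2 C with hO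
  set π := QuotientGroup.mk' O with hπ
  have hπs : Function.Surjective π := QuotientGroup.mk'_surjective O
  have hOcop := Cores.pPrimeCore_coprime (G := C) 2
  have hAp : IsPGroup 2 A := by
    intro x
    exact ⟨1, by rw [pow_one, pow_two]; exact Subtype.ext (hH.sq x x.2)⟩
  have hAO : A ⊓ O = ⊥ := by
    apply Disjoint.eq_bot
    apply disjoint_of_coprime_natCard
    obtain ⟨k, hk⟩ := IsPGroup.iff_card.mp hAp
    rw [hk]
    exact (Nat.Coprime.pow_right k hOcop).symm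
  have hinj : ∀ x ∈ A, ∀ y ∈ A, π x = π y → x = y := by
    intro x hx y hy hxy
    have h1 : y⁻¹ * x ∈ O := by
      rw [← QuotientGroup.eq_one_iff, ← QuotientGroup.mk'_apply, map_mul, map_inv]
      change (π y)⁻¹ * π x = 1
      rw [hxy, inv_mul_cancel]
    have h2 : y⁻¹ * x ∈ (⊥ : Subgroup C) := by
      rw [← hAO]
      exact ⟨A.mul_mem (A.inv_mem hy) hx, h1⟩
    rw [mem_bot, inv_mul_eq_one] at h2
    exact h2.symm
  set A' := A.map π with hA'
  set V' := V.map π with hV'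
  set U' := U.map π with hU'
  have hcardmap : ∀ B : Subgroup C, B ≤ A → Nat.card (B.map π) = Nat.card B := by
    intro B hB
    refine (Nat.card_congr (Equiv.ofBijective (fun b : B => (⟨π b, b, b.2, rfl⟩ : B.map π))
      ⟨?_, ?_⟩)).symm
    · intro x y hxy
      exact Subtype.ext (hinj x (hB x.2) y (hB y.2) (congrArg Subtype.val hxy))
    · rintro ⟨_, b, hb, rfl⟩
      exact ⟨⟨b, hb⟩, rfl⟩
  have hcentral : ∀ v ∈ V', ∀ w : C ⧸ O, v * w = w * v := by
    rintro _ ⟨v, hv, rfl⟩ w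
    obtain ⟨g, rfl⟩ := hπs w
    have h1 := commutator_mem hH hv g
    rw [← hO, ← QuotientGroup.eq_one_iff, ← QuotientGroup.mk'_apply] at h1
    change π _ = 1 at h1
    rw [map_mul, map_mul, map_mul, map_inv, map_inv, mul_inv_eq_one, mul_inv_eq_iff_eq_mul] at h1
    exact h1
  have hA'sq : ∀ x ∈ A', x * x = 1 := by
    rintro _ ⟨x, hx, rfl⟩
    rw [← map_mul, hH.sq x hx, map_one]
  have hA'odd : Odd A'.index := by
    have h1 : A'.index ∣ A.index := A.index_map_dvd hπs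
    exact Odd.of_dvd_nat hH.odd h1
  have hV'A' : V' ≤ A' := map_mono hH.VA
  have hU'A' : U' ≤ A' := map_mono hH.UA
  have hV'U' : V' ⊓ U' = ⊥ := by
    rw [eq_bot_iff]
    rintro _ ⟨⟨v, hv, rfl⟩, u, hu, huv⟩
    have h1 := hinj u (hH.UA hu) v (hH.VA hv) huv
    subst h1
    have h2 : u ∈ (⊥ : Subgroup C) := hH.inf ▸ ⟨hv, hu⟩
    rw [mem_bot] at h2
    rw [h2, map_one]
    exact one_mem _
  obtain ⟨c, hc, hc'⟩ := hH.c
  have hUsq : ∀ x ∈ U, x * x = 1 := fun x hx => hH.sq x (hH.UA hx)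
  have hUeq : ∀ x ∈ U', ∃ g k : C ⧸ O, x = (g * x * g⁻¹) * (k * x * k⁻¹) := by
    rintro _ ⟨u, hu, rfl⟩
    refine ⟨π c, π (c * c), ?_⟩
    have h1 := eq_mul hH.cardU hUsq hc hc' hu
    conv_lhs => rw [h1]
    simp only [map_mul, map_inv]
    group
  have hEUV : ∀ e ∈ A', ∃ a ∈ U', ∃ b ∈ V', e = a * b := by
    rintro _ ⟨x, hx, rfl⟩
    obtain ⟨u, hu, v, hv, rfl⟩ := hH.sup x hx
    exact ⟨π u, ⟨u, hu, rfl⟩, π v, ⟨v, hv, rfl⟩, map_mul _ _ _⟩
  obtain ⟨X, hXn, hXA, hXi, -, -⟩ := J2Type.TransferAb.exists_normal A' V' U' hA'sq hA'odd hV'A'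
    (fun v hv g _ => by
      rw [mul_assoc, hcentral v hv g, ← mul_assoc, inv_mul_cancel, one_mul]) hUeq hEUV
  have hUX : U' ≤ X := fun x hx => (hXA x (hU'A' hx)).mpr hx
  have hVX : V' ⊓ X = ⊥ := by
    rw [eq_bot_iff]
    intro x hx
    rw [← hV'U']
    exact ⟨hx.1, (hXA x (hV'A' hx.1)).mp hx.2⟩
  have hVn : V'.Normal := ⟨fun v hv g => by
    rw [← hcentral v hv g, mul_inv_cancel_right]; exact hv⟩
  have hVXtop : V' ⊔ X = ⊤ := by
    have h2 := SylowNormalInf.card_inf_mul_relIndex X V'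
    rw [inf_comm, hVX, card_bot, one_mul] at h2
    have h4 : X.relIndex (X ⊔ V') = X.relIndex V' :=
      SylowNormalInf.relIndex_sup_of_normal X V'
    have h5 : X.relIndex (X ⊔ V') * (X ⊔ V').index = X.index := relIndex_mul_index le_sup_left
    rw [h4, h2, hXi] at h5
    have h6 : (X ⊔ V').index = 1 :=
      Nat.eq_of_mul_eq_mul_left (Nat.card_pos (α := V')) (by rw [h5, mul_one])
    rw [sup_comm]
    exact index_eq_one.mp h6
  have hX1 : ∀ w : C ⧸ O, ∃ v ∈ V', ∃ x ∈ X, w = v * x := by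
    intro w
    exact CentAux.exists_mul_of_mem_sup (fun a _ k hk => hXn.conj_mem k hk a)
      (by rw [hVXtop]; exact mem_top w)
  -- odd index of U' in X
  have hUXodd : Odd (U'.relIndex X) := by
    have h1 : U' = A' ⊓ X := by
      apply le_antisymm (le_inf hU'A' hUX)
      intro x hx
      exact (hXA x hx.1).mp hx.2
    rw [h1, inf_relIndex_right, ← SylowNormalInf.relIndex_sup_of_normal]
    exact Odd.of_dvd_nat hA'odd (relIndex_dvd_index_of_le le_sup_left)
  -- klein_fusion for X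
  have hcardU' : Nat.card U' = 4 := (hcardmap U hH.UA).trans hH.cardU
  have hcardUX : Nat.card (U'.subgroupOf X) = 4 := by
    rw [← hcardU']
    exact Nat.card_congr (subgroupOfEquivOfLe hUX).toEquiv
  have hUXp : IsPGroup 2 (U'.subgroupOf X) := IsPGroup.of_card (n := 2) (by
    rw [hcardUX]; norm_num)
  have hUXi : ¬ 2 ∣ (U'.subgroupOf X).index := fun hd =>
    (Nat.not_even_iff_odd.mpr hUXodd) (even_iff_two_dvd.mpr hd)
  let P : Sylow 2 X := hUXp.toSylow hUXi
  have hcore : pPrimeCore 2 X = ⊥ := by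
    have h1 := Cores.map_subtype_pPrimeCore 2 hXn
    rw [Cores.pPrimeCore_quotient_pPrimeCore, inf_bot_eq,
      Subgroup.map_eq_bot_iff_of_injective _ X.subtype_injective] at h1
    exact h1
  obtain ⟨w, hw, x0, hx0, hcx⟩ := hX1 (π c)
  have hact : ∀ y : C ⧸ O, x0 * y * x0⁻¹ = π c * y * (π c)⁻¹ := by
    intro y
    rw [hcx]
    have h1 := hcentral w hw (x0 * y * x0⁻¹)
    have h2 : w * x0 * y * (w * x0)⁻¹ = (w * (x0 * y * x0⁻¹)) * w⁻¹ := by group
    rw [h2, h1, mul_inv_cancel_right]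
  have hx0U : ∀ u ∈ U', x0 * u * x0⁻¹ ∈ U' := by
    rintro _ ⟨u, hu, rfl⟩
    rw [hact, ← map_inv, ← map_mul, ← map_mul]
    exact ⟨_, hc u hu, rfl⟩
  have hx0U' : ∀ u ∈ U', x0 * u * x0⁻¹ = u → u = 1 := by
    rintro _ ⟨u, hu, rfl⟩ h1
    rw [hact, ← map_inv, ← map_mul, ← map_mul] at h1
    have h2 := hinj _ (hH.UA (hc u hu)) _ (hH.UA hu) h1
    rw [hc' u hu h2, map_one]
  have hPU : ∀ x : X, x ∈ P ↔ (x : C ⧸ O) ∈ U' := fun x => Iff.rfl
  have hfus := KleinFusion.klein_fusion P hcardUX ⟨x0, hx0⟩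
    (fun u hu => (hPU _).mpr (hx0U _ ((hPU _).mp hu)))
    (fun u hu h1 => Subtype.ext (hx0U' _ ((hPU _).mp hu) (congrArg Subtype.val h1))) hcore
  -- normality transfers from X to the whole group
  have hnorm : ∀ M : Subgroup X, M.Normal → (M.map X.subtype).Normal := by
    intro M hM
    refine ⟨?_⟩
    rintro _ ⟨m, hm, rfl⟩ g
    obtain ⟨v, hv, x, hx, rfl⟩ := hX1 g
    refine ⟨⟨x, hx⟩ * m * ⟨x, hx⟩⁻¹, hM.conj_mem m hm _, ?_⟩
    have h1 := hcentral v hv (x * m * x⁻¹)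
    have h2 : v * x * (X.subtype m) * (v * x)⁻¹ = (v * (x * m * x⁻¹)) * v⁻¹ := by
      rw [Subgroup.coe_subtype]; group
    rw [h2, h1, mul_inv_cancel_right]
    rfl
  rcases hfus with ⟨hPn, hPcard, hPc⟩ | ⟨L, hLn, hLL, hUL, hLc, hLmin⟩
  · refine ⟨X, X, ⟨hcentral, hXn, hXn, hVX, hVXtop, le_rfl, hUX, hcardU',
      fun x hx => hA'sq x (hU'A' hx), hUXodd, ?_,
      ⟨x0, hx0, hx0U, hx0U'⟩, Or.inl ⟨rfl, hPcard, ?_, ?_⟩⟩⟩
    · -- centre of X is trivial
      rw [eq_bot_iff]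
      intro x hx
      rw [mem_bot]
      have h1 : (⟨x, hx.2⟩ : X) ∈ centralizer ((P : Subgroup X) : Set X) := by
        rw [mem_centralizer_iff]
        intro y _
        exact Subtype.ext (mem_centralizer_iff.mp hx.1 y y.2)
      rw [hPc] at h1
      apply hx0U' x h1
      rw [mul_inv_eq_iff_eq_mul]
      exact mem_centralizer_iff.mp hx.1 x0 hx0
    · have h1 := hnorm _ hPn
      have h2 : (P : Subgroup X).map X.subtype = U' := by
        rw [show (P : Subgroup X) = U'.subgroupOf X from rfl, subgroupOf_map_subtype,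
          inf_eq_left.mpr hUX]
      rwa [h2] at h1
    · apply le_antisymm
      · intro x hx
        have h1 : (⟨x, hx.2⟩ : X) ∈ centralizer ((P : Subgroup X) : Set X) := by
          rw [mem_centralizer_iff]
          intro y hy
          exact Subtype.ext (mem_centralizer_iff.mp hx.1 y ((hPU y).mp hy))
        rw [hPc] at h1
        exact h1
      · refine le_inf ?_ hUX
        intro x hx
        rw [mem_centralizer_iff]
        intro y hy
        exact comm_of_sq hA'sq (hU'A' hy) (hU'A' hx)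
  · refine ⟨X, L.map X.subtype, ⟨hcentral, hXn, hnorm L hLn, hVX, hVXtop, map_subtype_le L, ?_,
      hcardU', fun x hx => hA'sq x (hU'A' hx), hUXodd, ?_, ⟨x0, hx0, hx0U, hx0U'⟩,
      Or.inr ⟨?_, ?_⟩⟩⟩
    · intro u hu
      exact ⟨⟨u, hUX hu⟩, hUL ((hPU _).mpr hu), rfl⟩
    · rw [eq_bot_iff]
      intro x hx
      rw [mem_bot]
      have h1 : (⟨x, hx.2⟩ : X) ∈ centralizer (L : Set X) := by
        rw [mem_centralizer_iff]
        intro y hy
        exact Subtype.ext (mem_centralizer_iff.mp hx.1 y ⟨y, hy, rfl⟩)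
      rw [hLc, mem_bot] at h1
      exact congrArg Subtype.val h1
    · rw [← map_commutator, hLL]
    · intro M hM hML
      have h1 : M = (M.subgroupOf X).map X.subtype := by
        rw [subgroupOf_map_subtype, inf_eq_left.mpr (hML.trans (map_subtype_le L))]
      have h2 : M.subgroupOf X ≤ L := by
        intro y hy
        obtain ⟨l, hl, hly⟩ := hML hy
        rw [← X.subtype_injective hly]
        exact hl
      rcases hLmin (M.subgroupOf X) (hM.subgroupOf X) h2 with h3 | h3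
      · left
        rw [h1, h3, Subgroup.map_bot]
      · right
        rw [h1, h3]

end Cfsg.Agent.J2Sylow.CentAbs
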