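import Mathlib
import Cfsg.Agent.J2Sylow.Model

set_option autoImplicit false

/-! Further facts about the model group `T` (for the structure of `C(a)`, `a ∈ E1 - U`). -/

namespace Cfsg.Agent.J2Sylow.ModelA

open Model Model.T

theorem char_E : ∀ x : T, x ≠ 1 → (∀ y : T, x * y = y * x → y * y = 1) →
    (x ∈ E1 ∨ x ∈ E2) ∧ x ∉ T.U := by decide +kernel

theorem char_ER : ∀ x : T, x ∈ R → x ≠ 1 → (∀ y : T, y ∈ R → x * y = y * x → y * y = 1) →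
    (x ∈ E1 ∨ x ∈ E2) ∧ x ∉ T.U := by decide +kernel

theorem R_trans : ∀ x y : T, x ∈ E1 → y ∈ E1 → x ∉ T.U → x * y⁻¹ ∈ T.U →
    ∃ r : T, r ∈ R ∧ r * x * r⁻¹ = y := by decide +kernel

theorem inf_E : ∀ x : T, x ∈ E1 → x ∈ E2 → x ∈ T.U := by decide +kernel

theorem inf_E1_Q : ∀ x : T, x ∈ E1 → x ∈ Q → x ∈ T.U := by decide +kernel

theorem E1_mul_Q : ∀ x : T, ∃ y : T, y ∈ E1 ∧ y * x ∈ Q := by decide +kernel

theorem center_R : ∀ x : T, x ∈ R → (∀ y : T, y ∈ R → x * y = y * x) → x ∈ T.U := by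
  decide +kernel

theorem invol_cases : ∀ x : T, x * x = 1 → x ≠ 1 → x ∈ T.U ∨ (x ∈ E1 ∧ x ∉ T.U) ∨
    (x ∈ E2 ∧ x ∉ T.U) ∨ x.s = true := by decide +kernel

theorem tau_v : tau * v * tau⁻¹ = v * z := by decide +kernel

theorem tau_z : tau * z * tau⁻¹ = z := by decide +kernel

theorem tau_mem_Q : tau ∈ Q := by decide +kernel

theorem z_ne : z ≠ 1 := by decide +kernel
theorem v_ne : v ≠ 1 := by decide +kernel
theorem v_ne_z : v ≠ z := by decide +kernel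
theorem z_sq : z * z = 1 := by decide +kernel
theorem v_sq : v * v = 1 := by decide +kernel
theorem tau_sq : tau * tau = 1 := by decide +kernel
theorem z_mem : z ∈ T.U := by decide +kernel
theorem v_mem : v ∈ T.U := by decide +kernel

theorem R_triv : ∀ r y : T, r ∈ R → y ∈ E1 → r * y * r⁻¹ * y⁻¹ ∈ T.U := by decide +kernel

theorem cosets : ∀ a x y : T, a ∈ E1 → x ∈ E1 → y ∈ E1 → a ∉ T.U → x ∉ T.U → a * x ∉ T.U →
    y ∈ T.U ∨ a * y ∈ T.U ∨ x * y ∈ T.U ∨ a * x * y ∈ T.U := by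
  have key : ∀ a x : T, a ∈ E1 → x ∈ E1 → a ∉ T.U → x ∉ T.U → a * x ∉ T.U →
      ∀ y : T, y ∈ E1 → y ∈ T.U ∨ a * y ∈ T.U ∨ x * y ∈ T.U ∨ a * x * y ∈ T.U := by
    decide +kernel
  intro a x y ha hx hy h1 h2 h3
  exact key a x ha hx h1 h2 h3 y hy

end Cfsg.Agent.J2Sylow.ModelA
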