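import Mathlib
import Cfsg.Agent.J2Sylow.Setup
import Cfsg.Agent.J2Sylow.ModelA

set_option autoImplicit false

/-! Basic facts on a `Setup`. -/

namespace Cfsg.Agent.J2Sylow.BasicA

open Subgroup Model Cfsg.Agent.J2Sylow.ModelA

variable {G : Type*} [Group G] (h : Setup G)

theorem mem_map_iff {A : Subgroup T} {t : T} : h.φ t ∈ A.map h.φ ↔ t ∈ A := by
  constructor
  · rintro ⟨s, hs, hst⟩
    rw [← h.inj hst]
    exact hs
  · intro ht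
    exact ⟨t, ht, rfl⟩

theorem U_le_E1 : h.U ≤ h.E1 := Subgroup.map_mono T.U_le_E1
theorem U_le_E2 : h.U ≤ h.E2 := Subgroup.map_mono T.U_le_E2
theorem E1_le_R : h.E1 ≤ h.R := Subgroup.map_mono T.E1_le_R
theorem E2_le_R : h.E2 ≤ h.R := Subgroup.map_mono T.E2_le_R
theorem U_le_Q : h.U ≤ h.Q := Subgroup.map_mono T.U_le_Q

theorem map_le_S (A : Subgroup T) : A.map h.φ ≤ h.S := by
  rintro _ ⟨t, -, rfl⟩
  exact ⟨t, rfl⟩

theorem R_le_S : h.R ≤ h.S := map_le_S h _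
theorem E1_le_S : h.E1 ≤ h.S := map_le_S h _
theorem E2_le_S : h.E2 ≤ h.S := map_le_S h _
theorem U_le_S : h.U ≤ h.S := map_le_S h _
theorem Q_le_S : h.Q ≤ h.S := map_le_S h _

theorem card_map (A : Subgroup T) : Nat.card (A.map h.φ) = Nat.card A :=
  Nat.card_congr (A.equivMapOfInjective h.φ h.inj).toEquiv.symm

theorem card_U : Nat.card h.U = 4 := (card_map h _).trans T.card_U
theorem card_E1 : Nat.card h.E1 = 16 := (card_map h _).trans T.card_E1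
theorem card_E2 : Nat.card h.E2 = 16 := (card_map h _).trans T.card_E2
theorem card_Q : Nat.card h.Q = 32 := (card_map h _).trans T.card_Q
theorem card_R : Nat.card h.R = 64 := (card_map h _).trans T.card_R

theorem card_S : Nat.card h.S = 128 := by
  rw [← T.card_T]
  exact (Nat.card_congr (MonoidHom.ofInjective h.inj).toEquiv).symm

theorem S_isPGroup : IsPGroup 2 h.S := by
  have : Fact (Nat.Prime 2) := ⟨Nat.prime_two⟩
  have : Finite h.S := Nat.finite_of_card_ne_zero (by rw [card_S]; norm_num)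
  rw [IsPGroup.iff_card]
  exact ⟨7, by rw [card_S]; rfl⟩

theorem isPGroup_of_le {A : Subgroup G} (hA : A ≤ h.S) : IsPGroup 2 A :=
  (S_isPGroup h).to_le hA

theorem S_not_dvd : ¬ 2 ∣ h.S.index := fun hd =>
  (Nat.not_even_iff_odd.mpr h.odd_index) (even_iff_two_dvd.mpr hd)

/-- the Sylow 2-subgroup -/
noncomputable def Syl : Sylow 2 G :=
  haveI : Fact (Nat.Prime 2) := ⟨Nat.prime_two⟩
  (S_isPGroup h).toSylow (S_not_dvd h)

theorem coe_Syl : ((Syl h : Sylow 2 G) : Subgroup G) = h.S := rfl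

theorem z_mem_U : h.z ∈ h.U := (mem_map_iff h).mpr z_mem
theorem v_mem_U : h.v ∈ h.U := (mem_map_iff h).mpr v_mem

theorem z_comm {x : G} (hx : x ∈ h.S) : h.z * x = x * h.z := by
  obtain ⟨t, rfl⟩ := hx
  change h.φ T.z * h.φ t = _
  rw [← map_mul, T.z_comm, map_mul]
  rfl

theorem z_ne : h.z ≠ 1 := fun e => ModelA.z_ne (h.inj (e.trans h.φ.map_one.symm))
theorem v_ne : h.v ≠ 1 := fun e => ModelA.v_ne (h.inj (e.trans h.φ.map_one.symm))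
theorem v_ne_z : h.v ≠ h.z := fun e => ModelA.v_ne_z (h.inj e)

theorem z_sq : h.z * h.z = 1 := by
  change h.φ T.z * h.φ T.z = 1
  rw [← map_mul, ModelA.z_sq, map_one]

theorem v_sq : h.v * h.v = 1 := by
  change h.φ T.v * h.φ T.v = 1
  rw [← map_mul, ModelA.v_sq, map_one]

theorem orderOf_z : orderOf h.z = 2 := orderOf_eq_prime (by rw [pow_two, z_sq]) (z_ne h)

theorem U_cases {x : G} (hx : x ∈ h.U) : x = 1 ∨ x = h.z ∨ x = h.v ∨ x = h.v * h.z := by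
  obtain ⟨t, ht, rfl⟩ := hx
  rcases T.U_cases t ht with rfl | rfl | rfl | rfl
  · exact Or.inl (map_one _)
  · exact Or.inr (Or.inl rfl)
  · exact Or.inr (Or.inr (Or.inl rfl))
  · exact Or.inr (Or.inr (Or.inr (map_mul _ _ _)))

theorem E1_comm {x y : G} (hx : x ∈ h.E1) (hy : y ∈ h.E1) : x * y = y * x := by
  obtain ⟨s, hs, rfl⟩ := hx
  obtain ⟨t, ht, rfl⟩ := hy
  rw [← map_mul, T.E1_comm s t hs ht, map_mul]

theorem E1_sq {x : G} (hx : x ∈ h.E1) : x * x = 1 := by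
  obtain ⟨s, hs, rfl⟩ := hx
  rw [← map_mul, T.E1_sq s hs, map_one]

theorem U_comm_R {x y : G} (hx : x ∈ h.U) (hy : y ∈ h.R) : x * y = y * x := by
  obtain ⟨s, hs, rfl⟩ := hx
  obtain ⟨t, ht, rfl⟩ := hy
  rw [← map_mul, T.U_central s t hs ht, map_mul]

theorem comm_E1 {x y : G} (hx : x ∈ h.E1) (hxU : x ∉ h.U) (hy : y ∈ h.S) (hxy : x * y = y * x) :
    y ∈ h.E1 := by
  obtain ⟨s, hs, rfl⟩ := hx
  obtain ⟨t, rfl⟩ := hy
  apply (mem_map_iff h).mpr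
  apply T.comm_E1 s t hs (fun hu => hxU ((mem_map_iff h).mpr hu))
  apply h.inj
  rw [map_mul, map_mul]
  exact hxy

theorem comm_E2 {x y : G} (hx : x ∈ h.E2) (hxU : x ∉ h.U) (hy : y ∈ h.S) (hxy : x * y = y * x) :
    y ∈ h.E2 := by
  obtain ⟨s, hs, rfl⟩ := hx
  obtain ⟨t, rfl⟩ := hy
  apply (mem_map_iff h).mpr
  apply T.comm_E2 s t hs (fun hu => hxU ((mem_map_iff h).mpr hu))
  apply h.inj
  rw [map_mul, map_mul]
  exact hxy

theorem E2_comm {x y : G} (hx : x ∈ h.E2) (hy : y ∈ h.E2) : x * y = y * x := by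
  obtain ⟨s, hs, rfl⟩ := hx
  obtain ⟨t, ht, rfl⟩ := hy
  rw [← map_mul, T.E2_comm s t hs ht, map_mul]

theorem E2_sq {x : G} (hx : x ∈ h.E2) : x * x = 1 := by
  obtain ⟨s, hs, rfl⟩ := hx
  rw [← map_mul, T.E2_sq s hs, map_one]

theorem mem_U_of {x : G} (h1 : x ∈ h.E1) (h2 : x ∈ h.E2) : x ∈ h.U := by
  obtain ⟨s, hs, rfl⟩ := h1
  exact (mem_map_iff h).mpr (inf_E s hs ((mem_map_iff h).mp h2))

theorem mem_U_of_Q {x : G} (h1 : x ∈ h.E1) (h2 : x ∈ h.Q) : x ∈ h.U := by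
  obtain ⟨s, hs, rfl⟩ := h1
  exact (mem_map_iff h).mpr (inf_E1_Q s hs ((mem_map_iff h).mp h2))

/-- centralizer test in `S`: elements of `(E1 ∪ E2) - U` are the nonidentity elements of `S` with
elementary abelian centralizer in `S`. -/
theorem char_S {x : G} (hx : x ∈ h.S) (hx1 : x ≠ 1)
    (hc : ∀ y ∈ h.S, x * y = y * x → y * y = 1) : (x ∈ h.E1 ∨ x ∈ h.E2) ∧ x ∉ h.U := by
  obtain ⟨s, rfl⟩ := hx
  have := char_E s (fun e => hx1 (by rw [e, map_one])) (fun y hy => by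
    apply h.inj
    rw [map_mul, map_one]
    exact hc _ ⟨y, rfl⟩ (by rw [← map_mul, hy, map_mul]))
  exact ⟨this.1.imp (mem_map_iff h).mpr (mem_map_iff h).mpr,
    fun hu => this.2 ((mem_map_iff h).mp hu)⟩

theorem char_R {x : G} (hx : x ∈ h.R) (hx1 : x ≠ 1)
    (hc : ∀ y ∈ h.R, x * y = y * x → y * y = 1) : (x ∈ h.E1 ∨ x ∈ h.E2) ∧ x ∉ h.U := by
  obtain ⟨s, hs, rfl⟩ := hx
  have := char_ER s hs (fun e => hx1 (by rw [e, map_one])) (fun y hyR hy => by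
    apply h.inj
    rw [map_mul, map_one]
    exact hc _ ⟨y, hyR, rfl⟩ (by rw [← map_mul, hy, map_mul]))
  exact ⟨this.1.imp (mem_map_iff h).mpr (mem_map_iff h).mpr,
    fun hu => this.2 ((mem_map_iff h).mp hu)⟩

theorem R_trans {x y : G} (hx : x ∈ h.E1) (hy : y ∈ h.E1) (hxU : x ∉ h.U)
    (hxy : x * y⁻¹ ∈ h.U) : ∃ r ∈ h.R, r * x * r⁻¹ = y := by
  obtain ⟨s, hs, rfl⟩ := hx
  obtain ⟨t, ht, rfl⟩ := hy
  rw [← map_inv, ← map_mul] at hxy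
  obtain ⟨r, hr, hrs⟩ := ModelA.R_trans s t hs ht (fun hu => hxU ((mem_map_iff h).mpr hu))
    ((mem_map_iff h).mp hxy)
  exact ⟨h.φ r, (mem_map_iff h).mpr hr, by rw [← map_mul, ← map_inv, ← map_mul, hrs]⟩

theorem E1_mul_Q {x : G} (hx : x ∈ h.S) : ∃ y ∈ h.E1, y * x ∈ h.Q := by
  obtain ⟨s, rfl⟩ := hx
  obtain ⟨y, hy, hyQ⟩ := ModelA.E1_mul_Q s
  exact ⟨h.φ y, (mem_map_iff h).mpr hy, by rw [← map_mul]; exact (mem_map_iff h).mpr hyQ⟩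

theorem E1_conj {x g : G} (hx : x ∈ h.E1) (hg : g ∈ h.R) : g * x * g⁻¹ ∈ h.E1 := by
  obtain ⟨s, hs, rfl⟩ := hx
  obtain ⟨t, ht, rfl⟩ := hg
  rw [← map_mul, ← map_inv, ← map_mul]
  exact (mem_map_iff h).mpr (T.E1_normal s t hs ht)

theorem tau_conj_v : h.tau * h.v * h.tau⁻¹ = h.v * h.z := by
  change h.φ T.tau * h.φ T.v * (h.φ T.tau)⁻¹ = h.φ T.v * h.φ T.z
  rw [← map_mul, ← map_inv, ← map_mul, tau_v, map_mul]

theorem tau_conj_z : h.tau * h.z * h.tau⁻¹ = h.z := by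
  change h.φ T.tau * h.φ T.z * (h.φ T.tau)⁻¹ = h.φ T.z
  rw [← map_mul, ← map_inv, ← map_mul, tau_z]

theorem tau_mem_S : h.tau ∈ h.S := ⟨_, rfl⟩
theorem tau_mem_Q : h.tau ∈ h.Q := (mem_map_iff h).mpr ModelA.tau_mem_Q

theorem tau_E1 {x : G} (hx : x ∈ h.E1) : h.tau * x * h.tau⁻¹ ∈ h.E2 := by
  obtain ⟨s, hs, rfl⟩ := hx
  change h.φ T.tau * h.φ s * (h.φ T.tau)⁻¹ ∈ _
  rw [← map_mul, ← map_inv, ← map_mul]
  exact (mem_map_iff h).mpr (T.tau_swap s hs)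

theorem tau_E2 {x : G} (hx : x ∈ h.E2) : h.tau * x * h.tau⁻¹ ∈ h.E1 := by
  obtain ⟨s, hs, rfl⟩ := hx
  change h.φ T.tau * h.φ s * (h.φ T.tau)⁻¹ ∈ _
  rw [← map_mul, ← map_inv, ← map_mul]
  exact (mem_map_iff h).mpr (T.tau_swap' s hs)

theorem tau_R {x : G} (hx : x ∈ h.R) : h.tau * x * h.tau⁻¹ ∈ h.R := by
  obtain ⟨s, hs, rfl⟩ := hx
  change h.φ T.tau * h.φ s * (h.φ T.tau)⁻¹ ∈ _
  rw [← map_mul, ← map_inv, ← map_mul]
  exact (mem_map_iff h).mpr (T.R_normal s T.tau hs)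

theorem center_R {x : G} (hx : x ∈ h.R) (hc : ∀ y ∈ h.R, x * y = y * x) : x ∈ h.U := by
  obtain ⟨s, hs, rfl⟩ := hx
  refine (mem_map_iff h).mpr (ModelA.center_R s hs fun y hy => ?_)
  apply h.inj
  rw [map_mul, map_mul]
  exact hc _ ((mem_map_iff h).mpr hy)

theorem S_conj_Q {x g : G} (hx : x ∈ h.Q) (hg : g ∈ h.S) : g * x * g⁻¹ ∈ h.Q := by
  obtain ⟨s, hs, rfl⟩ := hx
  obtain ⟨t, rfl⟩ := hg
  rw [← map_mul, ← map_inv, ← map_mul]
  exact (mem_map_iff h).mpr (T.Q_normal s t hs)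

theorem S_conj_U {x g : G} (hx : x ∈ h.U) (hg : g ∈ h.S) : g * x * g⁻¹ ∈ h.U := by
  obtain ⟨s, hs, rfl⟩ := hx
  obtain ⟨t, rfl⟩ := hg
  rw [← map_mul, ← map_inv, ← map_mul]
  exact (mem_map_iff h).mpr (T.U_normal s t hs)

theorem S_conj_R {x g : G} (hx : x ∈ h.R) (hg : g ∈ h.S) : g * x * g⁻¹ ∈ h.R := by
  obtain ⟨s, hs, rfl⟩ := hx
  obtain ⟨t, rfl⟩ := hg
  rw [← map_mul, ← map_inv, ← map_mul]
  exact (mem_map_iff h).mpr (T.R_normal s t hs)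

/-- the involutions of `S`. -/
theorem invol_cases {x : G} (hx : x ∈ h.S) (h2 : x * x = 1) (h1 : x ≠ 1) :
    x ∈ h.U ∨ (x ∈ h.E1 ∧ x ∉ h.U) ∨ (x ∈ h.E2 ∧ x ∉ h.U) ∨
      ∃ g ∈ h.S, g * x * g⁻¹ = h.tau := by
  obtain ⟨s, rfl⟩ := hx
  have hs2 : s * s = 1 := by
    apply h.inj
    rw [map_mul, map_one]
    exact h2
  have hn : ∀ {A : Subgroup T}, s ∉ A → h.φ s ∉ A.map h.φ := fun hA hm =>
    hA ((mem_map_iff h).mp hm)
  rcases ModelA.invol_cases s hs2 (fun e => h1 (by rw [e, map_one])) with hs | hs | hs | hs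
  · exact Or.inl ((mem_map_iff h).mpr hs)
  · exact Or.inr (Or.inl ⟨(mem_map_iff h).mpr hs.1, hn hs.2⟩)
  · exact Or.inr (Or.inr (Or.inl ⟨(mem_map_iff h).mpr hs.1, hn hs.2⟩))
  · obtain ⟨g, hg⟩ := T.tau_conj s hs hs2
    refine Or.inr (Or.inr (Or.inr ⟨h.φ g, ⟨g, rfl⟩, ?_⟩))
    rw [← map_mul, ← map_inv, ← map_mul, hg]
    rfl

end Cfsg.Agent.J2Sylow.BasicA
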