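import Mathlib
import Cfsg.Agent.J2Sylow.BasicA
import Cfsg.Agent.J2Sylow.Basics
import Cfsg.Agent.J2Sylow.CentAux
import Cfsg.Agent.SignalizersComponents.CoreOfCentralizer

set_option autoImplicit false

/-! Fusion in `E1`: an element `d` of `C(z)` normalising `S` and `E1` and permuting the nontrivial
cosets of `U` in `E1` transitively, transitivity of `N(E1)` on `E1 - U`. -/

namespace Cfsg.Agent.J2Sylow.E1Fusion

open Subgroup Model

variable {G : Type*} [Group G] (h : Setup G)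

/-- `g` conjugates `A` into itself. -/
def Nrm (A : Subgroup G) (g : G) : Prop := ∀ x ∈ A, g * x * g⁻¹ ∈ A

theorem Nrm.mul {A : Subgroup G} {g k : G} (hg : Nrm A g) (hk : Nrm A k) : Nrm A (g * k) := by
  intro x hx
  have : g * k * x * (g * k)⁻¹ = g * (k * x * k⁻¹) * g⁻¹ := by group
  rw [this]
  exact hg _ (hk _ hx)

theorem Nrm.one {A : Subgroup G} : Nrm A 1 := by
  intro x hx
  simpa using hx

theorem Nrm.pow {A : Subgroup G} {g : G} (hg : Nrm A g) (n : ℕ) : Nrm A (g ^ n) := by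
  induction n with
  | zero => rw [pow_zero]; exact Nrm.one
  | succ n ih => rw [pow_succ]; exact ih.mul hg

theorem Nrm.surj [Finite G] {A : Subgroup G} {g : G} (hg : Nrm A g) {y : G} (hy : y ∈ A) :
    g⁻¹ * y * g ∈ A := by
  have hinj : Function.Injective (fun a : A => (⟨g * a * g⁻¹, hg a a.2⟩ : A)) := by
    intro a b hab
    apply Subtype.ext
    have := congrArg Subtype.val hab
    simpa using this
  obtain ⟨b, hb⟩ := Finite.injective_iff_surjective.mp hinj ⟨y, hy⟩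
  have := congrArg Subtype.val hb
  simp only at this
  rw [← this]
  have h2 : g⁻¹ * (g * (b : G) * g⁻¹) * g = b := by group
  rw [h2]
  exact b.2

theorem Nrm.inv [Finite G] {A : Subgroup G} {g : G} (hg : Nrm A g) : Nrm A g⁻¹ := by
  intro x hx
  rw [inv_inv]
  exact hg.surj hx

theorem Nrm.of_mem {A : Subgroup G} {g : G} (hg : g ∈ A) : Nrm A g := fun _ hx =>
  A.mul_mem (A.mul_mem hg hx) (A.inv_mem hg)

/-- If `g` normalises `S` then `g` maps `E1` to `E1` or `E2`. -/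
theorem E1_of_nrm_S [Finite G] {g : G} (hg : Nrm h.S g) :
    Nrm h.E1 g ∨ ∀ x ∈ h.E1, g * x * g⁻¹ ∈ h.E2 := by
  -- pick a in E1 - U
  obtain ⟨a, haE, haU⟩ : ∃ a ∈ h.E1, a ∉ h.U := by
    refine ⟨h.φ ⟨F4.e, F4.o, F4.o, false⟩, ?_, ?_⟩
    · exact (BasicA.mem_map_iff h).mpr (by decide)
    · intro hm
      have := (BasicA.mem_map_iff h).mp hm
      revert this
      decide
  have ha1 : a ≠ 1 := fun e => haU (e ▸ h.U.one_mem)
  have hc := BasicA.char_S h (x := g * a * g⁻¹) (hg a (BasicA.E1_le_S h haE))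
    (fun e => ha1 (by
      have : a = g⁻¹ * (g * a * g⁻¹) * g := by group
      rw [this, e]; group)) (by
      intro y hy hxy
      have h1 : a * (g⁻¹ * y * g) = (g⁻¹ * y * g) * a := by
        have e1 : a * (g⁻¹ * y * g) = g⁻¹ * ((g * a * g⁻¹) * y) * g := by group
        have e2 : (g⁻¹ * y * g) * a = g⁻¹ * (y * (g * a * g⁻¹)) * g := by group
        rw [e1, e2, hxy]
      have h2 := BasicA.E1_sq h (BasicA.comm_E1 h haE haU (hg.surj hy) h1)
      have e3 : y * y = g * ((g⁻¹ * y * g) * (g⁻¹ * y * g)) * g⁻¹ := by group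
      rw [e3, h2]; group)
  rcases hc.1 with h1 | h1
  · left
    intro x hx
    refine BasicA.comm_E1 h h1 hc.2 (hg x (BasicA.E1_le_S h hx)) ?_
    have e1 : g * a * g⁻¹ * (g * x * g⁻¹) = g * (a * x) * g⁻¹ := by group
    have e2 : g * x * g⁻¹ * (g * a * g⁻¹) = g * (x * a) * g⁻¹ := by group
    rw [e1, e2, BasicA.E1_comm h haE hx]
  · right
    intro x hx
    refine BasicA.comm_E2 h h1 hc.2 (hg x (BasicA.E1_le_S h hx)) ?_
    have e1 : g * a * g⁻¹ * (g * x * g⁻¹) = g * (a * x) * g⁻¹ := by group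
    have e2 : g * x * g⁻¹ * (g * a * g⁻¹) = g * (x * a) * g⁻¹ := by group
    rw [e1, e2, BasicA.E1_comm h haE hx]

/-- If `g` normalises `R` then `g` maps `E1` to `E1` or `E2`. -/
theorem E1_of_nrm_R [Finite G] {g : G} (hg : Nrm h.R g) :
    Nrm h.E1 g ∨ ∀ x ∈ h.E1, g * x * g⁻¹ ∈ h.E2 := by
  obtain ⟨a, haE, haU⟩ : ∃ a ∈ h.E1, a ∉ h.U := by
    refine ⟨h.φ ⟨F4.e, F4.o, F4.o, false⟩, ?_, ?_⟩
    · exact (BasicA.mem_map_iff h).mpr (by decide)
    · intro hm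
      have := (BasicA.mem_map_iff h).mp hm
      revert this
      decide
  have ha1 : a ≠ 1 := fun e => haU (e ▸ h.U.one_mem)
  have hc := BasicA.char_R h (x := g * a * g⁻¹) (hg a (BasicA.E1_le_R h haE))
    (fun e => ha1 (by
      have : a = g⁻¹ * (g * a * g⁻¹) * g := by group
      rw [this, e]; group)) (by
      intro y hy hxy
      have h1 : a * (g⁻¹ * y * g) = (g⁻¹ * y * g) * a := by
        have e1 : a * (g⁻¹ * y * g) = g⁻¹ * ((g * a * g⁻¹) * y) * g := by group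
        have e2 : (g⁻¹ * y * g) * a = g⁻¹ * (y * (g * a * g⁻¹)) * g := by group
        rw [e1, e2, hxy]
      have h2 := BasicA.E1_sq h (BasicA.comm_E1 h haE haU
        (BasicA.R_le_S h (hg.surj hy)) h1)
      have e3 : y * y = g * ((g⁻¹ * y * g) * (g⁻¹ * y * g)) * g⁻¹ := by group
      rw [e3, h2]; group)
  rcases hc.1 with h1 | h1
  · left
    intro x hx
    refine BasicA.comm_E1 h h1 hc.2 (BasicA.R_le_S h (hg x (BasicA.E1_le_R h hx))) ?_
    have e1 : g * a * g⁻¹ * (g * x * g⁻¹) = g * (a * x) * g⁻¹ := by group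
    have e2 : g * x * g⁻¹ * (g * a * g⁻¹) = g * (x * a) * g⁻¹ := by group
    rw [e1, e2, BasicA.E1_comm h haE hx]
  · right
    intro x hx
    refine BasicA.comm_E2 h h1 hc.2 (BasicA.R_le_S h (hg x (BasicA.E1_le_R h hx))) ?_
    have e1 : g * a * g⁻¹ * (g * x * g⁻¹) = g * (a * x) * g⁻¹ := by group
    have e2 : g * x * g⁻¹ * (g * a * g⁻¹) = g * (x * a) * g⁻¹ := by group
    rw [e1, e2, BasicA.E1_comm h haE hx]

theorem U_of_nrm_R [Finite G] {g : G} (hg : Nrm h.R g) : Nrm h.U g := by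
  intro u hu
  refine BasicA.center_R h (hg u (BasicA.E1_le_R h (BasicA.U_le_E1 h hu))) ?_
  intro y hy
  have h1 := BasicA.U_comm_R h hu (hg.surj hy)
  have e1 : g * u * g⁻¹ * y = g * (u * (g⁻¹ * y * g)) * g⁻¹ := by group
  have e2 : y * (g * u * g⁻¹) = g * ((g⁻¹ * y * g) * u) * g⁻¹ := by group
  rw [e1, e2, h1]

/-- the element `g1`: normalises `E1` and `U` and moves `v` to `z`. -/
theorem exists_g1 [Finite G] (hf : Fused h) :
    ∃ g : G, Nrm h.E1 g ∧ Nrm h.U g ∧ Nrm h.R g ∧ g * h.v * g⁻¹ = h.z := by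
  obtain ⟨g, hg, hgv⟩ := hf.f1
  rcases E1_of_nrm_R h hg with h1 | h1
  · exact ⟨g, h1, U_of_nrm_R h hg, hg, hgv⟩
  · have hR : Nrm h.R (h.tau * g) := Nrm.mul (fun x hx => BasicA.tau_R h hx) hg
    refine ⟨h.tau * g, ?_, U_of_nrm_R h hR, hR, ?_⟩
    · intro x hx
      have : h.tau * g * x * (h.tau * g)⁻¹ = h.tau * (g * x * g⁻¹) * h.tau⁻¹ := by group
      rw [this]
      exact BasicA.tau_E2 h (h1 x hx)
    · have : h.tau * g * h.v * (h.tau * g)⁻¹ = h.tau * (g * h.v * g⁻¹) * h.tau⁻¹ := by group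
      rw [this, hgv, BasicA.tau_conj_z]

/-- `(Q K(z)) ∩ S = Q`. -/
theorem mem_Q_of_mem_sup [Finite G] {x : G} (hx : x ∈ h.Q ⊔ Cfsg.centralizerPPrimeCore 2 h.z)
    (hxS : x ∈ h.S) : x ∈ h.Q := by
  have hQC : ∀ a ∈ h.Q, a ∈ centralizer ({h.z} : Set G) := fun a ha => by
    rw [mem_centralizer_singleton_iff]
    exact (BasicA.z_comm h (BasicA.Q_le_S h ha)).symm
  obtain ⟨q, hq, k, hk, rfl⟩ := CentAux.exists_mul_of_mem_sup (fun a ha k hk =>
    (mem_normalizer_iff.mp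
      (SignalizersComponents.CoreOfCentralizer.centralizer_le_normalizer_centralizerPPrimeCore
        2 h.z (hQC a ha)) k).mp hk) hx
  have hkS : k ∈ h.S := by
    have : k = q⁻¹ * (q * k) := by group
    rw [this]
    exact h.S.mul_mem (h.S.inv_mem (BasicA.Q_le_S h hq)) hxS
  have hcop := SignalizersComponents.CoreOfCentralizer.card_centralizerPPrimeCore_coprime
    (G := G) 2 h.z
  have hinf : Cfsg.centralizerPPrimeCore 2 h.z ⊓ h.S = ⊥ := by
    apply Disjoint.eq_bot; apply disjoint_of_coprime_natCard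
    rw [BasicA.card_S]
    exact Nat.Coprime.pow_right 7 hcop
  have hk1 : k ∈ (⊥ : Subgroup G) := hinf ▸ mem_inf.mpr ⟨hk, hkS⟩
  rw [mem_bot] at hk1
  rw [hk1, mul_one]
  exact hq

/-- the element `d` of `C(z)`. -/
theorem exists_d [Finite G]
    (hn : ((h.Q ⊔ Cfsg.centralizerPPrimeCore 2 h.z).subgroupOf
      (centralizer ({h.z} : Set G))).Normal)
    (hq : Nonempty (↥(centralizer ({h.z} : Set G)) ⧸
      ((h.Q ⊔ Cfsg.centralizerPPrimeCore 2 h.z).subgroupOf (centralizer ({h.z} : Set G))) ≃*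
      alternatingGroup (Fin 5))) :
    ∃ d : G, (∃ n : ℕ, Odd n ∧ d ^ n = 1) ∧
      d * h.z = h.z * d ∧ Nrm h.S d ∧ Nrm h.E1 d ∧ Nrm h.U d ∧
      (∀ x ∈ h.E1, x ∉ h.U → ∀ y ∈ h.E1, y ∉ h.U →
        ∃ i : ℕ, d ^ i * x * (d ^ i)⁻¹ * y⁻¹ ∈ h.U) := by
  have : Fact (Nat.Prime 2) := ⟨Nat.prime_two⟩
  have : Fact (Nat.Prime 5) := ⟨by norm_num⟩
  set C := centralizer ({h.z} : Set G) with hC
  set K := Cfsg.centralizerPPrimeCore 2 h.z with hK
  set D := (h.Q ⊔ K).subgroupOf C with hD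
  obtain ⟨e⟩ := hq
  let π : C →* alternatingGroup (Fin 5) := e.toMonoidHom.comp (QuotientGroup.mk' D)
  have hπker : π.ker = D := by
    ext x
    rw [MonoidHom.mem_ker]
    change e (QuotientGroup.mk' D x) = 1 ↔ _
    rw [map_eq_one_iff e e.injective, QuotientGroup.mk'_apply, QuotientGroup.eq_one_iff]
  have hπsurj : Function.Surjective π := e.surjective.comp (QuotientGroup.mk'_surjective D)
  have hSC : h.S ≤ C := fun a ha => by
    rw [hC, mem_centralizer_singleton_iff]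
    exact (BasicA.z_comm h ha).symm
  have hQS := BasicA.Q_le_S h
  have hKC : K ≤ C := SignalizersComponents.CoreOfCentralizer.centralizerPPrimeCore_le 2 h.z
  have hQKC : h.Q ⊔ K ≤ C := sup_le (hQS.trans hSC) hKC
  have hinf : (h.Q ⊔ K) ⊓ h.S = h.Q := by
    apply le_antisymm
    · intro x hx
      exact mem_Q_of_mem_sup h hx.1 hx.2
    · exact le_inf le_sup_left hQS
  set W := (h.S.subgroupOf C).map π with hW
  have hcardW : Nat.card W = 4 := by
    rw [hW, ← relIndex_ker, hπker, hD, relIndex_subgroupOf hSC, ← inf_relIndex_right, hinf]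
    have h1 := relIndex_mul_relIndex (⊥ : Subgroup G) h.Q h.S bot_le hQS
    rw [relIndex_bot_left, relIndex_bot_left, BasicA.card_Q, BasicA.card_S] at h1
    omega
  have hcardA : Nat.card (alternatingGroup (Fin 5)) = 60 := by
    rw [nat_card_alternatingGroup, Nat.card_eq_fintype_card, Fintype.card_fin]
    rfl
  have hWp : IsPGroup 2 W := IsPGroup.of_card (n := 2) (by rw [hcardW]; norm_num)
  have hWi : ¬ 2 ∣ W.index := by
    have h1 := W.card_mul_index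
    rw [hcardW, hcardA] at h1
    omega
  let P : Sylow 2 (alternatingGroup (Fin 5)) := hWp.toSylow hWi
  have hPtop : (P : Subgroup (alternatingGroup (Fin 5))) ≠ ⊤ := by
    intro h1
    have h2 : Nat.card (P : Subgroup (alternatingGroup (Fin 5))) = 4 := hcardW
    rw [h1, card_top, hcardA] at h2
    omega
  have hsimple : IsSimpleGroup (alternatingGroup (Fin 5)) :=
    alternatingGroup.isSimpleGroup (by rw [Nat.card_eq_fintype_card, Fintype.card_fin])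
  obtain ⟨x, ⟨nx, hnx, hxn⟩, hxP, hx3⟩ := CentAux.exists_three_cycle P hcardW hPtop
  have hmemP : ∀ y, y ∈ P ↔ y ∈ W := fun y => Iff.rfl
  obtain ⟨g, hg⟩ := hπsurj x
  -- conjugate back into S
  set M := h.S ⊔ K with hM
  have hKn : ∀ a ∈ h.S, ∀ k ∈ K, a * k * a⁻¹ ∈ K := fun a ha k hk =>
    (mem_normalizer_iff.mp
      (SignalizersComponents.CoreOfCentralizer.centralizer_le_normalizer_centralizerPPrimeCore
        2 h.z (hSC ha)) k).mp hk
  have hgS : ∀ s ∈ h.S, (g : G) * s * (g : G)⁻¹ ∈ M := by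
    intro s hs
    have h1 : π (g * ⟨s, hSC hs⟩ * g⁻¹) ∈ W := by
      rw [map_mul, map_mul, map_inv, hg]
      exact hxP _ ⟨⟨s, hSC hs⟩, hs, rfl⟩
    obtain ⟨⟨s', hs'C⟩, hs', hs'e⟩ := h1
    have h2 : (⟨s', hs'C⟩ : C)⁻¹ * (g * ⟨s, hSC hs⟩ * g⁻¹) ∈ π.ker := by
      rw [MonoidHom.mem_ker, map_mul, map_inv, hs'e, inv_mul_cancel]
    rw [hπker, hD, mem_subgroupOf] at h2
    have h3 : (g : G) * s * (g : G)⁻¹ = s' * (s'⁻¹ * (g * s * (g : G)⁻¹)) := by group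
    rw [h3]
    refine M.mul_mem ((le_sup_left : h.S ≤ M) hs') ?_
    exact (sup_le_sup hQS le_rfl : h.Q ⊔ K ≤ M) h2
  have hSodd : Odd (h.S.relIndex M) := Setup.relIndex_odd h le_sup_left
  obtain ⟨c, hcM, hcS⟩ := exists_conj_le (h.S.map (MulAut.conj (g : G)).toMonoidHom) M h.S
    ((BasicA.S_isPGroup h).map _) (by
      rintro _ ⟨s, hs, rfl⟩
      exact hgS s hs) hSodd
  obtain ⟨s, hs, k, hk, rfl⟩ := CentAux.exists_mul_of_mem_sup hKn hcM
  have hgz : (g : G) * h.z = h.z * g := mem_centralizer_singleton_iff.mp g.2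
  have hkz : k * h.z = h.z * k := mem_centralizer_singleton_iff.mp (hKC hk)
  -- the element d0
  set d0 : C := ⟨k, hKC hk⟩ * g with hd0
  have hπd0 : π d0 = x := by
    have h1 : (⟨k, hKC hk⟩ : C) ∈ π.ker := by
      rw [hπker, hD, mem_subgroupOf]
      exact (le_sup_right : K ≤ h.Q ⊔ K) hk
    rw [hd0, map_mul, MonoidHom.mem_ker.mp h1, one_mul, hg]
  have hd0S : Nrm h.S (d0 : G) := by
    intro t ht
    have h1 : s * k * (g * t * (g : G)⁻¹) * (s * k)⁻¹ ∈ h.S := hcS _ ⟨t, ht, rfl⟩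
    have h2 : (d0 : G) * t * (d0 : G)⁻¹ = s⁻¹ * (s * k * (g * t * (g : G)⁻¹) * (s * k)⁻¹) * s := by
      rw [hd0]
      simp only [coe_mul]
      group
    rw [h2]
    exact h.S.mul_mem (h.S.mul_mem (h.S.inv_mem hs) h1) hs
  -- adjust by tau
  obtain ⟨d, hπd, hdS, hdE⟩ : ∃ d : C, π d = x ∧ Nrm h.S (d : G) ∧ Nrm h.E1 (d : G) := by
    rcases E1_of_nrm_S h hd0S with h1 | h1
    · exact ⟨d0, hπd0, hd0S, h1⟩
    · have htS := BasicA.tau_mem_S h
      have htker : π ⟨h.tau, hSC htS⟩ = 1 := by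
        rw [← MonoidHom.mem_ker, hπker, hD, mem_subgroupOf]
        exact (le_sup_left : h.Q ≤ h.Q ⊔ K) (BasicA.tau_mem_Q h)
      refine ⟨⟨h.tau, hSC htS⟩ * d0, by rw [map_mul, htker, one_mul, hπd0], ?_, ?_⟩
      · exact Nrm.mul (Nrm.of_mem htS) hd0S
      · intro y hy
        have h2 : ((⟨h.tau, hSC htS⟩ * d0 : C) : G) * y * ((⟨h.tau, hSC htS⟩ * d0 : C) : G)⁻¹ =
            h.tau * ((d0 : G) * y * (d0 : G)⁻¹) * h.tau⁻¹ := by
          simp only [coe_mul]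
          group
        rw [h2]
        exact BasicA.tau_E2 h (h1 y hy)
  obtain ⟨d, hdodd, hπd, hdS, hdE⟩ : ∃ d : C, (∃ n : ℕ, Odd n ∧ d ^ n = 1) ∧ π d = x ∧
      Nrm h.S (d : G) ∧ Nrm h.E1 (d : G) := by
    obtain ⟨j, n, m, hn, hdn, -, -, i, hi, hij⟩ := CentAux.exists_odd_part d
    refine ⟨d ^ j, ⟨n, hn, hdn⟩, ?_, ?_, ?_⟩
    · rw [← hij, map_mul, hπd, map_pow, hπd]
      have h1 : (x ^ i) ^ 2 ^ m = 1 := by rw [← hπd, ← map_pow, ← map_pow, hi, map_one]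
      have h2 : (x ^ i) ^ nx = 1 := by rw [← pow_mul, mul_comm, pow_mul, hxn, one_pow]
      have h3 : orderOf (x ^ i) ∣ 1 := by
        have h4 : Nat.Coprime (2 ^ m) nx := Nat.Coprime.pow_left m (Nat.coprime_two_left.mpr hnx)
        rw [← Nat.Coprime.gcd_eq_one h4]
        exact Nat.dvd_gcd (orderOf_dvd_of_pow_eq_one h1) (orderOf_dvd_of_pow_eq_one h2)
      rw [Nat.dvd_one, orderOf_eq_one_iff] at h3
      rw [h3, mul_one]
    · rw [coe_pow]
      exact hdS.pow j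
    · rw [coe_pow]
      exact hdE.pow j
  have hkerS : ∀ y (hy : y ∈ h.S), π ⟨y, hSC hy⟩ = 1 ↔ y ∈ h.Q := by
    intro y hy
    rw [← MonoidHom.mem_ker, hπker, hD, mem_subgroupOf]
    constructor
    · intro h1
      exact mem_Q_of_mem_sup h h1 hy
    · intro h1
      exact (le_sup_left : h.Q ≤ h.Q ⊔ K) h1
  refine ⟨d, ?_, mem_centralizer_singleton_iff.mp d.2, hdS, hdE, ?_, ?_⟩
  · obtain ⟨n, hn, hdn⟩ := hdodd
    exact ⟨n, hn, by rw [← coe_pow, hdn, coe_one]⟩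
  · intro u hu
    have huS := BasicA.U_le_S h hu
    refine BasicA.mem_U_of_Q h (hdE u (BasicA.U_le_E1 h hu)) ?_
    rw [← hkerS _ (hdS u huS)]
    have h1 : (⟨(d : G) * u * (d : G)⁻¹, hSC (hdS u huS)⟩ : C) = d * ⟨u, hSC huS⟩ * d⁻¹ := rfl
    rw [h1, map_mul, map_mul, (hkerS u huS).mpr (BasicA.U_le_Q h hu), mul_one, ← map_mul,
      mul_inv_cancel, map_one]
  · intro y hy hyU w hw hwU
    have hyS := BasicA.E1_le_S h hy
    have hwS := BasicA.E1_le_S h hw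
    have hy1 : π ⟨y, hSC hyS⟩ ≠ 1 := fun h1 => hyU
      (BasicA.mem_U_of_Q h hy ((hkerS y hyS).mp h1))
    have hw1 : π ⟨w, hSC hwS⟩ ≠ 1 := fun h1 => hwU
      (BasicA.mem_U_of_Q h hw ((hkerS w hwS).mp h1))
    obtain ⟨i, hi⟩ := hx3 _ ((hmemP _).mpr ⟨⟨y, hSC hyS⟩, hyS, rfl⟩) hy1 _
      ((hmemP _).mpr ⟨⟨w, hSC hwS⟩, hwS, rfl⟩) hw1
    refine ⟨i, ?_⟩
    have hE : (d : G) ^ i * y * ((d : G) ^ i)⁻¹ ∈ h.E1 := hdE.pow i y hy
    have hE' : (d : G) ^ i * y * ((d : G) ^ i)⁻¹ * w⁻¹ ∈ h.E1 :=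
      h.E1.mul_mem hE (h.E1.inv_mem hw)
    refine BasicA.mem_U_of_Q h hE' ?_
    rw [← hkerS _ (BasicA.E1_le_S h hE')]
    have h1 : (⟨(d : G) ^ i * y * ((d : G) ^ i)⁻¹ * w⁻¹, hSC (BasicA.E1_le_S h hE')⟩ : C) =
        d ^ i * ⟨y, hSC hyS⟩ * (d ^ i)⁻¹ * (⟨w, hSC hwS⟩ : C)⁻¹ := rfl
    rw [h1, map_mul, map_mul, map_mul, map_inv, map_inv, map_pow, hπd, hi, mul_inv_cancel]

/-- `N(E1) ∩ N(U) ∩ C(z)` is transitive on `E1 - U`. -/
theorem trans_E1 [Finite G]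
    (hn : ((h.Q ⊔ Cfsg.centralizerPPrimeCore 2 h.z).subgroupOf
      (centralizer ({h.z} : Set G))).Normal)
    (hq : Nonempty (↥(centralizer ({h.z} : Set G)) ⧸
      ((h.Q ⊔ Cfsg.centralizerPPrimeCore 2 h.z).subgroupOf (centralizer ({h.z} : Set G))) ≃*
      alternatingGroup (Fin 5)))
    {x y : G} (hx : x ∈ h.E1) (hxU : x ∉ h.U) (hy : y ∈ h.E1) (hyU : y ∉ h.U) :
    ∃ k : G, k * h.z = h.z * k ∧ Nrm h.E1 k ∧ Nrm h.U k ∧ k * x * k⁻¹ = y := by
  obtain ⟨d, -, hdz, hdS, hdE, hdU, hd⟩ := exists_d h hn hq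
  obtain ⟨i, hi⟩ := hd x hx hxU y hy hyU
  have hdi : (d ^ i) * h.z = h.z * d ^ i := (Commute.pow_left (show Commute d h.z from hdz) i).eq
  have hxi := hdE.pow i x hx
  have hxiU : d ^ i * x * (d ^ i)⁻¹ ∉ h.U := by
    intro h1
    apply hyU
    have : y = (d ^ i * x * (d ^ i)⁻¹ * y⁻¹)⁻¹ * (d ^ i * x * (d ^ i)⁻¹) := by group
    rw [this]
    exact h.U.mul_mem (h.U.inv_mem hi) h1
  obtain ⟨r, hr, hrx⟩ := BasicA.R_trans h hxi hy hxiU hi
  refine ⟨r * d ^ i, ?_, ?_, ?_, ?_⟩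
  · have h1 := BasicA.z_comm h (BasicA.R_le_S h hr)
    rw [mul_assoc, hdi, ← mul_assoc, ← h1, mul_assoc]
  · exact Nrm.mul (fun e he => BasicA.E1_conj h he hr) (hdE.pow i)
  · exact Nrm.mul (fun e he => BasicA.S_conj_U h he (BasicA.R_le_S h hr)) (hdU.pow i)
  · rw [← hrx]
    group

end Cfsg.Agent.J2Sylow.E1Fusion
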