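import Mathlib
import Cfsg.Agent.J2Sylow.E1Fusion

set_option autoImplicit false

/-! The J2-type case: `E1 - U` contains no conjugate of `z`.  `E1` is a Sylow 2-subgroup of `C(a)`,
`a ∈ E1 - U`, and `N(E1) ∩ C(a)` acts on `E1` as a group of order 3 with fixed points `Va h a`. -/

namespace Cfsg.Agent.J2Sylow.E1J2

open Subgroup Model E1Fusion

variable {G : Type*} [Group G] (h : Setup G)

/-- the J2-type hypothesis -/
def J2 : Prop := ∀ x ∈ h.E1, x ∉ h.U → ¬ IsConj h.z x

theorem conj_v (hf : Fused h) : IsConj h.z h.v := by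
  obtain ⟨g, -, hg⟩ := hf.f1
  exact (isConj_iff.mpr ⟨g, hg⟩ : IsConj h.v h.z).symm

theorem conj_tau (hf : Fused h) : IsConj h.z h.tau := by
  obtain ⟨g, -, -, hg⟩ := hf.f2
  exact (conj_v h hf).trans (isConj_iff.mpr ⟨g, hg⟩ : IsConj h.tau h.v).symm

theorem conj_U (hf : Fused h) {x : G} (hx : x ∈ h.U) (hx1 : x ≠ 1) : IsConj h.z x := by
  rcases BasicA.U_cases h hx with rfl | rfl | rfl | rfl
  · exact absurd rfl hx1
  · exact IsConj.refl _
  · exact conj_v h hf
  · exact (conj_v h hf).trans (isConj_iff.mpr ⟨h.tau, BasicA.tau_conj_v h⟩)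

theorem card_centralizer_conj [Finite G] {a k : G} :
    Nat.card (centralizer ({k * a * k⁻¹} : Set G)) = Nat.card (centralizer ({a} : Set G)) := by
  have hmap : (centralizer ({a} : Set G)).map (MulAut.conj k).toMonoidHom =
      centralizer ({k * a * k⁻¹} : Set G) := by
    ext w
    simp only [mem_map, MulEquiv.coe_toMonoidHom, MulAut.conj_apply,
      mem_centralizer_singleton_iff]
    constructor
    · rintro ⟨s, hs, rfl⟩
      calc (k * s * k⁻¹) * (k * a * k⁻¹) = k * (s * a) * k⁻¹ := by group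
        _ = k * (a * s) * k⁻¹ := by rw [hs]
        _ = _ := by group
    · intro hw
      refine ⟨k⁻¹ * w * k, ?_, by group⟩
      calc k⁻¹ * w * k * a = k⁻¹ * (w * (k * a * k⁻¹)) * k := by group
        _ = k⁻¹ * ((k * a * k⁻¹) * w) * k := by rw [hw]
        _ = _ := by group
  rw [← hmap]
  exact (Nat.card_congr ((centralizer ({a} : Set G)).equivMapOfInjective _
    (MulAut.conj k).injective).toEquiv).symm

theorem E1_le_centralizer {a : G} (ha : a ∈ h.E1) : h.E1 ≤ centralizer ({a} : Set G) := by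
  intro x hx
  rw [mem_centralizer_singleton_iff]
  exact BasicA.E1_comm h hx ha

theorem inf_centralizer_E1 {y : G} (hy : y ∈ h.E1) (hyU : y ∉ h.U) :
    h.S ⊓ centralizer ({y} : Set G) = h.E1 := by
  apply le_antisymm
  · intro x hx
    exact BasicA.comm_E1 h hy hyU hx.1 (mem_centralizer_singleton_iff.mp hx.2).symm
  · exact le_inf (BasicA.E1_le_S h) (E1_le_centralizer h hy)

theorem inf_centralizer_E2 {y : G} (hy : y ∈ h.E2) (hyU : y ∉ h.U) :
    h.S ⊓ centralizer ({y} : Set G) = h.E2 := by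
  apply le_antisymm
  · intro x hx
    exact BasicA.comm_E2 h hy hyU hx.1 (mem_centralizer_singleton_iff.mp hx.2).symm
  · refine le_inf (BasicA.E2_le_S h) ?_
    intro x hx
    rw [mem_centralizer_singleton_iff]
    exact BasicA.E2_comm h hx hy

/-- `E1` is a Sylow 2-subgroup of `C(a)`. -/
theorem odd_relIndex [Finite G] (hf : Fused h) (hJ : J2 h) {a : G} (ha : a ∈ h.E1)
    (haU : a ∉ h.U) : Odd (h.E1.relIndex (centralizer ({a} : Set G))) := by
  obtain ⟨k, hkS, -, hodd⟩ := exists_extremal h.S (BasicA.S_isPGroup h) h.odd_index a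
    (BasicA.E1_le_S h ha)
  set y := k * a * k⁻¹ with hy
  have ha1 : a ≠ 1 := fun e => haU (e ▸ h.U.one_mem)
  have hy1 : y ≠ 1 := fun e => ha1 (by
    have : a = k⁻¹ * y * k := by rw [hy]; group
    rw [this, e]; group)
  have hyy : y * y = 1 := by
    have : y * y = k * (a * a) * k⁻¹ := by rw [hy]; group
    rw [this, BasicA.E1_sq h ha]; group
  have hay : IsConj a y := isConj_iff.mpr ⟨k, rfl⟩
  have hcard : Nat.card (h.S ⊓ centralizer ({y} : Set G) : Subgroup G) = 16 := by
    rcases BasicA.invol_cases h hkS hyy hy1 with h1 | h1 | h1 | ⟨g, -, h1⟩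
    · exact absurd ((conj_U h hf h1 hy1).trans hay.symm) (hJ a ha haU)
    · rw [inf_centralizer_E1 h h1.1 h1.2, BasicA.card_E1]
    · rw [inf_centralizer_E2 h h1.1 h1.2, BasicA.card_E2]
    · exact absurd ((conj_tau h hf).trans ((isConj_iff.mpr ⟨g, h1⟩ : IsConj y h.tau).symm.trans
        hay.symm)) (hJ a ha haU)
  have h1 := relIndex_mul_relIndex (⊥ : Subgroup G) (h.S ⊓ centralizer ({y} : Set G))
    (centralizer ({y} : Set G)) bot_le inf_le_right
  have h2 := relIndex_mul_relIndex (⊥ : Subgroup G) h.E1 (centralizer ({a} : Set G)) bot_le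
    (E1_le_centralizer h ha)
  rw [relIndex_bot_left, relIndex_bot_left, hcard] at h1
  rw [relIndex_bot_left, relIndex_bot_left, BasicA.card_E1] at h2
  have h3 : Nat.card (centralizer ({y} : Set G)) = Nat.card (centralizer ({a} : Set G)) :=
    card_centralizer_conj
  rw [← h1, ← h2] at h3
  have h4 := Nat.eq_of_mul_eq_mul_left (by norm_num) h3
  rw [← h4]
  exact hodd

/-- the elements normalising `E1` and centralising `a`. -/
structure Na (a n : G) : Prop where
  comm : n * a = a * n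
  nrm : Nrm h.E1 n

variable {h}

theorem Na.mul {a m n : G} (hm : Na h a m) (hn : Na h a n) : Na h a (m * n) :=
  ⟨by rw [mul_assoc, hn.comm, ← mul_assoc, hm.comm, mul_assoc], hm.nrm.mul hn.nrm⟩

theorem Na.pow {a n : G} (hn : Na h a n) (k : ℕ) : Na h a (n ^ k) :=
  ⟨(Commute.pow_left (show Commute n a from hn.comm) k).eq, hn.nrm.pow k⟩

theorem Na.odd_pow [Finite G] (hf : Fused h) (hJ : J2 h) {a n : G} (ha : a ∈ h.E1)
    (haU : a ∉ h.U) (hn : Na h a n) : ∃ k : ℕ, Odd k ∧ ∀ x ∈ h.E1, n ^ k * x * (n ^ k)⁻¹ = x := by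
  obtain ⟨k, hk, hkE⟩ := CentAux.exists_odd_pow_mem h.E1 (centralizer ({a} : Set G))
    (BasicA.isPGroup_of_le h (BasicA.E1_le_S h)) (E1_le_centralizer h ha)
    (odd_relIndex h hf hJ ha haU) (mem_centralizer_singleton_iff.mpr hn.comm) hn.nrm
  exact ⟨k, hk, fun x hx => by rw [BasicA.E1_comm h hkE hx, mul_inv_cancel_right]⟩

/-- elements normalising `E1` normalise `U`. -/
theorem nrm_U (hf : Fused h) (hJ : J2 h) {n : G} (hn : Nrm h.E1 n) : Nrm h.U n := by
  intro u hu
  by_contra hcon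
  have hu1 : u ≠ 1 := by
    rintro rfl
    apply hcon
    rw [mul_one, mul_inv_cancel]
    exact h.U.one_mem
  exact hJ _ (hn u (BasicA.U_le_E1 h hu)) hcon
    ((conj_U h hf hu hu1).trans (isConj_iff.mpr ⟨n, rfl⟩))

theorem mem_U_of_conj [Finite G] (hf : Fused h) (hJ : J2 h) {n x : G} (hn : Nrm h.E1 n)
    (hx : n * x * n⁻¹ ∈ h.U) : x ∈ h.U := by
  have h1 := (nrm_U hf hJ hn.inv) _ hx
  have h2 : n⁻¹ * (n * x * n⁻¹) * n⁻¹⁻¹ = x := by group
  rwa [h2] at h1

theorem pow_conj_succ (n x : G) (k : ℕ) :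
    n ^ (k + 1) * x * (n ^ (k + 1))⁻¹ = n * (n ^ k * x * (n ^ k)⁻¹) * n⁻¹ := by
  rw [pow_succ']
  group

/-- elements of `N(E1) ∩ C(a)` act trivially on `E1/U`. -/
theorem Na.triv [Finite G] (hf : Fused h) (hJ : J2 h) {a n : G} (ha : a ∈ h.E1)
    (haU : a ∉ h.U) (hn : Na h a n) {x : G} (hx : x ∈ h.E1) : n * x * n⁻¹ * x⁻¹ ∈ h.U := by
  have hnU := nrm_U hf hJ hn.nrm
  have hna : n * a * n⁻¹ = a := by rw [hn.comm, mul_inv_cancel_right]
  have inv_eq : ∀ y ∈ h.E1, y⁻¹ = y := fun y hy => inv_eq_of_mul_eq_one_left (BasicA.E1_sq h hy)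
  by_cases hxU : x ∈ h.U
  · exact h.U.mul_mem (hnU x hxU) (h.U.inv_mem hxU)
  by_cases haxU : a * x ∈ h.U
  · have h1 := hnU _ haxU
    have h2 : n * (a * x) * n⁻¹ = a * (n * x * n⁻¹) := by
      have : n * (a * x) * n⁻¹ = (n * a * n⁻¹) * (n * x * n⁻¹) := by group
      rw [this, hna]
    rw [h2] at h1
    have hnx := hn.nrm x hx
    have h3 : n * x * n⁻¹ * x⁻¹ = (a * (n * x * n⁻¹)) * (a * x) := by
      have e1 : a * (n * x * n⁻¹) * (a * x) = (a * a) * (n * x * n⁻¹) * x := by
        rw [BasicA.E1_comm h ha hnx, mul_assoc, ← mul_assoc a a x, BasicA.E1_sq h ha, one_mul,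
          one_mul]
      rw [e1, BasicA.E1_sq h ha, one_mul, inv_eq x hx]
    rw [h3]
    exact h.U.mul_mem h1 haxU
  · have hnx := hn.nrm x hx
    obtain ⟨s, hs, hse⟩ := ha
    obtain ⟨t, ht, hte⟩ := hx
    obtain ⟨r, hr, hre⟩ := hnx
    have ha : a ∈ h.E1 := ⟨s, hs, hse⟩
    have hx : x ∈ h.E1 := ⟨t, ht, hte⟩
    have hcos : n * x * n⁻¹ ∈ h.U ∨ a * (n * x * n⁻¹) ∈ h.U ∨ x * (n * x * n⁻¹) ∈ h.U ∨
        a * x * (n * x * n⁻¹) ∈ h.U := by
      rw [← hse, ← hte] at haxU
      rw [← hse] at haU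
      rw [← hte] at hxU
      rw [← map_mul] at haxU
      have := ModelA.cosets s t r hs ht hr (fun e => haU ((BasicA.mem_map_iff h).mpr e))
        (fun e => hxU ((BasicA.mem_map_iff h).mpr e))
        (fun e => haxU ((BasicA.mem_map_iff h).mpr e))
      rw [← hre, ← hse, ← map_mul]
      refine this.imp (BasicA.mem_map_iff h).mpr (Or.imp (BasicA.mem_map_iff h).mpr
        (Or.imp (fun e => ?_) (fun e => ?_)))
      · rw [← hte, ← map_mul]
        exact (BasicA.mem_map_iff h).mpr e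
      · rw [← hte, ← map_mul, ← map_mul]
        exact (BasicA.mem_map_iff h).mpr e
    have hnx := hn.nrm x hx
    rcases hcos with h1 | h1 | h1 | h1
    · exact absurd (mem_U_of_conj hf hJ hn.nrm h1) hxU
    · exfalso
      apply haxU
      apply mem_U_of_conj hf hJ hn.nrm
      have : n * (a * x) * n⁻¹ = (n * a * n⁻¹) * (n * x * n⁻¹) := by group
      rw [this, hna]
      exact h1
    · rw [inv_eq x hx, BasicA.E1_comm h hnx hx]
      exact h1
    · exfalso
      -- n swaps the cosets of x and ax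
      have key : ∀ k : ℕ, a ^ k * x * (n ^ k * x * (n ^ k)⁻¹) ∈ h.U := by
        intro k
        induction k with
        | zero =>
          rw [pow_zero, pow_zero, one_mul, inv_one, mul_one, BasicA.E1_sq h hx]
          exact h.U.one_mem
        | succ k ih =>
          rw [pow_conj_succ]
          have h2 := hnU _ ih
          have hkx := hn.nrm.pow k x hx
          have hak : a ^ k ∈ h.E1 := h.E1.pow_mem ha k
          have hnk := hn.nrm _ hkx
          have h3 : n * (a ^ k * x * (n ^ k * x * (n ^ k)⁻¹)) * n⁻¹ =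
              a ^ k * (n * x * n⁻¹) * (n * (n ^ k * x * (n ^ k)⁻¹) * n⁻¹) := by
            have e1 : n * (a ^ k * x * (n ^ k * x * (n ^ k)⁻¹)) * n⁻¹ =
              (n * a ^ k * n⁻¹) * (n * x * n⁻¹) * (n * (n ^ k * x * (n ^ k)⁻¹) * n⁻¹) := by group
            have e2 : n * a ^ k * n⁻¹ = a ^ k := by
              rw [(Commute.pow_right (show Commute n a from hn.comm) k).eq, mul_inv_cancel_right]
            rw [e1, e2]
          rw [h3] at h2
          have h4 := h.U.mul_mem h1 h2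
          have h5 : a * x * (n * x * n⁻¹) * (a ^ k * (n * x * n⁻¹) *
              (n * (n ^ k * x * (n ^ k)⁻¹) * n⁻¹)) =
              a ^ (k + 1) * x * (n * (n ^ k * x * (n ^ k)⁻¹) * n⁻¹) := by
            set p := n * x * n⁻¹ with hp
            set q := n * (n ^ k * x * (n ^ k)⁻¹) * n⁻¹ with hq
            have e1 : a * x * p * (a ^ k * p * q) = a * (x * p * a ^ k * p) * q := by group
            have e2 : x * p * a ^ k * p = a ^ k * x := by
              rw [mul_assoc (x * p), BasicA.E1_comm h hak hnx, ← mul_assoc, mul_assoc x p p,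
                BasicA.E1_sq h hnx, mul_one, BasicA.E1_comm h hx hak]
            rw [e1, e2, pow_succ']
            group
          rw [h5] at h4
          exact h4
      obtain ⟨k, hk, hkx⟩ := hn.odd_pow hf hJ ha haU
      have h2 := key k
      rw [hkx x hx, mul_assoc, BasicA.E1_sq h hx, mul_one] at h2
      apply haU
      obtain ⟨j, rfl⟩ := hk
      rw [pow_succ, pow_mul, pow_two, BasicA.E1_sq h ha, one_pow, one_mul] at h2
      exact h2

theorem vz_comm : h.v * h.z = h.z * h.v := (BasicA.z_comm h (BasicA.U_le_S h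
  (BasicA.v_mem_U h))).symm

theorem vz_ne_one : h.v * h.z ≠ 1 := by
  intro e
  apply BasicA.v_ne_z h
  have h1 := eq_inv_of_mul_eq_one_left e
  rw [h1]
  exact inv_eq_of_mul_eq_one_left (BasicA.z_sq h)

/-- elements of `N(E1) ∩ C(a)` centralising `z` centralise `E1`. -/
theorem Na.cent [Finite G] (hf : Fused h) (hJ : J2 h) {a n : G} (ha : a ∈ h.E1)
    (haU : a ∉ h.U) (hn : Na h a n) (hnz : n * h.z * n⁻¹ = h.z) {x : G} (hx : x ∈ h.E1) :
    n * x * n⁻¹ = x := by
  have hnU := nrm_U hf hJ hn.nrm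
  obtain ⟨k, hk, hkE⟩ := hn.odd_pow hf hJ ha haU
  have hvE : h.v ∈ h.E1 := BasicA.U_le_E1 h (BasicA.v_mem_U h)
  have hv : n * h.v * n⁻¹ = h.v := by
    rcases BasicA.U_cases h (hnU _ (BasicA.v_mem_U h)) with e | e | e | e
    · exfalso
      apply BasicA.v_ne h
      have : h.v = n⁻¹ * (n * h.v * n⁻¹) * n := by group
      rw [this, e]; group
    · exfalso
      apply BasicA.v_ne_z h
      rw [← hnz] at e
      simpa using e
    · exact e
    · exfalso
      have key : ∀ j : ℕ, n ^ j * h.v * (n ^ j)⁻¹ = h.v * h.z ^ j := by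
        intro j
        induction j with
        | zero => simp
        | succ j ih =>
          rw [pow_conj_succ, ih]
          have : n * (h.v * h.z ^ j) * n⁻¹ = (n * h.v * n⁻¹) * (n * h.z * n⁻¹) ^ j := by
            rw [conj_pow]; group
          rw [this, e, hnz, pow_succ', mul_assoc]
      have h1 := key k
      rw [hkE _ hvE] at h1
      obtain ⟨j, rfl⟩ := hk
      rw [pow_succ, pow_mul, pow_two, BasicA.z_sq h, one_pow, one_mul] at h1
      exact BasicA.z_ne h (left_eq_mul.mp h1)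
  have hU : ∀ u ∈ h.U, n * u * n⁻¹ = u := by
    intro u hu
    rcases BasicA.U_cases h hu with rfl | rfl | rfl | rfl
    · group
    · exact hnz
    · exact hv
    · have : n * (h.v * h.z) * n⁻¹ = (n * h.v * n⁻¹) * (n * h.z * n⁻¹) := by group
      rw [this, hv, hnz]
  -- x ↦ x u
  set u := n * x * n⁻¹ * x⁻¹ with hu
  have huU : u ∈ h.U := hn.triv hf hJ ha haU hx
  have hnx : n * x * n⁻¹ = u * x := by rw [hu]; group
  have key : ∀ j : ℕ, n ^ j * x * (n ^ j)⁻¹ = u ^ j * x := by
    intro j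
    induction j with
    | zero => simp
    | succ j ih =>
      rw [pow_conj_succ, ih]
      have e1 : n * (u ^ j * x) * n⁻¹ = (n * u ^ j * n⁻¹) * (n * x * n⁻¹) := by group
      rw [e1, hU _ (h.U.pow_mem huU j), hnx, pow_succ]
      group
  have h1 := key k
  rw [hkE _ hx] at h1
  have h2 : u ^ k = 1 := (right_eq_mul.mp h1)
  obtain ⟨j, rfl⟩ := hk
  rw [pow_succ, pow_mul, pow_two, BasicA.E1_sq h (BasicA.U_le_E1 h huU), one_pow, one_mul] at h2
  rw [hnx, h2, one_mul]

end Cfsg.Agent.J2Sylow.E1J2
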