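import Mathlib
import Cfsg.Agent.J2Sylow.E1J2
import Cfsg.Agent.Lib.ProductSet

set_option autoImplicit false
open scoped Pointwise

/-! The subgroup `Va h a = E1 ∩ Z*(C(a))`. -/

namespace Cfsg.Agent.J2Sylow.VaSub

open Subgroup Model E1Fusion E1J2

variable {G : Type*} [Group G] {h : Setup G}

/-- the CentZ facts -/
structure CZ0 (h : Setup G) : Prop where
  normal : ((h.Q ⊔ Cfsg.centralizerPPrimeCore 2 h.z).subgroupOf
      (centralizer ({h.z} : Set G))).Normal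
  quot : Nonempty (↥(centralizer ({h.z} : Set G)) ⧸
      ((h.Q ⊔ Cfsg.centralizerPPrimeCore 2 h.z).subgroupOf (centralizer ({h.z} : Set G))) ≃*
      alternatingGroup (Fin 5))

/-- an element of `N(E1) ∩ C(a)` moving `v` to `z`. -/
theorem exists_c0 [Finite G] (hf : Fused h) (hc : CZ0 h) {a : G} (ha : a ∈ h.E1)
    (haU : a ∉ h.U) : ∃ c, Na h a c ∧ c * h.v * c⁻¹ = h.z := by
  obtain ⟨g, hgE, hgU, -, hgv⟩ := exists_g1 h hf
  have hga := hgE a ha
  have hgaU : g * a * g⁻¹ ∉ h.U := by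
    intro h1
    apply haU
    have h2 := hgU.surj h1
    have h3 : g⁻¹ * (g * a * g⁻¹) * g = a := by group
    rwa [h3] at h2
  obtain ⟨k, hkz, hkE, -, hka⟩ := trans_E1 h hc.normal hc.quot hga hgaU ha haU
  refine ⟨k * g, ⟨?_, hkE.mul hgE⟩, ?_⟩
  · have h1 : k * g * a * (k * g)⁻¹ = a := by
      rw [← hka]
      have : k * g * (k * (g * a * g⁻¹) * k⁻¹) * (k * g)⁻¹ =
        k * g * (k * (g * a * g⁻¹) * k⁻¹) * (k * g)⁻¹ := rfl
      rw [hka]
      have : k * g * a * (k * g)⁻¹ = k * (g * a * g⁻¹) * k⁻¹ := by group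
      rw [this, hka]
    rwa [mul_inv_eq_iff_eq_mul] at h1
  · have : k * g * h.v * (k * g)⁻¹ = k * (g * h.v * g⁻¹) * k⁻¹ := by group
    rw [this, hgv, hkz, mul_inv_cancel_right]

/-- `c` acts on `U` as the multiplication by `w`. -/
structure Rot (h : Setup G) (a c : G) : Prop where
  na : Na h a c
  z : c * h.z * c⁻¹ = h.v
  v : c * h.v * c⁻¹ = h.v * h.z

theorem conj_eq_imp {n x y : G} (hxy : n * x * n⁻¹ = n * y * n⁻¹) : x = y := by
  simpa using hxy

theorem exists_rot [Finite G] (hf : Fused h) (hJ : J2 h) (hc : CZ0 h) {a : G} (ha : a ∈ h.E1)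
    (haU : a ∉ h.U) : ∃ c, Rot h a c := by
  obtain ⟨c, hca, hcv⟩ := exists_c0 hf hc ha haU
  have hcU := nrm_U hf hJ hca.nrm
  obtain ⟨k, hk, hkE⟩ := hca.odd_pow hf hJ ha haU
  have hzU := BasicA.z_mem_U h
  have hvU := BasicA.v_mem_U h
  have hvE : h.v ∈ h.E1 := BasicA.U_le_E1 h hvU
  have hcz : c * h.z * c⁻¹ = h.v * h.z := by
    rcases BasicA.U_cases h (hcU _ hzU) with e | e | e | e
    · exfalso
      apply BasicA.z_ne h
      have : h.z = c⁻¹ * (c * h.z * c⁻¹) * c := by group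
      rw [this, e]; group
    · exfalso
      apply BasicA.v_ne_z h
      exact conj_eq_imp (hcv.trans e.symm)
    · exfalso
      -- c swaps z and v
      have key : ∀ j : ℕ, c ^ (2 * j) * h.v * (c ^ (2 * j))⁻¹ = h.v := by
        intro j
        induction j with
        | zero => simp
        | succ j ih =>
          rw [mul_add, mul_one, show 2 * j + 2 = (2 * j + 1) + 1 from rfl, pow_conj_succ,
            pow_conj_succ, ih, hcv, e]
      obtain ⟨j, rfl⟩ := hk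
      have h1 := hkE _ hvE
      rw [pow_conj_succ, key, hcv] at h1
      exact BasicA.v_ne_z h h1.symm
    · exact e
  refine ⟨c * c, hca.mul hca, ?_, ?_⟩
  · have h1 : c * c * h.z * (c * c)⁻¹ = c * (c * h.z * c⁻¹) * c⁻¹ := by group
    rw [h1, hcz]
    have h2 : c * (h.v * h.z) * c⁻¹ = (c * h.v * c⁻¹) * (c * h.z * c⁻¹) := by group
    rw [h2, hcv, hcz, vz_comm (h := h), ← mul_assoc, BasicA.z_sq h, one_mul]
  · have h1 : c * c * h.v * (c * c)⁻¹ = c * (c * h.v * c⁻¹) * c⁻¹ := by group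
    rw [h1, hcv, hcz]

variable {a c : G}

theorem Rot.vz (hr : Rot h a c) : c * (h.v * h.z) * c⁻¹ = h.z := by
  have h2 : c * (h.v * h.z) * c⁻¹ = (c * h.v * c⁻¹) * (c * h.z * c⁻¹) := by group
  rw [h2, hr.v, hr.z, vz_comm (h := h), mul_assoc, BasicA.v_sq h, mul_one]

/-- every element of `N(E1) ∩ C(a)` centralises what `c` centralises in `E1`. -/
theorem Rot.commute [Finite G] (hf : Fused h) (hJ : J2 h) (ha : a ∈ h.E1)
    (haU : a ∉ h.U) (hr : Rot h a c) {x : G} (hx : x ∈ h.E1) (hcx : c * x = x * c) {n : G}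
    (hn : Na h a n) : n * x = x * n := by
  have hcx' : c * x * c⁻¹ = x := by rw [hcx, mul_inv_cancel_right]
  have hcx2 : c⁻¹ * x * c = x := by rw [mul_assoc, ← hcx]; group
  suffices h1 : n * x * n⁻¹ = x by rwa [mul_inv_eq_iff_eq_mul] at h1
  rcases BasicA.U_cases h ((nrm_U hf hJ hn.nrm) _ (BasicA.z_mem_U h)) with e | e | e | e
  · exfalso
    apply BasicA.z_ne h
    have : h.z = n⁻¹ * (n * h.z * n⁻¹) * n := by group
    rw [this, e]; group
  · exact hn.cent hf hJ ha haU e hx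
  · -- c^2 n fixes z
    have h1 : Na h a (c * (c * n)) := hr.na.mul (hr.na.mul hn)
    have h2 : c * (c * n) * h.z * (c * (c * n))⁻¹ = h.z := by
      have : c * (c * n) * h.z * (c * (c * n))⁻¹ = c * (c * (n * h.z * n⁻¹) * c⁻¹) * c⁻¹ := by
        group
      rw [this, e, hr.v, hr.vz]
    have h3 := h1.cent hf hJ ha haU h2 hx
    have h4 : n * x * n⁻¹ = c⁻¹ * (c⁻¹ * (c * (c * n) * x * (c * (c * n))⁻¹) * c) * c := by group
    rw [h4, h3, hcx2, hcx2]
  · have h1 : Na h a (c * n) := hr.na.mul hn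
    have h2 : c * n * h.z * (c * n)⁻¹ = h.z := by
      have : c * n * h.z * (c * n)⁻¹ = c * (n * h.z * n⁻¹) * c⁻¹ := by group
      rw [this, e, hr.vz]
    have h3 := h1.cent hf hJ ha haU h2 hx
    have h4 : n * x * n⁻¹ = c⁻¹ * (c * n * x * (c * n)⁻¹) * c := by group
    rw [h4, h3, hcx2]

variable (h) in
/-- the fixed points of `N(E1) ∩ C(a)` in `E1` -/
def Va (a : G) : Subgroup G := h.E1 ⊓ centralizer {n | Na h a n}

theorem Va_le : Va h a ≤ h.E1 := inf_le_left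

theorem mem_Va {x : G} : x ∈ Va h a ↔ x ∈ h.E1 ∧ ∀ n, Na h a n → n * x = x * n := by
  rw [Va, mem_inf, mem_centralizer_iff]
  rfl

theorem Rot.mem_Va_iff [Finite G] (hf : Fused h) (hJ : J2 h) (ha : a ∈ h.E1)
    (haU : a ∉ h.U) (hr : Rot h a c) {x : G} : x ∈ Va h a ↔ x ∈ h.E1 ∧ c * x = x * c := by
  rw [mem_Va]
  constructor
  · rintro ⟨h1, h2⟩
    exact ⟨h1, h2 c hr.na⟩
  · rintro ⟨h1, h2⟩
    exact ⟨h1, fun n hn => hr.commute hf hJ ha haU h1 h2 hn⟩

theorem a_mem_Va (ha : a ∈ h.E1) : a ∈ Va h a := by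
  rw [mem_Va]
  exact ⟨ha, fun n hn => hn.comm⟩

theorem Rot.inf_U [Finite G] (hf : Fused h) (hJ : J2 h) (ha : a ∈ h.E1)
    (haU : a ∉ h.U) (hr : Rot h a c) : Va h a ⊓ h.U = ⊥ := by
  rw [eq_bot_iff]
  rintro x ⟨hx, hxU⟩
  have h1 := ((hr.mem_Va_iff hf hJ ha haU).mp hx).2
  have h2 : c * x * c⁻¹ = x := by rw [h1, mul_inv_cancel_right]
  rw [mem_bot]
  rcases BasicA.U_cases h hxU with rfl | rfl | rfl | rfl
  · rfl
  · rw [hr.z] at h2
    exact absurd h2 (BasicA.v_ne_z h)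
  · rw [hr.v] at h2
    exact absurd (mul_eq_left.mp h2) (BasicA.z_ne h)
  · rw [hr.vz] at h2
    exact absurd (right_eq_mul.mp h2) (BasicA.v_ne h)

/-- `c^3` centralises `E1`. -/
theorem Rot.cube [Finite G] (hf : Fused h) (hJ : J2 h) (ha : a ∈ h.E1)
    (haU : a ∉ h.U) (hr : Rot h a c) {x : G} (hx : x ∈ h.E1) :
    c * (c * (c * x * c⁻¹) * c⁻¹) * c⁻¹ = x := by
  have h1 : Na h a (c * (c * c)) := hr.na.mul (hr.na.mul hr.na)
  have h2 : c * (c * c) * h.z * (c * (c * c))⁻¹ = h.z := by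
    have : c * (c * c) * h.z * (c * (c * c))⁻¹ = c * (c * (c * h.z * c⁻¹) * c⁻¹) * c⁻¹ := by
      group
    rw [this, hr.z, hr.v, hr.vz]
  have h3 := h1.cent hf hJ ha haU h2 hx
  have h4 : c * (c * (c * x * c⁻¹) * c⁻¹) * c⁻¹ = c * (c * c) * x * (c * (c * c))⁻¹ := by group
  rw [h4, h3]

theorem Rot.exists_mul [Finite G] (hf : Fused h) (hJ : J2 h) (ha : a ∈ h.E1)
    (haU : a ∉ h.U) (hr : Rot h a c) {x : G} (hx : x ∈ h.E1) :
    ∃ u ∈ h.U, ∃ y ∈ Va h a, x = u * y := by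
  set p := c * x * c⁻¹ with hp
  set q := c * p * c⁻¹ with hq
  have hpE := hr.na.nrm x hx
  have hqE := hr.na.nrm p hpE
  have hcq : c * q * c⁻¹ = x := hr.cube hf hJ ha haU hx
  have h1 : p * x⁻¹ ∈ h.U := hr.na.triv hf hJ ha haU hx
  have h2 : q * p⁻¹ ∈ h.U := hr.na.triv hf hJ ha haU hpE
  have inv_eq : ∀ y ∈ h.E1, y⁻¹ = y := fun y hy => inv_eq_of_mul_eq_one_left (BasicA.E1_sq h hy)
  have hyE : x * p * q ∈ h.E1 := h.E1.mul_mem (h.E1.mul_mem hx hpE) hqE
  refine ⟨x * (x * p * q)⁻¹, ?_, x * p * q, ?_, by group⟩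
  · rw [inv_eq _ hyE]
    have h3 : x * (x * p * q) = q * p⁻¹ := by
      rw [inv_eq p hpE, mul_assoc x p q, ← mul_assoc, BasicA.E1_sq h hx, one_mul,
        BasicA.E1_comm h hpE hqE]
    rw [h3]
    exact h2
  · rw [hr.mem_Va_iff hf hJ ha haU]
    refine ⟨hyE, ?_⟩
    rw [← mul_inv_eq_iff_eq_mul]
    have h3 : c * (x * p * q) * c⁻¹ = (c * x * c⁻¹) * (c * p * c⁻¹) * (c * q * c⁻¹) := by group
    rw [h3, ← hp, ← hq, hcq, BasicA.E1_comm h (h.E1.mul_mem hpE hqE) hx]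
    exact (mul_assoc x p q).symm

theorem Rot.card_Va [Finite G] (hf : Fused h) (hJ : J2 h) (ha : a ∈ h.E1)
    (haU : a ∉ h.U) (hr : Rot h a c) : Nat.card (Va h a) = 4 := by
  have h1 := Lib.ProductSet.card_mul_card_inf (Va h a) h.U
  rw [hr.inf_U hf hJ ha haU, card_bot, mul_one, BasicA.card_U] at h1
  have h2 : ((Va h a : Set G) * (h.U : Set G)) = (h.E1 : Set G) := by
    ext x
    rw [Set.mem_mul]
    constructor
    · rintro ⟨y, hy, u, hu, rfl⟩
      exact h.E1.mul_mem (Va_le hy) (BasicA.U_le_E1 h hu)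
    · intro hx
      obtain ⟨u, hu, y, hy, rfl⟩ := hr.exists_mul hf hJ ha haU hx
      exact ⟨y, hy, u, hu, BasicA.E1_comm h (Va_le hy) (BasicA.U_le_E1 h hu)⟩
  rw [h2] at h1
  have h3 : Nat.card (h.E1 : Set G) = 16 := BasicA.card_E1 h
  rw [h3] at h1
  omega

theorem not_mem_U_of_Va [Finite G] (hf : Fused h) (hJ : J2 h) (ha : a ∈ h.E1)
    (haU : a ∉ h.U) (hr : Rot h a c) {b : G} (hb : b ∈ Va h a) (hb1 : b ≠ 1) : b ∉ h.U := by
  intro hbU
  have : b ∈ (⊥ : Subgroup G) := (hr.inf_U hf hJ ha haU) ▸ ⟨hb, hbU⟩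
  exact hb1 (mem_bot.mp this)

/-- the line of another element of the line -/
theorem Rot.Va_eq [Finite G] (hf : Fused h) (hJ : J2 h) (ha : a ∈ h.E1)
    (haU : a ∉ h.U) (hr : Rot h a c) {b : G} (hb : b ∈ Va h a) (hb1 : b ≠ 1) :
    Va h b = Va h a := by
  have hbU := not_mem_U_of_Va hf hJ ha haU hr hb hb1
  have hbE := Va_le hb
  have hrb : Rot h b c := ⟨⟨((hr.mem_Va_iff hf hJ ha haU).mp hb).2, hr.na.nrm⟩, hr.z, hr.v⟩
  ext x
  rw [hr.mem_Va_iff hf hJ ha haU, hrb.mem_Va_iff hf hJ hbE hbU]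

/-- conjugation -/
theorem Va_conj [Finite G] {k x : G} (hk : Nrm h.E1 k) (hx : x ∈ Va h a) :
    k * x * k⁻¹ ∈ Va h (k * a * k⁻¹) := by
  rw [mem_Va] at hx ⊢
  refine ⟨hk x hx.1, ?_⟩
  intro n hn
  have h1 : Na h a (k⁻¹ * n * k) := by
    refine ⟨?_, ?_⟩
    · have := hn.comm
      calc k⁻¹ * n * k * a = k⁻¹ * (n * (k * a * k⁻¹)) * k := by group
        _ = k⁻¹ * ((k * a * k⁻¹) * n) * k := by rw [this]
        _ = a * (k⁻¹ * n * k) := by group
    · have h2 := (hk.inv.mul hn.nrm).mul hk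
      exact h2
  have h2 := hx.2 _ h1
  calc n * (k * x * k⁻¹) = k * ((k⁻¹ * n * k) * x) * k⁻¹ := by group
    _ = k * (x * (k⁻¹ * n * k)) * k⁻¹ := by rw [h2]
    _ = (k * x * k⁻¹) * n := by group

/-- the elements of the line are isolated in `C(a)`. -/
theorem Rot.iso [Finite G] (hf : Fused h) (hJ : J2 h) (ha : a ∈ h.E1)
    (haU : a ∉ h.U) {b g : G} (hb : b ∈ Va h a) (hg : g * a = a * g)
    (hgb : g * b * g⁻¹ ∈ h.E1) : g * b * g⁻¹ = b := by
  set y := g * b * g⁻¹ with hy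
  set D := centralizer ({a} : Set G) ⊓ centralizer ({y} : Set G) with hD
  have hED : h.E1 ≤ D := le_inf (E1_le_centralizer h ha) (by
    intro x hx
    rw [mem_centralizer_singleton_iff]
    exact BasicA.E1_comm h hx hgb)
  have hodd : Odd (h.E1.relIndex D) := by
    have h1 := odd_relIndex h hf hJ ha haU
    have h2 := relIndex_mul_relIndex h.E1 D (centralizer ({a} : Set G)) hED inf_le_left
    rw [← h2] at h1
    exact (Nat.odd_mul.mp h1).1
  have hEp : IsPGroup 2 h.E1 := BasicA.isPGroup_of_le h (BasicA.E1_le_S h)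
  obtain ⟨d, hdD, hd⟩ := exists_conj_le (h.E1.map (MulAut.conj g).toMonoidHom) D h.E1
    (hEp.map _) (by
      rintro _ ⟨x, hx, rfl⟩
      refine mem_inf.mpr ⟨?_, ?_⟩
      · rw [mem_centralizer_singleton_iff]
        change g * x * g⁻¹ * a = a * (g * x * g⁻¹)
        have h1 := BasicA.E1_comm h hx ha
        calc g * x * g⁻¹ * a = g * x * (g⁻¹ * a) := by group
          _ = g * x * (a * g⁻¹) := by
            rw [show g⁻¹ * a = a * g⁻¹ by
              rw [inv_mul_eq_iff_eq_mul, ← mul_assoc, hg, mul_inv_cancel_right]]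
          _ = g * (x * a) * g⁻¹ := by group
          _ = (g * a) * x * g⁻¹ := by rw [h1]; group
          _ = a * (g * x * g⁻¹) := by rw [hg]; group
      · rw [mem_centralizer_singleton_iff]
        change g * x * g⁻¹ * y = y * (g * x * g⁻¹)
        have h1 := BasicA.E1_comm h hx (Va_le hb)
        rw [hy]
        calc g * x * g⁻¹ * (g * b * g⁻¹) = g * (x * b) * g⁻¹ := by group
          _ = g * (b * x) * g⁻¹ := by rw [h1]
          _ = _ := by group) hodd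
  have hda : d * a = a * d := mem_centralizer_singleton_iff.mp (mem_inf.mp hdD).1
  have hdy : d * y = y * d := mem_centralizer_singleton_iff.mp (mem_inf.mp hdD).2
  have hn : Na h a (d * g) := by
    refine ⟨by rw [mul_assoc, hg, ← mul_assoc, hda, mul_assoc], ?_⟩
    intro x hx
    have h1 := hd (g * x * g⁻¹) ⟨x, hx, rfl⟩
    have h2 : d * g * x * (d * g)⁻¹ = d * (g * x * g⁻¹) * d⁻¹ := by group
    rw [h2]
    exact h1
  have h3 := (mem_Va.mp hb).2 _ hn
  have h4 : d * g * b * (d * g)⁻¹ = b := by rw [h3, mul_inv_cancel_right]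
  have h5 : d * g * b * (d * g)⁻¹ = d * y * d⁻¹ := by rw [hy]; group
  rw [h5, hdy, mul_inv_cancel_right] at h4
  exact h4

end Cfsg.Agent.J2Sylow.VaSub
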