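import Mathlib
import Cfsg.Agent.J2Sylow.VaSub
import Cfsg.Agent.J2Sylow.CentAbs

set_option autoImplicit false

/-! The structure of `C(a)`, `a ∈ E1 - U`, in the J2-type case. -/

namespace Cfsg.Agent.J2Sylow.CentA

open Subgroup Model E1Fusion E1J2 VaSub Cfsg Cfsg.Agent.Lib
open scoped commutatorElement

variable {G : Type*} [Group G] {h : Setup G} {a c : G}

/-- `C(a)` as a subgroup -/
abbrev Ca (a : G) : Subgroup G := centralizer ({a} : Set G)

theorem hyp [Finite G] (hf : Fused h) (hJ : J2 h) (ha : a ∈ h.E1) (haU : a ∉ h.U)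
    (hr : Rot h a c) :
    CentAbs.Hyp (h.E1.subgroupOf (Ca a)) ((Va h a).subgroupOf (Ca a)) (h.U.subgroupOf (Ca a)) := by
  have hEC := E1_le_centralizer h ha
  have hUC : h.U ≤ Ca a := (BasicA.U_le_E1 h).trans hEC
  refine ⟨?_, odd_relIndex h hf hJ ha haU, ?_, ?_, ?_, ?_, ?_, ?_, ?_⟩
  · intro x hx
    exact Subtype.ext (BasicA.E1_sq h hx)
  · rw [← BasicA.card_U h]
    exact Nat.card_congr (subgroupOfEquivOfLe hUC).toEquiv
  · exact subgroupOf_mono _ Va_le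
  · exact subgroupOf_mono _ (BasicA.U_le_E1 h)
  · rw [eq_bot_iff]
    intro x hx
    have h1 : (x : G) ∈ Va h a ⊓ h.U := hx
    rw [hr.inf_U hf hJ ha haU, mem_bot] at h1
    exact mem_bot.mpr (Subtype.ext h1)
  · intro x hx
    obtain ⟨u, hu, y, hy, hxy⟩ := hr.exists_mul hf hJ ha haU hx
    exact ⟨⟨u, hUC hu⟩, hu, ⟨y, hEC (Va_le hy)⟩, hy, Subtype.ext hxy⟩
  · intro v hv g hg
    exact Subtype.ext (Rot.iso hf hJ ha haU hv (mem_centralizer_singleton_iff.mp g.2) hg)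
  · refine ⟨⟨c, mem_centralizer_singleton_iff.mpr hr.na.comm⟩, ?_, ?_⟩
    · intro u hu
      exact nrm_U hf hJ hr.na.nrm _ hu
    · intro u hu huc
      have h1 : c * (u : G) * c⁻¹ = u := congrArg Subtype.val huc
      have h2 : (u : G) ∈ Va h a ⊓ h.U := ⟨(hr.mem_Va_iff hf hJ ha haU).mpr
        ⟨BasicA.U_le_E1 h hu, by rwa [mul_inv_eq_iff_eq_mul] at h1⟩, hu⟩
      rw [hr.inf_U hf hJ ha haU, mem_bot] at h2
      exact Subtype.ext h2

theorem mem_core {x : G} (hx : x ∈ Ca a) :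
    x ∈ centralizerPPrimeCore 2 a ↔ (⟨x, hx⟩ : Ca a) ∈ pPrimeCore 2 (Ca a) := by
  constructor
  · rintro ⟨y, hy, hyx⟩
    have : y = ⟨x, hx⟩ := Subtype.ext hyx
    rwa [← this]
  · intro h1
    exact ⟨_, h1, rfl⟩

/-- `Va` is central in `C(a)` modulo `O(C(a))`. -/
theorem central [Finite G] (hf : Fused h) (hJ : J2 h) (ha : a ∈ h.E1) (haU : a ∉ h.U)
    (hr : Rot h a c) {v g : G} (hv : v ∈ Va h a) (hg : g * a = a * g) :
    v * g * v⁻¹ * g⁻¹ ∈ centralizerPPrimeCore 2 a := by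
  have hvC : v ∈ Ca a := E1_le_centralizer h ha (Va_le hv)
  have hgC : g ∈ Ca a := mem_centralizer_singleton_iff.mpr hg
  have h1 := CentAbs.commutator_mem (hyp hf hJ ha haU hr) (v := ⟨v, hvC⟩) hv ⟨g, hgC⟩
  exact ⟨_, h1, rfl⟩

theorem central' [Finite G] (hf : Fused h) (hJ : J2 h) (ha : a ∈ h.E1) (haU : a ∉ h.U)
    (hr : Rot h a c) {v g : G} (hv : v ∈ Va h a) (hg : g * a = a * g) :
    g * v * g⁻¹ * v⁻¹ ∈ centralizerPPrimeCore 2 a := by
  have h1 := inv_mem (central hf hJ ha haU hr hv hg)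
  have h2 : (v * g * v⁻¹ * g⁻¹)⁻¹ = g * v * g⁻¹ * v⁻¹ := by group
  rwa [h2] at h1

/-- the involutions of `C(a)` are conjugate in `C(a)` to elements of `E1`. -/
theorem conj_mem_E1 [Finite G] (hf : Fused h) (hJ : J2 h) (ha : a ∈ h.E1) (haU : a ∉ h.U)
    {t : G} (ht : orderOf t = 2) (hta : t * a = a * t) :
    ∃ g, g * a = a * g ∧ g * t * g⁻¹ ∈ h.E1 := by
  have hp : IsPGroup 2 (zpowers t) := by
    rw [IsPGroup.iff_card, Nat.card_zpowers, ht]
    exact ⟨1, rfl⟩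
  obtain ⟨d, hd, hdt⟩ := exists_conj_le (zpowers t) (Ca a) h.E1 hp
    (by rw [zpowers_le]; exact mem_centralizer_singleton_iff.mpr hta)
    (odd_relIndex h hf hJ ha haU)
  exact ⟨d, mem_centralizer_singleton_iff.mp hd, hdt t (mem_zpowers t)⟩

end Cfsg.Agent.J2Sylow.CentA
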