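import Mathlib
import Cfsg.Agent.J2Sylow.CentAbs
import Cfsg.Prelude.Def_CaseTheorems

set_option autoImplicit false

/-! Identification of `L` by the Gorenstein-Walter theorem (S0483). -/

namespace Cfsg.Agent.J2Sylow.CentPSL

open Subgroup Cfsg Cfsg.Agent.Lib CentAbs
open scoped commutatorElement

universe u

/-- the statement S0483 -/
def GW : Prop := ∀ (X : Type u) [Group X] [Finite X] [Group.IsPerfect X] (S : Sylow 2 X) (n : ℕ),
  2 ≤ n → Nonempty ((S : Subgroup X) ≃* DihedralGroup n) →
    (∃ (F : Type) (_ : Field F) (_ : Fintype F), Odd (Fintype.card F) ∧ 3 < Fintype.card F ∧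
        Nonempty (X ⧸ Cfsg.oddCore X ≃* Matrix.ProjectiveSpecialLinearGroup (Fin 2) F)) ∨
      Nonempty (X ⧸ Cfsg.oddCore X ≃* alternatingGroup (Fin 7))

theorem perfect_of {W : Type u} [Group W] {L : Subgroup W} (hL : ⁅L, L⁆ = L) :
    Group.IsPerfect L := by
  refine ⟨?_⟩
  apply Subgroup.map_injective L.subtype_injective
  rw [commutator_def, map_commutator]
  simp only [← MonoidHom.range_eq_map, range_subtype]
  exact hL

theorem exists_psl (gw : GW.{u}) {W : Type u} [Group W] [Finite W] {V U X L : Subgroup W}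
    (hC : Concl V U X L) (hLL : ⁅L, L⁆ = L)
    (hmin : ∀ M : Subgroup W, M.Normal → M ≤ L → M = ⊥ ∨ M = L) :
    ∃ (F : Type) (_ : Field F) (_ : Fintype F), Odd (Fintype.card F) ∧ 3 < Fintype.card F ∧
        Nonempty (L ≃* Matrix.ProjectiveSpecialLinearGroup (Fin 2) F) := by
  have : Fact (Nat.Prime 2) := ⟨Nat.prime_two⟩
  have hperf : Group.IsPerfect L := perfect_of hLL
  have hcard : Nat.card (U.subgroupOf L) = 4 := by
    rw [← hC.cardU]
    exact Nat.card_congr (subgroupOfEquivOfLe hC.Ule).toEquiv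
  have hodd : Odd (U.relIndex L) := by
    have h1 := relIndex_mul_relIndex U L X hC.Ule hC.le
    have h2 := hC.oddU
    rw [← h1] at h2
    exact (Nat.odd_mul.mp h2).1
  have hUp : IsPGroup 2 (U.subgroupOf L) := IsPGroup.of_card (n := 2) (by rw [hcard]; norm_num)
  have hUi : ¬ 2 ∣ (U.subgroupOf L).index := fun hd =>
    (Nat.not_even_iff_odd.mpr hodd) (even_iff_two_dvd.mpr hd)
  let S : Sylow 2 L := hUp.toSylow hUi
  have hK4 : IsKleinFour (U.subgroupOf L) := by
    refine ⟨hcard, ?_⟩
    have hnt : Nontrivial (U.subgroupOf L) := Finite.one_lt_card_iff_nontrivial.mp (by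
      rw [hcard]; norm_num)
    apply Monoid.exponent_eq_prime_iff Nat.prime_two |>.mpr
    intro g hg
    apply orderOf_eq_prime _ hg
    rw [pow_two]
    exact Subtype.ext (Subtype.ext (hC.sqU _ g.2))
  have hS : Nonempty ((U.subgroupOf L : Subgroup L) ≃* DihedralGroup 2) :=
    IsKleinFour.nonempty_mulEquiv
  have hcore : oddCore L = ⊥ := by
    have h1 : ((pPrimeCore 2 L).map L.subtype).Normal := by
      rw [Cores.map_subtype_pPrimeCore 2 hC.Lnormal]
      have := hC.Lnormal
      have := Cores.pPrimeCore_normal (G := W) 2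
      infer_instance
    rcases hmin _ h1 (map_subtype_le _) with h2 | h2
    · exact (Subgroup.map_eq_bot_iff_of_injective _ L.subtype_injective).mp h2
    · exfalso
      have h3 : Nat.card ((pPrimeCore 2 L).map L.subtype) = Nat.card (pPrimeCore 2 L) :=
        (Nat.card_congr ((pPrimeCore 2 L).equivMapOfInjective L.subtype
          L.subtype_injective).toEquiv).symm
      rw [h2] at h3
      have h4 := Cores.pPrimeCore_coprime (G := L) 2
      rw [← h3] at h4
      have h5 : 4 ∣ Nat.card L := hC.cardU ▸ Subgroup.card_dvd_of_le hC.Ule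
      have h6 : ¬ 2 ∣ Nat.card L := (Nat.Prime.coprime_iff_not_dvd Nat.prime_two).mp h4.symm
      exact h6 ((by norm_num : (2 : ℕ) ∣ 4).trans h5)
  have e0 : L ⧸ oddCore L ≃* L :=
    (QuotientGroup.quotientMulEquivOfEq hcore).trans QuotientGroup.quotientBot
  rcases gw L S 2 le_rfl hS with ⟨F, hF, hFt, h1, h2, ⟨e⟩⟩ | he
  · exact ⟨F, hF, hFt, h1, h2, ⟨e0.symm.trans e⟩⟩
  · exfalso
    obtain ⟨e⟩ := he
    have h1 : Nat.card L = 2520 := by
      rw [Nat.card_congr (e0.symm.trans e).toEquiv, nat_card_alternatingGroup,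
        Nat.card_eq_fintype_card, Fintype.card_fin]
      rfl
    have h2 := Subgroup.card_mul_index (U.subgroupOf L)
    rw [hcard, h1] at h2
    have h3 : (U.subgroupOf L).index = 630 := by omega
    apply hUi
    rw [h3]
    norm_num

end Cfsg.Agent.J2Sylow.CentPSL
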