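import Mathlib
import Cfsg.Agent.Lib.KleinGen
import Cfsg.Agent.ClassicalGeometry.NonsplitTorus

/-!
In an odd extension of `PSL₂(F)` an odd `r`-subgroup normalised by a four-group `U` is centralised by an involution
of `U`.
-/

set_option autoImplicit false

namespace Cfsg.Agent.J2Sylow.StarPSL

open Subgroup Matrix

theorem matrix_comm {F : Type*} [Field F] {M N P : Matrix (Fin 2) (Fin 2) F}
    (hM : ∀ c : F, M ≠ c • (1 : Matrix (Fin 2) (Fin 2) F)) (hN : M * N = N * M)
    (hP : M * P = P * M) : N * P = P * N := by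
  obtain ⟨a, b, rfl⟩ := ClassicalGeometry.NonsplitTorus.commutant M N hM hN
  obtain ⟨c, d, rfl⟩ := ClassicalGeometry.NonsplitTorus.commutant M P hM hP
  simp only [add_mul, mul_add, smul_mul_assoc, mul_smul_comm, one_mul, mul_one, smul_add]
  rw [smul_comm c a, smul_comm c b, smul_comm d a, smul_comm d b]
  abel

/-- If `x² ≠ 1` in `PSL₂(F)`, `F` of characteristic not 2, then the centraliser of `x` is abelian. -/
theorem comm_of_comm {F : Type*} [Field F] (h2F : (2 : F) ≠ 0)
    {x g k : ProjectiveSpecialLinearGroup (Fin 2) F}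
    (hx : x * x ≠ 1) (hg : g * x = x * g) (hk : k * x = x * k) : g * k = k * g := by
  obtain ⟨A, rfl⟩ := QuotientGroup.mk_surjective x
  obtain ⟨B, rfl⟩ := QuotientGroup.mk_surjective g
  obtain ⟨D, rfl⟩ := QuotientGroup.mk_surjective k
  -- scalars in the centre
  have hcen : ∀ Z : Matrix.SpecialLinearGroup (Fin 2) F,
      Z ∈ center (Matrix.SpecialLinearGroup (Fin 2) F) →
        ∃ c : F, c ^ 2 = 1 ∧ Z.1 = c • (1 : Matrix (Fin 2) (Fin 2) F) := by
    intro Z hZ
    obtain ⟨c, hc, hc'⟩ := Matrix.SpecialLinearGroup.mem_center_iff.1 hZ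
    refine ⟨c, by simpa using hc, ?_⟩
    rw [← hc', scalar_apply, smul_one_eq_diagonal]
  have hcen' : ∀ (Z : Matrix.SpecialLinearGroup (Fin 2) F) (c : F), 
      Z.1 = c • (1 : Matrix (Fin 2) (Fin 2) F) → c ^ 2 = 1 →
        Z ∈ center (Matrix.SpecialLinearGroup (Fin 2) F) := by
    intro Z c hZ hc
    rw [Matrix.SpecialLinearGroup.mem_center_iff]
    refine ⟨c, by simpa using hc, ?_⟩
    rw [scalar_apply, ← smul_one_eq_diagonal]
    exact hZ.symm
  -- an element commuting with `x` commutes with `A`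
  have hcomm : ∀ B : Matrix.SpecialLinearGroup (Fin 2) F,
      ((B : ProjectiveSpecialLinearGroup (Fin 2) F)) * (A : ProjectiveSpecialLinearGroup (Fin 2) F)
        = A * B → A.1 * B.1 = B.1 * A.1 := by
    intro B hB
    have h1 : ((B * A)⁻¹ * (A * B)) ∈ center (Matrix.SpecialLinearGroup (Fin 2) F) := by
      rw [← QuotientGroup.eq]
      exact hB
    obtain ⟨c, hc2, hc'⟩ := hcen _ h1
    have h2 : A.1 * B.1 = c • (B.1 * A.1) := by
      have h3 : A * B = (B * A) * ((B * A)⁻¹ * (A * B)) := by group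
      have h4 : A.1 * B.1 = (B.1 * A.1) * ((B * A)⁻¹ * (A * B)).1 :=
        congrArg (fun X : Matrix.SpecialLinearGroup (Fin 2) F => X.1) h3
      rw [h4, hc']
      simp
    have hc3 : c = 1 ∨ c = -1 := by
      have : (c - 1) * (c + 1) = 0 := by linear_combination hc2
      rcases mul_eq_zero.1 this with h | h
      · left; linear_combination h
      · right; linear_combination h
    rcases hc3 with rfl | rfl
    · simpa using h2
    · exfalso
      apply hx
      have hBB : B.1 * (B⁻¹).1 = 1 :=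
        congrArg (fun X : Matrix.SpecialLinearGroup (Fin 2) F => X.1) (mul_inv_cancel B)
      have hBB' : (B⁻¹).1 * B.1 = 1 :=
        congrArg (fun X : Matrix.SpecialLinearGroup (Fin 2) F => X.1) (inv_mul_cancel B)
      -- the trace of `A` is zero
      have h3 : A.1 = -(B.1 * A.1 * (B⁻¹).1) := by
        have h4 : A.1 * B.1 * (B⁻¹).1 = A.1 := by rw [Matrix.mul_assoc, hBB, Matrix.mul_one]
        have h5 : A.1 * B.1 * (B⁻¹).1 = -(B.1 * A.1 * (B⁻¹).1) := by
          rw [h2, neg_one_smul, Matrix.neg_mul]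
        rw [← h5, h4]
      have htr : A.1.trace = - A.1.trace := by
        conv_lhs => rw [h3]
        rw [Matrix.trace_neg, Matrix.mul_assoc, Matrix.trace_mul_comm, Matrix.mul_assoc, hBB',
          Matrix.mul_one]
      have hsq : A.1 * A.1 = A.1.trace • A.1 - (1 : Matrix (Fin 2) (Fin 2) F) := by
        rw [ClassicalGeometry.NonsplitTorus.mul_self_eq A.1, A.2, one_smul]
      have htr0 : A.1.trace = 0 := by
        have : (2 : F) * A.1.trace = 0 := by linear_combination htr
        exact (mul_eq_zero.1 this).resolve_left h2F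
      rw [htr0, zero_smul, zero_sub] at hsq
      have h5 : A * A ∈ center (Matrix.SpecialLinearGroup (Fin 2) F) := by
        refine hcen' _ (-1) ?_ (by ring)
        change A.1 * A.1 = _
        rw [hsq, neg_one_smul]
      exact (QuotientGroup.eq_one_iff (A * A)).2 h5
  have hns : ∀ c : F, A.1 ≠ c • (1 : Matrix (Fin 2) (Fin 2) F) := by
    intro c hc
    apply hx
    have h1 : c ^ 2 = 1 := by
      have h2 := A.2
      rw [hc] at h2
      simpa [Matrix.det_smul] using h2
    have h5 : A * A ∈ center (Matrix.SpecialLinearGroup (Fin 2) F) :=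
      mul_mem (hcen' A c hc h1) (hcen' A c hc h1)
    exact (QuotientGroup.eq_one_iff (A * A)).2 h5
  have h6 := matrix_comm hns (hcomm B hg) (hcomm D hk)
  have h7 : B * D = D * B := Subtype.ext h6
  change ((B * D : Matrix.SpecialLinearGroup (Fin 2) F) : ProjectiveSpecialLinearGroup (Fin 2) F) =
    ((D * B : Matrix.SpecialLinearGroup (Fin 2) F) : ProjectiveSpecialLinearGroup (Fin 2) F)
  rw [h7]

theorem star_psl {W : Type*} [Group W] [Finite W] {F : Type} [Field F] [Fintype F]
    (hodd : Odd (Fintype.card F)) (L : Subgroup W) (hL : L.Normal)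
    (e : L ≃* Matrix.ProjectiveSpecialLinearGroup (Fin 2) F) (U : Subgroup W) (hUL : U ≤ L)
    (hU4 : Nat.card U = 4) (hU2 : ∀ x ∈ U, x * x = 1) (_hUodd : Odd (U.relIndex L)) (r : ℕ)
    (hr : r.Prime) (hr2 : r ≠ 2) (D : Subgroup W) (hD : IsPGroup r D)
    (hn : ∀ u ∈ U, ∀ x ∈ D, u * x * u⁻¹ ∈ D) :
    ∃ u ∈ U, u ≠ 1 ∧ ∀ x ∈ D, u * x * u⁻¹ = x := by
  have : Fact r.Prime := ⟨hr⟩
  have h2F : (2 : F) ≠ 0 := by
    intro h
    have h1 : (Fintype.card F : F) = 0 := FiniteField.cast_card_eq_zero F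
    obtain ⟨m, hm⟩ := hodd
    rw [hm] at h1
    push_cast at h1
    rw [h, zero_mul, zero_add] at h1
    exact one_ne_zero h1
  -- odd order
  have hDodd : Odd (Nat.card D) := by
    obtain ⟨n, hn⟩ := (IsPGroup.iff_card (p := r)).1 hD
    rw [hn]
    exact (hr.odd_of_ne_two hr2).pow
  have hsq : ∀ x ∈ D, x * x = 1 → x = 1 := by
    intro x hx h
    exact Lib.KleinGen.eq_of_mul_self_eq hDodd hx (one_mem D) (by rw [h, mul_one])
  -- the final step
  have hend : ∀ u ∈ U, (∀ x ∈ D, x ∈ L → u * x = x * u) → ∀ x ∈ D, u * x * u⁻¹ = x := by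
    intro u hu h x hx
    have huu := hU2 u hu
    have hui : u⁻¹ = u := inv_eq_of_mul_eq_one_left huu
    set y := x * (u * x * u⁻¹)⁻¹ with hy
    have hyD : y ∈ D := D.mul_mem hx (D.inv_mem (hn u hu x hx))
    have hyL : y ∈ L := by
      have h1 : y = (x * u * x⁻¹) * u⁻¹ := by rw [hy]; group
      rw [h1]
      exact L.mul_mem (hL.conj_mem u (hUL hu) x) (L.inv_mem (hUL hu))
    have hc := h y hyD hyL
    have hyy : y * y = 1 := by
      have h1 : u * y * u⁻¹ = y := by rw [hc]; group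
      have h2 : u * y * u⁻¹ = y⁻¹ := by
        rw [hy, hui]
        calc u * (x * (u * x * u)⁻¹) * u = u * x * (u⁻¹ * x⁻¹ * u⁻¹) * u := by group
          _ = u * x * (u * x⁻¹ * u) * u := by rw [hui]
          _ = u * x * u * x⁻¹ * (u * u) := by group
          _ = (u * x * u) * x⁻¹ := by rw [huu]; group
          _ = (x * (u * x * u)⁻¹)⁻¹ := by group
      rw [h1] at h2
      nth_rewrite 1 [h2]
      group
    have hy1 := hsq y hyD hyy
    rw [hy, mul_inv_eq_one] at hy1
    exact hy1.symm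
  by_cases hD0 : D ⊓ L = ⊥
  · obtain ⟨u, hu, hu1⟩ : ∃ u ∈ U, u ≠ 1 := by
      by_contra hcon
      push Not at hcon
      have : U = ⊥ := (Subgroup.eq_bot_iff_forall U).2 hcon
      rw [this, Subgroup.card_bot] at hU4
      omega
    refine ⟨u, hu, hu1, hend u hu ?_⟩
    intro x hx hxL
    have : x ∈ D ⊓ L := ⟨hx, hxL⟩
    rw [hD0, mem_bot] at this
    rw [this]; simp
  · -- some involution of `U` has a fixed point
    have hcommL : ∀ x ∈ L, ∀ g ∈ L, ∀ k ∈ L, x * x ≠ 1 → g * x = x * g → k * x = x * k →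
        g * k = k * g := by
      intro x hx g hg k hk hxx hgx hkx
      have h1 := comm_of_comm h2F (x := e ⟨x, hx⟩) (g := e ⟨g, hg⟩) (k := e ⟨k, hk⟩) (by
          rw [← map_mul]
          intro h
          apply hxx
          have h2 := e.map_eq_one_iff.1 h
          exact congrArg Subtype.val h2)
        (by rw [← map_mul, ← map_mul]; exact congrArg e (Subtype.ext hgx))
        (by rw [← map_mul, ← map_mul]; exact congrArg e (Subtype.ext hkx))
      rw [← map_mul, ← map_mul] at h1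
      exact congrArg Subtype.val (e.injective h1)
    have hD0odd : Odd (Nat.card (D ⊓ L : Subgroup W)) :=
      Odd.of_dvd_nat hDodd (Subgroup.card_dvd_of_le inf_le_left)
    have hnt : Nontrivial (D ⊓ L : Subgroup W) := (Subgroup.nontrivial_iff_ne_bot _).2 hD0
    have hD0p : IsPGroup r (D ⊓ L : Subgroup W) := hD.to_le inf_le_left
    have hcn := hD0p.center_nontrivial
    obtain ⟨⟨⟨z0, hz0⟩, hz0c⟩, hz01⟩ := exists_ne (1 : center (D ⊓ L : Subgroup W))
    have hz0ne : z0 ≠ 1 := by
      rintro rfl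
      exact hz01 (Subtype.ext (Subtype.ext rfl))
    have hz0z : z0 * z0 ≠ 1 := fun h => hz0ne (hsq z0 hz0.1 h)
    have hz0comm : ∀ g ∈ D ⊓ L, g * z0 = z0 * g := by
      intro g hg
      have h1 := (Subgroup.mem_center_iff.1 hz0c) ⟨g, hg⟩
      exact congrArg Subtype.val h1
    have hab : ∀ g ∈ D ⊓ L, ∀ k ∈ D ⊓ L, g * k = k * g := fun g hg k hk =>
      hcommL z0 hz0.2 g hg.2 k hk.2 hz0z (hz0comm g hg) (hz0comm k hk)
    -- two involutions of `U`
    obtain ⟨x, hx, hx1⟩ : ∃ u ∈ U, u ≠ 1 := by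
      by_contra hcon
      push Not at hcon
      have : U = ⊥ := (Subgroup.eq_bot_iff_forall U).2 hcon
      rw [this, Subgroup.card_bot] at hU4
      omega
    have hox : orderOf x = 2 := orderOf_eq_prime (by rw [pow_two]; exact hU2 x hx) hx1
    obtain ⟨y, hy, hyx⟩ : ∃ u ∈ U, u ∉ zpowers x := by
      by_contra hcon
      push Not at hcon
      have h1 := Subgroup.card_le_of_le (show U ≤ zpowers x from hcon)
      rw [hU4, Nat.card_zpowers, hox] at h1
      omega
    have hxy1 : x * y ≠ 1 := by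
      intro h
      apply hyx
      rw [show y = x⁻¹ from (inv_eq_of_mul_eq_one_right h).symm]
      exact inv_mem (mem_zpowers x)
    have hy1 : y ≠ 1 := by
      rintro rfl
      exact hyx (one_mem _)
    have hxy : x * y = y * x := by
      have h1 := hU2 _ (mul_mem hx hy)
      have h2 := hU2 x hx
      have h3 := hU2 y hy
      calc x * y = x * (x * y * (x * y)) * y := by rw [h1, mul_one]
        _ = (x * x) * y * x * (y * y) := by group
        _ = y * x := by rw [h2, h3, one_mul, mul_one]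
    have hnL : ∀ u ∈ U, ∀ d ∈ D ⊓ L, u * d * u⁻¹ ∈ D ⊓ L := fun u hu d hd =>
      ⟨hn u hu d hd.1, hL.conj_mem d hd.2 u⟩
    obtain ⟨u, hu, hu1, d, hd, hd1, hdu⟩ : ∃ u ∈ U, u ≠ 1 ∧ ∃ d ∈ D ⊓ L, d ≠ 1 ∧ d * u = u * d := by
      by_contra hcon
      push Not at hcon
      have h1 : ∀ u ∈ U, u ≠ 1 → (D ⊓ L) ⊓ centralizer ({u} : Set W) ≤ ⊥ := by
        intro u hu hu1 d hd
        rw [mem_bot]
        by_contra hd1
        exact hcon u hu hu1 d hd.1 hd1 (mem_centralizer_singleton_iff.1 hd.2)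
      exact hD0 (le_bot_iff.1 (Lib.KleinGen.le_of_klein (D ⊓ L) ⊥ hD0odd x y (hU2 x hx) (hU2 y hy)
        hxy (hnL x hx) (hnL y hy) (h1 x hx hx1) (h1 y hy hy1) (h1 _ (mul_mem hx hy) hxy1)))
    refine ⟨u, hu, hu1, hend u hu ?_⟩
    intro k hkD hkL
    exact hcommL d hd.2 u (hUL hu) k hkL (fun h => hd1 (hsq d hd.1 h)) hdu.symm
      (hab k ⟨hkD, hkL⟩ d hd)

end Cfsg.Agent.J2Sylow.StarPSL
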