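import Mathlib
import Cfsg.Agent.J2Sylow.VaSub
import Cfsg.Agent.J2Sylow.Hyp

set_option autoImplicit false

/-! Automorphisms of the model group changing the lines, and the standard form of a set-up. -/

namespace Cfsg.Agent.J2Sylow.Twist

open Subgroup Model Model.F4 E1Fusion E1J2 VaSub

/-- the map `(a,b,c,s) ↦ (a,b,c + t (a^2+a) + t^2 (b^2+b), s)` -/
def alphaFun (t : F4) (x : T) : T :=
  ⟨x.a, x.b, x.c + (t * (x.a * x.a + x.a) + fr t * (x.b * x.b + x.b)), x.s⟩

theorem alpha_mul (t : F4) (x y : T) : alphaFun t (x * y) = alphaFun t x * alphaFun t y := by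
  obtain ⟨xa, xb, xc, xs⟩ := x
  obtain ⟨ya, yb, yc, ys⟩ := y
  cases xs <;> simp only [alphaFun, T.mul_false, T.mul_true, T.mk.injEq, fr_add, fr_mul, fr_fr,
    and_true, true_and]
  · linear_combination (t * xa * ya + fr t * xb * yb) * two_eq
  · linear_combination (t * xa * fr yb + fr t * xb * fr ya) * two_eq

theorem alpha_alpha : ∀ (t : F4) (x : T), alphaFun t (alphaFun t x) = x := by decide +kernel

/-- the automorphism -/
def alpha (t : F4) : T ≃* T where
  toFun := alphaFun t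
  invFun := alphaFun t
  left_inv := alpha_alpha t
  right_inv := alpha_alpha t
  map_mul' := alpha_mul t

theorem alpha_apply (t : F4) (x : T) : alpha t x = alphaFun t x := rfl

theorem alpha_z : ∀ t : F4, alphaFun t T.z = T.z := by decide +kernel
theorem alpha_v : ∀ t : F4, alphaFun t T.v = T.v := by decide +kernel
theorem alpha_tau : ∀ t : F4, alphaFun t T.tau = T.tau := by decide +kernel
theorem alpha_U : ∀ (t : F4) (x : T), x ∈ T.U → alphaFun t x ∈ T.U := by decide +kernel
theorem alpha_R : ∀ (t : F4) (x : T), x ∈ T.R → alphaFun t x ∈ T.R := by decide +kernel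
theorem alpha_E1 : ∀ (t : F4) (x : T), x ∈ T.E1 → alphaFun t x ∈ T.E1 := by decide +kernel
theorem alpha_E2 : ∀ (t : F4) (x : T), x ∈ T.E2 → alphaFun t x ∈ T.E2 := by decide +kernel
theorem alpha_Q : ∀ (t : F4) (x : T), x ∈ T.Q → alphaFun t x ∈ T.Q := by decide +kernel

variable {G : Type*} [Group G] (h : Setup G)

/-- the twisted set-up -/
def twist (t : F4) : Setup G where
  φ := h.φ.comp (alpha t).toMonoidHom
  inj := h.inj.comp (alpha t).injective
  odd_index := by
    have h1 : (h.φ.comp (alpha t).toMonoidHom).range = h.φ.range := by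
      rw [MonoidHom.range_comp, MonoidHom.range_eq_top.mpr (alpha t).surjective,
        ← MonoidHom.range_eq_map]
    rw [h1]
    exact h.odd_index

theorem twist_φ (t : F4) (x : T) : (twist h t).φ x = h.φ (alphaFun t x) := rfl

theorem twist_z (t : F4) : (twist h t).z = h.z := by
  change h.φ (alphaFun t T.z) = _
  rw [alpha_z]; rfl

theorem twist_v (t : F4) : (twist h t).v = h.v := by
  change h.φ (alphaFun t T.v) = _
  rw [alpha_v]; rfl

theorem twist_tau (t : F4) : (twist h t).tau = h.tau := by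
  change h.φ (alphaFun t T.tau) = _
  rw [alpha_tau]; rfl

theorem twist_map (t : F4) (A : Subgroup T) (hA : ∀ x ∈ A, alphaFun t x ∈ A) :
    A.map (twist h t).φ = A.map h.φ := by
  ext y
  constructor
  · rintro ⟨x, hx, rfl⟩
    exact ⟨alphaFun t x, hA x hx, rfl⟩
  · rintro ⟨x, hx, rfl⟩
    refine ⟨alphaFun t x, hA x hx, ?_⟩
    rw [twist_φ, alpha_alpha]

theorem twist_U (t : F4) : (twist h t).U = h.U := twist_map h t _ (alpha_U t)
theorem twist_R (t : F4) : (twist h t).R = h.R := twist_map h t _ (alpha_R t)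
theorem twist_E1 (t : F4) : (twist h t).E1 = h.E1 := twist_map h t _ (alpha_E1 t)
theorem twist_E2 (t : F4) : (twist h t).E2 = h.E2 := twist_map h t _ (alpha_E2 t)
theorem twist_Q (t : F4) : (twist h t).Q = h.Q := twist_map h t _ (alpha_Q t)

theorem twist_S (t : F4) : (twist h t).S = h.S := by
  ext y
  constructor
  · rintro ⟨x, rfl⟩
    exact ⟨alphaFun t x, rfl⟩
  · rintro ⟨x, rfl⟩
    exact ⟨alphaFun t x, by rw [twist_φ, alpha_alpha]⟩

theorem twist_fused {h : Setup G} (hf : Fused h) (t : F4) : Fused (twist h t) := by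
  refine ⟨?_, ?_⟩
  · rw [twist_R, twist_v, twist_z]
    exact hf.f1
  · rw [twist_Q, twist_z, twist_v, twist_tau]
    exact hf.f2

theorem twist_J2 {h : Setup G} (hJ : J2 h) (t : F4) : J2 (twist h t) := by
  unfold J2
  rw [twist_E1, twist_U, twist_z]
  exact hJ

theorem twist_CZ0 {h : Setup G} (hc : CZ0 h) (t : F4) : CZ0 (twist h t) := by
  have key : ∀ (z' : G) (Q' : Subgroup G), z' = h.z → Q' = h.Q →
      ∃ _ : ((Q' ⊔ Cfsg.centralizerPPrimeCore 2 z').subgroupOf
        (centralizer ({z'} : Set G))).Normal,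
      Nonempty (↥(centralizer ({z'} : Set G)) ⧸
        ((Q' ⊔ Cfsg.centralizerPPrimeCore 2 z').subgroupOf (centralizer ({z'} : Set G))) ≃*
        alternatingGroup (Fin 5)) := by
    rintro _ _ rfl rfl
    exact ⟨hc.normal, hc.quot⟩
  obtain ⟨h1, h2⟩ := key _ _ (twist_z h t) (twist_Q h t)
  exact ⟨h1, h2⟩

/-! ### coordinates -/

variable {h}

theorem el_mul (x c x' c' : F4) : h.el x c * h.el x' c' = h.el (x + x') (c + c') := by
  change h.φ _ * h.φ _ = h.φ _
  rw [← map_mul]
  congr 1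
  revert x c x' c'
  decide +kernel

theorem el_mem_E1 (x c : F4) : h.el x c ∈ h.E1 :=
  (BasicA.mem_map_iff h).mpr (by exact ⟨rfl, rfl⟩)

theorem exists_el {g : G} (hg : g ∈ h.E1) : ∃ x c : F4, g = h.el x c := by
  obtain ⟨⟨x, y, c, s⟩, ⟨h1, h2⟩, rfl⟩ := hg
  change y = o at h1
  change s = false at h2
  subst h1
  subst h2
  exact ⟨x, c, rfl⟩

theorem el_mem_U {x c : F4} : h.el x c ∈ h.U ↔ x = o := by
  constructor
  · intro h1
    exact ((BasicA.mem_map_iff h).mp h1).1
  · rintro rfl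
    exact (BasicA.mem_map_iff h).mpr ⟨rfl, rfl, rfl⟩

theorem el_z : h.el o e = h.z := rfl
theorem el_v : h.el o w = h.v := rfl
theorem el_vz : h.el o u = h.v * h.z := by
  rw [← el_z, ← el_v, el_mul]
  rfl
theorem el_one : h.el o o = 1 := map_one h.φ
theorem el_a : h.el e o = h.a := rfl

theorem a_mem : h.a ∈ h.E1 := el_mem_E1 e o
theorem a_notMem : h.a ∉ h.U := by
  rw [← el_a, el_mem_U]
  decide

theorem el_inj {x c x' c' : F4} (hxc : h.el x c = h.el x' c') : x = x' ∧ c = c' := by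
  have h1 := h.inj hxc
  have h2 := congrArg T.a h1
  have h3 := congrArg T.c h1
  exact ⟨h2, h3⟩

theorem F4_add_o : ∀ x : F4, x + o = x := by decide
theorem F4_o_add : ∀ x : F4, o + x = x := by decide
theorem F4_eq_of : ∀ x y : F4, o = x + y → y = x := by decide
theorem F4_tw_o : ∀ s : F4, o + s * (o * o + o) = o := by decide
theorem F4_tw_e : ∀ s : F4, o + s * (e * e + e) = o := by decide
theorem F4_tw_w : ∀ s : F4, o + s * (w * w + w) = s := by decide
theorem F4_tw_u : ∀ s : F4, o + s * (u * u + u) = s := by decide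
theorem F4_e_w : (e : F4) + w = u := by decide
theorem twist_el_aux : ∀ s x c : F4, alphaFun s ⟨x, o, c, false⟩ =
    ⟨x, o, c + s * (x * x + x), false⟩ := by decide

theorem twist_el (s x c : F4) : (twist h s).el x c = h.el x (c + s * (x * x + x)) := by
  change h.φ (alphaFun s _) = h.φ _
  rw [twist_el_aux]

theorem twist_a (s : F4) : (twist h s).a = h.a := by
  change (twist h s).el e o = h.el e o
  rw [twist_el, F4_tw_e]

/-- the J2-hypothesis for one element -/
theorem J2_iff [Finite G] (hc : CZ0 h) : J2 h ↔ ¬ IsConj h.z h.a := by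
  constructor
  · intro hJ
    exact hJ _ a_mem a_notMem
  · intro hn x hx hxU hxz
    obtain ⟨k, -, -, -, hk⟩ := trans_E1 h hc.normal hc.quot hx hxU a_mem a_notMem
    exact hn (hxz.trans (isConj_iff.mpr ⟨k, hk⟩))

/-- under `Rot` the element `c` multiplies `U` by `w`. -/
theorem rot_U {a c : G} (hr : Rot h a c) (y : F4) : c * h.el o y * c⁻¹ = h.el o (w * y) := by
  cases y
  · change c * h.el o o * c⁻¹ = h.el o o
    rw [el_one]; group
  · exact hr.z
  · change c * h.v * c⁻¹ = h.el o u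
    rw [el_vz]
    exact hr.v
  · change c * h.el o u * c⁻¹ = h.z
    rw [el_vz]
    exact hr.vz

/-- the element of `Std` -/
theorem rot_of_std {c : G} (h1 : ∀ x : F4, c * h.el x o * c⁻¹ = h.el x o)
    (h2 : ∀ y : F4, c * h.el o y * c⁻¹ = h.el o (w * y)) : Rot h h.a c := by
  refine ⟨⟨?_, ?_⟩, ?_, ?_⟩
  · have := h1 e
    rwa [mul_inv_eq_iff_eq_mul] at this
  · intro g hg
    obtain ⟨x, y, rfl⟩ := exists_el hg
    have h3 : h.el x y = h.el x o * h.el o y := by
      rw [el_mul, F4_add_o, F4_o_add]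
    have h4 : c * h.el x y * c⁻¹ = (c * h.el x o * c⁻¹) * (c * h.el o y * c⁻¹) := by
      rw [h3]; group
    rw [h4, h1, h2]
    exact h.E1.mul_mem (el_mem_E1 _ _) (el_mem_E1 _ _)
  · exact h2 e
  · have := h2 w
    rw [show (w : F4) * w = u from rfl, el_vz] at this
    exact this

theorem el_mem_Va [Finite G] (hf : Fused h) (hJ : J2 h) (hs : Std h) (x : F4) :
    h.el x o ∈ Va h h.a := by
  obtain ⟨c, h1, h2⟩ := hs
  rw [(rot_of_std h1 h2).mem_Va_iff hf hJ a_mem a_notMem]
  refine ⟨el_mem_E1 _ _, ?_⟩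
  have := h1 x
  rwa [mul_inv_eq_iff_eq_mul] at this

theorem std_of_rot [Finite G] (hf : Fused h) (hJ : J2 h) {c : G} (hr : Rot h h.a c)
    (hV : ∀ x : F4, h.el x o ∈ Va h h.a) : Std h := by
  refine ⟨c, fun x => ?_, rot_U hr⟩
  have := ((hr.mem_Va_iff hf hJ a_mem a_notMem).mp (hV x)).2
  rw [this, mul_inv_cancel_right]

/-- every set-up can be twisted to a standard one. -/
theorem exists_std [Finite G] (hf : Fused h) (hJ : J2 h) (hc : CZ0 h) :
    ∃ t : F4, Std (twist h t) := by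
  obtain ⟨c, hr⟩ := exists_rot hf hJ hc (a := h.a) a_mem a_notMem
  obtain ⟨u', hu, y, hy, huy⟩ := hr.exists_mul hf hJ a_mem a_notMem (x := h.el w o)
    (el_mem_E1 _ _)
  obtain ⟨x1, s, rfl⟩ := exists_el (BasicA.U_le_E1 h hu)
  have hx1 := el_mem_U.mp hu
  subst hx1
  obtain ⟨x2, s2, rfl⟩ := exists_el (Va_le hy)
  rw [el_mul] at huy
  obtain ⟨h1, h2⟩ := el_inj huy
  rw [F4_o_add] at h1
  have hs2 : s2 = s := F4_eq_of _ _ h2
  subst h1 hs2
  refine ⟨s2, ?_⟩
  have hr' : Rot (twist h s2) (twist h s2).a c := by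
    refine ⟨⟨?_, ?_⟩, ?_, ?_⟩
    · rw [twist_a]; exact hr.na.comm
    · rw [twist_E1]; exact hr.na.nrm
    · rw [twist_z, twist_v]; exact hr.z
    · rw [twist_z, twist_v]; exact hr.v
  apply std_of_rot (twist_fused hf s2) (twist_J2 hJ s2) hr'
  intro x
  rw [hr'.mem_Va_iff (twist_fused hf s2) (twist_J2 hJ s2) a_mem a_notMem]
  refine ⟨el_mem_E1 _ _, ?_⟩
  have hca : c * h.el e o = h.el e o * c := hr.na.comm
  have hcw : c * h.el w s2 = h.el w s2 * c :=
    ((hr.mem_Va_iff hf hJ a_mem a_notMem).mp hy).2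
  have hcu : c * h.el u s2 = h.el u s2 * c := by
    have h3 : h.el u s2 = h.el e o * h.el w s2 := by
      rw [el_mul, F4_o_add, F4_e_w]
    rw [h3, ← mul_assoc, hca, mul_assoc, hcw, mul_assoc]
  rw [twist_el]
  cases x
  · rw [F4_tw_o, el_one, mul_one, one_mul]
  · rw [F4_tw_e]
    exact hca
  · rw [F4_tw_w]
    exact hcw
  · rw [F4_tw_u]
    exact hcu

end Cfsg.Agent.J2Sylow.Twist
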