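import Mathlib
import Cfsg.Agent.J2Sylow.Twist
import Cfsg.Agent.J2Sylow.CentA
import Cfsg.Agent.J2Sylow.CentPSL
import Cfsg.Agent.J2Sylow.StarPSL

set_option autoImplicit false

/-! The fields `c3`, `d3`, `cen`, `star` of `Tab`, and `std_of_le`. -/

namespace Cfsg.Agent.J2Sylow.TabA

open Subgroup Model Model.F4 E1Fusion E1J2 VaSub Twist Cfsg Cfsg.Agent.Lib

universe u'

variable {G : Type u'} [Group G] {h : Setup G}

theorem mem_Va_iff [Finite G] (hf : Fused h) (hJ : J2 h) (hs : Std h) {y : G} :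
    y ∈ Va h h.a ↔ ∃ x : F4, y = h.el x o := by
  constructor
  · intro hy
    obtain ⟨x, c, rfl⟩ := exists_el (Va_le hy)
    obtain ⟨d, h1, h2⟩ := hs
    have hr := rot_of_std h1 h2
    have h3 := (Va h h.a).mul_mem hy (el_mem_Va hf hJ ⟨d, h1, h2⟩ x)
    rw [el_mul, F4_add_o] at h3
    have h4 : x + x = (o : F4) := F4.add_self x
    rw [h4] at h3
    have h5 : h.el o c ∈ Va h h.a ⊓ h.U := ⟨h3, el_mem_U.mpr rfl⟩
    rw [hr.inf_U hf hJ a_mem a_notMem, mem_bot, ← el_one (h := h)] at h5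
    exact ⟨x, by rw [(el_inj h5).2]⟩
  · rintro ⟨x, rfl⟩
    exact el_mem_Va hf hJ hs x

theorem cen [Finite G] (hf : Fused h) (hJ : J2 h) (hs : Std h) (g : G) (hg : g * h.a = h.a * g)
    (x : F4) : g * h.el x o * g⁻¹ * (h.el x o)⁻¹ ∈ KK h.a := by
  obtain ⟨c, h1, h2⟩ := hs
  exact CentA.central' hf hJ a_mem a_notMem (rot_of_std h1 h2) (el_mem_Va hf hJ ⟨c, h1, h2⟩ x) hg

/-- an element of odd order normalising `U` and centralising `z` centralises `U`. -/
theorem cent_U_of_odd {d : G} {n : ℕ} (hn : Odd n) (hdn : d ^ n = 1)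
    (hdz : d * h.z = h.z * d) (hdU : Nrm h.U d) : ∀ u ∈ h.U, d * u * d⁻¹ = u := by
  have hz : d * h.z * d⁻¹ = h.z := by rw [hdz, mul_inv_cancel_right]
  have hv : d * h.v * d⁻¹ = h.v := by
    rcases BasicA.U_cases h (hdU _ (BasicA.v_mem_U h)) with e1 | e1 | e1 | e1
    · exfalso
      apply BasicA.v_ne h
      have : h.v = d⁻¹ * (d * h.v * d⁻¹) * d := by group
      rw [this, e1]; group
    · exfalso
      exact BasicA.v_ne_z h (conj_eq_imp (e1.trans hz.symm))
    · exact e1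
    · exfalso
      have key : ∀ j : ℕ, d ^ j * h.v * (d ^ j)⁻¹ = h.v * h.z ^ j := by
        intro j
        induction j with
        | zero => simp
        | succ j ih =>
          rw [pow_conj_succ, ih]
          have : d * (h.v * h.z ^ j) * d⁻¹ = (d * h.v * d⁻¹) * (d * h.z * d⁻¹) ^ j := by
            rw [conj_pow]; group
          rw [this, e1, hz, pow_succ', mul_assoc]
      have h1 := key n
      obtain ⟨j, rfl⟩ := hn
      rw [hdn, one_mul, inv_one, mul_one, pow_succ, pow_mul, pow_two, BasicA.z_sq h, one_pow,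
        one_mul] at h1
      exact BasicA.z_ne h (left_eq_mul.mp h1)
  intro u hu
  rcases BasicA.U_cases h hu with rfl | rfl | rfl | rfl
  · group
  · exact hz
  · exact hv
  · have : d * (h.v * h.z) * d⁻¹ = (d * h.v * d⁻¹) * (d * h.z * d⁻¹) := by group
    rw [this, hv, hz]

theorem R_triv {r y : G} (hr : r ∈ h.R) (hy : y ∈ h.E1) : r * y * r⁻¹ * y⁻¹ ∈ h.U := by
  obtain ⟨s, hs, rfl⟩ := hr
  obtain ⟨t, ht, rfl⟩ := hy
  rw [← map_mul, ← map_inv, ← map_mul, ← map_inv, ← map_mul]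
  exact (BasicA.mem_map_iff h).mpr (ModelA.R_triv s t hs ht)

theorem ne_facts : (e : F4) ≠ w ∧ (e : F4) ≠ o ∧ (w : F4) ≠ o := by decide

theorem F4_dec : ∀ x : F4, x ≠ o → x ≠ w → x = e ∨ x = u := by decide

theorem d3 [Finite G] (hf : Fused h) (hJ : J2 h) (hc : CZ0 h) (hs : Std h) :
    ∃ d : G, (∀ y : F4, d * h.el o y * d⁻¹ = h.el o y) ∧
      ∀ x : F4, d * h.el x o * d⁻¹ = h.el (w * x) o := by
  obtain ⟨d0, ⟨n, hn, hdn⟩, hdz, -, hdE, hdU, hd⟩ := exists_d h hc.normal hc.quot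
  have hd0U := cent_U_of_odd hn hdn hdz hdU
  have hwU : h.el w o ∉ h.U := by
    rw [el_mem_U]
    exact ne_facts.2.2
  obtain ⟨i, hi⟩ := hd h.a a_mem a_notMem (h.el w o) (el_mem_E1 _ _) hwU
  set d := d0 ^ i with hddef
  have hdn' : d ^ n = 1 := by rw [hddef, ← pow_mul, mul_comm, pow_mul, hdn, one_pow]
  have hdE' : Nrm h.E1 d := hdE.pow i
  have hdU' : ∀ u ∈ h.U, d * u * d⁻¹ = u := by
    intro u hu
    have key : ∀ j : ℕ, d0 ^ j * u * (d0 ^ j)⁻¹ = u := by
      intro j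
      induction j with
      | zero => simp
      | succ j ih => rw [pow_conj_succ, ih, hd0U u hu]
    exact key i
  have ha1 := hdE' _ (a_mem (h := h))
  have ha1U : d * h.a * d⁻¹ ∉ h.U := by
    intro h1
    apply hwU
    have h2 : h.el w o = (d * h.a * d⁻¹ * (h.el w o)⁻¹)⁻¹ * (d * h.a * d⁻¹) := by group
    rw [h2]
    exact h.U.mul_mem (h.U.inv_mem hi) h1
  obtain ⟨r, hr, hra⟩ := BasicA.R_trans h ha1 (el_mem_E1 w o) ha1U hi
  set k := r * d with hk
  have hkE : Nrm h.E1 k := Nrm.mul (fun x hx => BasicA.E1_conj h hx hr) hdE'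
  have hka : k * h.a * k⁻¹ = h.el w o := by
    rw [← hra, hk]; group
  have hkU : ∀ u ∈ h.U, k * u * k⁻¹ = u := by
    intro u hu
    have h1 : k * u * k⁻¹ = r * (d * u * d⁻¹) * r⁻¹ := by rw [hk]; group
    rw [h1, hdU' u hu, ← BasicA.U_comm_R h hu hr, mul_inv_cancel_right]
  obtain ⟨c, h1, h2⟩ := hs
  have hs : Std h := ⟨c, h1, h2⟩
  have hrot := rot_of_std h1 h2
  have hwVa : h.el w o ∈ Va h h.a := el_mem_Va hf hJ hs w
  have hw1 : h.el w o ≠ 1 := fun e1 => hwU (e1 ▸ h.U.one_mem)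
  have hVa : Va h (h.el w o) = Va h h.a := hrot.Va_eq hf hJ a_mem a_notMem hwVa hw1
  have hkV : ∀ x : F4, ∃ y : F4, k * h.el x o * k⁻¹ = h.el y o := by
    intro x
    have h3 := Va_conj hkE (el_mem_Va hf hJ hs x)
    rw [hka, hVa, mem_Va_iff hf hJ hs] at h3
    exact h3
  obtain ⟨x', hx'⟩ := hkV w
  have hx'o : x' ≠ o := by
    rintro rfl
    rw [el_one] at hx'
    apply hw1
    have : h.el w o = k⁻¹ * (k * h.el w o * k⁻¹) * k := by group
    rw [this, hx']; group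
  have hx'w : x' ≠ w := by
    rintro rfl
    have h3 := conj_eq_imp (hx'.trans hka.symm)
    exact ne_facts.1 (el_inj h3).1.symm
  have hx'u : x' = u := by
    rcases F4_dec x' hx'o hx'w with e1 | e1
    · exfalso
      rw [e1] at hx'
      -- k swaps the cosets, hence d does
      have hmod : ∀ y ∈ h.E1, (d * y * d⁻¹) * (k * y * k⁻¹)⁻¹ ∈ h.U := by
        intro y hy
        have h3 := R_triv (h := h) hr (hdE' y hy)
        have h4 := h.U.inv_mem h3
        have h5 : (r * (d * y * d⁻¹) * r⁻¹ * (d * y * d⁻¹)⁻¹)⁻¹ =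
            (d * y * d⁻¹) * (k * y * k⁻¹)⁻¹ := by rw [hk]; group
        rwa [h5] at h4
      have hpres : ∀ x y : G, x * y⁻¹ ∈ h.U → (d * x * d⁻¹) * (d * y * d⁻¹)⁻¹ ∈ h.U := by
        intro x y hxy
        have h3 : (d * x * d⁻¹) * (d * y * d⁻¹)⁻¹ = d * (x * y⁻¹) * d⁻¹ := by group
        rw [h3, hdU' _ hxy]
        exact hxy
      have htrans : ∀ x y z : G, x * y⁻¹ ∈ h.U → y * z⁻¹ ∈ h.U → x * z⁻¹ ∈ h.U := by
        intro x y z hxy hyz
        have h3 : x * z⁻¹ = (x * y⁻¹) * (y * z⁻¹) := by group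
        rw [h3]
        exact h.U.mul_mem hxy hyz
      have hde : (d * h.el e o * d⁻¹) * (h.el w o)⁻¹ ∈ h.U := by
        have h3 := hmod (h.el e o) (el_mem_E1 _ _)
        have h4 : k * h.el e o * k⁻¹ = h.el w o := hka
        rwa [h4] at h3
      have hdw : (d * h.el w o * d⁻¹) * (h.el e o)⁻¹ ∈ h.U := by
        have h3 := hmod (h.el w o) (el_mem_E1 _ _)
        rwa [hx'] at h3
      have key : ∀ j : ℕ, d ^ (2 * j) * h.el e o * (d ^ (2 * j))⁻¹ * (h.el e o)⁻¹ ∈ h.U := by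
        intro j
        induction j with
        | zero =>
          rw [mul_zero, pow_zero, one_mul, inv_one, mul_one, mul_inv_cancel]
          exact h.U.one_mem
        | succ j ih =>
          rw [mul_add, mul_one, show 2 * j + 2 = (2 * j + 1) + 1 from rfl, pow_conj_succ,
            pow_conj_succ]
          have h3 := htrans _ _ _ (hpres _ _ ih) hde
          exact htrans _ _ _ (hpres _ _ h3) hdw
      obtain ⟨j, rfl⟩ := hn
      have h3 := htrans _ _ _ (hpres _ _ (key j)) hde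
      rw [← pow_conj_succ, hdn', one_mul, inv_one, mul_one] at h3
      have h4 : (h.el w o)⁻¹ = h.el w o :=
        inv_eq_of_mul_eq_one_left (BasicA.E1_sq h (el_mem_E1 _ _))
      rw [h4, el_mul, el_mem_U] at h3
      revert h3
      decide
    · exact e1
  rw [hx'u] at hx'
  refine ⟨k, fun y => hkU _ (el_mem_U.mpr rfl), ?_⟩
  intro x
  cases x
  · change k * h.el o o * k⁻¹ = h.el o o
    rw [el_one]; group
  · exact hka
  · exact hx'
  · have h3 : h.el u o = h.el e o * h.el w o := by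
      rw [el_mul, F4_e_w]; rfl
    have h4 : k * (h.el e o * h.el w o) * k⁻¹ = (k * h.el e o * k⁻¹) * (k * h.el w o * k⁻¹) := by
      group
    have h5 : k * h.el e o * k⁻¹ = h.el w o := hka
    rw [h3, h4, h5, hx', el_mul]
    rfl

/-- standardness passes to subgroups. -/
theorem std_of_le [Finite G] {H : Subgroup G} (h2 : Setup H)
    (hcomp : ∀ t, ((h2.φ t : H) : G) = h.φ t) (hf : Fused h) (hJ : J2 h) (hs : Std h)
    (hf2 : Fused h2) (hc2 : CZ0 h2) : Std h2 := by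
  have hel : ∀ x y : F4, ((h2.el x y : H) : G) = h.el x y := fun x y => hcomp _
  have hE1 : ∀ g : H, g ∈ h2.E1 ↔ (g : G) ∈ h.E1 := by
    intro g
    constructor
    · rintro ⟨t, ht, rfl⟩
      exact ⟨t, ht, (hcomp t).symm⟩
    · rintro ⟨t, ht, hte⟩
      exact ⟨t, ht, Subtype.ext ((hcomp t).trans hte)⟩
  have hU : ∀ g : H, g ∈ h2.U ↔ (g : G) ∈ h.U := by
    intro g
    constructor
    · rintro ⟨t, ht, rfl⟩
      exact ⟨t, ht, (hcomp t).symm⟩
    · rintro ⟨t, ht, hte⟩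
      exact ⟨t, ht, Subtype.ext ((hcomp t).trans hte)⟩
  have hz : ((h2.z : H) : G) = h.z := hcomp _
  have hv : ((h2.v : H) : G) = h.v := hcomp _
  have hJ2 : J2 h2 := by
    intro x hx hxU hxz
    obtain ⟨g, hg⟩ := isConj_iff.mp hxz
    refine hJ x ((hE1 x).mp hx) (fun h1 => hxU ((hU x).mpr h1)) (isConj_iff.mpr ⟨g, ?_⟩)
    have := congrArg Subtype.val hg
    rw [← hz]
    exact this
  obtain ⟨c, hr⟩ := exists_rot hf2 hJ2 hc2 (a := h2.a) a_mem a_notMem
  have hcN : Na h h.a c := by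
    refine ⟨?_, ?_⟩
    · have := congrArg Subtype.val hr.na.comm
      have ha : ((h2.a : H) : G) = h.a := hcomp _
      rw [← ha]
      exact this
    · intro x hx
      obtain ⟨x1, y1, rfl⟩ := exists_el hx
      have h1 := hr.na.nrm (h2.el x1 y1) (el_mem_E1 _ _)
      have h3 := (hE1 _).mp h1
      have h4 : ((c * h2.el x1 y1 * c⁻¹ : H) : G) = c * h.el x1 y1 * (c : G)⁻¹ := by
        rw [← hel]; rfl
      rwa [h4] at h3
  obtain ⟨c', h1, h3⟩ := hs
  have hrot := rot_of_std h1 h3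
  refine ⟨c, fun x => ?_, rot_U hr⟩
  have h4 := ((mem_Va.mp (el_mem_Va hf hJ ⟨c', h1, h3⟩ x)).2 c hcN)
  apply Subtype.ext
  change (c : G) * (h2.el x o : H) * (c : G)⁻¹ = (h2.el x o : H)
  rw [hel, h4, mul_inv_cancel_right]

end Cfsg.Agent.J2Sylow.TabA
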