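import Mathlib
import Cfsg.Agent.J2Sylow.TabA

set_option autoImplicit false

/-! The field `star` of `Tab`. -/

namespace Cfsg.Agent.J2Sylow.Star

open Subgroup Model Model.F4 E1Fusion E1J2 VaSub Twist Cfsg Cfsg.Agent.Lib CentA

universe u'

variable {G : Type u'} [Group G] {h : Setup G}

theorem star_aux (gw : CentPSL.GW.{u'}) [Finite G] (hf : Fused h) (hJ : J2 h) {a c : G}
    (ha : a ∈ h.E1) (haU : a ∉ h.U) (hrot : Rot h a c) {r : ℕ} (hr : r.Prime) (hr2 : r ≠ 2)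
    (D : Subgroup G) (hD : IsPGroup r D) (hDa : ∀ x ∈ D, x * a = a * x)
    (hDU : ∀ y ∈ h.U, ∀ x ∈ D, y * x * y⁻¹ ∈ D) :
    ∃ y ∈ h.U, y ≠ 1 ∧ ∀ x ∈ D, y * x * y⁻¹ * x⁻¹ ∈ KK a := by
  have hUC : h.U ≤ Ca a := (BasicA.U_le_E1 h).trans (E1_le_centralizer h ha)
  have hDC : D ≤ Ca a := fun x hx => mem_centralizer_singleton_iff.mpr (hDa x hx)
  obtain ⟨X, L, hC⟩ := CentAbs.main (hyp hf hJ ha haU hrot)
  have hOn := Cores.pPrimeCore_normal (G := Ca a) 2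
  set O := pPrimeCore 2 (Ca a) with hO
  set π := QuotientGroup.mk' O with hπ
  set U' := (h.U.subgroupOf (Ca a)).map π with hU'
  set D' := (D.subgroupOf (Ca a)).map π with hD'
  have hD'p : IsPGroup r D' := (hD.comap_of_injective _ (Ca a).subtype_injective).map _
  have hn : ∀ y ∈ U', ∀ x ∈ D', y * x * y⁻¹ ∈ D' := by
    rintro _ ⟨y, hy, rfl⟩ _ ⟨x, hx, rfl⟩
    refine ⟨y * x * y⁻¹, hDU _ hy _ hx, ?_⟩
    rw [map_mul, map_mul, map_inv]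
  suffices hmain : ∃ y ∈ U', y ≠ 1 ∧ ∀ x ∈ D', y * x * y⁻¹ = x by
    obtain ⟨_, ⟨y, hy, rfl⟩, hy1, hyx⟩ := hmain
    refine ⟨y, hy, ?_, ?_⟩
    · intro h1
      apply hy1
      have h2 : y = 1 := Subtype.ext h1
      rw [h2, map_one]
    · intro x hx
      have h1 := hyx (π ⟨x, hDC hx⟩) ⟨_, hx, rfl⟩
      have h2 : π (y * ⟨x, hDC hx⟩ * y⁻¹ * (⟨x, hDC hx⟩ : Ca a)⁻¹) = 1 := by
        rw [map_mul, map_mul, map_mul, map_inv, map_inv, h1, mul_inv_cancel]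
      rw [hπ, QuotientGroup.mk'_apply, QuotientGroup.eq_one_iff] at h2
      exact ⟨_, h2, rfl⟩
  have hU'4 : Nat.card U' = 4 := hC.cardU
  rcases hC.type with ⟨-, -, hUn, -⟩ | ⟨hLL, hmin⟩
  · have hnt : Nontrivial U' := Finite.one_lt_card_iff_nontrivial.mp (by rw [hU'4]; norm_num)
    obtain ⟨⟨y, hy⟩, hy1⟩ := exists_ne (1 : U')
    refine ⟨y, hy, fun h1 => hy1 (Subtype.ext h1), ?_⟩
    intro x hx
    have hinf : D' ⊓ U' = ⊥ := by
      apply Disjoint.eq_bot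
      apply disjoint_of_coprime_natCard
      have : Fact r.Prime := ⟨hr⟩
      obtain ⟨k, hk⟩ := IsPGroup.iff_card.mp hD'p
      rw [hk, hU'4]
      apply Nat.Coprime.pow_left
      have h2 : Nat.Coprime r 2 := (Nat.coprime_primes hr Nat.prime_two).mpr hr2
      exact Nat.Coprime.pow_right 2 h2
    have h1 : y * x * y⁻¹ * x⁻¹ ∈ D' ⊓ U' := by
      refine mem_inf.mpr ⟨D'.mul_mem (hn y hy x hx) (D'.inv_mem hx), ?_⟩
      have h2 := hUn.conj_mem _ (U'.inv_mem hy) x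
      have h3 : y * x * y⁻¹ * x⁻¹ = y * (x * y⁻¹ * x⁻¹) := by group
      rw [h3]
      exact U'.mul_mem hy h2
    rw [hinf, mem_bot, mul_inv_eq_one] at h1
    exact h1
  · obtain ⟨F, hF, hFt, hFodd, -, ⟨e⟩⟩ := CentPSL.exists_psl gw hC hLL hmin
    have hodd : Odd (U'.relIndex L) := by
      have h1 := relIndex_mul_relIndex U' L X hC.Ule hC.le
      have h2 := hC.oddU
      rw [← h1] at h2
      exact (Nat.odd_mul.mp h2).1
    exact StarPSL.star_psl hFodd L hC.Lnormal e U' hC.Ule hU'4 hC.sqU hodd r hr hr2 D' hD'p hn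

theorem star (gw : CentPSL.GW.{u'}) [Finite G] (hf : Fused h) (hJ : J2 h) (hs : Std h) :
    ∀ (r : ℕ), r.Prime → r ≠ 2 → ∀ D : Subgroup G, IsPGroup r D →
    (∀ x ∈ D, x * h.a = h.a * x) → (∀ y : F4, ∀ x ∈ D, h.el o y * x * (h.el o y)⁻¹ ∈ D) →
    ∃ y : F4, y ≠ o ∧ ∀ x ∈ D, h.el o y * x * (h.el o y)⁻¹ * x⁻¹ ∈ KK h.a := by
  intro r hr hr2 D hD hDa hDU
  obtain ⟨c, h1, h2⟩ := hs
  obtain ⟨y, hy, hy1, hyD⟩ := star_aux gw hf hJ a_mem a_notMem (rot_of_std h1 h2) hr hr2 D hD hDa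
    (by
      intro y hy x hx
      obtain ⟨x1, y1, rfl⟩ := exists_el (BasicA.U_le_E1 h hy)
      rw [el_mem_U.mp hy]
      exact hDU y1 x hx)
  obtain ⟨x1, y1, rfl⟩ := exists_el (BasicA.U_le_E1 h hy)
  have hx1 := el_mem_U.mp hy
  subst hx1
  refine ⟨y1, ?_, hyD⟩
  rintro rfl
  exact hy1 el_one

end Cfsg.Agent.J2Sylow.Star
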