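import Mathlib
import Cfsg.Agent.J2Sylow.Star
import Cfsg.Agent.J2Sylow.Functor
import Cfsg.Agent.Lib.KleinGen
import Cfsg.Agent.Lib.SolvableNormalP

set_option autoImplicit false

/-! Balance on `E1` from the `Bal` property. -/

namespace Cfsg.Agent.J2Sylow.Balance

open Subgroup Model Model.F4 E1Fusion E1J2 VaSub Twist Cfsg Cfsg.Agent.Lib CentA

universe u'

/-- the `m = 1` lemma for `PSL2(q)` -/
def MOneStmt : Prop := ∀ (W : Type u') [Group W] [Finite W] (V U X L : Subgroup W),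
  CentAbs.Concl V U X L → (⁅L, L⁆ = L → (∀ M : Subgroup W, M.Normal → M ≤ L → M = ⊥ ∨ M = L) →
    ∃ (F : Type) (_ : Field F) (_ : Fintype F), Odd (Fintype.card F) ∧ 3 < Fintype.card F ∧
      Nonempty (L ≃* Matrix.ProjectiveSpecialLinearGroup (Fin 2) F)) →
  ∀ z1 v1 : W, z1 ∈ U → v1 ∈ U → z1 ≠ 1 → v1 ≠ 1 → z1 ≠ v1 →
  (∀ x ∈ L, x * z1 = z1 * x → v1 * x * v1⁻¹ = x⁻¹ → Odd (orderOf x) → x = 1) →
  centralizer ({z1} : Set W) ⊓ X ≤ U

variable {G : Type u'} [Group G] {h : Setup G}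

/-- lifting of centralisers -/
theorem quot_cent [Finite G] {a : G} (P : Subgroup G) (hP : IsPGroup 2 P) (hPC : P ≤ Ca a)
    (g : Ca a) (hg : ∀ p (hp : p ∈ P), (⟨p, hPC hp⟩ : Ca a)⁻¹ * g⁻¹ * ⟨p, hPC hp⟩ * g ∈
      pPrimeCore 2 (Ca a)) :
    ∃ g' : Ca a, g'⁻¹ * g ∈ pPrimeCore 2 (Ca a) ∧ ∀ p ∈ P, p * (g' : G) = g' * p := by
  have : Fact (Nat.Prime 2) := ⟨Nat.prime_two⟩
  have hOn := Cores.pPrimeCore_normal (G := Ca a) 2
  have hOc := Cores.pPrimeCore_coprime (G := Ca a) 2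
  obtain ⟨g', h1, h2⟩ := SignalizersComponents.CoreOfCentralizer.exists_centralizing_of_quotient
    (p := 2) (P.subgroupOf (Ca a)) (hP.comap_of_injective _ (Ca a).subtype_injective)
    (pPrimeCore 2 (Ca a)) ((Nat.Prime.coprime_iff_not_dvd Nat.prime_two).mp hOc.symm)
    (QuotientGroup.mk' _ g) (by
      intro p hp
      have h1 := hg p hp
      rw [← map_mul, ← map_mul, QuotientGroup.mk'_apply, QuotientGroup.mk'_apply,
        eq_comm, QuotientGroup.eq]
      have h2 : (g * p)⁻¹ * (p * g) = p⁻¹ * g⁻¹ * p * g := by group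
      rw [h2]
      exact h1)
  refine ⟨g', ?_, ?_⟩
  · rw [← QuotientGroup.eq, ← QuotientGroup.mk'_apply, ← QuotientGroup.mk'_apply, h2]
  · intro p hp
    exact congrArg Subtype.val (h1 ⟨p, hPC hp⟩ hp)

/-- the image in `C(a)/O(C(a))` of `K(a') ∩ C(a)`. -/
theorem balance_a (gw : CentPSL.GW.{u'}) (mone : MOneStmt.{u'}) [Finite G] (hf : Fused h)
    (hJ : J2 h) (hs : Std h)
    (htwo : ∀ g : G, g * h.z = h.z * g → g * h.a * g⁻¹ * (h.a)⁻¹ ∈ KK h.z →
      ∃ n : ℕ, g ^ (2 ^ n) ∈ KK h.z)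
    (hbal : ∀ x ∈ KK h.z, (∀ t : F4, x * h.el t o = h.el t o * x) → h.v * x * h.v⁻¹ = x⁻¹ →
      x ∈ KK h.a) {a' : G} (ha' : a' ∈ h.E1) (ha'1 : a' ≠ 1) :
    KK a' ⊓ centralizer {h.a} ≤ KK h.a := by
  have : Fact (Nat.Prime 2) := ⟨Nat.prime_two⟩
  obtain ⟨c, hc1, hc2⟩ := hs
  have hs : Std h := ⟨c, hc1, hc2⟩
  have hrot := rot_of_std hc1 hc2
  have ha := a_mem (h := h)
  have haU := a_notMem (h := h)
  have hEC : h.E1 ≤ Ca h.a := E1_le_centralizer h ha
  have hUC : h.U ≤ Ca h.a := (BasicA.U_le_E1 h).trans hEC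
  have hEp : IsPGroup 2 h.E1 := BasicA.isPGroup_of_le h (BasicA.E1_le_S h)
  obtain ⟨X, L, hC⟩ := CentAbs.main (hyp hf hJ ha haU hrot)
  have hOn := Cores.pPrimeCore_normal (G := Ca h.a) 2
  have hOc := Cores.pPrimeCore_coprime (G := Ca h.a) 2
  set O := pPrimeCore 2 (Ca h.a) with hO
  set π := QuotientGroup.mk' O with hπ
  have hπs : Function.Surjective π := QuotientGroup.mk'_surjective O
  have hπ1 : ∀ g : Ca h.a, π g = 1 ↔ g ∈ O := fun g => by
    rw [hπ, QuotientGroup.mk'_apply, QuotientGroup.eq_one_iff]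
  have hπK : ∀ g (hg : g ∈ Ca h.a), π ⟨g, hg⟩ = 1 ↔ g ∈ KK h.a := fun g hg => by
    rw [hπ1]
    exact (mem_core hg).symm
  set U' := (h.U.subgroupOf (Ca h.a)).map π with hU'
  set V' := ((Va h h.a).subgroupOf (Ca h.a)).map π with hV'
  -- lifting of centralisers
  have hlift : ∀ (P : Subgroup G) (hP : P ≤ h.E1) (w : Ca h.a ⧸ O),
      (∀ p (hp : p ∈ P), π ⟨p, hEC (hP hp)⟩ * w = w * π ⟨p, hEC (hP hp)⟩) →
      ∃ g : Ca h.a, π g = w ∧ ∀ p ∈ P, p * (g : G) = g * p := by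
    intro P hP w hw
    obtain ⟨g, rfl⟩ := hπs w
    obtain ⟨g', h1, h2⟩ := quot_cent P (hEp.to_le hP) (hP.trans hEC) g (by
      intro p hp
      rw [← hO, ← hπ1, map_mul, map_mul, map_mul, map_inv, map_inv]
      have h1 := hw p hp
      rw [mul_assoc, mul_assoc, h1]
      group)
    refine ⟨g', ?_, h2⟩
    rw [← hO, ← hπ1, map_mul, map_inv, inv_mul_eq_one] at h1
    exact h1
  -- the subgroup D
  set D := KK a' ⊓ centralizer {h.a} with hD
  have hDC : D ≤ Ca h.a := inf_le_right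
  have hKa' := SignalizersComponents.CoreOfCentralizer.centralizerPPrimeCore_le 2 a'
  have hDodd : Odd (Nat.card D) :=
    Odd.of_dvd_nat (Functor.K_odd a') (card_dvd_of_le inf_le_left)
  set D' := (D.subgroupOf (Ca h.a)).map π with hD'
  have hD'odd : Odd (Nat.card D') := by
    have h1 : Nat.card D' ∣ Nat.card (D.subgroupOf (Ca h.a)) := card_map_dvd _ _
    have h2 : Nat.card (D.subgroupOf (Ca h.a)) = Nat.card D :=
      Nat.card_congr (subgroupOfEquivOfLe hDC).toEquiv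
    rw [h2] at h1
    exact Odd.of_dvd_nat hDodd h1
  suffices hbot : D' = ⊥ by
    intro x hx
    have h1 : π ⟨x, hDC hx⟩ ∈ D' := ⟨_, hx, rfl⟩
    rw [hbot, mem_bot] at h1
    exact (hπK x (hDC hx)).mp h1
  -- normalised by the centraliser of π a'
  have hD'n : ∀ w : Ca h.a ⧸ O, π ⟨a', hEC ha'⟩ * w = w * π ⟨a', hEC ha'⟩ →
      ∀ x ∈ D', w * x * w⁻¹ ∈ D' := by
    intro w hw
    obtain ⟨g, rfl, hg⟩ := hlift (zpowers a') (by rw [zpowers_le]; exact ha') w (by
      intro p hp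
      obtain ⟨k, rfl⟩ := mem_zpowers_iff.mp hp
      have h1 : π ⟨a' ^ k, hEC (h.E1.zpow_mem ha' k)⟩ = (π ⟨a', hEC ha'⟩) ^ k := by
        rw [← map_zpow]; rfl
      have h2 : π ⟨a' ^ k, hEC (h.E1.zpow_mem ha' k)⟩ * w =
          w * π ⟨a' ^ k, hEC (h.E1.zpow_mem ha' k)⟩ := by
        rw [h1]
        exact (Commute.zpow_left (show Commute (π ⟨a', hEC ha'⟩) w from hw) k).eq
      exact h2)
    rintro _ ⟨x, hx, rfl⟩
    refine ⟨g * x * g⁻¹, ?_, by rw [map_mul, map_mul, map_inv]⟩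
    have hga' : (g : G) ∈ centralizer ({a'} : Set G) :=
      mem_centralizer_singleton_iff.mpr (hg a' (mem_zpowers a')).symm
    have hx1 : (x : G) ∈ KK a' := (mem_inf.mp (show (x : G) ∈ D from hx)).1
    change ((g * x * g⁻¹ : Ca h.a) : G) ∈ D
    exact mem_inf.mpr ⟨Functor.K_conj hga' hx1, (g * x * g⁻¹).2⟩
  obtain ⟨u1, hu1, y, hy, hyu⟩ := hrot.exists_mul hf hJ ha haU ha'
  by_cases hu11 : u1 = 1
  · -- a' in Va: D' is normal
    rw [hu11, one_mul] at hyu
    subst hyu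
    have hD'norm : D'.Normal := ⟨fun x hx w => hD'n w (hC.central _ ⟨_, hy, rfl⟩ w) x hx⟩
    have h1 := Cores.le_pPrimeCore hD'norm (Nat.coprime_two_right.mpr hD'odd)
    rw [Cores.pPrimeCore_quotient_pPrimeCore, le_bot_iff] at h1
    exact h1
  · -- D' ≤ C_X(π u1) ≤ U'
    have hyC : y ∈ Ca h.a := hEC (Va_le hy)
    have hu1C : u1 ∈ Ca h.a := hUC hu1
    have hDX : D' ≤ X := by
      intro x hx
      obtain ⟨v, hv, x0, hx0, hvx⟩ := CentAux.exists_mul_of_mem_sup (H := V') (K := X)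
        (fun a _ k hk => hC.Xnormal.conj_mem k hk a) (by rw [hC.sup]; exact mem_top x)
      -- odd power argument
      have hxodd : Odd (orderOf x) := by
        have h1 : orderOf x ∣ Nat.card D' := by
          rw [← Nat.card_zpowers]
          exact card_dvd_of_le (by rw [zpowers_le]; exact hx)
        exact Odd.of_dvd_nat hD'odd h1
      have hv2 : v * v = 1 := by
        obtain ⟨v0, hv0, rfl⟩ := hv
        rw [← map_mul]
        have h1 : v0 * v0 = 1 := Subtype.ext (BasicA.E1_sq h (Va_le hv0))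
        rw [h1, map_one]
      have hcomm : Commute v x0 := hC.central v hv x0
      have h1 : x ^ orderOf x = v ^ orderOf x * x0 ^ orderOf x := by
        rw [← hcomm.mul_pow, ← hvx]
      have h2 : v ^ orderOf x = v := by
        obtain ⟨j, hj⟩ := hxodd
        rw [hj, pow_succ, pow_mul, pow_two, hv2, one_pow, one_mul]
      rw [pow_orderOf_eq_one, h2] at h1
      have h3 : v ∈ X := by
        have : v = (x0 ^ orderOf x)⁻¹ := eq_inv_of_mul_eq_one_left h1.symm
        rw [this]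
        exact X.inv_mem (X.pow_mem hx0 _)
      rw [hvx]
      exact X.mul_mem h3 hx0
    have hDcent : ∀ x ∈ D', x * π ⟨u1, hu1C⟩ = π ⟨u1, hu1C⟩ * x := by
      rintro _ ⟨x, hx, rfl⟩
      have hx1 : (x : G) ∈ KK a' := (mem_inf.mp (show (x : G) ∈ D from hx)).1
      have h1 : (x : G) * a' = a' * x := mem_centralizer_singleton_iff.mp (hKa' hx1)
      have h2 : x * ⟨a', hEC ha'⟩ = ⟨a', hEC ha'⟩ * x := Subtype.ext h1
      have h3 : (⟨a', hEC ha'⟩ : Ca h.a) = ⟨u1, hu1C⟩ * ⟨y, hyC⟩ := Subtype.ext hyu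
      rw [h3] at h2
      have h4 := congrArg π h2
      simp only [map_mul] at h4
      have h5 := hC.central (π ⟨y, hyC⟩) ⟨_, hy, rfl⟩ (π x)
      rw [mul_assoc _ _ (π x), h5, ← mul_assoc, ← mul_assoc] at h4
      exact mul_right_cancel h4
    -- the m = 1 lemma for z
    have hzC : h.z ∈ Ca h.a := hUC (BasicA.z_mem_U h)
    have hvC : h.v ∈ Ca h.a := hUC (BasicA.v_mem_U h)
    have hinjU : ∀ x (hx : x ∈ h.U), π ⟨x, hUC hx⟩ = 1 → x = 1 := by
      intro x hx h1
      rw [hπK] at h1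
      have h2 : x ∈ KK h.a ⊓ h.U := ⟨h1, hx⟩
      have h3 : KK h.a ⊓ h.U = ⊥ := by
        apply Disjoint.eq_bot
        apply disjoint_of_coprime_natCard
        rw [BasicA.card_U]
        exact Nat.Coprime.pow_right 2
          (SignalizersComponents.CoreOfCentralizer.card_centralizerPPrimeCore_coprime 2 h.a)
      rw [h3, mem_bot] at h2
      exact h2
    have hzU : centralizer ({π ⟨h.z, hzC⟩} : Set (Ca h.a ⧸ O)) ⊓ X ≤ U' := by
      refine mone _ V' U' X L hC (fun h1 h2 => CentPSL.exists_psl gw hC h1 h2) _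
        (π ⟨h.v, hvC⟩) ⟨⟨h.z, hzC⟩, BasicA.z_mem_U h, rfl⟩ ⟨⟨h.v, hvC⟩, BasicA.v_mem_U h, rfl⟩
        (fun h1 => BasicA.z_ne h (hinjU _ (BasicA.z_mem_U h) h1))
        (fun h1 => BasicA.v_ne h (hinjU _ (BasicA.v_mem_U h) h1)) ?_ ?_
      · intro h1
        have h2 : π ⟨h.v * h.z, hUC (h.U.mul_mem (BasicA.v_mem_U h) (BasicA.z_mem_U h))⟩ = 1 := by
          have h3 : (⟨h.v * h.z, hUC (h.U.mul_mem (BasicA.v_mem_U h) (BasicA.z_mem_U h))⟩ :
            Ca h.a) = ⟨h.v, hvC⟩ * ⟨h.z, hzC⟩ := rfl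
          rw [h3, map_mul, h1, ← map_mul]
          have h4 : (⟨h.v, hvC⟩ : Ca h.a) * ⟨h.v, hvC⟩ = 1 := Subtype.ext (BasicA.v_sq h)
          rw [h4, map_one]
        exact vz_ne_one (h := h)
          (hinjU _ (h.U.mul_mem (BasicA.v_mem_U h) (BasicA.z_mem_U h)) h2)
      · intro xb hxb hxz hxv hxodd
        have hxX := hC.le hxb
        -- P = Va ⊔ <z>
        obtain ⟨x0, hx0, hx0P⟩ := hlift (Va h h.a ⊔ zpowers h.z)
          (sup_le Va_le (by rw [zpowers_le]; exact BasicA.U_le_E1 h (BasicA.z_mem_U h))) xb (by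
            intro p hp
            obtain ⟨v, hv, q, hq, rfl⟩ := CentAux.exists_mul_of_mem_sup (by
              intro a2 ha2 k hk
              have hkE : k ∈ h.E1 := by
                have : zpowers h.z ≤ h.E1 := by
                  rw [zpowers_le]; exact BasicA.U_le_E1 h (BasicA.z_mem_U h)
                exact this hk
              rw [BasicA.E1_comm h (Va_le ha2) hkE, mul_inv_cancel_right]
              exact hk) hp
            obtain ⟨k, rfl⟩ := mem_zpowers_iff.mp hq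
            have hvE := Va_le hv
            have h1 : ∀ (hh : v * h.z ^ k ∈ Ca h.a), π ⟨v * h.z ^ k, hh⟩ =
                π ⟨v, hEC hvE⟩ * (π ⟨h.z, hzC⟩) ^ k := by
              intro hh
              rw [← map_zpow, ← map_mul]
              rfl
            rw [h1]
            have h2 := hC.central (π ⟨v, hEC hvE⟩) ⟨_, hv, rfl⟩ xb
            have h3 : Commute ((π ⟨h.z, hzC⟩) ^ k) xb :=
              Commute.zpow_left (show Commute (π ⟨h.z, hzC⟩) xb from hxz.symm) k
            rw [mul_assoc, h3.eq, ← mul_assoc, h2, mul_assoc])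
        have hx0z : (x0 : G) * h.z = h.z * x0 :=
          (hx0P _ ((le_sup_right : zpowers h.z ≤ _) (mem_zpowers h.z))).symm
        have hx0V : ∀ t : F4, (x0 : G) * h.el t o = h.el t o * x0 := fun t =>
          (hx0P _ ((le_sup_left : Va h h.a ≤ _) (el_mem_Va hf hJ hs t))).symm
        -- the odd group N
        let N : Subgroup G := ((zpowers xb).comap π).map (Ca h.a).subtype ⊓
          centralizer ((Va h h.a ⊔ zpowers h.z : Subgroup G) : Set G)
        have hNodd : Odd (Nat.card N) := by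
          have h1 : Nat.card N ∣ Nat.card (((zpowers xb).comap π).map (Ca h.a).subtype) :=
            card_dvd_of_le inf_le_left
          have h2 : Nat.card (((zpowers xb).comap π).map (Ca h.a).subtype) =
              Nat.card ((zpowers xb).comap π) :=
            (Nat.card_congr (((zpowers xb).comap π).equivMapOfInjective _
              (Ca h.a).subtype_injective).toEquiv).symm
          have h3 : Nat.card ((zpowers xb).comap π) = Nat.card (zpowers xb) * Nat.card O := by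
            rw [hπ]
            exact SolvableNormalP.card_comap_mk O (zpowers xb)
          rw [h2, h3, Nat.card_zpowers] at h1
          exact Odd.of_dvd_nat (hxodd.mul (Nat.coprime_two_right.mp hOc)) h1
        have hx0N : (x0 : G) ∈ N := by
          refine mem_inf.mpr ⟨⟨x0, ?_, rfl⟩, ?_⟩
          · change π x0 ∈ zpowers xb
            rw [hx0]
            exact mem_zpowers xb
          · rw [mem_centralizer_iff]
            intro p hp
            exact hx0P p hp
        have hvN : ∀ x ∈ N, h.v * x * h.v⁻¹ ∈ N := by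
          rintro x hx
          obtain ⟨⟨x1, hx1, rfl⟩, hx2⟩ := mem_inf.mp hx
          refine mem_inf.mpr ⟨⟨⟨h.v, hvC⟩ * x1 * ⟨h.v, hvC⟩⁻¹, ?_, rfl⟩, ?_⟩
          · change π (⟨h.v, hvC⟩ * x1 * ⟨h.v, hvC⟩⁻¹) ∈ zpowers xb
            rw [map_mul, map_mul, map_inv]
            obtain ⟨k, hk⟩ := mem_zpowers_iff.mp (show π x1 ∈ zpowers xb from hx1)
            rw [← hk, ← conj_zpow, hxv]
            exact zpow_mem (inv_mem (mem_zpowers xb)) k
          · rw [mem_centralizer_iff] at hx2 ⊢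
            intro p hp
            have hpE : p ∈ h.E1 := (sup_le Va_le (by
              rw [zpowers_le]; exact BasicA.U_le_E1 h (BasicA.z_mem_U h)) :
                Va h h.a ⊔ zpowers h.z ≤ h.E1) hp
            have h1 := hx2 p hp
            have h2 := BasicA.E1_comm h hpE (BasicA.U_le_E1 h (BasicA.v_mem_U h))
            have h3 : p * h.v⁻¹ = h.v⁻¹ * p := by
              rw [eq_inv_mul_iff_mul_eq, ← mul_assoc, ← h2, mul_inv_cancel_right]
            calc p * (h.v * (x1 : G) * h.v⁻¹) = (p * h.v) * x1 * h.v⁻¹ := by group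
              _ = h.v * (p * x1) * h.v⁻¹ := by rw [h2]; group
              _ = h.v * x1 * (p * h.v⁻¹) := by
                rw [show p * (x1 : G) = x1 * p from h1]; group
              _ = h.v * (x1 : G) * h.v⁻¹ * p := by rw [h3]; group
        obtain ⟨s, hs1, t, ht1, hsv, htv, hst⟩ :=
          KleinGen.exists_centralizer_mul_inverted N hNodd h.v (BasicA.v_sq h) hvN hx0N
        obtain ⟨⟨s1, hs2, rfl⟩, -⟩ := mem_inf.mp hs1
        obtain ⟨⟨t1, ht2, rfl⟩, ht3⟩ := mem_inf.mp ht1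
        have hps : π s1 = 1 := by
          obtain ⟨k, hk⟩ := mem_zpowers_iff.mp (show π s1 ∈ zpowers xb from hs2)
          have h1 : π ⟨h.v, hvC⟩ * π s1 * (π ⟨h.v, hvC⟩)⁻¹ = (π s1)⁻¹ := by
            rw [← hk, ← conj_zpow, hxv, inv_zpow]
          have h2 : (⟨h.v, hvC⟩ : Ca h.a) * s1 = s1 * ⟨h.v, hvC⟩ := Subtype.ext hsv
          have h3 : π ⟨h.v, hvC⟩ * π s1 * (π ⟨h.v, hvC⟩)⁻¹ = π s1 := by
            rw [← map_mul, h2, map_mul, mul_inv_cancel_right]
          have h4 : (π s1) ^ 2 = 1 := by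
            rw [pow_two]
            nth_rewrite 1 [← h3]
            rw [h1, inv_mul_cancel]
          have h5 : orderOf (π s1) ∣ orderOf xb := by
            rw [← hk]
            apply orderOf_dvd_of_pow_eq_one
            rw [← zpow_natCast, ← zpow_mul, mul_comm, zpow_mul, zpow_natCast, pow_orderOf_eq_one,
              one_zpow]
          have h6 : orderOf (π s1) ∣ 1 := by
            rw [← Nat.Coprime.gcd_eq_one (Nat.coprime_two_left.mpr hxodd)]
            exact Nat.dvd_gcd (orderOf_dvd_of_pow_eq_one h4) h5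
          rwa [Nat.dvd_one, orderOf_eq_one_iff] at h6
        have hxt : xb = π t1 := by
          have h1 : x0 = s1 * t1 := Subtype.ext hst
          rw [← hx0, h1, map_mul, hps, one_mul]
        -- t1 in K(z)
        rw [mem_centralizer_iff] at ht3
        have htz : (t1 : G) * h.z = h.z * t1 :=
          (ht3 _ ((le_sup_right : zpowers h.z ≤ _) (mem_zpowers h.z))).symm
        have htV : ∀ t : F4, (t1 : G) * h.el t o = h.el t o * t1 := fun t =>
          (ht3 _ ((le_sup_left : Va h h.a ≤ _) (el_mem_Va hf hJ hs t))).symm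
        have htodd : Odd (orderOf (t1 : G)) := by
          have h1 : orderOf (t1 : G) ∣ Nat.card N := by
            rw [← Nat.card_zpowers]
            exact card_dvd_of_le (by rw [zpowers_le]; exact ht1)
          exact Odd.of_dvd_nat hNodd h1
        have htK : (t1 : G) ∈ KK h.z := by
          obtain ⟨n, hn⟩ := htwo t1 htz (by
            have h1 : (t1 : G) * h.a * (t1 : G)⁻¹ * h.a⁻¹ = 1 := by
              have h2 := htV e
              rw [el_a] at h2
              rw [h2]; group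
            rw [h1]
            exact one_mem _)
          obtain ⟨q, hq⟩ := exists_pow_eq_self_of_coprime (x := (t1 : G)) (n := 2 ^ n)
            (Nat.Coprime.pow_left n (Nat.coprime_two_left.mpr htodd))
          rw [← hq]
          exact pow_mem hn q
        have htKa := hbal t1 htK htV htv
        rw [hxt]
        exact (hπK _ t1.2).mpr htKa
    have hall : ∀ u2 (hu2 : u2 ∈ h.U), u2 ≠ 1 →
        centralizer ({π ⟨u2, hUC hu2⟩} : Set (Ca h.a ⧸ O)) ⊓ X ≤ U' := by
      have hcC : c ∈ Ca h.a := mem_centralizer_singleton_iff.mpr hrot.na.comm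
      have hcUn := nrm_U hf hJ hrot.na.nrm
      have step : ∀ u2 (hu2 : u2 ∈ h.U),
          centralizer ({π ⟨u2, hUC hu2⟩} : Set (Ca h.a ⧸ O)) ⊓ X ≤ U' →
          centralizer ({π ⟨c * u2 * c⁻¹, hUC (hcUn u2 hu2)⟩} : Set (Ca h.a ⧸ O)) ⊓ X ≤ U' := by
        intro u2 hu2 hle x hx
        have hx1 := mem_centralizer_singleton_iff.mp (mem_inf.mp hx).1
        have hx2 := (mem_inf.mp hx).2
        have h1 : (⟨c * u2 * c⁻¹, hUC (hcUn u2 hu2)⟩ : Ca h.a) =
            ⟨c, hcC⟩ * ⟨u2, hUC hu2⟩ * ⟨c, hcC⟩⁻¹ := rfl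
        rw [h1, map_mul, map_mul, map_inv] at hx1
        have h2 : (π ⟨c, hcC⟩)⁻¹ * x * π ⟨c, hcC⟩ ∈
            centralizer ({π ⟨u2, hUC hu2⟩} : Set (Ca h.a ⧸ O)) ⊓ X := by
          refine mem_inf.mpr ⟨?_, ?_⟩
          · rw [mem_centralizer_singleton_iff]
            calc (π ⟨c, hcC⟩)⁻¹ * x * π ⟨c, hcC⟩ * π ⟨u2, hUC hu2⟩
                = (π ⟨c, hcC⟩)⁻¹ * (x * (π ⟨c, hcC⟩ * π ⟨u2, hUC hu2⟩ * (π ⟨c, hcC⟩)⁻¹)) *
                    π ⟨c, hcC⟩ := by group
              _ = _ := by rw [hx1]; group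
          · have h3 := hC.Xnormal.conj_mem x hx2 (π ⟨c, hcC⟩)⁻¹
            rwa [inv_inv] at h3
        obtain ⟨y2, hy2, hyx⟩ := hle h2
        refine ⟨⟨c, hcC⟩ * y2 * ⟨c, hcC⟩⁻¹, hcUn _ hy2, ?_⟩
        rw [map_mul, map_mul, map_inv, hyx]
        group
      have key : ∀ u2 (hu2 : u2 ∈ h.U) u3 (hu3 : u3 ∈ h.U), u2 = u3 →
          centralizer ({π ⟨u2, hUC hu2⟩} : Set (Ca h.a ⧸ O)) ⊓ X ≤ U' →
          centralizer ({π ⟨u3, hUC hu3⟩} : Set (Ca h.a ⧸ O)) ⊓ X ≤ U' := by
        rintro u2 hu2 _ hu3 rfl hle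
        exact hle
      have hz1 := hzU
      have hv1 := key _ (hcUn _ (BasicA.z_mem_U h)) h.v (BasicA.v_mem_U h) hrot.z
        (step _ (BasicA.z_mem_U h) hz1)
      have hvz1 := key _ (hcUn _ (BasicA.v_mem_U h)) (h.v * h.z)
        (h.U.mul_mem (BasicA.v_mem_U h) (BasicA.z_mem_U h)) hrot.v
        (step _ (BasicA.v_mem_U h) hv1)
      intro u2 hu2 hu21
      rcases BasicA.U_cases h hu2 with e1 | e1 | e1 | e1
      · exact absurd e1 hu21
      · exact key _ (BasicA.z_mem_U h) _ hu2 e1.symm hz1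
      · exact key _ (BasicA.v_mem_U h) _ hu2 e1.symm hv1
      · exact key _ (h.U.mul_mem (BasicA.v_mem_U h) (BasicA.z_mem_U h)) _ hu2 e1.symm hvz1
    have hDU : D' ≤ U' := by
      intro x hx
      exact hall u1 hu1 hu11 (mem_inf.mpr ⟨mem_centralizer_singleton_iff.mpr (hDcent x hx),
        hDX hx⟩)
    have h1 : Nat.card D' ∣ 4 := by
      have h2 : Nat.card U' = 4 := hC.cardU
      rw [← h2]
      exact card_dvd_of_le hDU
    have h2 : Nat.card D' = 1 := by
      have h3 : Nat.Coprime (Nat.card D') 4 :=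
        Nat.Coprime.pow_right 2 (Nat.coprime_two_right.mpr hD'odd)
      exact Nat.Coprime.eq_one_of_dvd h3 h1
    exact card_eq_one.mp h2

/-- balance on `E1` for all elements of `E1 - U`. -/
theorem balance (gw : CentPSL.GW.{u'}) (mone : MOneStmt.{u'}) [Finite G] (hf : Fused h)
    (hJ : J2 h) (hs : Std h) (hc : CZ0 h)
    (htwo : ∀ g : G, g * h.z = h.z * g → g * h.a * g⁻¹ * (h.a)⁻¹ ∈ KK h.z →
      ∃ n : ℕ, g ^ (2 ^ n) ∈ KK h.z)
    (hbal : ∀ x ∈ KK h.z, (∀ t : F4, x * h.el t o = h.el t o * x) → h.v * x * h.v⁻¹ = x⁻¹ →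
      x ∈ KK h.a) {a' b : G} (ha' : a' ∈ h.E1) (ha'1 : a' ≠ 1) (hb : b ∈ h.E1) (hbU : b ∉ h.U) :
    KK a' ⊓ centralizer {b} ≤ KK b := by
  obtain ⟨k, -, hkE, -, hkb⟩ := trans_E1 h hc.normal hc.quot hb hbU a_mem a_notMem
  intro x hx
  obtain ⟨hx1, hx2⟩ := mem_inf.mp hx
  have h1 := Functor.K_map k a' hx1
  have h2 : k * x * k⁻¹ ∈ centralizer ({h.a} : Set G) := by
    rw [mem_centralizer_singleton_iff, ← hkb]
    have h3 := mem_centralizer_singleton_iff.mp hx2
    calc k * x * k⁻¹ * (k * b * k⁻¹) = k * (x * b) * k⁻¹ := by group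
      _ = k * (b * x) * k⁻¹ := by rw [h3]
      _ = _ := by group
  have h3 : k * a' * k⁻¹ ≠ 1 := by
    intro h4
    apply ha'1
    have : a' = k⁻¹ * (k * a' * k⁻¹) * k := by group
    rw [this, h4]; group
  have h4 := balance_a gw mone hf hJ hs htwo hbal (hkE a' ha') h3 (mem_inf.mpr ⟨h1, h2⟩)
  have h5 := Functor.K_map k⁻¹ h.a h4
  have h6 : k⁻¹ * (k * x * k⁻¹) * k⁻¹⁻¹ = x := by group
  have h7 : k⁻¹ * h.a * k⁻¹⁻¹ = b := by rw [← hkb]; group
  rwa [h6, h7] at h5

end Cfsg.Agent.J2Sylow.Balance
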