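import Mathlib
import Cfsg.Agent.Dichotomy.Main
import Cfsg.Agent.Lib.KleinGen

/-!
The balanced end for groups whose Sylow 2-subgroups are those of `J₂`: the signalizer functor
`O(C(t))` has a closure `W`, the normaliser of `W` contains the centralisers of all its
involutions, so all the `O(C(t))` are trivial.
-/

set_option autoImplicit false
set_option linter.style.haveILetI false

namespace Cfsg.Agent.J2Sylow.BalancedEnd

open Cfsg Subgroup
open Cfsg.Agent.Dichotomy.Elem Cfsg.Agent.Dichotomy.Functor Cfsg.Agent.Dichotomy.Key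

variable {G : Type*} [Group G] [Finite G]

/-- A criterion for strong embedding. -/
theorem stronglyEmbedded_of_centralizer (S : Sylow 2 G) {H : Subgroup G} (hH : H ≠ ⊤)
    (hS : (S : Subgroup G) ≤ H) (hN : normalizer ((S : Subgroup G) : Set G) ≤ H)
    (heven : Even (Nat.card H))
    (hC : ∀ t ∈ H, orderOf t = 2 → centralizer ({t} : Set G) ≤ H) : IsStronglyEmbedded H := by
  haveI : Fact (Nat.Prime 2) := ⟨Nat.prime_two⟩
  refine ⟨hH, heven, ?_⟩
  intro g hg
  by_contra hodd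
  rw [Nat.not_odd_iff_even, even_iff_two_dvd] at hodd
  obtain ⟨t, ht⟩ := exists_prime_orderOf_dvd_card' 2 hodd
  have ht2 : orderOf (t : G) = 2 := by rw [Subgroup.orderOf_coe, ht]
  apply hg
  -- the conjugate has the same property
  have hC' : ∀ s ∈ H.map (MulAut.conj g).toMonoidHom, orderOf s = 2 →
      centralizer ({s} : Set G) ≤ H.map (MulAut.conj g).toMonoidHom := by
    rintro _ ⟨s, hs, rfl⟩ hs2 x hx
    have h1 : orderOf s = 2 := by
      rw [← hs2]; exact (orderOf_injective (MulAut.conj g).toMonoidHom (MulAut.conj g).injective s).symm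
    have hx' : x * (g * s * g⁻¹) = (g * s * g⁻¹) * x := mem_centralizer_singleton_iff.mp hx
    refine ⟨g⁻¹ * x * g, hC s hs h1 ?_, ?_⟩
    · rw [mem_centralizer_singleton_iff]
      calc g⁻¹ * x * g * s = g⁻¹ * (x * (g * s * g⁻¹)) * g := by group
        _ = s * (g⁻¹ * x * g) := by rw [hx']; group
    · show g * (g⁻¹ * x * g) * g⁻¹ = x
      group
  -- a Sylow subgroup containing `t`, and a central involution of it
  have hzp : IsPGroup 2 (zpowers (t : G)) := by
    rw [IsPGroup.iff_card]; exact ⟨1, by rw [Nat.card_zpowers, ht2]; norm_num⟩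
  obtain ⟨P, hP⟩ := hzp.exists_le_sylow
  have htP : (t : G) ∈ (P : Subgroup G) := hP (mem_zpowers _)
  have hPne : (P : Subgroup G) ≠ ⊥ := by
    intro h
    rw [h, mem_bot] at htP
    rw [htP, orderOf_one] at ht2
    norm_num at ht2
  obtain ⟨c, hcP, hc2, hc1, hcc⟩ := exists_central_involution P.2 hPne
  have hoc : orderOf c = 2 := orderOf_two hc2 hc1
  have htH := t.2.1
  have htH' := t.2.2
  have hct : c ∈ centralizer ({(t : G)} : Set G) :=
    mem_centralizer_singleton_iff.mpr (hcc t htP).symm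
  have hcH := hC t htH ht2 hct
  have hcH' := hC' t htH' ht2 hct
  have hPc : (P : Subgroup G) ≤ centralizer ({c} : Set G) := fun x hx =>
    mem_centralizer_singleton_iff.mpr (hcc x hx)
  have hPH := hPc.trans (hC c hcH hoc)
  have hPH' := hPc.trans (hC' c hcH' hoc)
  -- conjugacy inside `H`
  have hconj : ∀ R : Sylow 2 G, (R : Subgroup G) ≤ H →
      ∃ h ∈ H, (S : Subgroup G).map (MulAut.conj h).toMonoidHom = R := by
    intro R hR
    obtain ⟨⟨h, hh⟩, hconj⟩ := MulAction.exists_smul_eq H (S.subtype hS) (R.subtype hR)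
    refine ⟨h, hh, ?_⟩
    have h1 := congrArg (fun X : Sylow 2 H => (X : Subgroup H).map H.subtype) hconj
    simp only [Sylow.coe_subgroup_smul, Sylow.coe_subtype] at h1
    rw [subgroupOf_map_subtype, inf_eq_left.mpr hR] at h1
    rw [← h1]
    ext x
    constructor
    · rintro ⟨s, hs, rfl⟩
      refine ⟨(⟨h, hh⟩ : H) * ⟨s, hS hs⟩ * (⟨h, hh⟩ : H)⁻¹, ?_, rfl⟩
      exact smul_mem_pointwise_smul (⟨s, hS hs⟩ : H) (MulAut.conj (⟨h, hh⟩ : H)) _
        (mem_subgroupOf.mpr hs)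
    · rintro ⟨y, hy, rfl⟩
      rw [SetLike.mem_coe, mem_pointwise_smul_iff_inv_smul_mem] at hy
      rw [mem_subgroupOf] at hy
      refine ⟨_, hy, ?_⟩
      show h * ((((MulAut.conj (⟨h, hh⟩ : H))⁻¹ • y : H)) : G) * h⁻¹ = y
      rw [← map_inv]
      show h * (h⁻¹ * y * (h⁻¹)⁻¹) * h⁻¹ = y
      group
  obtain ⟨h, hh, hhS⟩ := hconj P hPH
  -- the conjugate of `P` under `g⁻¹`
  have hPg : ((P : Subgroup G).map (MulAut.conj g⁻¹).toMonoidHom) ≤ H := by
    rintro _ ⟨x, hx, rfl⟩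
    obtain ⟨y, hy, hyx⟩ := hPH' hx
    have h1 : g * y * g⁻¹ = x := hyx
    show g⁻¹ * x * (g⁻¹)⁻¹ ∈ H
    rw [← h1, inv_inv]
    have : g⁻¹ * (g * y * g⁻¹) * g = y := by group
    rw [this]; exact hy
  have hPg' : ((g⁻¹ • P : Sylow 2 G) : Subgroup G) = (P : Subgroup G).map (MulAut.conj g⁻¹).toMonoidHom := rfl
  obtain ⟨k, hk, hkS⟩ := hconj (g⁻¹ • P) (by rw [hPg']; exact hPg)
  rw [hPg', ← hhS] at hkS
  -- `k⁻¹ g⁻¹ h` normalises `S`
  have hnorm : k⁻¹ * g⁻¹ * h ∈ normalizer ((S : Subgroup G) : Set G) := by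
    apply mem_normalizer_of_map_eq
    have h1 := congrArg (fun X : Subgroup G => X.map (MulAut.conj k⁻¹).toMonoidHom) hkS
    rw [map_conj_inv] at h1
    rw [Subgroup.map_map, Subgroup.map_map] at h1
    refine Eq.trans ?_ h1.symm
    congr 1
    ext x
    show k⁻¹ * g⁻¹ * h * x * (k⁻¹ * g⁻¹ * h)⁻¹ = k⁻¹ * (g⁻¹ * (h * x * h⁻¹) * (g⁻¹)⁻¹) * (k⁻¹)⁻¹
    group
  have h2 := H.mul_mem (H.mul_mem hk (hN hnorm)) (H.inv_mem hh)
  have h3 : k * (k⁻¹ * g⁻¹ * h) * h⁻¹ = g⁻¹ := by group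
  rw [h3] at h2
  exact inv_mem_iff.mp h2

omit [Finite G] in
/-- The key inclusion. -/
theorem le_W_of_key {A : Subgroup G} {z u : G} (hz2 : z * z = 1) (hz1 : z ≠ 1)
    (hu2 : u * u = 1) (hu1 : u ≠ 1) (huz : u ≠ z) (hzu : z * u = u * z)
    (hzA : z ∈ A) (huA : u ∈ A) {Q : Subgroup G} (hzQ : z ∈ Q) (huQ : u ∈ Q)
    (hkey : ∀ v : G, (v = u ∨ v = z * u) → ∀ X : Subgroup G, ¬ 2 ∣ Nat.card X →
      X ≤ centralizer ({v} : Set G) → (∀ q ∈ Q, q * v = v * q → ∀ x ∈ X, q * x * q⁻¹ ∈ X) →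
      X ≤ centralizerPPrimeCore 2 v)
    {W2 : Subgroup G} (hW2 : ¬ 2 ∣ Nat.card W2) (hQW2 : ∀ q ∈ Q, ∀ w ∈ W2, q * w * q⁻¹ ∈ W2)
    (hz : W2 ⊓ centralizer ({z} : Set G) ≤ centralizerPPrimeCore 2 z) : W2 ≤ W A := by
  have hzu1 : z * u ≠ 1 := by
    intro h
    apply huz
    have h1 : z * (z * u) = z := by rw [h, mul_one]
    rw [← mul_assoc, hz2, one_mul] at h1
    exact h1
  have hodd : ∀ X : Subgroup G, X ≤ W2 → ¬ 2 ∣ Nat.card X := fun X hX h2 =>
    hW2 (h2.trans (card_dvd_of_le hX))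
  have hcase : ∀ v : G, (v = u ∨ v = z * u) → v ∈ A → v ≠ 1 →
      W2 ⊓ centralizer ({v} : Set G) ≤ W A := by
    intro v hv hvA hv1
    refine (hkey v hv _ (hodd _ inf_le_left) inf_le_right ?_).trans (le_W A hvA hv1)
    intro q hq hqv x hx
    rw [mem_inf, mem_centralizer_singleton_iff] at hx ⊢
    refine ⟨hQW2 q hq x hx.1, ?_⟩
    have h1 : q⁻¹ * v = v * q⁻¹ := ((show Commute q v from hqv).inv_left).eq
    calc q * x * q⁻¹ * v = q * x * (q⁻¹ * v) := by group
      _ = q * (x * v) * q⁻¹ := by rw [h1]; group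
      _ = q * v * x * q⁻¹ := by rw [hx.2]; group
      _ = v * (q * x * q⁻¹) := by rw [hqv]; group
  refine Lib.KleinGen.le_of_klein W2 (W A)
    (Nat.not_even_iff_odd.mp (fun h => hW2 (even_iff_two_dvd.mp h))) z u hz2 hu2 hzu
    (fun h hh => hQW2 z hzQ h hh) (fun h hh => hQW2 u huQ h hh) (hz.trans (le_W A hzA hz1)) ?_ ?_
  · exact hcase u (Or.inl rfl) huA hu1
  · exact hcase (z * u) (Or.inr rfl) (A.mul_mem hzA huA) hzu1

/-- Elements of `N(Q) ∩ C(z)` normalise `W A`. -/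
theorem mem_normalizer_W (hF : Fun G) {A : Subgroup G} (hA : Big A) {z u : G}
    (hz2 : z * z = 1) (hz1 : z ≠ 1)
    (hu2 : u * u = 1) (hu1 : u ≠ 1) (huz : u ≠ z) (hzu : z * u = u * z)
    (hzA : z ∈ A) (huA : u ∈ A) {Q : Subgroup G} (hzQ : z ∈ Q) (huQ : u ∈ Q)
    (hQz : ∀ q ∈ Q, q * z = z * q) (hQu : ∀ q ∈ Q, q * u * q⁻¹ = u ∨ q * u * q⁻¹ = z * u)
    (hkey : ∀ v : G, (v = u ∨ v = z * u) → ∀ X : Subgroup G, ¬ 2 ∣ Nat.card X →
      X ≤ centralizer ({v} : Set G) → (∀ q ∈ Q, q * v = v * q → ∀ x ∈ X, q * x * q⁻¹ ∈ X) →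
      X ≤ centralizerPPrimeCore 2 v)
    {n : G} (hnz : n * z = z * n) (hnQ : ∀ q ∈ Q, n⁻¹ * q * n ∈ Q) :
    n ∈ normalizer (W A : Set G) := by
  obtain ⟨hodd, hcpl⟩ := complete hF hA
  have hWu : W (four z u) = W A := W_four hF hA hzA huA hz1 hu1 huz.symm
  -- `Q` normalises `W A`
  have hQn : ∀ q ∈ Q, (W A).map (MulAut.conj q).toMonoidHom = W A := by
    intro q hq
    have h1 : q * z * q⁻¹ = z := by rw [hQz q hq]; group
    rw [← hWu, W_four_conj, h1]
    rcases hQu q hq with h2 | h2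
    · rw [h2]
    · rw [h2, four_mul_right hz2]
  set W2 : Subgroup G := (W A).map (MulAut.conj n).toMonoidHom with hW2
  have hcard : Nat.card W2 = Nat.card (W A) := card_map_of_injective (MulAut.conj n).injective
  have hle : W2 ≤ W A := by
    refine le_W_of_key hz2 hz1 hu2 hu1 huz hzu hzA huA hzQ huQ hkey (by rw [hcard]; exact hodd) ?_ ?_
    · rintro q hq _ ⟨w, hw, rfl⟩
      have h1 := hQn (n⁻¹ * q * n) (hnQ q hq)
      have h2 : (n⁻¹ * q * n) * w * (n⁻¹ * q * n)⁻¹ ∈ W A := by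
        rw [← h1]; exact ⟨w, hw, rfl⟩
      refine ⟨_, h2, ?_⟩
      show n * ((n⁻¹ * q * n) * w * (n⁻¹ * q * n)⁻¹) * n⁻¹ = q * (n * w * n⁻¹) * q⁻¹
      group
    · rintro x ⟨⟨w, hw, rfl⟩, hx⟩
      have hx' : (n * w * n⁻¹) * z = z * (n * w * n⁻¹) := mem_centralizer_singleton_iff.mp hx
      have hnz' : n⁻¹ * z = z * n⁻¹ := ((show Commute n z from hnz).inv_left).eq
      have hwz : w * z = z * w := by
        calc w * z = n⁻¹ * ((n * w * n⁻¹) * z) * n := by
              have : n⁻¹ * ((n * w * n⁻¹) * z) * n = w * (n⁻¹ * z) * n := by group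
              rw [this, hnz']; group
          _ = (n⁻¹ * z) * (n * w) := by rw [hx']; group
          _ = z * w := by rw [hnz']; group
      have h1 : w ∈ centralizerPPrimeCore 2 z := by
        rw [← hcpl z hzA hz1]
        exact ⟨hw, mem_centralizer_singleton_iff.mpr hwz⟩
      have h2 := th_conj z n
      have h3 : n * z * n⁻¹ = z := by rw [hnz]; group
      rw [h3] at h2
      rw [h2]
      exact ⟨w, h1, rfl⟩
  exact mem_normalizer_of_map_eq (eq_of_le_of_card_ge hle (by rw [hcard]))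

/-- The centraliser of an involution of `A` normalises `W A`, given a Frattini factorisation for a
four-group (or larger subgroup) `V` of `A`. -/
theorem centralizer_le_of_frattini (hF : Fun G) {A V : Subgroup G} (hA : Big A) (hVA : V ≤ A)
    (hV : 4 ≤ Nat.card V) {a : G} (haA : a ∈ A) (ha1 : a ≠ 1)
    (hfr : ∀ c ∈ centralizer ({a} : Set G), ∃ o ∈ centralizerPPrimeCore 2 a,
      ∃ n : G, (∀ v ∈ V, n * v * n⁻¹ ∈ V) ∧ c = o * n) :
    centralizer ({a} : Set G) ≤ normalizer (W A : Set G) := by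
  intro c hc
  obtain ⟨o, ho, n, hn, rfl⟩ := hfr c hc
  refine (normalizer (W A : Set G)).mul_mem (le_normalizer (le_W A haA ha1 ho)) ?_
  apply mem_normalizer_of_map_eq
  have h1 : V.map (MulAut.conj n).toMonoidHom = V := by
    refine eq_of_le_of_card_ge ?_ (by rw [card_map_of_injective (MulAut.conj n).injective])
    rintro _ ⟨v, hv, rfl⟩
    exact hn v hv
  rw [← W_eq_of_le hF hA hVA hV, W_conj, h1]

/-- The end of the balanced case. -/
theorem core_eq_bot (hF : Fun G) [IsSimpleGroup G] (S : Sylow 2 G) {A : Subgroup G} (hA : Big A)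
    (hSE : ∀ H : Subgroup G, IsStronglyEmbedded H →
      normalizer (W A : Set G) = H → W A = ⊥)
    (hNS : normalizer ((S : Subgroup G) : Set G) ≤ normalizer (W A : Set G))
    (hCA : ∀ a ∈ A, a ≠ 1 → centralizer ({a} : Set G) ≤ normalizer (W A : Set G))
    (hinv : ∀ t ∈ (S : Subgroup G), orderOf t = 2 →
      ∃ m ∈ normalizer (W A : Set G), m * t * m⁻¹ ∈ A) :
    W A = ⊥ ∧ ∀ t : G, orderOf t = 2 → centralizerPPrimeCore 2 t = ⊥ := by
  haveI : Fact (Nat.Prime 2) := ⟨Nat.prime_two⟩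
  obtain ⟨hodd, hcpl⟩ := complete hF hA
  obtain ⟨M, hM⟩ : ∃ M, M = normalizer (W A : Set G) := ⟨_, rfl⟩
  rw [← hM] at hNS hCA hinv
  have hSM : (S : Subgroup G) ≤ M := le_normalizer.trans hNS
  have horder : ∀ s g : G, orderOf s = 2 → orderOf (g * s * g⁻¹) = 2 := by
    intro s g hs
    rw [← hs]
    exact orderOf_injective (MulAut.conj g).toMonoidHom (MulAut.conj g).injective s
  -- `S` is nontrivial
  have hSeven : 2 ∣ Nat.card (S : Subgroup G) := by
    have h1 : 2 ∣ Nat.card G := by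
      have h2 := card_subgroup_dvd_card A
      have h3 : 2 ∣ Nat.card A := by
        have h4 := hA.2
        obtain ⟨k, hk⟩ := (IsPGroup.iff_card (p := 2)).1 (isPGroup_of_elem hA.1)
        rw [hk] at h4 ⊢
        have : k ≠ 0 := by rintro rfl; norm_num at h4
        exact dvd_pow_self 2 this
      exact h3.trans h2
    exact S.dvd_card_of_dvd_card h1
  have hMinv : ∀ t ∈ M, orderOf t = 2 → ∃ m ∈ M, m * t * m⁻¹ ∈ A := by
    intro t ht ht2
    obtain ⟨h, hh, hle⟩ := (Dichotomy.Main.isMaxP_of_le S hSM).exists_conj_le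
      (Dichotomy.Main.isPGroup_zpowers ht2) (by rwa [zpowers_le])
    have h1 : h * t * h⁻¹ ∈ (S : Subgroup G) := hle ⟨t, mem_zpowers t, rfl⟩
    obtain ⟨m, hm, hmA⟩ := hinv _ h1 (horder t h ht2)
    refine ⟨m * h, M.mul_mem hm hh, ?_⟩
    have h2 : m * h * t * (m * h)⁻¹ = m * (h * t * h⁻¹) * m⁻¹ := by group
    rw [h2]; exact hmA
  have hMC : ∀ t ∈ M, orderOf t = 2 → centralizer ({t} : Set G) ≤ M := by
    intro t ht ht2 x hx
    obtain ⟨m, hm, hmA⟩ := hMinv t ht ht2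
    have hne : m * t * m⁻¹ ≠ 1 := ne_one_of_orderOf (horder t m ht2)
    rw [mem_centralizer_singleton_iff] at hx
    have h1 : m * x * m⁻¹ ∈ M := by
      refine hCA _ hmA hne (mem_centralizer_singleton_iff.mpr ?_)
      calc m * x * m⁻¹ * (m * t * m⁻¹) = m * (x * t) * m⁻¹ := by group
        _ = m * t * m⁻¹ * (m * x * m⁻¹) := by rw [hx]; group
    have h2 := M.mul_mem (M.mul_mem (M.inv_mem hm) h1) hm
    have h3 : m⁻¹ * (m * x * m⁻¹) * m = x := by group
    rwa [h3] at h2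
  have hbot : W A = ⊥ := by
    by_cases hMt : M = ⊤
    · have hn : (W A).Normal := normalizer_eq_top_iff.1 (hM ▸ hMt)
      rcases hn.eq_bot_or_eq_top with h | h
      · exact h
      · exfalso
        apply hodd
        rw [h, card_top]
        exact hSeven.trans (card_subgroup_dvd_card _)
    · have hse : IsStronglyEmbedded M := by
        refine stronglyEmbedded_of_centralizer S hMt hSM hNS ?_ hMC
        rw [even_iff_two_dvd]
        exact hSeven.trans (card_dvd_of_le hSM)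
      exact hSE M hse hM.symm
  refine ⟨hbot, ?_⟩
  intro t ht
  obtain ⟨h, _, hle⟩ := (Dichotomy.Main.isMaxP_of_le S (le_top : (S : Subgroup G) ≤ ⊤)).exists_conj_le
    (Dichotomy.Main.isPGroup_zpowers ht) le_top
  have h1 : h * t * h⁻¹ ∈ (S : Subgroup G) := hle ⟨t, mem_zpowers t, rfl⟩
  obtain ⟨m, hm, hmA⟩ := hMinv _ (hSM h1) (horder t h ht)
  have h2 : m * (h * t * h⁻¹) * m⁻¹ = (m * h) * t * (m * h)⁻¹ := by group
  rw [h2] at hmA
  have h3 := le_W A hmA (ne_one_of_orderOf (horder t (m * h) ht))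
  rw [hbot, th_conj, le_bot_iff] at h3
  exact (Subgroup.map_eq_bot_iff_of_injective _ (MulAut.conj (m * h)).injective).1 h3

end Cfsg.Agent.J2Sylow.BalancedEnd
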