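import Mathlib
import Cfsg.Agent.S1295
import Cfsg.Agent.SignalizersComponents.PConstrained
import Cfsg.Agent.J2Sylow.AltFiveOdd
import Cfsg.Agent.J2Sylow.Basics

/-!
General tools for the balanced end of the characterisation by the Sylow 2-subgroup of `J₂`: odd order subgroups of
a group with a quotient `A₅`, a Frattini factorisation, a criterion for 2-constraint.
-/

set_option autoImplicit false

namespace Cfsg.Agent.J2Sylow.BalancedTools

open Subgroup Cfsg

variable {G : Type*} [Group G]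

/-- In a group `C` with normal subgroups `K` (odd) and `Q K`, `Q` a 2-group, and `C / Q K ≃ A₅`, an odd order
subgroup normalised by a 2-subgroup which covers a Sylow 2-subgroup of the quotient lies in `K`. -/
theorem le_of_normalized {C : Type*} [Group C] [Finite C] {Q K X L : Subgroup C} [hKn : K.Normal]
    (hQ : IsPGroup 2 Q) (π : C →* alternatingGroup (Fin 5)) (hker : π.ker = Q ⊔ K)
    (hX : ¬ 2 ∣ Nat.card X) (hLX : L ≤ normalizer (X : Set C))
    (h4 : Nat.card L = 4 * Nat.card (L ⊓ (Q ⊔ K) : Subgroup C)) : X ≤ K := by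
  have hcardL : Nat.card (L.map π) = 4 := by
    have h1 : Nat.card L = Nat.card ((π.ker).subgroupOf L) * Nat.card (L.map π) := by
      have h2 := Subgroup.card_mul_index ((π.comp L.subtype).ker)
      have h3 : (π.comp L.subtype).ker.index = Nat.card (π.comp L.subtype).range :=
        Subgroup.index_ker _
      have h4 : (π.comp L.subtype).range = L.map π := by
        rw [MonoidHom.range_comp, Subgroup.range_subtype]
      have h5 : (π.comp L.subtype).ker = (π.ker).subgroupOf L := by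
        ext x; rfl
      rw [h3, h4, h5] at h2
      exact h2.symm
    have h2 : Nat.card ((π.ker).subgroupOf L) = Nat.card (L ⊓ (Q ⊔ K) : Subgroup C) := by
      rw [hker, ← Subgroup.inf_subgroupOf_left]
      exact Nat.card_congr (Subgroup.subgroupOfEquivOfLe inf_le_left).toEquiv
    rw [h2, h4, mul_comm] at h1
    have hpos : 0 < Nat.card (L ⊓ (Q ⊔ K) : Subgroup C) := Nat.card_pos
    exact (Nat.eq_of_mul_eq_mul_left hpos h1).symm
  have hXmap : X.map π = ⊥ := by
    apply AltFiveOdd.eq_bot hcardL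
    · intro h
      exact hX (h.trans (Subgroup.card_dvd_of_surjective (π.subgroupMap X) (π.subgroupMap_surjective X)))
    · rintro _ ⟨l, hl, rfl⟩
      have hl' := hLX hl
      rw [mem_normalizer_iff] at hl' ⊢
      intro y
      constructor
      · rintro ⟨x, hx, rfl⟩
        exact ⟨l * x * l⁻¹, (hl' x).1 hx, by simp⟩
      · rintro ⟨x, hx, hxy⟩
        refine ⟨l⁻¹ * x * l, ?_, ?_⟩
        · have h1 : l * (l⁻¹ * x * l) * l⁻¹ = x := by group
          apply (hl' _).2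
          rw [h1]; exact hx
        · rw [map_mul, map_mul, hxy, map_inv]
          group
  have hXN : X ≤ Q ⊔ K := by
    rw [← hker]
    exact (Subgroup.map_eq_bot_iff X).1 hXmap
  intro x hx
  have hxN := hXN hx
  -- the image in `C / K` is a 2-element of odd order
  rw [← QuotientGroup.eq_one_iff]
  obtain ⟨q, hq, k, hk, rfl⟩ := Subgroup.mem_sup_of_normal_right.1 hxN
  have h1 : ((q * k : C) : C ⧸ K) = (q : C ⧸ K) := by
    rw [QuotientGroup.eq]
    simpa [mul_assoc] using K.inv_mem hk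
  obtain ⟨m, hm⟩ := hQ ⟨q, hq⟩
  have hqm : q ^ 2 ^ m = 1 := by simpa using congrArg Subtype.val hm
  have h2 : orderOf ((q * k : C) : C ⧸ K) ∣ 2 ^ m := by
    apply orderOf_dvd_of_pow_eq_one
    rw [h1, ← QuotientGroup.mk_pow, hqm]
    rfl
  have h3 : orderOf ((q * k : C) : C ⧸ K) ∣ Nat.card X :=
    (orderOf_map_dvd (QuotientGroup.mk' K) (q * k)).trans (Subgroup.orderOf_dvd_natCard X hx)
  have h4 : (2 ^ m).Coprime (Nat.card X) :=
    Nat.Coprime.pow_left m ((Nat.Prime.coprime_iff_not_dvd Nat.prime_two).2 hX)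
  exact orderOf_eq_one_iff.1 (Nat.eq_one_of_dvd_coprimes h4 h2 h3)

/-- elements of a product -/
theorem mem_sup_of_normalizes {V K : Subgroup G} (h : ∀ v ∈ V, ∀ k ∈ K, v * k * v⁻¹ ∈ K) {x : G}
    (hx : x ∈ V ⊔ K) : ∃ v ∈ V, ∃ k ∈ K, x = v * k := by
  have hle : V ≤ normalizer (K : Set G) := by
    intro v hv
    rw [mem_normalizer_iff]
    intro k
    refine ⟨h v hv k, fun hk => ?_⟩
    have := h v⁻¹ (inv_mem hv) _ hk
    simpa [mul_assoc] using this
  have h1 := Subgroup.coe_mul_of_left_le_normalizer_right V K hle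
  have h2 : x ∈ ((V ⊔ K : Subgroup G) : Set G) := hx
  rw [h1, Set.mem_mul] at h2
  obtain ⟨v, hv, k, hk, e⟩ := h2
  exact ⟨v, hv, k, hk, e.symm⟩

/-- `V` is a Sylow 2-subgroup of `V K`. -/
theorem relIndex_sup_odd [Finite G] {V K : Subgroup G} (hV : IsPGroup 2 V) (hK : ¬ 2 ∣ Nat.card K)
    (h : ∀ v ∈ V, ∀ k ∈ K, v * k * v⁻¹ ∈ K) : Odd (V.relIndex (V ⊔ K)) := by
  have : Fact (Nat.Prime 2) := ⟨Nat.prime_two⟩
  have hle : V ≤ normalizer (K : Set G) := by
    intro v hv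
    rw [mem_normalizer_iff]
    intro k
    refine ⟨h v hv k, fun hk => ?_⟩
    have := h v⁻¹ (inv_mem hv) _ hk
    simpa [mul_assoc] using this
  obtain ⟨n, hn⟩ := (IsPGroup.iff_card (p := 2)).1 hV
  have hcop : (Nat.card V).Coprime (Nat.card K) := by
    rw [hn]
    exact Nat.Coprime.pow_left n ((Nat.Prime.coprime_iff_not_dvd Nat.prime_two).2 hK)
  have hbij : Nat.card (V ⊔ K : Subgroup G) ∣ Nat.card V * Nat.card K := by
    have hset := Subgroup.coe_mul_of_left_le_normalizer_right V K hle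
    have hinf : V ⊓ K = ⊥ := (Subgroup.disjoint_of_coprime_natCard hcop).eq_bot
    have hinj : Function.Injective (fun p : V × K => ((p.1 : G) * (p.2 : G))) := by
      rintro ⟨⟨v, hv⟩, ⟨k, hk⟩⟩ ⟨⟨v', hv'⟩, ⟨k', hk'⟩⟩ e
      have e' : v * k = v' * k' := e
      have h1 : v'⁻¹ * v = k' * k⁻¹ := by
        rw [eq_mul_inv_iff_mul_eq, mul_assoc, e', inv_mul_cancel_left]
      have h2 : v'⁻¹ * v ∈ V ⊓ K := mem_inf.2
        ⟨V.mul_mem (V.inv_mem hv') hv, h1 ▸ K.mul_mem hk' (K.inv_mem hk)⟩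
      rw [hinf, mem_bot] at h2
      have h3 : v = v' := by rw [inv_mul_eq_one] at h2; exact h2.symm
      subst h3
      have h4 : k = k' := mul_left_cancel e'
      subst h4
      rfl
    have hrange : Set.range (fun p : V × K => ((p.1 : G) * (p.2 : G))) =
        ((V ⊔ K : Subgroup G) : Set G) := by
      rw [hset]
      ext x
      rw [Set.mem_mul]
      constructor
      · rintro ⟨⟨v, k⟩, rfl⟩
        exact ⟨v, v.2, k, k.2, rfl⟩
      · rintro ⟨v, hv, k, hk, rfl⟩
        exact ⟨⟨⟨v, hv⟩, ⟨k, hk⟩⟩, rfl⟩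
    have h5 : Nat.card (V ⊔ K : Subgroup G) = Nat.card (V × K) := by
      have h6 : Nat.card (Set.range (fun p : V × K => ((p.1 : G) * (p.2 : G)))) =
          Nat.card (V × K) := Nat.card_range_of_injective hinj
      rw [hrange] at h6
      exact h6
    rw [h5, Nat.card_prod]
  have h7 : Nat.card V * V.relIndex (V ⊔ K) = Nat.card (V ⊔ K : Subgroup G) := by
    rw [← Subgroup.card_mul_index (V.subgroupOf (V ⊔ K))]
    congr 1
    exact (Nat.card_congr (Subgroup.subgroupOfEquivOfLe le_sup_left).toEquiv).symm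
  rw [← h7] at hbij
  have h8 : V.relIndex (V ⊔ K) ∣ Nat.card K := Nat.dvd_of_mul_dvd_mul_left Nat.card_pos hbij
  rw [← Nat.not_even_iff_odd, even_iff_two_dvd]
  exact fun h9 => hK (h9.trans h8)

/-- Frattini: `V` a 2-subgroup of `C` such that `V K` is normal, `K` normal of odd order. -/
theorem frattini [Finite G] {C K V : Subgroup G} (hV : IsPGroup 2 V) (hVC : V ≤ C) (hKC : K ≤ C)
    (hK : ¬ 2 ∣ Nat.card K) (hKn : ∀ c ∈ C, ∀ k ∈ K, c * k * c⁻¹ ∈ K)
    (hVn : ∀ c ∈ C, ∀ v ∈ V, c * v * c⁻¹ ∈ V ⊔ K) {c : G} (hc : c ∈ C) :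
    ∃ o ∈ K, ∃ n ∈ C, (∀ v ∈ V, n * v * n⁻¹ ∈ V) ∧ c = o * n := by
  have hVK : ∀ v ∈ V, ∀ k ∈ K, v * k * v⁻¹ ∈ K := fun v hv k hk => hKn v (hVC hv) k hk
  have hodd := relIndex_sup_odd hV hK hVK
  have hP : IsPGroup 2 (V.map (MulAut.conj c).toMonoidHom) := hV.map _
  have hPle : V.map (MulAut.conj c).toMonoidHom ≤ V ⊔ K := by
    rintro _ ⟨v, hv, rfl⟩
    exact hVn c hc v hv
  obtain ⟨m, hm, hmV⟩ := exists_conj_le _ _ _ hP hPle hodd
  obtain ⟨v0, hv0, k0, hk0, rfl⟩ := mem_sup_of_normalizes hVK hm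
  refine ⟨k0⁻¹, inv_mem hk0, k0 * c, mul_mem (hKC hk0) hc, ?_, by group⟩
  intro v hv
  have h1 := hmV (c * v * c⁻¹) ⟨v, hv, rfl⟩
  have h2 : v0⁻¹ * (v0 * k0 * (c * v * c⁻¹) * (v0 * k0)⁻¹) * v0 ∈ V :=
    mul_mem (mul_mem (inv_mem hv0) h1) hv0
  have h3 : v0⁻¹ * (v0 * k0 * (c * v * c⁻¹) * (v0 * k0)⁻¹) * v0 = k0 * c * v * (k0 * c)⁻¹ := by
    group
  rwa [h3] at h2

/-- A criterion for the 2-layer to be trivial. -/
theorem pLayer_eq_bot {C : Type*} [Group C] [Finite C] {Q : Subgroup C} (hQ : IsPGroup 2 Q)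
    (hn : (Q ⊔ pPrimeCore 2 C).Normal)
    (hcent : ∀ g : C, (∀ x ∈ Q, g * x * g⁻¹ * x⁻¹ ∈ pPrimeCore 2 C) → g ∈ Q ⊔ pPrimeCore 2 C) :
    pLayer 2 C = ⊥ := by
  have : Fact (Nat.Prime 2) := ⟨Nat.prime_two⟩
  rw [← SignalizersComponents.PConstrained.isPConstrained_iff_pLayer_eq_bot,
    SignalizersComponents.PConstrained.isPConstrained_iff_quotient]
  set O := pPrimeCore 2 C with hO
  set π := QuotientGroup.mk' O with hπ
  have hmap : (Q ⊔ O).map π = Q.map π := by
    rw [Subgroup.map_sup]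
    have : O.map π = ⊥ := by
      rw [Subgroup.map_eq_bot_iff, hπ, QuotientGroup.ker_mk']
    rw [this, sup_bot_eq]
  have hQn : (Q.map π).Normal := by
    rw [← hmap]
    exact hn.map π (QuotientGroup.mk'_surjective O)
  have hQp : IsPGroup 2 (Q.map π) := hQ.map π
  have hle : Q.map π ≤ pCore 2 (C ⧸ O) := Lib.Cores.le_pCore hQn hQp
  intro q hq
  obtain ⟨g, rfl⟩ := QuotientGroup.mk'_surjective O q
  apply hle
  rw [← hmap]
  refine ⟨g, hcent g ?_, rfl⟩
  intro x hx
  have h1 : π x ∈ pCore 2 (C ⧸ O) := hle ⟨x, hx, rfl⟩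
  have h2 : π x * π g = π g * π x := (mem_centralizer_iff.1 hq) _ h1
  rw [← QuotientGroup.eq_one_iff]
  change π (g * x * g⁻¹ * x⁻¹) = 1
  rw [map_mul, map_mul, map_mul, map_inv, map_inv, ← h2]
  group

end Cfsg.Agent.J2Sylow.BalancedTools
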