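import Mathlib
import Cfsg.Agent.S0205
import Cfsg.Agent.J2Sylow.BalancedTools
import Cfsg.Agent.J2Sylow.BalancedEnd

/-!
The balanced end of the characterisation by the Sylow 2-subgroup of `J₂`: from the structure of `C(z)` to the
hypotheses of `BalancedEnd`.
-/

set_option autoImplicit false

namespace Cfsg.Agent.J2Sylow.Balanced

open Subgroup Cfsg Model
open Cfsg.Agent.Dichotomy.Elem Cfsg.Agent.Dichotomy.Functor

/-! ### The model group -/

namespace TM

theorem tau_v : T.tau * T.v * T.tau⁻¹ = T.z * T.v := by decide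
theorem tau_zv : T.tau * (T.z * T.v) * T.tau⁻¹ = T.v := by decide
theorem vz : T.v * T.z = T.z * T.v := by decide
theorem v_ne_z : T.v ≠ T.z := by decide
theorem v_ne_one : T.v ≠ 1 := by decide
theorem z_ne_one : T.z ≠ 1 := by decide
theorem zv_ne_z : T.z * T.v ≠ T.z := by decide
theorem v_mem_U : T.v ∈ T.U := by decide
theorem zv_mem_U : T.z * T.v ∈ T.U := by decide
theorem z_mem_U : T.z ∈ T.U := by decide
theorem tau_mem_Q : T.tau ∈ T.Q := by decide
theorem Q_conj_v : ∀ x : T, x ∈ T.Q → x * T.v * x⁻¹ = T.v ∨ x * T.v * x⁻¹ = T.z * T.v := by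
  decide +kernel
theorem sq_Q_R : ∀ x : T, x ∈ T.Q → x ∈ T.R → x ∉ T.U → x * x = T.z := by decide +kernel
theorem center_R : ∀ x : T, x ∈ T.R → (∀ y : T, y ∈ T.R → x * y = y * x) → x ∈ T.U := by
  decide +kernel
theorem comm_of_U : ∀ x y : T, y ∈ T.U → y ≠ 1 → y ≠ T.z → x * y = y * x → x ∈ T.R := by
  decide +kernel
theorem card_Q_R : Nat.card (T.Q ⊓ T.R : Subgroup T) = 16 := by
  have h : Nat.card (T.Q ⊓ T.R : Subgroup T) = Nat.card {x : T // x ∈ T.Q ∧ x ∈ T.R} := rfl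
  rw [h, Nat.card_eq_fintype_card, Fintype.card_subtype]; decide +kernel

end TM

variable {G : Type*} [Group G]

/-- The hypotheses on `C(z)`. -/
structure CZ (h : Setup G) : Prop where
  hom : ∃ π : ↥(centralizer ({h.z} : Set G)) →* alternatingGroup (Fin 5),
    π.ker = (h.Q ⊔ centralizerPPrimeCore 2 h.z).subgroupOf (centralizer {h.z})
  cent : ∀ g, g * h.z = h.z * g →
    (∀ x ∈ h.Q, g * x * g⁻¹ * x⁻¹ ∈ centralizerPPrimeCore 2 h.z) →
      g ∈ h.Q ⊔ centralizerPPrimeCore 2 h.z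

variable (h : Setup G)

/-! ### Elements of the set-up -/

theorem z_sq : h.z * h.z = 1 := by
  show h.φ T.z * h.φ T.z = 1
  rw [← map_mul, show T.z * T.z = 1 from by decide, map_one]

theorem v_sq : h.v * h.v = 1 := by
  show h.φ T.v * h.φ T.v = 1
  rw [← map_mul, show T.v * T.v = 1 from by decide, map_one]

theorem phi_ne_one {t : T} (ht : t ≠ 1) : h.φ t ≠ 1 := fun e =>
  ht (h.inj (e.trans (map_one _).symm))

theorem z_ne_one : h.z ≠ 1 := phi_ne_one h TM.z_ne_one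

theorem v_ne_one : h.v ≠ 1 := phi_ne_one h TM.v_ne_one

theorem v_ne_z : h.v ≠ h.z := fun e => TM.v_ne_z (h.inj e)

theorem z_v : h.z * h.v = h.v * h.z := by
  show h.φ T.z * h.φ T.v = h.φ T.v * h.φ T.z
  rw [← map_mul, ← map_mul, TM.vz]

theorem U_le_E1 : h.U ≤ h.E1 := Subgroup.map_mono T.U_le_E1
theorem U_le_R : h.U ≤ h.R := Subgroup.map_mono T.U_le_R
theorem U_le_Q : h.U ≤ h.Q := Subgroup.map_mono T.U_le_Q
theorem E1_le_R : h.E1 ≤ h.R := Subgroup.map_mono T.E1_le_R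

theorem z_mem_E1 : h.z ∈ h.E1 := U_le_E1 h h.z_mem_U
theorem v_mem_E1 : h.v ∈ h.E1 := U_le_E1 h h.v_mem_U
theorem z_mem_Q : h.z ∈ h.Q := U_le_Q h h.z_mem_U
theorem v_mem_Q : h.v ∈ h.Q := U_le_Q h h.v_mem_U
theorem tau_mem_Q : h.tau ∈ h.Q := ⟨T.tau, TM.tau_mem_Q, rfl⟩

theorem big_E1 : Big h.E1 := by
  refine ⟨isElementaryAbelian_of ?_ ?_, ?_⟩
  · rintro _ ⟨x, hx, rfl⟩ _ ⟨y, hy, rfl⟩
    rw [← map_mul, ← map_mul, T.E1_comm x y hx hy]
  · rintro _ ⟨x, hx, rfl⟩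
    rw [← map_mul, T.E1_sq x hx, map_one]
  · have h1 : Nat.card h.E1 = 16 := (h.card_map T.E1).trans T.card_E1
    rw [h1]; norm_num

theorem card_U : Nat.card h.U = 4 := (h.card_map T.U).trans T.card_U

theorem U_comm_R {x y : G} (hx : x ∈ h.U) (hy : y ∈ h.R) : x * y = y * x := by
  obtain ⟨s, hs, rfl⟩ := hx
  obtain ⟨t, ht, rfl⟩ := hy
  rw [← map_mul, ← map_mul, T.U_central s t hs ht]

/-- elements normalising `R` normalise `U` -/
theorem conj_U [Finite G] {g : G} (hg : ∀ x ∈ h.R, g * x * g⁻¹ ∈ h.R) :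
    ∀ x ∈ h.U, g * x * g⁻¹ ∈ h.U := by
  intro x hx
  have h1 : h.R.map (MulAut.conj g).toMonoidHom = h.R := by
    refine Subgroup.eq_of_le_of_card_ge ?_
      (by rw [card_map_of_injective (MulAut.conj g).injective])
    rintro _ ⟨v, hv, rfl⟩
    exact hg v hv
  have h2 : ∀ y ∈ h.R, (g * x * g⁻¹) * y = y * (g * x * g⁻¹) := by
    intro y hy
    rw [← h1] at hy
    obtain ⟨w, hw, rfl⟩ := hy
    show (g * x * g⁻¹) * (g * w * g⁻¹) = (g * w * g⁻¹) * (g * x * g⁻¹)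
    calc (g * x * g⁻¹) * (g * w * g⁻¹) = g * (x * w) * g⁻¹ := by group
      _ = g * (w * x) * g⁻¹ := by rw [U_comm_R h hx hw]
      _ = _ := by group
  obtain ⟨t, ht, e⟩ := hg x (U_le_R h hx)
  rw [← e] at h2 ⊢
  refine ⟨t, TM.center_R t ht ?_, rfl⟩
  intro y hy
  apply h.inj
  rw [map_mul, map_mul]
  exact h2 _ ⟨y, hy, rfl⟩

/-- an element of a finite group which conjugates a subgroup into itself normalises it -/
theorem inv_conj_mem [Finite G] {H : Subgroup G} {g : G} (hg : ∀ x ∈ H, g * x * g⁻¹ ∈ H) :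
    ∀ x ∈ H, g⁻¹ * x * g ∈ H := by
  intro x hx
  have h1 : H.map (MulAut.conj g).toMonoidHom = H := by
    refine Subgroup.eq_of_le_of_card_ge ?_
      (by rw [card_map_of_injective (MulAut.conj g).injective])
    rintro _ ⟨v, hv, rfl⟩
    exact hg v hv
  rw [← h1] at hx
  obtain ⟨w, hw, rfl⟩ := hx
  show g⁻¹ * (g * w * g⁻¹) * g ∈ H
  have : g⁻¹ * (g * w * g⁻¹) * g = w := by group
  rw [this]; exact hw

theorem K_le_C (x : G) : centralizerPPrimeCore 2 x ≤ centralizer ({x} : Set G) :=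
  Subgroup.map_subtype_le _

theorem Q_le_C : h.Q ≤ centralizer ({h.z} : Set G) := h.Q_le_S.trans h.S_le_centralizer_z

theorem K_odd [Finite G] (x : G) : ¬ 2 ∣ Nat.card (centralizerPPrimeCore 2 x) := by
  have : Fact (Nat.Prime 2) := ⟨Nat.prime_two⟩
  exact S1295.core_card 2 x

theorem K_normal [Finite G] {x c k : G} (hc : c ∈ centralizer ({x} : Set G))
    (hk : k ∈ centralizerPPrimeCore 2 x) : c * k * c⁻¹ ∈ centralizerPPrimeCore 2 x := by
  have : Fact (Nat.Prime 2) := ⟨Nat.prime_two⟩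
  exact (mem_normalizer_iff.1 (S1295.core_normalized 2 x hc) k).1 hk

theorem Q_norm_K [Finite G] : ∀ v ∈ h.Q, ∀ k ∈ centralizerPPrimeCore 2 h.z,
    v * k * v⁻¹ ∈ centralizerPPrimeCore 2 h.z :=
  fun _ hv _ hk => K_normal (Q_le_C h hv) hk

/-- a 2-element of odd order is trivial -/
theorem eq_one_of_mem [Finite G] {S K : Subgroup G} (hS : IsPGroup 2 S) (hK : ¬ 2 ∣ Nat.card K)
    {x : G} (hxS : x ∈ S) (hxK : x ∈ K) : x = 1 := by
  obtain ⟨n, hn⟩ := hS ⟨x, hxS⟩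
  have h1 : x ^ 2 ^ n = 1 := by simpa using congrArg Subtype.val hn
  have h2 : orderOf x ∣ 2 ^ n := orderOf_dvd_of_pow_eq_one h1
  have h3 : orderOf x ∣ Nat.card K := Subgroup.orderOf_dvd_natCard K hxK
  have h4 : (2 ^ n).Coprime (Nat.card K) :=
    Nat.Coprime.pow_left n ((Nat.Prime.coprime_iff_not_dvd Nat.prime_two).2 hK)
  exact orderOf_eq_one_iff.1 (Nat.eq_one_of_dvd_coprimes h4 h2 h3)

/-- `S ∩ Q K = Q` -/
theorem mem_Q_of_mem_sup [Finite G] {x : G} (hxS : x ∈ h.S)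
    (hx : x ∈ h.Q ⊔ centralizerPPrimeCore 2 h.z) : x ∈ h.Q := by
  obtain ⟨q, hq, k, hk, rfl⟩ := BalancedTools.mem_sup_of_normalizes (Q_norm_K h) hx
  have h1 : k ∈ h.S := by
    have := h.S.mul_mem (h.S.inv_mem (h.Q_le_S hq)) hxS
    simpa using this
  rw [eq_one_of_mem h.isPGroup_S (K_odd h.z) h1 hk, mul_one]
  exact hq

/-- The normal subgroup `Q K` of `C(z)`. -/
theorem sup_normal (cz : CZ h) {c x : G} (hc : c ∈ centralizer ({h.z} : Set G))
    (hx : x ∈ h.Q ⊔ centralizerPPrimeCore 2 h.z) :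
    c * x * c⁻¹ ∈ h.Q ⊔ centralizerPPrimeCore 2 h.z := by
  obtain ⟨π, hπ⟩ := cz.hom
  have hle : h.Q ⊔ centralizerPPrimeCore 2 h.z ≤ centralizer ({h.z} : Set G) :=
    sup_le (Q_le_C h) (K_le_C h.z)
  have h1 : (⟨x, hle hx⟩ : ↥(centralizer ({h.z} : Set G))) ∈ π.ker := by
    rw [hπ]; exact hx
  have h2 := (MonoidHom.normal_ker π).conj_mem _ h1 ⟨c, hc⟩
  rw [hπ] at h2
  exact h2

/-- Frattini factorisation of `C(z)`. -/
theorem frattini_z [Finite G] (cz : CZ h) {c : G} (hc : c ∈ centralizer ({h.z} : Set G)) :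
    ∃ o ∈ centralizerPPrimeCore 2 h.z, ∃ n ∈ centralizer ({h.z} : Set G),
      (∀ v ∈ h.Q, n * v * n⁻¹ ∈ h.Q) ∧ c = o * n :=
  BalancedTools.frattini (h.isPGroup_S.to_le h.Q_le_S) (Q_le_C h) (K_le_C h.z) (K_odd h.z)
    (fun _ hc _ hk => K_normal hc hk)
    (fun _ hc _ hv => sup_normal h cz hc (Subgroup.mem_sup_left hv)) hc

/-- The key lemma, for a conjugation `v' ↦ z` in `N(R)`. -/
theorem key_aux [Finite G] (cz : CZ h) {g v' : G} (hg : ∀ x ∈ h.R, g * x * g⁻¹ ∈ h.R)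
    (hv' : v' ∈ h.U) (hne : v' ≠ h.z) (hgv : g * v' * g⁻¹ = h.z) {X : Subgroup G}
    (hX : ¬ 2 ∣ Nat.card X) (hXv : X ≤ centralizer ({v'} : Set G))
    (hXQ : ∀ q ∈ h.Q, q * v' = v' * q → ∀ x ∈ X, q * x * q⁻¹ ∈ X) :
    X ≤ centralizerPPrimeCore 2 v' := by
  have hRC : h.R ≤ centralizer ({h.z} : Set G) := h.R_le_S.trans h.S_le_centralizer_z
  set C := centralizer ({h.z} : Set G) with hC
  have hgU := conj_U h hg
  have hgU' := inv_conj_mem hgU
  -- the group `L`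
  set L : Subgroup G := (h.Q ⊓ h.R).map (MulAut.conj g).toMonoidHom with hL
  set X' : Subgroup G := X.map (MulAut.conj g).toMonoidHom with hX'
  have hLR : L ≤ h.R := by
    rintro _ ⟨x, hx, rfl⟩
    exact hg x hx.2
  have hLC : L ≤ C := hLR.trans hRC
  have hX'C : X' ≤ C := by
    have h1 := Subgroup.map_mono (f := (MulAut.conj g).toMonoidHom) hXv
    rwa [S1295.centralizer_conj, hgv] at h1
  have hKC : centralizerPPrimeCore 2 h.z ≤ C := K_le_C h.z
  have hQC : h.Q ≤ C := Q_le_C h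
  have hinf : L ⊓ (h.Q ⊔ centralizerPPrimeCore 2 h.z) = h.U := by
    apply le_antisymm
    · rintro _ ⟨⟨x, hx, rfl⟩, hxQ⟩
      have h1 : g * x * g⁻¹ ∈ h.R := hg x hx.2
      have h2 : g * x * g⁻¹ ∈ h.Q := mem_Q_of_mem_sup h (h.R_le_S h1) hxQ
      show g * x * g⁻¹ ∈ h.U
      by_contra h3
      have h4 : x ∉ h.U := fun h5 => h3 (hgU x h5)
      obtain ⟨s, hs, hs'⟩ := hx.1
      obtain ⟨t, ht, ht'⟩ := h2
      have hsR : s ∈ T.R := by
        rw [← h.phi_mem_R, hs']; exact hx.2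
      have hsU : s ∉ T.U := by
        rw [← h.phi_mem_U, hs']; exact h4
      have htR : t ∈ T.R := by
        rw [← h.phi_mem_R, ht']; exact h1
      have htU : t ∉ T.U := by
        rw [← h.phi_mem_U, ht']; exact h3
      have h5 : x * x = h.z := by
        rw [← hs', ← map_mul, TM.sq_Q_R s hs hsR hsU]; rfl
      have h6 : (g * x * g⁻¹) * (g * x * g⁻¹) = h.z := by
        rw [← ht', ← map_mul, TM.sq_Q_R t ht htR htU]; rfl
      have h7 : g * h.z * g⁻¹ = h.z := by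
        rw [← h5]
        calc g * (x * x) * g⁻¹ = (g * x * g⁻¹) * (g * x * g⁻¹) := by group
          _ = x * x := by rw [h6, h5]
      apply hne
      have h8 : g * v' * g⁻¹ = g * h.z * g⁻¹ := by rw [hgv, h7]
      exact mul_left_cancel (mul_right_cancel h8)
    · intro x hx
      refine ⟨⟨g⁻¹ * x * g, ⟨U_le_Q h (hgU' x hx), U_le_R h (hgU' x hx)⟩, ?_⟩,
        Subgroup.mem_sup_left (U_le_Q h hx)⟩
      show g * (g⁻¹ * x * g) * g⁻¹ = x
      group
  have hcardL : Nat.card L = 16 := by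
    rw [hL, card_map_of_injective (MulAut.conj g).injective]
    have h1 : (h.Q ⊓ h.R) = (T.Q ⊓ T.R).map h.φ := (Subgroup.map_inf _ _ _ h.inj).symm
    rw [h1, h.card_map, TM.card_Q_R]
  have hLX : ∀ l ∈ L, ∀ x ∈ X', l * x * l⁻¹ ∈ X' := by
    rintro _ ⟨q, hq, rfl⟩ _ ⟨x, hx, rfl⟩
    refine ⟨q * x * q⁻¹, hXQ q hq.1 (U_comm_R h hv' hq.2).symm x hx, ?_⟩
    show g * (q * x * q⁻¹) * g⁻¹ = (g * q * g⁻¹) * (g * x * g⁻¹) * (g * q * g⁻¹)⁻¹
    group
  -- apply the general lemma in `C`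
  obtain ⟨π, hπ⟩ := cz.hom
  have hsub : (h.Q ⊔ centralizerPPrimeCore 2 h.z).subgroupOf C =
      h.Q.subgroupOf C ⊔ (centralizerPPrimeCore 2 h.z).subgroupOf C :=
    Subgroup.subgroupOf_sup hQC hKC
  have hKn : ((centralizerPPrimeCore 2 h.z).subgroupOf C).Normal := by
    constructor
    intro k hk c
    exact K_normal c.2 hk
  have hle : X'.subgroupOf C ≤ (centralizerPPrimeCore 2 h.z).subgroupOf C := by
    refine BalancedTools.le_of_normalized (Q := h.Q.subgroupOf C) (L := L.subgroupOf C)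
      ((h.isPGroup_S.to_le h.Q_le_S).comap_of_injective C.subtype C.subtype_injective) π ?_ ?_ ?_ ?_
    · rw [← hsub]; exact hπ
    · rw [Nat.card_congr (Subgroup.subgroupOfEquivOfLe hX'C).toEquiv, hX',
        card_map_of_injective (MulAut.conj g).injective]
      exact hX
    · intro l hl
      rw [mem_normalizer_iff]
      intro x
      refine ⟨fun hx => hLX _ hl _ hx, fun hx => ?_⟩
      have h1 := hLX _ (L.inv_mem hl) _ hx
      show (x : G) ∈ X'
      have h2 : ((l : G))⁻¹ * ((l * x * l⁻¹ : C) : G) * ((l : G))⁻¹⁻¹ = (x : G) := by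
        show ((l : G))⁻¹ * ((l : G) * (x : G) * (l : G)⁻¹) * ((l : G))⁻¹⁻¹ = (x : G)
        group
      rwa [← h2]
    · have h1 : L.subgroupOf C ⊓ (h.Q.subgroupOf C ⊔ (centralizerPPrimeCore 2 h.z).subgroupOf C) =
          h.U.subgroupOf C := by
        rw [← hsub, ← hinf]; rfl
      rw [h1, Nat.card_congr (Subgroup.subgroupOfEquivOfLe hLC).toEquiv, hcardL,
        Nat.card_congr (Subgroup.subgroupOfEquivOfLe ((U_le_R h).trans hRC)).toEquiv, card_U]
  intro x hx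
  have h1 : g * x * g⁻¹ ∈ centralizerPPrimeCore 2 h.z := by
    have h2 : g * x * g⁻¹ ∈ X' := ⟨x, hx, rfl⟩
    exact hle (show (⟨g * x * g⁻¹, hX'C h2⟩ : C) ∈ X'.subgroupOf C from h2)
  rw [← hgv, th_conj] at h1
  obtain ⟨y, hy, e⟩ := h1
  have h3 : g * y * g⁻¹ = g * x * g⁻¹ := e
  rwa [← mul_left_cancel (mul_right_cancel h3)]

/-- The key lemma. -/
theorem key [Finite G] (hf : Fused h) (cz : CZ h) : ∀ v' : G, (v' = h.v ∨ v' = h.z * h.v) →
    ∀ X : Subgroup G, ¬ 2 ∣ Nat.card X → X ≤ centralizer ({v'} : Set G) →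
      (∀ q ∈ h.Q, q * v' = v' * q → ∀ x ∈ X, q * x * q⁻¹ ∈ X) →
      X ≤ centralizerPPrimeCore 2 v' := by
  obtain ⟨g, hgR, hgv⟩ := hf.f1
  rintro v' (rfl | rfl) X hX hXv hXQ
  · exact key_aux h cz hgR h.v_mem_U (v_ne_z h) hgv hX hXv hXQ
  · have htau : h.tau * (h.z * h.v) * h.tau⁻¹ = h.v := by
      show h.φ T.tau * (h.φ T.z * h.φ T.v) * (h.φ T.tau)⁻¹ = h.φ T.v
      rw [← map_mul, h.phi_conj, TM.tau_zv]
    refine key_aux h cz (g := g * h.tau) ?_ ?_ ?_ ?_ hX hXv hXQ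
    · rintro _ ⟨t, ht, rfl⟩
      have h1 : h.φ (T.tau * t * T.tau⁻¹) ∈ h.R := ⟨_, T.R_normal t T.tau ht, rfl⟩
      have h2 := hgR _ h1
      rw [← h.phi_conj] at h2
      have h3 : g * h.tau * h.φ t * (g * h.tau)⁻¹ = g * (h.φ T.tau * h.φ t * (h.φ T.tau)⁻¹) * g⁻¹ := by
        show g * h.φ T.tau * h.φ t * (g * h.φ T.tau)⁻¹ = _
        group
      rw [h3]; exact h2
    · exact h.U.mul_mem h.z_mem_U h.v_mem_U
    · intro e
      exact v_ne_one h (mul_eq_left.1 e)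
    · calc g * h.tau * (h.z * h.v) * (g * h.tau)⁻¹ = g * (h.tau * (h.z * h.v) * h.tau⁻¹) * g⁻¹ := by
            group
        _ = h.z := by rw [htau, hgv]

/-! ### The normaliser of `W` -/

section

variable {h}

theorem mem_normalizer_E1 [Finite G] {g : G} (hg : ∀ x ∈ h.E1, g * x * g⁻¹ ∈ h.E1) :
    g ∈ normalizer (W h.E1 : Set G) := by
  apply mem_normalizer_of_map_eq
  have h1 : h.E1.map (MulAut.conj g).toMonoidHom = h.E1 := by
    refine Subgroup.eq_of_le_of_card_ge ?_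
      (by rw [card_map_of_injective (MulAut.conj g).injective])
    rintro _ ⟨v, hv, rfl⟩
    exact hg v hv
  rw [W_conj, h1]

theorem mem_normalizer_U [Finite G] (hF : Fun G) {g : G} (hg : ∀ x ∈ h.U, g * x * g⁻¹ ∈ h.U) :
    g ∈ normalizer (W h.E1 : Set G) := by
  apply mem_normalizer_of_map_eq
  have h1 : h.U.map (MulAut.conj g).toMonoidHom = h.U := by
    refine Subgroup.eq_of_le_of_card_ge ?_
      (by rw [card_map_of_injective (MulAut.conj g).injective])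
    rintro _ ⟨v, hv, rfl⟩
    exact hg v hv
  rw [← W_eq_of_le hF (big_E1 h) (U_le_E1 h) (card_U h).ge, W_conj, h1]

/-- `C(z) ≤ N(W)`. -/
theorem centralizer_z_le [Finite G] (hf : Fused h) (cz : CZ h) (hF : Fun G) :
    centralizer ({h.z} : Set G) ≤ normalizer (W h.E1 : Set G) := by
  intro c hc
  obtain ⟨o, ho, n, hn, hnQ, rfl⟩ := frattini_z h cz hc
  refine (normalizer (W h.E1 : Set G)).mul_mem
    (le_normalizer (le_W _ (z_mem_E1 h) (z_ne_one h) ho)) ?_
  refine BalancedEnd.mem_normalizer_W hF (big_E1 h) (z_sq h) (z_ne_one h) (v_sq h) (v_ne_one h)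
    (v_ne_z h) (z_v h) (z_mem_E1 h) (v_mem_E1 h) (z_mem_Q h) (v_mem_Q h)
    (fun q hq => (h.z_comm (h.Q_le_S hq)).symm) ?_ (key h hf cz)
    (mem_centralizer_singleton_iff.1 hn) (inv_conj_mem hnQ)
  rintro _ ⟨t, ht, rfl⟩
  rcases TM.Q_conj_v t ht with h1 | h1
  · left
    show h.φ t * h.φ T.v * (h.φ t)⁻¹ = h.φ T.v
    rw [h.phi_conj, h1]
  · right
    show h.φ t * h.φ T.v * (h.φ t)⁻¹ = h.φ T.z * h.φ T.v
    rw [h.phi_conj, h1, map_mul]

theorem centralizer_le_of_conj {M : Subgroup G} {z a g : G}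
    (hz : centralizer ({z} : Set G) ≤ M) (hg : g ∈ M) (hga : g * a * g⁻¹ = z) :
    centralizer ({a} : Set G) ≤ M := by
  intro x hx
  rw [mem_centralizer_singleton_iff] at hx
  have h1 : g * x * g⁻¹ ∈ M := by
    refine hz (mem_centralizer_singleton_iff.2 ?_)
    rw [← hga]
    calc g * x * g⁻¹ * (g * a * g⁻¹) = g * (x * a) * g⁻¹ := by group
      _ = g * a * g⁻¹ * (g * x * g⁻¹) := by rw [hx]; group
  have h2 := M.mul_mem (M.mul_mem (M.inv_mem hg) h1) hg
  have h3 : g⁻¹ * (g * x * g⁻¹) * g = x := by group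
  rwa [h3] at h2

theorem U_to_z (hf : Fused h) {x : G} (hx : x ∈ h.U) (hx1 : x ≠ 1) :
    ∃ g : G, (∀ y ∈ h.R, g * y * g⁻¹ ∈ h.R) ∧ g * x * g⁻¹ = h.z := by
  obtain ⟨g, hgR, hgv⟩ := hf.f1
  obtain ⟨t, ht, rfl⟩ := hx
  rcases T.U_cases t ht with rfl | rfl | rfl | rfl
  · exact absurd (map_one _) hx1
  · exact ⟨1, fun y hy => by simpa using hy, by simp [Setup.z]⟩
  · exact ⟨g, hgR, hgv⟩
  · refine ⟨g * h.tau, ?_, ?_⟩
    · rintro _ ⟨t, ht, rfl⟩
      have h1 : h.φ (T.tau * t * T.tau⁻¹) ∈ h.R := ⟨_, T.R_normal t T.tau ht, rfl⟩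
      have h2 := hgR _ h1
      rw [← h.phi_conj] at h2
      have h3 : g * h.tau * h.φ t * (g * h.tau)⁻¹ =
          g * (h.φ T.tau * h.φ t * (h.φ T.tau)⁻¹) * g⁻¹ := by
        show g * h.φ T.tau * h.φ t * (g * h.φ T.tau)⁻¹ = _
        group
      rw [h3]; exact h2
    · have htau : h.tau * h.φ (T.v * T.z) * h.tau⁻¹ = h.v := by
        show h.φ T.tau * h.φ (T.v * T.z) * (h.φ T.tau)⁻¹ = h.φ T.v
        rw [h.phi_conj, TM.vz, TM.tau_zv]
      calc g * h.tau * h.φ (T.v * T.z) * (g * h.tau)⁻¹ =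
            g * (h.tau * h.φ (T.v * T.z) * h.tau⁻¹) * g⁻¹ := by group
        _ = h.z := by rw [htau, hgv]

end

/-! ### Elementary abelian subgroups of order 16 -/

namespace TM

theorem card_le_four {A : Subgroup T} {x y w : T} (hA : ∀ a ∈ A, a = 1 ∨ a = x ∨ a = y ∨ a = w) :
    Nat.card A ≤ 4 := by
  classical
  have h1 : (A : Set T) ⊆ (({1, x, y, w} : Finset T) : Set T) := by
    intro a ha
    simpa using hA a ha
  calc Nat.card A = (A : Set T).ncard := rfl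
    _ ≤ ((({1, x, y, w} : Finset T) : Set T)).ncard := Set.ncard_le_ncard h1 (Finset.finite_toSet _)
    _ = ({1, x, y, w} : Finset T).card := Set.ncard_coe_finset _
    _ ≤ 4 := Finset.card_le_four

theorem elem_sixteen {A : Subgroup T} (hA : ∀ x ∈ A, x * x = 1) (hcard : Nat.card A = 16) :
    A = T.E1 ∨ A = T.E2 := by
  have hcomm : ∀ x ∈ A, ∀ y ∈ A, x * y = y * x := by
    intro x hx y hy
    have h1 := hA _ (mul_mem hx hy)
    have h2 := hA x hx
    have h3 := hA y hy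
    calc x * y = x * (y * 1) := by rw [mul_one]
      _ = x * (y * (x * y * (x * y))) := by rw [h1]
      _ = x * (y * x * y * x * y) := by group
      _ = (x * y * (x * y)) * (x * y) := by group
      _ = (x * y) := by rw [h1, one_mul]
      _ = (y * y) * (x * y) * (x * x) := by rw [h2, h3, one_mul, mul_one]
      _ = y * (y * x * y * x) * x := by group
      _ = y * (y * (x * y * (x * y)) * y⁻¹) * x := by group
      _ = y * x := by rw [h1]; group
  by_cases hAR : A ≤ T.R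
  · by_cases hAU : A ≤ T.U
    · exfalso
      have := Subgroup.card_le_of_le hAU
      rw [hcard, T.card_U] at this
      omega
    · obtain ⟨x, hx, hxU⟩ := SetLike.not_le_iff_exists.1 hAU
      rcases T.inv_R x (hA x hx) (hAR hx) with h1 | h1
      · left
        apply Subgroup.eq_of_le_of_card_ge
        · intro y hy
          exact T.comm_E1 x y h1 hxU (hcomm x hx y hy)
        · rw [hcard, T.card_E1]
      · right
        apply Subgroup.eq_of_le_of_card_ge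
        · intro y hy
          exact T.comm_E2 x y h1 hxU (hcomm x hx y hy)
        · rw [hcard, T.card_E2]
  · exfalso
    obtain ⟨x, hx, hxR⟩ := SetLike.not_le_iff_exists.1 hAR
    have hxs : x.s = true := by
      rw [T.mem_R] at hxR
      simpa using hxR
    have := card_le_four (A := A) (x := x) (y := T.z) (w := x * T.z) (by
      intro y hy
      exact T.comm_of_not_R x y hxs (hA x hx) (hA y hy) (hcomm x hx y hy))
    omega

end TM

/-- The elementary abelian subgroups of order 16 of `S`. -/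
theorem elem_sixteen {A : Subgroup G} (hAS : A ≤ h.S) (hA : ∀ x ∈ A, x * x = 1)
    (hcard : Nat.card A = 16) : A = h.E1 ∨ A = h.E2 := by
  have h1 : (A.comap h.φ).map h.φ = A := Subgroup.map_comap_eq_self hAS
  have h2 : Nat.card (A.comap h.φ) = 16 := by
    rw [← h.card_map, h1, hcard]
  have h3 : ∀ x ∈ A.comap h.φ, x * x = 1 := by
    intro x hx
    apply h.inj
    rw [map_mul, map_one]
    exact hA _ hx
  rcases TM.elem_sixteen h3 h2 with h4 | h4
  · left; rw [← h1, h4]; rfl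
  · right; rw [← h1, h4]; rfl

/-- conjugates of `z` in `E1` -/
theorem E1_to_z [Finite G] {a : G} (ha : a ∈ h.E1) (hc : IsConj h.z a) :
    ∃ g : G, (∀ x ∈ h.E1, g * x * g⁻¹ ∈ h.E1) ∧ g * a * g⁻¹ = h.z := by
  obtain ⟨c, hc⟩ := isConj_iff.1 hc
  have hca : c⁻¹ * a * c⁻¹⁻¹ = h.z := by rw [← hc]; group
  set A : Subgroup G := h.E1.map (MulAut.conj c⁻¹).toMonoidHom with hA
  have hAC : A ≤ centralizer ({h.z} : Set G) := by
    rintro _ ⟨x, hx, rfl⟩
    rw [mem_centralizer_singleton_iff, ← hca]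
    show c⁻¹ * x * c⁻¹⁻¹ * (c⁻¹ * a * c⁻¹⁻¹) = c⁻¹ * a * c⁻¹⁻¹ * (c⁻¹ * x * c⁻¹⁻¹)
    calc c⁻¹ * x * c⁻¹⁻¹ * (c⁻¹ * a * c⁻¹⁻¹) = c⁻¹ * (x * a) * c⁻¹⁻¹ := by group
      _ = c⁻¹ * (a * x) * c⁻¹⁻¹ := by rw [elem_comm (big_E1 h).1 x hx a ha]
      _ = _ := by group
  have hAp : IsPGroup 2 A := (isPGroup_of_elem (big_E1 h).1).map _
  obtain ⟨d, hd, hdS⟩ := exists_conj_le A _ h.S hAp hAC (h.relIndex_odd h.S_le_centralizer_z)
  have hd' : d * h.z = h.z * d := mem_centralizer_singleton_iff.1 hd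
  set g : G := d * c⁻¹ with hg
  have hga : g * a * g⁻¹ = h.z := by
    calc g * a * g⁻¹ = d * (c⁻¹ * a * c⁻¹⁻¹) * d⁻¹ := by rw [hg]; group
      _ = h.z := by rw [hca, hd']; group
  have hgS : ∀ x ∈ h.E1, g * x * g⁻¹ ∈ h.S := by
    intro x hx
    have h1 := hdS _ ⟨x, hx, rfl⟩
    have h2 : d * (c⁻¹ * x * c⁻¹⁻¹) * d⁻¹ = g * x * g⁻¹ := by rw [hg]; group
    rw [← h2]; exact h1
  have hle : h.E1.map (MulAut.conj g).toMonoidHom ≤ h.S := by
    rintro _ ⟨x, hx, rfl⟩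
    exact hgS x hx
  have hsq : ∀ x ∈ h.E1.map (MulAut.conj g).toMonoidHom, x * x = 1 := by
    rintro _ ⟨x, hx, rfl⟩
    rw [← map_mul, elem_sq (big_E1 h).1 hx, map_one]
  have hcard : Nat.card (h.E1.map (MulAut.conj g).toMonoidHom) = 16 := by
    rw [card_map_of_injective (MulAut.conj g).injective]
    exact (h.card_map T.E1).trans T.card_E1
  rcases elem_sixteen h hle hsq hcard with h1 | h1
  · refine ⟨g, ?_, hga⟩
    intro x hx
    rw [← h1]
    exact ⟨x, hx, rfl⟩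
  · refine ⟨h.tau * g, ?_, ?_⟩
    · intro x hx
      have h2 : g * x * g⁻¹ ∈ h.E2 := by
        rw [← h1]
        exact ⟨x, hx, rfl⟩
      obtain ⟨t, ht, e⟩ := h2
      have h3 : h.tau * g * x * (h.tau * g)⁻¹ = h.φ T.tau * (g * x * g⁻¹) * (h.φ T.tau)⁻¹ := by
        show h.φ T.tau * g * x * (h.φ T.tau * g)⁻¹ = _
        group
      rw [h3, ← e, h.phi_conj]
      exact ⟨_, T.tau_swap' t ht, rfl⟩
    · calc h.tau * g * a * (h.tau * g)⁻¹ = h.tau * (g * a * g⁻¹) * h.tau⁻¹ := by group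
        _ = h.z := by rw [hga, ← h.z_comm h.tau_mem_S]; group

/-- Involutions of `S` are `C(z)`-conjugate into `E1`. -/
theorem S_to_E1 (hf : Fused h) {t : G} (ht : t ∈ h.S) (ht2 : orderOf t = 2) :
    ∃ m ∈ centralizer ({h.z} : Set G), m * t * m⁻¹ ∈ h.E1 := by
  obtain ⟨s, rfl⟩ := ht
  have hss : s * s = 1 := by
    apply h.inj
    rw [map_mul, map_one]
    exact sq_of_orderOf ht2
  by_cases hsR : s ∈ T.R
  · rcases T.inv_R s hss hsR with h1 | h1
    · exact ⟨1, one_mem _, by simpa using h.phi_mem_E1.2 h1⟩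
    · refine ⟨h.tau, h.S_le_centralizer_z h.tau_mem_S, ?_⟩
      show h.φ T.tau * h.φ s * (h.φ T.tau)⁻¹ ∈ h.E1
      rw [h.phi_conj]
      exact ⟨_, T.tau_swap' s h1, rfl⟩
  · have hs : s.s = true := by
      rw [T.mem_R] at hsR
      simpa using hsR
    obtain ⟨g, hg⟩ := T.tau_conj s hs hss
    obtain ⟨k, hkz, -, hkv⟩ := hf.f2
    refine ⟨k * h.φ g, mul_mem (mem_centralizer_singleton_iff.2 hkz)
      (h.S_le_centralizer_z (h.phi_mem_S g)), ?_⟩
    have h1 : k * h.φ g * h.φ s * (k * h.φ g)⁻¹ = k * (h.φ g * h.φ s * (h.φ g)⁻¹) * k⁻¹ := by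
      group
    rw [h1, h.phi_conj, hg]
    show k * h.tau * k⁻¹ ∈ h.E1
    rw [hkv]
    exact v_mem_E1 h

theorem exists_conj_mem_S [Finite G] {b : G} (hb : orderOf b = 2) : ∃ c : G, c * b * c⁻¹ ∈ h.S := by
  have hp : IsPGroup 2 (zpowers b) := by
    rw [IsPGroup.iff_card]; exact ⟨1, by rw [Nat.card_zpowers, hb]; norm_num⟩
  obtain ⟨c, -, hc⟩ := exists_conj_le (zpowers b) ⊤ h.S hp le_top
    (by rw [relIndex_top_right]; exact h.odd_index)
  exact ⟨c, hc b (mem_zpowers b)⟩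

theorem orderOf_conj (g a : G) : orderOf (g * a * g⁻¹) = orderOf a :=
  orderOf_injective (MulAut.conj g).toMonoidHom (MulAut.conj g).injective a

/-- The involutions of `G`. -/
theorem conj_cases [Finite G] (hf : Fused h) {b : G} (hb : orderOf b = 2) :
    ∃ g : G, g * b * g⁻¹ = h.z ∨
      (g * b * g⁻¹ ∈ h.E1 ∧ g * b * g⁻¹ ∉ h.U ∧ ¬ IsConj h.z (g * b * g⁻¹)) := by
  by_cases hc : IsConj b h.z
  · obtain ⟨g, hg⟩ := isConj_iff.1 hc
    exact ⟨g, Or.inl hg⟩
  · obtain ⟨c, hcS⟩ := exists_conj_mem_S h hb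
    obtain ⟨m, -, hm⟩ := S_to_E1 h hf hcS (by rw [orderOf_conj, hb])
    have e : m * (c * b * c⁻¹) * m⁻¹ = (m * c) * b * (m * c)⁻¹ := by group
    rw [e] at hm
    have hnc : ¬ IsConj h.z ((m * c) * b * (m * c)⁻¹) := by
      intro hz
      apply hc
      exact (isConj_iff.2 ⟨m * c, rfl⟩ : IsConj b ((m * c) * b * (m * c)⁻¹)).trans hz.symm
    refine ⟨m * c, Or.inr ⟨hm, ?_, hnc⟩⟩
    intro hU
    obtain ⟨g, -, hg⟩ := U_to_z hf hU (by
      intro h1
      have h2 := orderOf_conj (m * c) b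
      rw [h1, orderOf_one, hb] at h2
      norm_num at h2)
    exact hnc (isConj_iff.2 ⟨g, hg⟩ : IsConj ((m * c) * b * (m * c)⁻¹) h.z).symm

/-- the 2-layer of `C(z)` is trivial -/
theorem pLayer_z [Finite G] (cz : CZ h) : pLayer 2 ↥(centralizer ({h.z} : Set G)) = ⊥ := by
  set C := centralizer ({h.z} : Set G) with hC
  have hQC : h.Q ≤ C := Q_le_C h
  have hKC : centralizerPPrimeCore 2 h.z ≤ C := K_le_C h.z
  have hK : (centralizerPPrimeCore 2 h.z).subgroupOf C = pPrimeCore 2 C := by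
    unfold centralizerPPrimeCore
    exact Subgroup.comap_map_eq_self_of_injective C.subtype_injective _
  have hsub : (h.Q ⊔ centralizerPPrimeCore 2 h.z).subgroupOf C =
      h.Q.subgroupOf C ⊔ pPrimeCore 2 C := by
    rw [Subgroup.subgroupOf_sup hQC hKC, hK]
  refine BalancedTools.pLayer_eq_bot (Q := h.Q.subgroupOf C)
    ((h.isPGroup_S.to_le h.Q_le_S).comap_of_injective C.subtype C.subtype_injective) ?_ ?_
  · rw [← hsub]
    constructor
    intro x hx c
    exact sup_normal h cz c.2 hx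
  · intro g hg
    rw [← hsub]
    apply cz.cent g (mem_centralizer_singleton_iff.1 g.2)
    intro x hx
    have h1 := hg ⟨x, hQC hx⟩ hx
    rw [← hK] at h1
    exact h1

/-- The core functor is balanced. -/
theorem fun_of [Finite G] (hf : Fused h) (cz : CZ h)
    (hbal : ∀ e ∈ h.E1, e ∉ h.U → ¬ IsConj h.z e → ∀ a : G, orderOf a = 2 → a * e = e * a →
      centralizerPPrimeCore 2 a ⊓ centralizer ({e} : Set G) ≤ centralizerPPrimeCore 2 e) :
    Fun G := by
  have : Fact (Nat.Prime 2) := ⟨Nat.prime_two⟩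
  refine ⟨?_, ?_⟩
  · intro a _
    apply Cfsg.Agent.S0205.result
    rw [← Nat.not_even_iff_odd, even_iff_two_dvd]
    exact K_odd a
  · intro a b ha hb hab
    obtain ⟨g, hg⟩ := conj_cases h hf hb
    have ha' : orderOf (g * a * g⁻¹) = 2 := by rw [orderOf_conj, ha]
    have hab' : (g * a * g⁻¹) * (g * b * g⁻¹) = (g * b * g⁻¹) * (g * a * g⁻¹) := by
      calc (g * a * g⁻¹) * (g * b * g⁻¹) = g * (a * b) * g⁻¹ := by group
        _ = (g * b * g⁻¹) * (g * a * g⁻¹) := by rw [hab]; group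
    have key : centralizerPPrimeCore 2 (g * a * g⁻¹) ⊓ centralizer ({g * b * g⁻¹} : Set G) ≤
        centralizerPPrimeCore 2 (g * b * g⁻¹) := by
      rcases hg with hg | hg
      · rw [hg] at hab' ⊢
        exact S1295.balance 2 ha' (pLayer_z h cz) hab'
      · exact hbal _ hg.1 hg.2.1 hg.2.2 _ ha' hab'
    intro x hx
    have h1 : g * x * g⁻¹ ∈ centralizerPPrimeCore 2 (g * b * g⁻¹) := by
      apply key
      refine ⟨?_, ?_⟩
      · rw [th_conj]; exact ⟨x, hx.1, rfl⟩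
      · rw [← S1295.centralizer_conj]; exact ⟨x, hx.2, rfl⟩
    rw [th_conj] at h1
    obtain ⟨y, hy, e⟩ := h1
    have h3 : g * y * g⁻¹ = g * x * g⁻¹ := e
    rwa [← mul_left_cancel (mul_right_cancel h3)]

/-- The core functor is balanced: only `E1` needs to be checked. -/
theorem fun_of' [Finite G] (hf : Fused h) (cz : CZ h)
    (hsyl : ∀ e ∈ h.E1, e ∉ h.U → ¬ IsConj h.z e → ∀ a : G, orderOf a = 2 → a * e = e * a →
      ∃ c : G, c * e = e * c ∧ c * a * c⁻¹ ∈ h.E1)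
    (hbal : ∀ e ∈ h.E1, e ∉ h.U → ¬ IsConj h.z e → ∀ a ∈ h.E1, a ≠ 1 →
      centralizerPPrimeCore 2 a ⊓ centralizer ({e} : Set G) ≤ centralizerPPrimeCore 2 e) :
    Fun G := by
  have : Fact (Nat.Prime 2) := ⟨Nat.prime_two⟩
  refine fun_of h hf cz ?_
  intro e he heU hez a ha hae x hx
  obtain ⟨c, hce, hca⟩ := hsyl e he heU hez a ha hae
  have h1 : c * x * c⁻¹ ∈ centralizerPPrimeCore 2 e := by
    apply hbal e he heU hez _ hca
    · intro h1
      have h2 := orderOf_conj c a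
      rw [h1, orderOf_one, ha] at h2
      norm_num at h2
    · refine mem_inf.2 ⟨?_, ?_⟩
      · rw [th_conj]; exact ⟨x, hx.1, rfl⟩
      · have h2 := mem_centralizer_singleton_iff.1 hx.2
        rw [mem_centralizer_singleton_iff]
        have hce' : c⁻¹ * e = e * c⁻¹ := ((show Commute c e from hce).inv_left).eq
        calc c * x * c⁻¹ * e = c * x * (c⁻¹ * e) := by group
          _ = c * (x * e) * c⁻¹ := by rw [hce']; group
          _ = c * e * x * c⁻¹ := by rw [h2]; group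
          _ = e * (c * x * c⁻¹) := by rw [hce]; group
  have h2 : c⁻¹ ∈ centralizer ({e} : Set G) :=
    inv_mem (mem_centralizer_singleton_iff.2 hce)
  have h3 := K_normal h2 h1
  have h4 : c⁻¹ * (c * x * c⁻¹) * c⁻¹⁻¹ = x := by group
  rwa [h4] at h3

/-- `N(S) ≤ C(z)` -/
theorem normalizer_S_le : normalizer (h.S : Set G) ≤ centralizer ({h.z} : Set G) := by
  intro n hn
  have h1 : n * h.z * n⁻¹ ∈ h.S := (mem_normalizer_iff.1 hn _).1 h.z_mem_S
  obtain ⟨t, ht⟩ := h1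
  have h2 : ∀ y : T, t * y = y * t := by
    intro y
    apply h.inj
    rw [map_mul, map_mul, ht]
    have h3 : n⁻¹ * h.φ y * n ∈ h.S := by
      have := (mem_normalizer_iff.1 (inv_mem hn) (h.φ y)).1 (h.phi_mem_S y)
      simpa using this
    have h4 := h.z_comm h3
    calc n * h.z * n⁻¹ * h.φ y = n * (h.z * (n⁻¹ * h.φ y * n)) * n⁻¹ := by group
      _ = n * (n⁻¹ * h.φ y * n * h.z) * n⁻¹ := by rw [h4]
      _ = h.φ y * (n * h.z * n⁻¹) := by group
  rcases T.center_eq t h2 with h3 | h3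
  · exfalso
    rw [h3, map_one] at ht
    apply z_ne_one h
    have h4 : h.z = n⁻¹ * (n * h.z * n⁻¹) * n := by group
    rw [h4, ← ht]; group
  · rw [mem_centralizer_singleton_iff]
    have h4 : n * h.z * n⁻¹ = h.z := by rw [← ht, h3]; rfl
    calc n * h.z = (n * h.z * n⁻¹) * n := by group
      _ = h.z * n := by rw [h4]

/-- The hypotheses of `BalancedEnd.core_eq_bot`. -/
theorem main [Finite G] (hf : Fused h) (cz : CZ h) (hF : Fun G)
    (hfr : ∀ e ∈ h.E1, e ∉ h.U → ¬ IsConj h.z e →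
      centralizer ({e} : Set G) ≤ normalizer (W h.E1 : Set G)) :
    normalizer (h.S : Set G) ≤ normalizer (W h.E1 : Set G) ∧
    (∀ a ∈ h.E1, a ≠ 1 → centralizer ({a} : Set G) ≤ normalizer (W h.E1 : Set G)) ∧
    (∀ t ∈ h.S, orderOf t = 2 → ∃ m ∈ normalizer (W h.E1 : Set G), m * t * m⁻¹ ∈ h.E1) := by
  have hCz := centralizer_z_le hf cz hF
  refine ⟨(normalizer_S_le h).trans hCz, ?_, ?_⟩
  · intro a ha ha1
    by_cases haU : a ∈ h.U
    · obtain ⟨g, hgR, hga⟩ := U_to_z hf haU ha1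
      exact centralizer_le_of_conj hCz (mem_normalizer_U hF (conj_U h hgR)) hga
    · by_cases hc : IsConj h.z a
      · obtain ⟨g, hgE, hga⟩ := E1_to_z h ha hc
        exact centralizer_le_of_conj hCz (mem_normalizer_E1 hgE) hga
      · exact hfr a ha haU hc
  · intro t ht ht2
    obtain ⟨m, hm, hmt⟩ := S_to_E1 h hf ht ht2
    exact ⟨m, hCz hm, hmt⟩

/-- From helper322's description of `C(e)`. -/
theorem centralizer_e_le [Finite G] (hF : Fun G) {V : Subgroup G} (hV : V ≤ h.E1)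
    (h4 : 4 ≤ Nat.card V) {e : G} (heV : e ∈ h.E1) (he1 : e ≠ 1)
    (hc : ∀ c : G, c * e = e * c → ∀ v ∈ V, c * v * c⁻¹ * v⁻¹ ∈ centralizerPPrimeCore 2 e) :
    centralizer ({e} : Set G) ≤ normalizer (W h.E1 : Set G) := by
  refine BalancedEnd.centralizer_le_of_frattini hF (big_E1 h) hV h4 heV he1 ?_
  intro c hcC
  obtain ⟨o, ho, n, -, hn, e⟩ := BalancedTools.frattini (K := centralizerPPrimeCore 2 e)
    (C := centralizer ({e} : Set G)) (V := V)
    ((isPGroup_of_elem (big_E1 h).1).to_le hV)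
    (fun x hx => mem_centralizer_singleton_iff.2 (elem_comm (big_E1 h).1 x (hV hx) e heV))
    (K_le_C e) (K_odd e) (fun _ hc _ hk => K_normal hc hk) (by
      intro c hc' v hv
      have h1 := hc c (mem_centralizer_singleton_iff.1 hc') v hv
      have h2 := mul_mem (Subgroup.mem_sup_right h1 :
        c * v * c⁻¹ * v⁻¹ ∈ V ⊔ centralizerPPrimeCore 2 e) (Subgroup.mem_sup_left hv)
      simpa using h2) hcC
  exact ⟨o, ho, n, hn, e⟩

end Cfsg.Agent.J2Sylow.Balanced
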