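import Mathlib
import Cfsg.Agent.J2Sylow.Model

/-!
# Further facts on the model group `T`, used for the structure of the centralizer of `z`
-/

set_option autoImplicit false

namespace Cfsg.Agent.J2Sylow.ZModel

open Model Model.F4

theorem conj_mul_U : ∀ x u : T, x ∈ T.E1 → x ∉ T.U → u ∈ T.U → ∃ r : T, r ∈ T.R ∧ r * x * r⁻¹ = x * u := by
  decide +kernel

theorem E1_inf_E2 : ∀ x : T, x ∈ T.E1 → x ∈ T.E2 → x ∈ T.U := by decide +kernel

theorem sq_z_mem_Q : ∀ x : T, x * x = T.z → x ∈ T.Q := by decide +kernel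

theorem Q_gen : ∀ x : T, x ∈ T.Q → ∃ y : T, y ∈ T.Q ∧ y * y = T.z ∧ (y⁻¹ * x) * (y⁻¹ * x) = T.z := by
  decide +kernel

theorem sq_one : ∀ x : T, x * x = 1 → x ∈ T.Q ∨ x ∈ T.E1 ∨ x ∈ T.E2 := by decide +kernel

theorem Q_comm : ∀ x y : T, x ∈ T.Q → y ∈ T.Q → x * y = y * x ∨ x * y = T.z * (y * x) := by
  decide +kernel

theorem Q_sq : ∀ x : T, x ∈ T.Q → x * x = 1 ∨ x * x = T.z := by
  decide +kernel

theorem cent_Q : ∀ x : T, (∀ y : T, y ∈ T.Q → x * y = y * x) → x = 1 ∨ x = T.z := by decide +kernel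

theorem cent_J : ∀ x : T, (∀ y : T, y ∈ T.Q → x * y = y * x ∨ x * y = T.z * (y * x)) → x ∈ T.Q := by
  decide +kernel

theorem exists_comm_Q : ∀ x : T, x ∈ T.E1 → x ∉ T.U → ∃ y : T, y ∈ T.Q ∧ y ∉ T.U ∧
    (x * y = y * x ∨ x * y = T.z * (y * x)) := by decide +kernel

theorem v_comm : ∀ x : T, T.v * x = x * T.v ∨ T.v * x = T.z * (x * T.v) := by decide +kernel

end Cfsg.Agent.J2Sylow.ZModel
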