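import Mathlib
import Cfsg.Agent.J2Sylow.ZModel

/-!
# The five singular points of `Q / <z>`
-/

set_option autoImplicit false

namespace Cfsg.Agent.J2Sylow.ZFive

open Model Model.F4

/-- representatives of the five pairs `{x, xz}` of noncentral involutions of `Q` -/
def s : Fin 5 → T := ![T.v, T.tau, ⟨e, e, o, true⟩, ⟨w, u, o, true⟩, ⟨u, w, o, true⟩]

theorem s_zero : s 0 = T.v := rfl
theorem s_one : s 1 = T.tau := rfl
theorem s_mem : ∀ i, s i ∈ T.Q := by decide +kernel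
theorem s_sq : ∀ i, s i * s i = 1 := by decide +kernel
theorem s_ne : ∀ i, s i ≠ 1 ∧ s i ≠ T.z := by decide +kernel
theorem s_inj : ∀ i j, s i = s j ∨ s i = s j * T.z → i = j := by decide +kernel
theorem s_anti : ∀ i j, i ≠ j → s i * s j = T.z * (s j * s i) := by decide +kernel
theorem s_cover : ∀ x : T, x ∈ T.Q → x * x = 1 → x = 1 ∨ x = T.z ∨ ∃ i, x = s i ∨ x = s i * T.z := by
  decide +kernel
theorem s_cover4 : ∀ x : T, x ∈ T.Q → x * x = T.z →
    ∃ i j, i ≠ j ∧ (x = s i * s j ∨ x = s i * s j * T.z) := by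
  decide +kernel
theorem s_pair : ∀ i j k l, i ≠ j → k ≠ l → (s i * s j = s k * s l ∨ s i * s j = s k * s l * T.z) →
    (i = k ∧ j = l) ∨ (i = l ∧ j = k) := by decide +kernel
theorem s_pair_sq : ∀ i j, i ≠ j → (s i * s j) * (s i * s j) = T.z := by decide +kernel
theorem s_pair_R : ∀ i j, i ≠ 0 → j ≠ 0 → i ≠ j → s i * s j ∈ T.R ∧ s i * s j ∉ T.U := by
  decide +kernel
theorem s_conj_tau : ∀ i, i ≠ 0 → ∃ r : T, r * s i * r⁻¹ = T.tau := by decide +kernel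
theorem s_zero_mul : ∀ i, i ≠ 0 → s 0 * s i ∉ T.R := by decide +kernel

/-- elements commuting with a nonsingular element modulo `z` -/
theorem comm_R : ∀ t x : T, t ∈ T.Q → t ∈ T.R → t ∉ T.U →
    (x * t = t * x ∨ x * t = T.z * (t * x)) → x ∉ T.Q → (⟨t.a, o, o, false⟩ : T)⁻¹ * x ∈ T.Q := by
  decide +kernel
theorem comm_not_R : ∀ t x : T, t ∈ T.Q → t ∉ T.R → t * t = T.z →
    (x * t = t * x ∨ x * t = T.z * (t * x)) → x ∈ T.Q := by
  decide +kernel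
theorem comm_e : ∀ t : T, t ∈ T.Q → t ∈ T.R → t ∉ T.U →
    ((⟨t.a, o, o, false⟩ : T) * t = t * ⟨t.a, o, o, false⟩ ∨
      (⟨t.a, o, o, false⟩ : T) * t = T.z * (t * ⟨t.a, o, o, false⟩)) ∧
      (⟨t.a, o, o, false⟩ : T) ∉ T.Q := by
  decide +kernel

/-- eight elements of `Q` in different cosets of `<z>` -/
def q8 : Fin 8 → T := ![⟨o, o, o, false⟩, ⟨e, e, o, false⟩, ⟨w, u, o, false⟩, ⟨u, w, o, false⟩,
  ⟨o, o, w, false⟩, ⟨e, e, w, false⟩, ⟨w, u, w, false⟩, ⟨u, w, w, false⟩]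
theorem q8_mem : ∀ i, q8 i ∈ T.Q := by decide
theorem q8_inj : ∀ i j, (q8 i = q8 j ∨ q8 i = q8 j * T.z) → i = j := by decide +kernel

end Cfsg.Agent.J2Sylow.ZFive
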