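import Mathlib
import Cfsg.Agent.J2Sylow.Setup
import Cfsg.Agent.J2Sylow.ZModel
import Cfsg.Agent.J2Sylow.Functor

/-!
# Sylow-type facts for a group with a Sylow 2-subgroup of type J2 and `z` central
-/

set_option autoImplicit false

namespace Cfsg.Agent.J2Sylow.ZSylow

open Subgroup Model

section general

variable {G : Type*} [Group G] [Finite G]

/-- If the 2-subgroup `R` of `H` is maximal among the 2-subgroups of `H`, every 2-subgroup of `H`
is `H`-conjugate to a subgroup of `R`. -/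
theorem exists_conj_le_of_max {H R : Subgroup G} (hRH : R ≤ H) (hR : IsPGroup 2 R)
    (hmax : ∀ P : Subgroup G, IsPGroup 2 P → R ≤ P → P ≤ H → P ≤ R) (P : Subgroup G)
    (hP : IsPGroup 2 P) (hPH : P ≤ H) : ∃ c ∈ H, ∀ x ∈ P, c * x * c⁻¹ ∈ R := by
  have : Fact (Nat.Prime 2) := ⟨Nat.prime_two⟩
  have hR' : IsPGroup 2 (R.subgroupOf H) := by
    refine hR.of_injective (subgroupOfEquivOfLe hRH).toMonoidHom (subgroupOfEquivOfLe hRH).injective
  have hP' : IsPGroup 2 (P.subgroupOf H) := by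
    refine hP.of_injective (subgroupOfEquivOfLe hPH).toMonoidHom (subgroupOfEquivOfLe hPH).injective
  obtain ⟨R1, hR1⟩ := hR'.exists_le_sylow
  obtain ⟨P1, hP1⟩ := hP'.exists_le_sylow
  have hR1R : ∀ x : H, x ∈ R1 → (x : G) ∈ R := by
    intro x hx
    refine hmax ((R1 : Subgroup H).map H.subtype) (R1.isPGroup'.map _) ?_ ?_ ⟨x, hx, rfl⟩
    · intro r hr
      exact ⟨⟨r, hRH hr⟩, hR1 (mem_subgroupOf.mpr hr), rfl⟩
    · rintro _ ⟨y, -, rfl⟩
      exact y.2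
  obtain ⟨m, hm⟩ := MulAction.exists_smul_eq H P1 R1
  refine ⟨m, m.2, fun x hx => ?_⟩
  have h3 : m * ⟨x, hPH hx⟩ * m⁻¹ ∈ (m • P1 : Sylow 2 H) := by
    rw [← SetLike.mem_coe, Sylow.coe_smul]
    exact Set.mem_smul_set.mpr ⟨⟨x, hPH hx⟩, hP1 (mem_subgroupOf.mpr hx), rfl⟩
  rw [hm] at h3
  exact hR1R _ h3

omit [Finite G] in
theorem isPGroup_zpowers {x : G} (hx : ∃ k : ℕ, x ^ (2 ^ k) = 1) : IsPGroup 2 (zpowers x) := by
  obtain ⟨k, hk⟩ := hx
  rintro ⟨y, hy⟩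
  obtain ⟨n, rfl⟩ := mem_zpowers_iff.mp hy
  refine ⟨k, ?_⟩
  apply Subtype.ext
  show (x ^ n) ^ (2 ^ k) = 1
  rw [← zpow_natCast, ← zpow_mul, mul_comm, zpow_mul, zpow_natCast, hk, one_zpow]

/-- a 2-element of `H` normalizing the maximal 2-subgroup `R` of `H` lies in `R` -/
theorem mem_of_normalizes {H R : Subgroup G} (hR : IsPGroup 2 R)
    (hmax : ∀ P : Subgroup G, IsPGroup 2 P → R ≤ P → P ≤ H → P ≤ R) (hRH : R ≤ H) {x : G}
    (hx : ∃ k : ℕ, x ^ (2 ^ k) = 1) (hxH : x ∈ H) (hn : x ∈ normalizer (R : Set G)) : x ∈ R := by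
  have : Fact (Nat.Prime 2) := ⟨Nat.prime_two⟩
  have h1 : IsPGroup 2 (zpowers x ⊔ R : Subgroup G) := by
    refine (isPGroup_zpowers hx).to_sup_of_normal_right' hR ?_
    rw [zpowers_le]; exact hn
  refine hmax _ h1 le_sup_right (sup_le ?_ hRH) (mem_sup_left (mem_zpowers x))
  rw [zpowers_le]; exact hxH

/-- decomposition of an element into commuting 2-part and 2'-part -/
theorem exists_parts (x : G) : ∃ p q : G, p ∈ zpowers x ∧ q ∈ zpowers x ∧
    (∃ k : ℕ, p ^ (2 ^ k) = 1) ∧ Odd (orderOf q) ∧ p * q = x := by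
  obtain ⟨k, m, hm, hn⟩ := Nat.exists_eq_two_pow_mul_odd (orderOf_pos x).ne'
  have hcop : Nat.Coprime (2 ^ k) m := Nat.Coprime.pow_left _ (Nat.coprime_two_left.mpr hm)
  obtain ⟨a, ha1, ha2⟩ := Nat.chineseRemainder hcop 1 0
  obtain ⟨b, hb1, hb2⟩ := Nat.chineseRemainder hcop 0 1
  refine ⟨x ^ a, x ^ b, pow_mem (mem_zpowers x) a, pow_mem (mem_zpowers x) b, ⟨k, ?_⟩, ?_, ?_⟩
  · obtain ⟨c, hc⟩ := (Nat.modEq_zero_iff_dvd.mp ha2)
    rw [hc, ← pow_mul, ← orderOf_dvd_iff_pow_eq_one, hn]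
    exact ⟨c, by ring⟩
  · obtain ⟨c, hc⟩ := (Nat.modEq_zero_iff_dvd.mp hb1)
    have h1 : (x ^ b) ^ m = 1 := by
      rw [hc, ← pow_mul, ← orderOf_dvd_iff_pow_eq_one, hn]
      exact ⟨c, by ring⟩
    exact hm.of_dvd_nat (orderOf_dvd_of_pow_eq_one h1)
  · rw [← pow_add]
    have h1 : a + b ≡ 1 [MOD orderOf x] := by
      rw [hn]
      exact (Nat.modEq_and_modEq_iff_modEq_mul hcop).mp ⟨by simpa using ha1.add hb1,
        by simpa using ha2.add hb2⟩
    calc x ^ (a + b) = x ^ 1 := pow_eq_pow_iff_modEq.mpr h1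
      _ = x := pow_one x

end general

variable {G : Type*} [Group G] (h : Setup G)

theorem isPGroup_S : IsPGroup 2 h.S := by
  have h1 : IsPGroup 2 T := IsPGroup.of_card (n := 7) (by rw [T.card_T]; norm_num)
  exact h1.of_surjective h.φ.rangeRestrict h.φ.rangeRestrict_surjective

theorem isPGroup_of_le {P : Subgroup G} (hP : P ≤ h.S) : IsPGroup 2 P := (isPGroup_S h).to_le hP

theorem card_map (P : Subgroup T) : Nat.card (P.map h.φ) = Nat.card P :=
  (Nat.card_congr (P.equivMapOfInjective h.φ h.inj).toEquiv).symm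

theorem card_S : Nat.card h.S = 128 := by
  rw [← T.card_T]
  exact (Nat.card_congr (MonoidHom.ofInjective h.inj).toEquiv).symm

theorem card_R : Nat.card h.R = 64 := (card_map h _).trans T.card_R
theorem card_E1 : Nat.card h.E1 = 16 := (card_map h _).trans T.card_E1
theorem card_U : Nat.card h.U = 4 := (card_map h _).trans T.card_U

theorem map_le_S (P : Subgroup T) : P.map h.φ ≤ h.S := by
  rintro _ ⟨t, -, rfl⟩
  exact ⟨t, rfl⟩

theorem mem_map_iff {P : Subgroup T} {t : T} : h.φ t ∈ P.map h.φ ↔ t ∈ P := by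
  constructor
  · rintro ⟨s, hs, hst⟩
    rw [← h.inj hst]; exact hs
  · intro ht; exact ⟨t, ht, rfl⟩

variable [Finite G]

/-- the Sylow subgroup -/
noncomputable def sylow : Sylow 2 G :=
  (isPGroup_S h).toSylow (by
    have h1 := h.odd_index
    rw [← even_iff_two_dvd, Nat.not_even_iff_odd]
    exact h1)

theorem coe_sylow : (sylow h : Subgroup G) = h.S := rfl

theorem exists_conj (P : Subgroup G) (hP : IsPGroup 2 P) : ∃ g : G, ∀ x ∈ P, g * x * g⁻¹ ∈ h.S := by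
  have : Fact (Nat.Prime 2) := ⟨Nat.prime_two⟩
  obtain ⟨P1, hP1⟩ := hP.exists_le_sylow
  obtain ⟨m, hm⟩ := MulAction.exists_smul_eq G P1 (sylow h)
  refine ⟨m, fun x hx => ?_⟩
  have h3 : m * x * m⁻¹ ∈ (m • P1 : Sylow 2 G) := by
    rw [← SetLike.mem_coe, Sylow.coe_smul]
    exact Set.mem_smul_set.mpr ⟨x, hP1 hx, rfl⟩
  rw [hm] at h3
  exact h3

end Cfsg.Agent.J2Sylow.ZSylow
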