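import Mathlib
import Cfsg.Agent.J2Sylow.ZSylow

/-!
# Fusion in a group with a Sylow 2-subgroup of type J2 and `z` central

* the centralizer of `v` has Sylow 2-subgroup `R`, the normalizer of `E1` has Sylow 2-subgroup `R`;
* `N(E1)` centralizes `v`; no element of `E1` outside `U` is conjugate into `U`;
* `C(e)`, `e ∈ E1 - U`, is `O(C(e)) E1`.
-/

set_option autoImplicit false

namespace Cfsg.Agent.J2Sylow.ZFusion

open Subgroup Model Model.F4 ZSylow

/-- the commutative group structure on `E1` -/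
@[reducible] def cgE1 : CommGroup T.E1 :=
  { (inferInstance : Group T.E1) with
    mul_comm := fun a b => Subtype.ext (T.E1_comm a b a.2 b.2) }

instance : DecidableEq T.E1 := fun a b => decidable_of_iff ((a : T) = b) Subtype.ext_iff.symm

section
attribute [local instance] cgE1

theorem prod_filter : ∀ p q r : Bool, ∏ y ∈ (Finset.univ : Finset T.E1).filter
    (fun (y : T.E1) => (y : T) = T.v ∨ ((y : T).a = e ∧ p = true) ∨
      ((y : T).a = w ∧ q = true) ∨ ((y : T).a = u ∧ r = true)), y = (⟨T.v, by decide⟩ : T.E1) := by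
  decide +kernel

/-- an injective endomorphism of `E1` preserving a set as in `prod_filter` fixes `v` -/
theorem fix_v (Om : Finset T.E1) (hv : (⟨T.v, by decide⟩ : T.E1) ∈ Om)
    (h1 : ∀ x ∈ Om, (x : T) ∈ T.U → (x : T) = T.v)
    (h2 : ∀ x y : T.E1, x ∈ Om → (x : T).a ≠ o → (x : T).a = (y : T).a → y ∈ Om)
    (α : T.E1 →* T.E1) (hα : Function.Injective α) (hOm : ∀ x ∈ Om, α x ∈ Om) :
    α ⟨T.v, by decide⟩ = ⟨T.v, by decide⟩ := by
  classical
  have hex : ∀ a : F4, ∃ p : Bool, p = true ↔ ∃ x ∈ Om, (x : T).a = a := by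
    intro a
    by_cases hx : ∃ x ∈ Om, (x : T).a = a
    · exact ⟨true, by simpa using hx⟩
    · exact ⟨false, by simpa using hx⟩
  obtain ⟨p, hp⟩ := hex e
  obtain ⟨q, hq⟩ := hex w
  obtain ⟨r, hr⟩ := hex u
  have hOmeq : Om = (Finset.univ : Finset T.E1).filter
      (fun (y : T.E1) => (y : T) = T.v ∨ ((y : T).a = e ∧ p = true) ∨
        ((y : T).a = w ∧ q = true) ∨ ((y : T).a = u ∧ r = true)) := by
    ext y
    rw [Finset.mem_filter]
    constructor
    · intro hy
      refine ⟨Finset.mem_univ _, ?_⟩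
      rcases hya : (y : T).a with _ | _ | _ | _
      · left
        refine h1 y hy ?_
        exact ⟨hya, y.2.1, y.2.2⟩
      · right; left; exact ⟨rfl, hp.mpr ⟨y, hy, hya⟩⟩
      · right; right; left; exact ⟨rfl, hq.mpr ⟨y, hy, hya⟩⟩
      · right; right; right; exact ⟨rfl, hr.mpr ⟨y, hy, hya⟩⟩
    · rintro ⟨-, hy | ⟨hy, hp'⟩ | ⟨hy, hq'⟩ | ⟨hy, hr'⟩⟩
      · have : y = ⟨T.v, by decide⟩ := Subtype.ext hy
        rw [this]; exact hv
      · obtain ⟨x, hx, hxa⟩ := hp.mp hp'
        exact h2 x y hx (by rw [hxa]; decide) (by rw [hxa, hy])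
      · obtain ⟨x, hx, hxa⟩ := hq.mp hq'
        exact h2 x y hx (by rw [hxa]; decide) (by rw [hxa, hy])
      · obtain ⟨x, hx, hxa⟩ := hr.mp hr'
        exact h2 x y hx (by rw [hxa]; decide) (by rw [hxa, hy])
  have hprod : ∏ y ∈ Om, y = (⟨T.v, by decide⟩ : T.E1) := by
    rw [hOmeq]; exact prod_filter p q r
  have hmap : α (∏ y ∈ Om, y) = ∏ y ∈ Om, y := by
    rw [map_prod]
    have himg : Om.image α = Om := by
      apply Finset.eq_of_subset_of_card_le
      · intro y hy
        obtain ⟨x, hx, rfl⟩ := Finset.mem_image.mp hy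
        exact hOm x hx
      · rw [Finset.card_image_of_injective _ hα]
    conv_rhs => rw [← himg]
    rw [Finset.prod_image (fun x _ y _ hxy => hα hxy)]
  rw [hprod] at hmap
  exact hmap

end

variable {G : Type*} [Group G] [Finite G] (h : Setup G)

/-- 2-subgroups of order more than 64 are Sylow -/
theorem exists_conj_of_large (P : Subgroup G) (hP : IsPGroup 2 P) (hc : 64 < Nat.card P) :
    ∃ g : G, (∀ x ∈ P, g * x * g⁻¹ ∈ h.S) ∧ ∀ x ∈ h.S, g⁻¹ * x * g ∈ P := by
  obtain ⟨g, hg⟩ := exists_conj h P hP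
  refine ⟨g, hg, ?_⟩
  have : Fact (Nat.Prime 2) := ⟨Nat.prime_two⟩
  have h1 : P.map (MulAut.conj g).toMonoidHom ≤ h.S := by
    rintro _ ⟨x, hx, rfl⟩
    exact hg x hx
  have h2 : Nat.card (P.map (MulAut.conj g).toMonoidHom) = Nat.card P :=
    (Nat.card_congr (P.equivMapOfInjective _ (MulAut.conj g).injective).toEquiv).symm
  have h3 : P.map (MulAut.conj g).toMonoidHom = h.S := by
    refine eq_of_le_of_card_ge h1 ?_
    rw [h2, card_S]
    obtain ⟨n, hn⟩ := IsPGroup.iff_card.mp hP
    rw [hn] at hc ⊢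
    have h4 : 6 < n := by
      by_contra h5
      have h6 : 2 ^ n ≤ 2 ^ 6 := Nat.pow_le_pow_right (by norm_num) (by omega)
      omega
    calc 128 = 2 ^ 7 := by norm_num
      _ ≤ 2 ^ n := Nat.pow_le_pow_right (by norm_num) h4
  intro x hx
  rw [← h3] at hx
  obtain ⟨y, hy, hyx⟩ := hx
  have h4 : g * y * g⁻¹ = x := hyx
  have h5 : g⁻¹ * x * g = y := by rw [← h4]; group
  rw [h5]; exact hy

omit [Finite G] in
theorem mem_S {x : G} (hx : x ∈ h.S) : ∃ t : T, h.φ t = x := hx

/-- elementary abelian subgroups of order at least 8 lie in `E1` or in `E2` -/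
theorem elem_le {P : Subgroup G} (hPS : P ≤ h.S) (h2 : ∀ x ∈ P, x * x = 1) (hc : 4 < Nat.card P) :
    P ≤ h.E1 ∨ P ≤ h.E2 := by
  have hcomm : ∀ a ∈ P, ∀ b ∈ P, a * b = b * a := by
    intro a ha b hb
    have h1 := h2 a ha
    have h2' := h2 b hb
    have h3 := h2 (a * b) (P.mul_mem ha hb)
    have ha' : a⁻¹ = a := inv_eq_of_mul_eq_one_right h1
    have hb' : b⁻¹ = b := inv_eq_of_mul_eq_one_right h2'
    have hab : (a * b)⁻¹ = a * b := inv_eq_of_mul_eq_one_right h3
    rw [← hab, mul_inv_rev, ha', hb']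
  have h1 : ∃ x ∈ P, x ∉ h.U := by
    by_contra h3
    push Not at h3
    have h4 := Nat.card_le_card_of_injective _ (inclusion_injective (show P ≤ h.U from h3))
    rw [card_U] at h4
    omega
  obtain ⟨x, hx, hxU⟩ := h1
  obtain ⟨t, rfl⟩ := mem_S h (hPS hx)
  have htt : t * t = 1 := by
    apply h.inj
    rw [map_mul, map_one]; exact h2 _ hx
  have htU : t ∉ T.U := fun h3 => hxU ⟨t, h3, rfl⟩
  have hcomm' : ∀ y ∈ P, ∃ s : T, h.φ s = y ∧ s * s = 1 ∧ t * s = s * t := by
    intro y hy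
    obtain ⟨s, rfl⟩ := mem_S h (hPS hy)
    refine ⟨s, rfl, ?_, ?_⟩
    · apply h.inj
      rw [map_mul, map_one]; exact h2 _ hy
    · apply h.inj
      rw [map_mul, map_mul]; exact hcomm _ hx _ hy
  by_cases htR : t ∈ T.R
  · rcases T.inv_R t htt htR with hE | hE
    · left
      intro y hy
      obtain ⟨s, rfl, hss, hts⟩ := hcomm' y hy
      exact ⟨s, T.comm_E1 t s hE htU hts, rfl⟩
    · right
      intro y hy
      obtain ⟨s, rfl, hss, hts⟩ := hcomm' y hy
      exact ⟨s, T.comm_E2 t s hE htU hts, rfl⟩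
  · exfalso
    have hts : t.s = true := by
      by_contra h3
      exact htR (by rw [T.mem_R]; simpa using h3)
    have h3 : (P : Set G) ⊆ ({1, h.φ t, h.z, h.φ (t * T.z)} : Set G) := by
      intro y hy
      obtain ⟨s, rfl, hss, hts'⟩ := hcomm' y hy
      rcases T.comm_of_not_R t s hts htt hss hts' with h4 | h4 | h4 | h4
      · rw [h4]; left; simp
      · rw [h4]; right; left; rfl
      · rw [h4]; right; right; left; rfl
      · rw [h4]; right; right; right; rfl
    have h4 : Nat.card P ≤ 4 := by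
      have h5 : (P : Set G).ncard ≤ ({1, h.φ t, h.z, h.φ (t * T.z)} : Set G).ncard :=
        Set.ncard_le_ncard h3 (Set.toFinite _)
      have h6 : ({1, h.φ t, h.z, h.φ (t * T.z)} : Set G).ncard ≤ 4 := by
        refine (Set.ncard_insert_le _ _).trans ?_
        refine Nat.succ_le_succ ((Set.ncard_insert_le _ _).trans ?_)
        exact Nat.succ_le_succ (Set.ncard_insert_le _ _ |>.trans (by rw [Set.ncard_singleton]))
      exact h5.trans h6
    omega

variable (hz : ∀ g : G, g * h.z = h.z * g)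

include hz in
/-- `R` is a Sylow 2-subgroup of `C(v)` -/
theorem max_Cv (P : Subgroup G) (hP : IsPGroup 2 P) (hRP : h.R ≤ P)
    (hPv : P ≤ centralizer ({h.v} : Set G)) : P ≤ h.R := by
  by_cases hc : 64 < Nat.card P
  · exfalso
    obtain ⟨g, hg1, hg2⟩ := exists_conj_of_large h P hP hc
    have hvP : h.v ∈ P := hRP ((mem_map_iff h).mpr (by decide))
    obtain ⟨t, ht⟩ := mem_S h (hg1 _ hvP)
    have h1 : ∀ s : T, t * s = s * t := by
      intro s
      apply h.inj
      rw [map_mul, map_mul, ht]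
      have h2 := mem_centralizer_singleton_iff.mp (hPv (hg2 (h.φ s) ⟨s, rfl⟩))
      calc g * h.v * g⁻¹ * h.φ s = g * (h.v * (g⁻¹ * h.φ s * g)) * g⁻¹ := by group
        _ = g * ((g⁻¹ * h.φ s * g) * h.v) * g⁻¹ := by rw [h2]
        _ = h.φ s * (g * h.v * g⁻¹) := by group
    have h3 : h.v = 1 ∨ h.v = h.z := by
      rcases T.center_eq t h1 with h2 | h2
      · left
        rw [h2, map_one] at ht
        have h4 : h.v = g⁻¹ * (g * h.v * g⁻¹) * g := by group
        rw [h4, ← ht]; group
      · right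
        rw [h2] at ht
        have h4 : h.v = g⁻¹ * (g * h.v * g⁻¹) * g := by group
        have h5 : h.φ T.z = h.z := rfl
        rw [h4, ← ht, h5, hz]; group
    rcases h3 with h3 | h3
    · have h4 : T.v = 1 := h.inj (by rw [map_one]; exact h3)
      exact absurd h4 (by decide)
    · have h4 : T.v = T.z := h.inj h3
      exact absurd h4 (by decide)
  · have h1 : h.R = P := eq_of_le_of_card_ge hRP (by rw [card_R]; omega)
    rw [h1]

/-- `R` is a Sylow 2-subgroup of `N(E1)` -/
theorem max_NE (P : Subgroup G) (hP : IsPGroup 2 P) (hRP : h.R ≤ P)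
    (hPE : P ≤ normalizer (h.E1 : Set G)) : P ≤ h.R := by
  by_cases hc : 64 < Nat.card P
  · exfalso
    obtain ⟨g, hg1, hg2⟩ := exists_conj_of_large h P hP hc
    have hE1P : h.E1 ≤ P := by
      rintro _ ⟨t, ht, rfl⟩
      exact hRP ⟨t, T.E1_le_R ht, rfl⟩
    set F : Subgroup G := h.E1.map (MulAut.conj g).toMonoidHom with hF
    have hFS : F ≤ h.S := by
      rintro _ ⟨x, hx, rfl⟩
      exact hg1 x (hE1P hx)
    have hFc : Nat.card F = 16 := by
      rw [← card_E1 h]
      exact (Nat.card_congr (h.E1.equivMapOfInjective _ (MulAut.conj g).injective).toEquiv).symm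
    have hF2 : ∀ x ∈ F, x * x = 1 := by
      rintro _ ⟨_, ⟨t, ht, rfl⟩, rfl⟩
      have h1 := congrArg h.φ (T.E1_sq t ht)
      rw [map_mul, map_one] at h1
      rw [← map_mul]
      show (MulAut.conj g) (h.φ t * h.φ t) = 1
      rw [h1, map_one]
    -- `S` normalizes `F`
    have hn : ∀ s ∈ h.S, ∀ x ∈ F, s * x * s⁻¹ ∈ F := by
      rintro s hs _ ⟨x, hx, rfl⟩
      have h1 := (mem_normalizer_iff.mp (hPE (hg2 s hs)) x).mp hx
      refine ⟨_, h1, ?_⟩
      show g * (g⁻¹ * s * g * x * (g⁻¹ * s * g)⁻¹) * g⁻¹ = s * (g * x * g⁻¹) * s⁻¹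
      group
    have htau : h.φ T.tau ∈ h.S := ⟨_, rfl⟩
    rcases elem_le h hFS hF2 (by rw [hFc]; norm_num) with h1 | h1
    · have h2 : F = h.E1 := eq_of_le_of_card_ge h1 (by rw [hFc, card_E1])
      have h3 : h.φ ⟨e, o, o, false⟩ ∈ F := by rw [h2]; exact (mem_map_iff h).mpr (by decide)
      have h4 := hn _ htau _ h3
      rw [h2, ← map_inv, ← map_mul, ← map_mul] at h4
      exact absurd ((mem_map_iff h).mp h4) (by decide)
    · have h2 : F = h.E2 := eq_of_le_of_card_ge h1 (by
        rw [hFc]; exact ((card_map h _).trans T.card_E2).le)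
      have h3 : h.φ ⟨o, e, o, false⟩ ∈ F := by rw [h2]; exact (mem_map_iff h).mpr (by decide)
      have h4 := hn _ htau _ h3
      rw [h2, ← map_inv, ← map_mul, ← map_mul] at h4
      exact absurd ((mem_map_iff h).mp h4) (by decide)
  · have h1 : h.R = P := eq_of_le_of_card_ge hRP (by rw [card_R]; omega)
    rw [h1]

omit [Finite G] in
theorem R_le_Cv : h.R ≤ centralizer ({h.v} : Set G) := by
  rintro _ ⟨t, ht, rfl⟩
  rw [mem_centralizer_singleton_iff]
  have h1 := congrArg h.φ (T.U_central T.v t (by decide) ht)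
  rw [map_mul, map_mul] at h1
  exact h1.symm

theorem R_le_NE : h.R ≤ normalizer (h.E1 : Set G) := by
  intro g hg
  obtain ⟨r, hr, rfl⟩ := hg
  refine Functor.mem_normalizer_of_conj' ?_
  rintro _ ⟨t, ht, rfl⟩
  rw [← map_inv, ← map_mul, ← map_mul]
  exact ⟨_, T.E1_normal t r ht hr, rfl⟩

omit [Finite G] in
theorem isPGroup_R : IsPGroup 2 h.R := isPGroup_of_le h (map_le_S h _)

omit [Finite G] in
theorem isPGroup_E1 : IsPGroup 2 h.E1 := isPGroup_of_le h (map_le_S h _)

include hz in
/-- `v` and `v z` are not conjugate in `N(E1)` -/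
theorem not_swap {n : G} (hn : n ∈ normalizer (h.E1 : Set G)) :
    n * h.v * n⁻¹ ≠ h.v * h.z := by
  intro hs
  -- the subgroup of elements fixing the pair `{v, vz}`
  have hzz : h.z * h.z = 1 := by
    have h1 : T.z * T.z = 1 := by decide
    have h2 := congrArg h.φ h1
    rw [map_mul, map_one] at h2
    exact h2
  have hfix : ∀ g : G, g * h.v * g⁻¹ = h.v ∨ g * h.v * g⁻¹ = h.v * h.z → g⁻¹ * h.v * g = h.v ∨
      g⁻¹ * h.v * g = h.v * h.z := by
    rintro g (h1 | h1)
    · left
      calc g⁻¹ * h.v * g = g⁻¹ * (g * h.v * g⁻¹) * g := by rw [h1]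
        _ = h.v := by group
    · right
      have h2 : h.v = (g * h.v * g⁻¹) * h.z := by
        rw [h1, mul_assoc, hzz, mul_one]
      calc g⁻¹ * h.v * g = g⁻¹ * ((g * h.v * g⁻¹) * h.z) * g := by rw [← h2]
        _ = h.v * (g⁻¹ * h.z * g) := by group
        _ = h.v * h.z := by rw [hz g⁻¹]; group
  let M : Subgroup G :=
    { carrier := {g | g ∈ normalizer (h.E1 : Set G) ∧
        (g * h.v * g⁻¹ = h.v ∨ g * h.v * g⁻¹ = h.v * h.z)}
      one_mem' := ⟨one_mem _, Or.inl (by group)⟩
      mul_mem' := by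
        rintro a b ⟨ha, ha'⟩ ⟨hb, hb'⟩
        refine ⟨mul_mem ha hb, ?_⟩
        have h1 : a * b * h.v * (a * b)⁻¹ = a * (b * h.v * b⁻¹) * a⁻¹ := by group
        rw [h1]
        rcases hb' with hb' | hb'
        · rw [hb']; exact ha'
        · have h2 : a * (h.v * h.z) * a⁻¹ = (a * h.v * a⁻¹) * h.z := by
            calc a * (h.v * h.z) * a⁻¹ = a * h.v * (h.z * a⁻¹) := by group
              _ = a * h.v * (a⁻¹ * h.z) := by rw [hz a⁻¹]
              _ = _ := by group
          rw [hb', h2]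
          rcases ha' with ha' | ha'
          · right; rw [ha']
          · left; rw [ha', mul_assoc, hzz, mul_one]
      inv_mem' := by
        rintro a ⟨ha, ha'⟩
        refine ⟨inv_mem ha, ?_⟩
        rw [inv_inv]
        exact hfix a ha' }
  have hRM : h.R ≤ M := by
    intro r hr
    refine ⟨R_le_NE h hr, Or.inl ?_⟩
    have h1 := mem_centralizer_singleton_iff.mp (R_le_Cv h hr)
    rw [h1]; group
  have hmax : ∀ P : Subgroup G, IsPGroup 2 P → h.R ≤ P → P ≤ M → P ≤ h.R :=
    fun P hP hRP hPM => max_NE h P hP hRP (fun x hx => (hPM hx).1)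
  -- the 2-part of `n` swaps `v` and `v z`
  obtain ⟨p, q, hp, hq, hp2, hq2, hpq⟩ := exists_parts n
  have hnM : n ∈ M := ⟨hn, Or.inr hs⟩
  have hpM : p ∈ M := (zpowers_le.mpr hnM) hp
  have hqM : q ∈ M := (zpowers_le.mpr hnM) hq
  have hqv : q * h.v * q⁻¹ = h.v := by
    rcases hqM.2 with h1 | h1
    · exact h1
    · exfalso
      have h2 : ∀ k : ℕ, q ^ k * h.v * (q ^ k)⁻¹ = h.v * h.z ^ k := by
        intro k
        induction k with
        | zero => simp
        | succ k ih =>
          have h3 : q ^ (k + 1) * h.v * (q ^ (k + 1))⁻¹ = q * (q ^ k * h.v * (q ^ k)⁻¹) * q⁻¹ := by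
            rw [pow_succ']; group
          have h4 : ∀ k : ℕ, h.z ^ k * q⁻¹ = q⁻¹ * h.z ^ k := by
            intro k
            have h5 : Commute (h.z) q⁻¹ := (hz q⁻¹).symm
            exact (h5.pow_left k).eq
          rw [h3, ih]
          calc q * (h.v * h.z ^ k) * q⁻¹ = q * h.v * (h.z ^ k * q⁻¹) := by group
            _ = q * h.v * (q⁻¹ * h.z ^ k) := by rw [h4]
            _ = (q * h.v * q⁻¹) * h.z ^ k := by group
            _ = h.v * h.z * h.z ^ k := by rw [h1]
            _ = h.v * h.z ^ (k + 1) := by rw [pow_succ']; group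
      have h5 := h2 (orderOf q)
      rw [pow_orderOf_eq_one] at h5
      obtain ⟨m, hm⟩ := hq2
      have h6 : h.z ^ orderOf q = h.z := by
        rw [hm, pow_add, pow_mul, pow_two, hzz, one_pow, one_mul, pow_one]
      rw [h6] at h5
      have h7 : h.z = 1 := by
        have h8 : 1 * h.v * (1 : G)⁻¹ = h.v * 1 := by group
        rw [h8] at h5
        exact (mul_left_cancel h5).symm
      have h8 : T.z = 1 := h.inj (by rw [map_one]; exact h7)
      exact absurd h8 (by decide)
  have hpv : p * h.v * p⁻¹ = h.v * h.z := by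
    have h1 : n * h.v * n⁻¹ = p * (q * h.v * q⁻¹) * p⁻¹ := by rw [← hpq]; group
    rw [hqv, hs] at h1
    exact h1.symm
  obtain ⟨c, hc, hcp⟩ := exists_conj_le_of_max hRM (isPGroup_R h) hmax (zpowers p)
    (isPGroup_zpowers hp2) (by rw [zpowers_le]; exact hpM)
  have h1 := hcp p (mem_zpowers p)
  have h2 := mem_centralizer_singleton_iff.mp (R_le_Cv h h1)
  -- `p` centralizes `c⁻¹ v c`
  have h3 : p * (c⁻¹ * h.v * c) = (c⁻¹ * h.v * c) * p := by
    calc p * (c⁻¹ * h.v * c) = c⁻¹ * ((c * p * c⁻¹) * h.v) * c := by group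
      _ = c⁻¹ * (h.v * (c * p * c⁻¹)) * c := by rw [h2]
      _ = _ := by group
  have h4 : p * h.v = h.v * p := by
    rcases hfix c hc.2 with h5 | h5
    · rw [h5] at h3; exact h3
    · rw [h5] at h3
      have h6 : p * h.v * h.z = h.v * p * h.z := by
        calc p * h.v * h.z = p * (h.v * h.z) := by group
          _ = h.v * h.z * p := h3
          _ = h.v * (h.z * p) := by group
          _ = h.v * (p * h.z) := by rw [hz p]
          _ = _ := by group
      exact mul_right_cancel h6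
  rw [h4, mul_inv_cancel_right] at hpv
  have h7 : h.z = 1 := by
    have h8 : h.v * 1 = h.v * h.z := by rw [mul_one]; exact hpv
    exact (mul_left_cancel h8).symm
  have h8 : T.z = 1 := h.inj (by rw [map_one]; exact h7)
  exact absurd h8 (by decide)

include hz in
/-- `N(E1)` centralizes `v` -/
theorem NE_fix_v {n : G} (hn : n ∈ normalizer (h.E1 : Set G)) : n * h.v = h.v * n := by
  classical
  have hact : ∀ m ∈ normalizer (h.E1 : Set G), ∀ t : T.E1, ∃ s : T.E1,
      h.φ s = m * h.φ t * m⁻¹ := by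
    intro m hm t
    obtain ⟨s, hs, hst⟩ := (mem_normalizer_iff.mp hm (h.φ t)).mp ⟨t, t.2, rfl⟩
    exact ⟨⟨s, hs⟩, hst⟩
  choose! f hf using hact
  let α : T.E1 →* T.E1 :=
    { toFun := f n
      map_one' := by
        apply Subtype.ext
        apply h.inj
        rw [hf n hn]; simp
      map_mul' := by
        intro x y
        apply Subtype.ext
        apply h.inj
        rw [hf n hn, Subgroup.coe_mul, Subgroup.coe_mul, map_mul, map_mul, hf n hn, hf n hn]
        group }
  have hα : Function.Injective α := by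
    intro x y hxy
    have h1 : f n x = f n y := hxy
    have h2 := congrArg (fun t : T.E1 => h.φ t) h1
    simp only [hf n hn] at h2
    apply Subtype.ext
    apply h.inj
    exact mul_left_cancel (mul_right_cancel h2)
  set Om : Finset T.E1 := (Finset.univ : Finset T.E1).filter
    (fun t => ∃ m ∈ normalizer (h.E1 : Set G), m * h.v * m⁻¹ = h.φ t) with hOm
  have hmem : ∀ t : T.E1, t ∈ Om ↔ ∃ m ∈ normalizer (h.E1 : Set G), m * h.v * m⁻¹ = h.φ t := by
    intro t
    rw [hOm, Finset.mem_filter]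
    simp
  have key := fix_v Om ((hmem _).mpr ⟨1, one_mem _, by
      show 1 * h.φ T.v * 1⁻¹ = h.φ T.v
      group⟩) (by
      intro x hx hxU
      obtain ⟨m, hm, hmx⟩ := (hmem x).mp hx
      rcases T.U_cases _ hxU with h1 | h1 | h1 | h1
      · exfalso
        rw [h1, map_one] at hmx
        have h2 : h.v = m⁻¹ * (m * h.v * m⁻¹) * m := by group
        rw [hmx] at h2
        have h3 : h.v = 1 := by rw [h2]; group
        have h4 : T.v = 1 := h.inj (by rw [map_one]; exact h3)
        exact absurd h4 (by decide)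
      · exfalso
        rw [h1] at hmx
        have h5 : h.φ T.z = h.z := rfl
        have h2 : h.v = m⁻¹ * (m * h.v * m⁻¹) * m := by group
        rw [hmx, h5, hz] at h2
        have h3 : h.v = h.z := by rw [h2]; group
        have h4 : T.v = T.z := h.inj h3
        exact absurd h4 (by decide)
      · exact h1
      · exfalso
        rw [h1, map_mul] at hmx
        exact not_swap h hz hm hmx) (by
      intro x y hx hxo hxy
      obtain ⟨m, hm, hmx⟩ := (hmem x).mp hx
      have hxU : (x : T) ∉ T.U := fun h1 => hxo h1.1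
      have hyx : (x : T)⁻¹ * y ∈ T.U := by
        have : ∀ s t : T, s ∈ T.E1 → t ∈ T.E1 → s.a = t.a → s⁻¹ * t ∈ T.U := by decide +kernel
        exact this x y x.2 y.2 hxy
      obtain ⟨r, hr, hrx⟩ := ZModel.conj_mul_U x _ x.2 hxU hyx
      refine (hmem y).mpr ⟨h.φ r * m, mul_mem (R_le_NE h ⟨r, hr, rfl⟩) hm, ?_⟩
      have h1 : h.φ r * m * h.v * (h.φ r * m)⁻¹ = h.φ r * (m * h.v * m⁻¹) * (h.φ r)⁻¹ := by group
      rw [h1, hmx, ← map_inv, ← map_mul, ← map_mul, hrx]
      congr 1
      group) α hα (by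
      intro x hx
      obtain ⟨m, hm, hmx⟩ := (hmem x).mp hx
      refine (hmem _).mpr ⟨n * m, mul_mem hn hm, ?_⟩
      show _ = h.φ (f n x)
      rw [hf n hn, ← hmx]; group)
  have h1 : f n ⟨T.v, by decide⟩ = ⟨T.v, by decide⟩ := key
  have h2 := hf n hn ⟨T.v, by decide⟩
  rw [h1] at h2
  have h3 : h.v = n * h.v * n⁻¹ := h2
  calc n * h.v = (n * h.v * n⁻¹) * n := by group
    _ = h.v * n := by rw [← h3]

end Cfsg.Agent.J2Sylow.ZFusion
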