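import Mathlib
import Cfsg.Agent.J2Sylow.ZFusion

/-!
# Centralizers of the elements of `E1` outside `U` (`z` central)
-/

set_option autoImplicit false

namespace Cfsg.Agent.J2Sylow.ZCent

open Subgroup Model Model.F4 ZSylow ZFusion Cfsg.Agent.J2Sylow.Functor

/-- Burnside: a maximal 2-subgroup `E` of `C(e)` which is centralized by its normalizer in `C(e)`
has the core of `C(e)` as complement. -/
theorem burnside_core {X : Type*} [Group X] [Finite X] {e : X} {E : Subgroup X}
    (hE : E ≤ centralizer ({e} : Set X)) (hE2 : IsPGroup 2 E)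
    (hmax : ∀ P : Subgroup X, IsPGroup 2 P → E ≤ P → P ≤ centralizer ({e} : Set X) → P ≤ E)
    (hN : ∀ n ∈ centralizer ({e} : Set X), n ∈ normalizer (E : Set X) → ∀ x ∈ E, n * x = x * n) :
    ∀ c ∈ centralizer ({e} : Set X), ∃ k ∈ K e, k * c ∈ E := by
  have : Fact (Nat.Prime 2) := ⟨Nat.prime_two⟩
  set H : Subgroup X := centralizer ({e} : Set X) with hH
  have hE' : IsPGroup 2 (E.subgroupOf H) :=
    hE2.of_injective (subgroupOfEquivOfLe hE).toMonoidHom (subgroupOfEquivOfLe hE).injective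
  obtain ⟨P, hP⟩ := hE'.exists_le_sylow
  have hPE : ∀ x : H, x ∈ P → (x : X) ∈ E := by
    intro x hx
    refine hmax ((P : Subgroup H).map H.subtype) (P.isPGroup'.map _) ?_ ?_ ⟨x, hx, rfl⟩
    · intro r hr
      exact ⟨⟨r, hE hr⟩, hP (mem_subgroupOf.mpr hr), rfl⟩
    · rintro _ ⟨y, -, rfl⟩
      exact y.2
  have hEP : ∀ x : X, ∀ hx : x ∈ E, (⟨x, hE hx⟩ : H) ∈ P := fun x hx => hP (mem_subgroupOf.mpr hx)
  have hNP : normalizer ((P : Subgroup H) : Set H) ≤ centralizer (P : Set H) := by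
    intro n hn
    rw [mem_centralizer_iff]
    intro x hx
    apply Subtype.ext
    have h1 : (n : X) ∈ normalizer (E : Set X) := by
      refine mem_normalizer_of_conj' ?_
      intro y hy
      exact hPE _ ((mem_normalizer_iff.mp hn ⟨y, hE hy⟩).mp (hEP y hy))
    exact (hN n n.2 h1 x (hPE x hx)).symm
  have hcomp := MonoidHom.ker_transferSylow_isComplement' P hNP
  have hodd := MonoidHom.not_dvd_card_ker_transferSylow P hNP
  set N : Subgroup H := (MonoidHom.transferSylow P hNP).ker with hNdef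
  have hNK : N.map H.subtype ≤ K e := by
    refine le_K ?_ ?_ ?_
    · rintro _ ⟨y, -, rfl⟩
      exact y.2
    · rw [Nat.card_congr (N.equivMapOfInjective _ H.subtype_injective).symm.toEquiv,
        ← Nat.not_even_iff_odd, even_iff_two_dvd]
      exact hodd
    · rintro c hc _ ⟨y, hy, rfl⟩
      refine ⟨(⟨c, hc⟩ : H) * y * (⟨c, hc⟩ : H)⁻¹, ?_, rfl⟩
      exact (inferInstance : N.Normal).conj_mem y hy _
  intro c hc
  obtain ⟨⟨k, p⟩, hkp, -⟩ := hcomp.existsUnique ⟨c, hc⟩
  have hkp' : ((k : H) : X) * ((p : H) : X) = c := by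
    have := congrArg Subtype.val hkp
    simpa using this
  refine ⟨((k : H) : X)⁻¹, (K e).inv_mem (hNK ⟨k, k.2, rfl⟩), ?_⟩
  rw [← hkp', inv_mul_cancel_left]
  exact hPE _ p.2

variable {G : Type*} [Group G] [Finite G] (h : Setup G) (hz : ∀ g : G, g * h.z = h.z * g)

omit [Finite G] in
theorem z_ne_one : h.z ≠ 1 := by
  intro h1
  have h2 : T.z = 1 := h.inj (by rw [map_one]; exact h1)
  exact absurd h2 (by decide)

omit [Finite G] in
theorem tau_inv : h.tau⁻¹ = h.tau := by
  have h1 : T.tau⁻¹ = T.tau := by decide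
  show (h.φ T.tau)⁻¹ = h.φ T.tau
  rw [← map_inv, h1]

omit [Finite G] in
include hz in
theorem centralizer_vz : centralizer ({h.v * h.z} : Set G) = centralizer ({h.v} : Set G) := by
  ext g
  rw [mem_centralizer_singleton_iff, mem_centralizer_singleton_iff]
  constructor
  · intro h1
    have h2 : g * h.v * h.z = h.v * g * h.z := by
      calc g * h.v * h.z = g * (h.v * h.z) := by group
        _ = h.v * h.z * g := h1
        _ = h.v * (h.z * g) := by group
        _ = h.v * (g * h.z) := by rw [hz g]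
        _ = _ := by group
    exact mul_right_cancel h2
  · intro h1
    calc g * (h.v * h.z) = (g * h.v) * h.z := by group
      _ = h.v * (g * h.z) := by rw [h1]; group
      _ = h.v * (h.z * g) := by rw [hz g]
      _ = _ := by group

include hz in
/-- no element of `E1` outside `U` is conjugate into `U` -/
theorem not_conj_U {g : G} {t : T} (ht : t ∈ T.E1) (htU : t ∉ T.U) :
    g * h.φ t * g⁻¹ ∉ h.U := by
  intro hU
  obtain ⟨s, hsU, hs⟩ := hU
  -- the image is `v` or `v z`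
  have hsv : s = T.v ∨ s = T.v * T.z := by
    rcases T.U_cases s hsU with h1 | h1 | h1 | h1
    · exfalso
      rw [h1, map_one] at hs
      have h2 : h.φ t = g⁻¹ * (g * h.φ t * g⁻¹) * g := by group
      have h3 : h.φ t = 1 := by rw [h2, ← hs]; group
      have h4 : t = 1 := h.inj (by rw [map_one]; exact h3)
      rw [h4] at htU
      exact htU (one_mem _)
    · exfalso
      have h5 : h.φ T.z = h.z := rfl
      rw [h1, h5] at hs
      have h2 : h.φ t = g⁻¹ * (g * h.φ t * g⁻¹) * g := by group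
      have h3 : h.φ t = h.z := by rw [h2, ← hs, hz]; group
      have h4 : t = T.z := h.inj h3
      rw [h4] at htU
      exact htU (by decide)
    · exact Or.inl h1
    · exact Or.inr h1
  have hC : centralizer ({h.φ s} : Set G) = centralizer ({h.v} : Set G) := by
    rcases hsv with h1 | h1
    · rw [h1]; rfl
    · rw [h1, map_mul]; exact centralizer_vz h hz
  -- `g E1 g⁻¹ ≤ C(v)`
  set F : Subgroup G := h.E1.map (MulAut.conj g).toMonoidHom with hF
  have hFC : F ≤ centralizer ({h.v} : Set G) := by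
    rw [← hC]
    rintro _ ⟨_, ⟨x, hx, rfl⟩, rfl⟩
    rw [mem_centralizer_singleton_iff, hs]
    have h1 := congrArg h.φ (T.E1_comm t x ht hx)
    rw [map_mul, map_mul] at h1
    show g * h.φ x * g⁻¹ * (g * h.φ t * g⁻¹) = g * h.φ t * g⁻¹ * (g * h.φ x * g⁻¹)
    calc g * h.φ x * g⁻¹ * (g * h.φ t * g⁻¹) = g * (h.φ x * h.φ t) * g⁻¹ := by group
      _ = g * (h.φ t * h.φ x) * g⁻¹ := by rw [h1]
      _ = _ := by group
  obtain ⟨c, hc, hcF⟩ := exists_conj_le_of_max (R_le_Cv h) (isPGroup_R h) (max_Cv h hz) F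
    ((isPGroup_E1 h).map _) hFC
  have hcs : c * h.φ s * c⁻¹ = h.φ s := by
    have h1 : c ∈ centralizer ({h.φ s} : Set G) := by rw [hC]; exact hc
    rw [mem_centralizer_singleton_iff] at h1
    rw [h1]; group
  set n : G := c * g with hn
  have hnE : ∀ x ∈ h.E1, n * x * n⁻¹ ∈ h.S := by
    intro x hx
    have h1 := hcF _ (show g * x * g⁻¹ ∈ F from ⟨x, hx, rfl⟩)
    have h2 : n * x * n⁻¹ = c * (g * x * g⁻¹) * c⁻¹ := by rw [hn]; group
    rw [h2]
    exact map_le_S h _ h1
  have hns : n * h.φ t * n⁻¹ = h.φ s := by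
    have h2 : n * h.φ t * n⁻¹ = c * (g * h.φ t * g⁻¹) * c⁻¹ := by rw [hn]; group
    rw [h2, ← hs, hcs]
  set F' : Subgroup G := h.E1.map (MulAut.conj n).toMonoidHom with hF'
  have hF'S : F' ≤ h.S := by
    rintro _ ⟨x, hx, rfl⟩
    exact hnE x hx
  have hF'c : Nat.card F' = 16 := by
    rw [← card_E1 h]
    exact (Nat.card_congr (h.E1.equivMapOfInjective _ (MulAut.conj n).injective).toEquiv).symm
  have hF'2 : ∀ x ∈ F', x * x = 1 := by
    rintro _ ⟨_, ⟨x, hx, rfl⟩, rfl⟩
    have h1 := congrArg h.φ (T.E1_sq x hx)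
    rw [map_mul, map_one] at h1
    rw [← map_mul]
    show (MulAut.conj n) (h.φ x * h.φ x) = 1
    rw [h1, map_one]
  have hcontra : ∀ m : G, m ∈ normalizer (h.E1 : Set G) → m * h.φ t * m⁻¹ ∈ h.U → False := by
    intro m hm hmU
    have h1 := NE_fix_v h hz hm
    have h2 : ∀ x ∈ h.U, m⁻¹ * x * m = x := by
      rintro _ ⟨x, hx, rfl⟩
      have h3 : m⁻¹ * h.v * m = h.v := by
        calc m⁻¹ * h.v * m = m⁻¹ * (h.v * m) := by group
          _ = m⁻¹ * (m * h.v) := by rw [h1]
          _ = h.v := by group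
      have h4 : m⁻¹ * h.z * m = h.z := by
        rw [hz m⁻¹]; group
      rcases T.U_cases x hx with h5 | h5 | h5 | h5
      · rw [h5, map_one]; group
      · rw [h5]; exact h4
      · rw [h5]; exact h3
      · rw [h5, map_mul]
        calc m⁻¹ * (h.φ T.v * h.φ T.z) * m = (m⁻¹ * h.v * m) * (m⁻¹ * h.z * m) := by
              show m⁻¹ * (h.v * h.z) * m = _
              group
          _ = h.v * h.z := by rw [h3, h4]
    have h3 := h2 _ hmU
    have h4 : m⁻¹ * (m * h.φ t * m⁻¹) * m = h.φ t := by group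
    rw [h4] at h3
    rw [← h3] at hmU
    exact htU ((mem_map_iff h).mp hmU)
  rcases elem_le h hF'S hF'2 (by rw [hF'c]; norm_num) with h1 | h1
  · refine hcontra n (mem_normalizer_of_conj' fun x hx => h1 ⟨x, hx, rfl⟩) ?_
    rw [hns]
    exact ⟨s, hsU, rfl⟩
  · refine hcontra (h.tau * n) (mem_normalizer_of_conj' fun x hx => ?_) ?_
    · obtain ⟨y, hy, hyx⟩ := h1 (show n * x * n⁻¹ ∈ F' from ⟨x, hx, rfl⟩)
      have h2 : h.tau * n * x * (h.tau * n)⁻¹ = h.tau * (n * x * n⁻¹) * h.tau⁻¹ := by group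
      rw [h2, ← hyx]
      show h.φ T.tau * h.φ y * (h.φ T.tau)⁻¹ ∈ h.E1
      rw [← map_inv, ← map_mul, ← map_mul]
      exact ⟨_, T.tau_swap' y hy, rfl⟩
    · have h2 : h.tau * n * h.φ t * (h.tau * n)⁻¹ = h.tau * (n * h.φ t * n⁻¹) * h.tau⁻¹ := by group
      rw [h2, hns]
      show h.φ T.tau * h.φ s * (h.φ T.tau)⁻¹ ∈ h.U
      rw [← map_inv, ← map_mul, ← map_mul]
      exact ⟨_, T.U_normal s _ hsU, rfl⟩

include hz in
/-- the same for `E2` -/
theorem not_conj_U2 {g : G} {t : T} (ht : t ∈ T.E2) (htU : t ∉ T.U) :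
    g * h.φ t * g⁻¹ ∉ h.U := by
  have h1 : T.tau * t * T.tau⁻¹ ∉ T.U := by
    intro h2
    have h3 := T.U_normal _ T.tau⁻¹ h2
    have h4 : T.tau⁻¹ * (T.tau * t * T.tau⁻¹) * T.tau⁻¹⁻¹ = t := by group
    rw [h4] at h3
    exact htU h3
  have h2 := not_conj_U h hz (g := g * h.tau⁻¹) (T.tau_swap' t ht) h1
  have h3 : g * h.tau⁻¹ * h.φ (T.tau * t * T.tau⁻¹) * (g * h.tau⁻¹)⁻¹ = g * h.φ t * g⁻¹ := by
    rw [map_mul, map_mul, map_inv]
    show g * h.tau⁻¹ * (h.tau * h.φ t * h.tau⁻¹) * (g * h.tau⁻¹)⁻¹ = _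
    group
  rwa [h3] at h2

include hz in
/-- `E1` is a Sylow 2-subgroup of `C(e)` -/
theorem max_Ce {t : T} (ht : t ∈ T.E1) (htU : t ∉ T.U) (P : Subgroup G) (hP : IsPGroup 2 P)
    (hEP : h.E1 ≤ P) (hPC : P ≤ centralizer ({h.φ t} : Set G)) : P ≤ h.E1 := by
  obtain ⟨g, hg⟩ := exists_conj h P hP
  set F : Subgroup G := h.E1.map (MulAut.conj g).toMonoidHom with hF
  have hFS : F ≤ h.S := by
    rintro _ ⟨x, hx, rfl⟩
    exact hg x (hEP hx)
  have hFc : Nat.card F = 16 := by
    rw [← card_E1 h]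
    exact (Nat.card_congr (h.E1.equivMapOfInjective _ (MulAut.conj g).injective).toEquiv).symm
  have hF2 : ∀ x ∈ F, x * x = 1 := by
    rintro _ ⟨_, ⟨x, hx, rfl⟩, rfl⟩
    have h1 := congrArg h.φ (T.E1_sq x hx)
    rw [map_mul, map_one] at h1
    rw [← map_mul]
    show (MulAut.conj g) (h.φ x * h.φ x) = 1
    rw [h1, map_one]
  have hnU := not_conj_U h hz (g := g) ht htU
  have htF : g * h.φ t * g⁻¹ ∈ F := ⟨h.φ t, ⟨t, ht, rfl⟩, rfl⟩
  have hcomm : ∀ x ∈ P, ∀ s : T, h.φ s = g * h.φ t * g⁻¹ → ∃ y : T, h.φ y = g * x * g⁻¹ ∧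
      s * y = y * s := by
    intro x hx s hs
    obtain ⟨y, hy⟩ := mem_S h (hg x hx)
    refine ⟨y, hy, ?_⟩
    apply h.inj
    rw [map_mul, map_mul, hy, hs]
    have h1 := mem_centralizer_singleton_iff.mp (hPC hx)
    calc g * h.φ t * g⁻¹ * (g * x * g⁻¹) = g * (h.φ t * x) * g⁻¹ := by group
      _ = g * (x * h.φ t) * g⁻¹ := by rw [h1]
      _ = _ := by group
  have hfin : Nat.card P ≤ 16 := by
    have h5 : Nat.card (P.map (MulAut.conj g).toMonoidHom) = Nat.card P :=
      (Nat.card_congr (P.equivMapOfInjective _ (MulAut.conj g).injective).toEquiv).symm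
    rcases elem_le h hFS hF2 (by rw [hFc]; norm_num) with h1 | h1
    · obtain ⟨s, hs, hst⟩ := h1 htF
      have hsU : s ∉ T.U := by
        intro h2
        apply hnU
        rw [← hst]
        exact ⟨s, h2, rfl⟩
      have h2 : P.map (MulAut.conj g).toMonoidHom ≤ h.E1 := by
        rintro _ ⟨x, hx, rfl⟩
        obtain ⟨y, hy, hsy⟩ := hcomm x hx s hst
        exact ⟨y, T.comm_E1 s y hs hsU hsy, hy⟩
      rw [← h5, ← card_E1 h]
      exact Nat.card_le_card_of_injective _ (inclusion_injective h2)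
    · obtain ⟨s, hs, hst⟩ := h1 htF
      have hsU : s ∉ T.U := by
        intro h2
        apply hnU
        rw [← hst]
        exact ⟨s, h2, rfl⟩
      have h2 : P.map (MulAut.conj g).toMonoidHom ≤ h.E2 := by
        rintro _ ⟨x, hx, rfl⟩
        obtain ⟨y, hy, hsy⟩ := hcomm x hx s hst
        exact ⟨y, T.comm_E2 s y hs hsU hsy, hy⟩
      rw [← h5]
      have h6 := Nat.card_le_card_of_injective _ (inclusion_injective h2)
      have h7 : Nat.card h.E2 = 16 := (card_map h _).trans T.card_E2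
      omega
  have h1 : h.E1 = P := eq_of_le_of_card_ge hEP (by rw [card_E1]; exact hfin)
  rw [h1]

include hz in
/-- `C(e) = O(C(e)) E1` for `e` in `E1` outside `U` -/
theorem cent_e {t : T} (ht : t ∈ T.E1) (htU : t ∉ T.U) :
    ∀ c ∈ centralizer ({h.φ t} : Set G), ∃ k ∈ K (h.φ t), k * c ∈ h.E1 := by
  have hEC : h.E1 ≤ centralizer ({h.φ t} : Set G) := by
    rintro _ ⟨x, hx, rfl⟩
    rw [mem_centralizer_singleton_iff, ← map_mul, ← map_mul, T.E1_comm x t hx ht]
  refine burnside_core hEC (isPGroup_E1 h) (max_Ce h hz ht htU) ?_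
  intro n hn hnE
  -- an element of odd order of `N(E1)` centralizing `e` centralizes `E1`
  obtain ⟨p, q, hp, hq, hp2, hq2, hpq⟩ := exists_parts n
  have hpC : p ∈ centralizer ({h.φ t} : Set G) := (zpowers_le.mpr hn) hp
  have hqC : q ∈ centralizer ({h.φ t} : Set G) := (zpowers_le.mpr hn) hq
  have hpN : p ∈ normalizer (h.E1 : Set G) := (zpowers_le.mpr hnE) hp
  have hqN : q ∈ normalizer (h.E1 : Set G) := (zpowers_le.mpr hnE) hq
  have hpE : p ∈ h.E1 := mem_of_normalizes (isPGroup_E1 h) (max_Ce h hz ht htU) hEC hp2 hpC hpN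
  have hpx : ∀ x ∈ h.E1, p * x = x * p := by
    rintro _ ⟨x, hx, rfl⟩
    obtain ⟨y, hy, rfl⟩ := hpE
    rw [← map_mul, ← map_mul, T.E1_comm y x hy hx]
  -- `q` centralizes `U` and `e`
  have hqU : ∀ y : T, y ∈ T.U → q * h.φ y = h.φ y * q := by
    intro y hy
    have h1 := NE_fix_v h hz hqN
    have h2 : q * h.z = h.z * q := hz q
    rcases T.U_cases y hy with h3 | h3 | h3 | h3
    · rw [h3, map_one, mul_one, one_mul]
    · rw [h3]; exact h2
    · rw [h3]; exact h1
    · rw [h3, map_mul]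
      show q * (h.v * h.z) = h.v * h.z * q
      calc q * (h.v * h.z) = (q * h.v) * h.z := by group
        _ = h.v * (q * h.z) := by rw [h1]; group
        _ = h.v * (h.z * q) := by rw [h2]
        _ = _ := by group
  have hqt : q * h.φ t = h.φ t * q := mem_centralizer_singleton_iff.mp hqC
  have hqD : ∀ y : T, y ∈ T.E1 → (y.a = o ∨ y.a = t.a) → q * h.φ y = h.φ y * q := by
    intro y hy hya
    have hdec : ∀ s y : T, s ∈ T.E1 → y ∈ T.E1 → (y.a = o ∨ y.a = s.a) → y ∈ T.U ∨ s⁻¹ * y ∈ T.U := by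
      decide +kernel
    rcases hdec t y ht hy hya with h1 | h1
    · exact hqU y h1
    · have h2 := hqU _ h1
      have h3 : h.φ y = h.φ t * h.φ (t⁻¹ * y) := by rw [← map_mul]; congr 1; group
      rw [h3]
      calc q * (h.φ t * h.φ (t⁻¹ * y)) = (q * h.φ t) * h.φ (t⁻¹ * y) := by group
        _ = h.φ t * (q * h.φ (t⁻¹ * y)) := by rw [hqt]; group
        _ = _ := by rw [h2]; group
  have hqx : ∀ x ∈ h.E1, q * x = x * q := by
    rintro _ ⟨x, hx, rfl⟩
    by_cases hxa : x.a = o ∨ x.a = t.a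
    · exact hqD x hx hxa
    · obtain ⟨y, hy, hyx⟩ := (mem_normalizer_iff.mp hqN (h.φ x)).mp ⟨x, hx, rfl⟩
      have hya : ¬ (y.a = o ∨ y.a = t.a) := by
        intro h1
        have h2 := hqD y hy h1
        have h3 : h.φ x = h.φ y := by
          have h4 : h.φ x = q⁻¹ * (q * h.φ x * q⁻¹) * q := by group
          rw [h4, ← hyx]
          calc q⁻¹ * h.φ y * q = q⁻¹ * (h.φ y * q) := by group
            _ = q⁻¹ * (q * h.φ y) := by rw [h2]
            _ = h.φ y := by group
        rw [h.inj h3] at hxa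
        exact hxa h1
      have hta : t.a ≠ o := fun h1 => htU ⟨h1, ht.1, ht.2⟩
      have hd1 : (x⁻¹ * y).a = x.a + y.a := by
        have : ∀ x y : T, x ∈ T.E1 → y ∈ T.E1 → (x⁻¹ * y).a = x.a + y.a := by decide +kernel
        exact this x y hx hy
      have hF : ∀ a b c : F4, a ≠ o → ¬ (b = o ∨ b = a) → ¬ (c = o ∨ c = a) →
          b + c = o ∨ b + c = a := by decide
      have hd2 : (x⁻¹ * y).a = o ∨ (x⁻¹ * y).a = t.a := by
        rw [hd1]; exact hF _ _ _ hta hxa hya
      have hdE : x⁻¹ * y ∈ T.E1 := T.E1.mul_mem (T.E1.inv_mem hx) hy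
      have hdq := hqD _ hdE hd2
      set d : G := h.φ (x⁻¹ * y) with hd
      have hxd : q * h.φ x * q⁻¹ = h.φ x * d := by
        rw [← hyx, hd, ← map_mul]; congr 1; group
      have hdd : d * d = 1 := by
        rw [hd, ← map_mul, T.E1_sq _ hdE, map_one]
      have hpow : ∀ k : ℕ, q ^ k * h.φ x * (q ^ k)⁻¹ = h.φ x * d ^ k := by
        intro k
        induction k with
        | zero => simp
        | succ k ih =>
          have h3 : q ^ (k + 1) * h.φ x * (q ^ (k + 1))⁻¹ =
              q * (q ^ k * h.φ x * (q ^ k)⁻¹) * q⁻¹ := by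
            rw [pow_succ']; group
          have h4 : q * d ^ k = d ^ k * q := by
            have h5 : Commute q d := hdq
            exact (h5.pow_right k).eq
          rw [h3, ih]
          calc q * (h.φ x * d ^ k) * q⁻¹ = q * h.φ x * q⁻¹ * (q * d ^ k) * q⁻¹ := by group
            _ = q * h.φ x * q⁻¹ * (d ^ k * q) * q⁻¹ := by rw [h4]
            _ = (h.φ x * d) * d ^ k := by rw [hxd]; group
            _ = h.φ x * d ^ (k + 1) := by rw [pow_succ']; group
      have h5 := hpow (orderOf q)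
      rw [pow_orderOf_eq_one] at h5
      obtain ⟨m, hm⟩ := hq2
      have h6 : d ^ orderOf q = d := by
        rw [hm, pow_add, pow_mul, pow_two, hdd, one_pow, one_mul, pow_one]
      rw [h6] at h5
      have h7 : d = 1 := by
        have h8 : h.φ x * 1 = h.φ x * d := by rw [← h5]; group
        exact (mul_left_cancel h8).symm
      rw [h7, mul_one] at hxd
      calc q * h.φ x = (q * h.φ x * q⁻¹) * q := by group
        _ = h.φ x * q := by rw [hxd]
  intro x hx
  rw [← hpq, mul_assoc, hqx x hx, ← mul_assoc, hpx x hx, mul_assoc]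

end Cfsg.Agent.J2Sylow.ZCent
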