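import Mathlib
import Cfsg.Agent.J2Sylow.ZCent

/-!
# A quotient version of the functor theorem, and absorption of odd subgroups
-/

set_option autoImplicit false

namespace Cfsg.Agent.J2Sylow.ZQuot

open Subgroup ZSylow ZCent Cfsg.Agent.J2Sylow.Functor

universe u

/-- if `q x q⁻¹ = x d` with `d` an involution (or 1) commuting with `q`, `q` of odd order,
then `d = 1` -/
theorem eq_one_of_shift {X : Type*} [Group X] {q x d : X} (h1 : q * x * q⁻¹ = x * d)
    (h2 : q * d = d * q) (h3 : d * d = 1) (ho : Odd (orderOf q)) : d = 1 := by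
  have hpow : ∀ k : ℕ, q ^ k * x * (q ^ k)⁻¹ = x * d ^ k := by
    intro k
    induction k with
    | zero => simp
    | succ k ih =>
      have h4 : q ^ (k + 1) * x * (q ^ (k + 1))⁻¹ = q * (q ^ k * x * (q ^ k)⁻¹) * q⁻¹ := by
        rw [pow_succ']; group
      have h5 : q * d ^ k = d ^ k * q := by
        have h5 : Commute q d := h2
        exact (h5.pow_right k).eq
      rw [h4, ih]
      calc q * (x * d ^ k) * q⁻¹ = q * x * q⁻¹ * (q * d ^ k) * q⁻¹ := by group
        _ = q * x * q⁻¹ * (d ^ k * q) * q⁻¹ := by rw [h5]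
        _ = (x * d) * d ^ k := by rw [h1]; group
        _ = x * d ^ (k + 1) := by rw [pow_succ']; group
  have h5 := hpow (orderOf q)
  rw [pow_orderOf_eq_one] at h5
  obtain ⟨m, hm⟩ := ho
  have h6 : d ^ orderOf q = d := by
    rw [hm, pow_add, pow_mul, pow_two, h3, one_pow, one_mul, pow_one]
  rw [h6] at h5
  have h8 : x * 1 = x * d := by rw [← h5]; group
  exact (mul_left_cancel h8).symm

/-- A maximal 2-subgroup of `H` as a Sylow 2-subgroup of the group `H`. -/
theorem exists_sylow_of_max {X : Type*} [Group X] [Finite X] {H R : Subgroup X} (hRH : R ≤ H)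
    (hR : IsPGroup 2 R)
    (hmax : ∀ P : Subgroup X, IsPGroup 2 P → R ≤ P → P ≤ H → P ≤ R) :
    ∃ P : Sylow 2 H, ∀ x : H, x ∈ P ↔ (x : X) ∈ R := by
  have : Fact (Nat.Prime 2) := ⟨Nat.prime_two⟩
  have hR' : IsPGroup 2 (R.subgroupOf H) :=
    hR.of_injective (subgroupOfEquivOfLe hRH).toMonoidHom (subgroupOfEquivOfLe hRH).injective
  obtain ⟨P, hP⟩ := hR'.exists_le_sylow
  refine ⟨P, fun x => ⟨fun hx => ?_, fun hx => hP (mem_subgroupOf.mpr hx)⟩⟩
  refine hmax ((P : Subgroup H).map H.subtype) (P.isPGroup'.map _) ?_ ?_ ⟨x, hx, rfl⟩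
  · intro r hr
    exact ⟨⟨r, hRH hr⟩, hP (mem_subgroupOf.mpr hr), rfl⟩
  · rintro _ ⟨y, -, rfl⟩
    exact y.2

theorem oddCore_odd (X : Type*) [Group X] [Finite X] : Odd (Nat.card (Cfsg.oddCore X)) := by
  have h := Lib.Cores.pPrimeCore_coprime (G := X) 2
  rwa [Nat.coprime_two_right] at h

/-- `H = K (N ⊓ H)` with `K` the largest normal odd subgroup: an odd subgroup `L` of `H` normalized
by `N ⊓ H` lies in `K`. -/
theorem absorb {X : Type*} [Group X] [Finite X] {H K L : Subgroup X} (N : Set X) (hKH : K ≤ H)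
    (hKodd : Odd (Nat.card K)) (hKn : ∀ c ∈ H, ∀ k ∈ K, c * k * c⁻¹ ∈ K)
    (hKmax : ∀ N : Subgroup X, N ≤ H → Odd (Nat.card N) →
      (∀ c ∈ H, ∀ n ∈ N, c * n * c⁻¹ ∈ N) → N ≤ K)
    (hH : ∀ c ∈ H, ∃ k ∈ K, k * c ∈ N) (hLH : L ≤ H) (hLodd : Odd (Nat.card L))
    (hLN : ∀ n ∈ N, n ∈ H → ∀ l ∈ L, n * l * n⁻¹ ∈ L) : L ≤ K := by
  have hKLmem : ∀ x ∈ K ⊔ L, ∃ k ∈ K, ∃ l ∈ L, x = k * l := by
    intro x hx
    have hle : L ≤ normalizer (K : Set X) := by
      intro l hl
      exact mem_normalizer_of_conj' (hKn l (hLH hl))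
    rw [← SetLike.mem_coe, Subgroup.coe_mul_of_right_le_normalizer_left K L hle,
      Set.mem_mul] at hx
    obtain ⟨k, hk, l, hl, rfl⟩ := hx
    exact ⟨k, hk, l, hl, rfl⟩
  refine le_trans le_sup_right (hKmax (K ⊔ L) (sup_le hKH hLH) ?_ ?_)
  · rw [← Nat.not_even_iff_odd, even_iff_two_dvd]
    intro h2
    have : Fact (Nat.Prime 2) := ⟨Nat.prime_two⟩
    obtain ⟨⟨t, ht⟩, ht2⟩ := exists_prime_orderOf_dvd_card' 2 h2
    rw [Subgroup.orderOf_mk] at ht2
    obtain ⟨k, hk, l, hl, hkl⟩ := hKLmem t ht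
    have h3 := pow_mul_inv_mem hk (hKn l (hLH hl)) (Nat.card L)
    have h4 : l ^ Nat.card L = 1 := by
      have h5 : (⟨l, hl⟩ : L) ^ Nat.card L = 1 := pow_card_eq_one'
      have h6 := congrArg Subtype.val h5
      rw [Subgroup.coe_pow] at h6
      exact h6
    rw [h4, inv_one, mul_one, ← hkl] at h3
    have h5 : t ^ Nat.card L = t := by
      obtain ⟨m, hm⟩ := hLodd
      have h6 : t ^ 2 = 1 := by rw [← ht2]; exact pow_orderOf_eq_one t
      rw [hm, pow_add, pow_mul, h6, one_pow, one_mul, pow_one]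
    rw [h5] at h3
    have h6 := odd_orderOf_of_mem hKodd h3
    rw [ht2] at h6
    exact absurd h6 (by decide)
  · intro c hc n hn
    obtain ⟨k, hk, l, hl, rfl⟩ := hKLmem n hn
    obtain ⟨k', hk', hn'⟩ := hH c hc
    set m : X := k' * c with hm
    have hmH : m ∈ H := H.mul_mem (hKH hk') hc
    have hc' : c = k'⁻¹ * m := by rw [hm]; group
    have hml : m * l * m⁻¹ ∈ L := hLN m hn' hmH l hl
    have h1 : c * (k * l) * c⁻¹ = (c * k * c⁻¹) * (k'⁻¹ * (m * l * m⁻¹) * k'⁻¹⁻¹) := by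
      rw [hc']; group
    rw [h1]
    refine mul_mem (mem_sup_left (hKn c hc k hk)) ?_
    refine mul_mem (mul_mem (mem_sup_left (K.inv_mem hk')) (mem_sup_right hml)) ?_
    exact mem_sup_left (K.inv_mem (K.inv_mem hk'))

/-- Functor theorem for a group `M` with a central subgroup `N` of exponent 2 modulo which the
Sylow 2-subgroup is elementary abelian of order at least 8, with free action of the automizer. -/
theorem quot_core (hSF : SolvFun.{u}) (hFT : OddSolv.{u}) {M : Type u} [Group M] [Finite M]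
    (P : Sylow 2 M) (N : Subgroup M) [hN : N.Normal] (hNP : N ≤ P)
    (hNc : ∀ x ∈ N, ∀ m : M, m * x = x * m) (hN2 : ∀ x ∈ N, x * x = 1)
    (hexp : ∀ x ∈ P, x * x ∈ N)
    (hrank : ∃ f : Fin 8 → M, (∀ i, f i ∈ P) ∧ ∀ i j, (f i)⁻¹ * f j ∈ N → i = j)
    (hact : ∀ n ∈ normalizer ((P : Subgroup M) : Set M), ∀ r ∈ P, r ∉ N →
      r⁻¹ * (n * r * n⁻¹) ∈ N → ∀ x ∈ P, x⁻¹ * (n * x * n⁻¹) ∈ N)
    (h2 : ∃ x ∈ P, ∃ y ∈ P, x ∉ N ∧ y ∉ N ∧ ∀ m : M, (m * x * m⁻¹)⁻¹ * y ∉ N) :
    ∀ m : M, ∃ k ∈ Cfsg.oddCore M, k * m ∈ normalizer ((P : Subgroup M) : Set M) := by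
  classical
  have : Fact (Nat.Prime 2) := ⟨Nat.prime_two⟩
  set π : M →* M ⧸ N := QuotientGroup.mk' N with hπ
  have hπs : Function.Surjective π := QuotientGroup.mk'_surjective N
  have hπ1 : ∀ x : M, π x = 1 ↔ x ∈ N := fun x => QuotientGroup.eq_one_iff x
  have hπeq : ∀ x y : M, π x = π y ↔ x⁻¹ * y ∈ N := by
    intro x y
    rw [← hπ1, map_mul, map_inv, inv_mul_eq_one]
  set T : Sylow 2 (M ⧸ N) := P.mapSurjective hπs with hT
  have hTmem : ∀ y, y ∈ T ↔ ∃ x ∈ P, π x = y := fun y => Iff.rfl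
  have hTP : ∀ x : M, π x ∈ T ↔ x ∈ P := by
    intro x
    rw [hTmem]
    constructor
    · rintro ⟨p, hp, hpx⟩
      have h1 := (hπeq p x).mp hpx
      have h3 : x = p * (p⁻¹ * x) := by group
      rw [h3]
      exact P.mul_mem hp (hNP h1)
    · intro hx; exact ⟨x, hx, rfl⟩
  have hT2 : ∀ y ∈ T, y * y = 1 := by
    intro y hy
    obtain ⟨x, hx, rfl⟩ := (hTmem y).mp hy
    rw [← map_mul, hπ1]
    exact hexp x hx
  have hTc : ∀ a ∈ T, ∀ b ∈ T, a * b = b * a := by
    intro a ha b hb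
    have h1 := hT2 a ha
    have h2 := hT2 b hb
    have h3 := hT2 (a * b) (T.mul_mem ha hb)
    have ha' : a⁻¹ = a := inv_eq_of_mul_eq_one_right h1
    have hb' : b⁻¹ = b := inv_eq_of_mul_eq_one_right h2
    have hab : (a * b)⁻¹ = a * b := inv_eq_of_mul_eq_one_right h3
    rw [← hab, mul_inv_rev, ha', hb']
  have hTmax : ∀ P' : Subgroup (M ⧸ N), IsPGroup 2 P' → (T : Subgroup (M ⧸ N)) ≤ P' → P' ≤ T := by
    intro P' hP' hle
    exact (T.is_maximal' hP' hle).le
  have hNT : ∀ n : M, π n ∈ normalizer ((T : Subgroup (M ⧸ N)) : Set (M ⧸ N)) →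
      n ∈ normalizer ((P : Subgroup M) : Set M) := by
    intro n hn
    refine mem_normalizer_of_conj' ?_
    intro x hx
    have h3 := (mem_normalizer_iff.mp hn (π x)).mp ((hTP x).mpr hx)
    rw [← map_inv, ← map_mul, ← map_mul] at h3
    exact (hTP _).mp h3
  have hmain := main hSF hFT T (T : Subgroup (M ⧸ N)) le_rfl le_rfl hT2 (by
      obtain ⟨f, hfP, hf⟩ := hrank
      have h3 : Function.Injective
          (fun i : Fin 8 => (⟨π (f i), (hTP _).mpr (hfP i)⟩ : (T : Subgroup (M ⧸ N)))) := by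
        intro i j hij
        have h4 := congrArg Subtype.val hij
        exact hf i j ((hπeq _ _).mp h4)
      have h4 := Nat.card_le_card_of_injective _ h3
      rwa [Nat.card_fin] at h4) (by
      intro x hx hc
      refine mem_of_normalizes (H := ⊤) T.isPGroup' (fun P' hP' hle _ => hTmax P' hP' hle) le_top
        hx (mem_top x) ?_
      refine mem_normalizer_of_conj' ?_
      intro j hj
      rw [hc j hj, mul_inv_cancel_right]
      exact hj) (by
      intro v hv hv1 c hc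
      obtain ⟨k, hk, hkc⟩ := burnside_core (e := v) (E := (T : Subgroup (M ⧸ N))) (by
          intro a ha
          rw [mem_centralizer_singleton_iff]
          exact hTc a ha v hv) T.isPGroup' (fun P' hP' hle _ => hTmax P' hP' hle) (by
          intro n hn hnT x hx
          obtain ⟨n, rfl⟩ := hπs n
          obtain ⟨r, hr, rfl⟩ := (hTmem v).mp hv
          obtain ⟨x0, hx0, rfl⟩ := (hTmem x).mp hx
          have h3 := hact n (hNT n hnT) r hr (fun h4 => hv1 ((hπ1 r).mpr h4)) (by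
            rw [← hπeq]
            rw [mem_centralizer_singleton_iff] at hn
            rw [map_mul, map_mul, map_inv, hn]; group) x0 hx0
          rw [← hπeq] at h3
          rw [map_mul, map_mul, map_inv] at h3
          calc π n * π x0 = (π n * π x0 * (π n)⁻¹) * π n := by group
            _ = π x0 * π n := by rw [← h3]) c hc
      exact ⟨k, hk, le_normalizer hkc⟩) (by
      intro t ht htJ _
      exact absurd ht htJ) (by
      obtain ⟨x, hx, y, hy, hxN, hyN, hxy⟩ := h2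
      have ho : ∀ x ∈ P, x ∉ N → orderOf (π x) = 2 := by
        intro x hx hxN
        refine orderOf_eq_prime ?_ (fun h3 => hxN ((hπ1 x).mp h3))
        rw [pow_two]; exact hT2 _ ((hTP x).mpr hx)
      refine ⟨π x, π y, ho x hx hxN, ho y hy hyN, ?_⟩
      intro hconj
      obtain ⟨c, hc⟩ := isConj_iff.mp hconj
      obtain ⟨m, rfl⟩ := hπs c
      rw [← map_inv, ← map_mul, ← map_mul, hπeq] at hc
      exact hxy m hc)
  -- lift
  set P0 : Subgroup M := (Cfsg.oddCore (M ⧸ N)).comap π with hP0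
  have hOn : (Cfsg.oddCore (M ⧸ N)).Normal := Lib.Cores.pPrimeCore_normal 2
  have hP0n : P0.Normal := hOn.comap π
  obtain ⟨L, hLP, hLodd, hLmem, hLdec⟩ := exists_odd_part (Z := P0) (J := N) hN2
    (fun j hj z _ => hNc j hj z) (by
      rintro z hz ⟨k, hk⟩
      rw [← hπ1]
      have h3 : Odd (orderOf (π z)) := odd_orderOf_of_mem (oddCore_odd _) hz
      have h4 : (π z) ^ (2 ^ k) = 1 := by rw [← map_pow, hk, map_one]
      have h5 : orderOf (π z) ∣ 2 ^ k := orderOf_dvd_of_pow_eq_one h4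
      have h6 : Nat.Coprime (orderOf (π z)) (2 ^ k) :=
        Nat.Coprime.pow_right _ (Nat.coprime_two_right.mpr h3)
      exact orderOf_eq_one_iff.mp (Nat.Coprime.eq_one_of_dvd h6 h5))
  have hLn : L.Normal := by
    refine ⟨fun l hl g => ?_⟩
    refine hLmem _ (hP0n.conj_mem l (hLP hl) g) ?_
    rw [TwoFusion.StronglyEmbeddedBasic.orderOf_conj]
    exact odd_orderOf_of_mem hLodd hl
  have hLO : L ≤ Cfsg.oddCore M := by
    refine Lib.Cores.le_pPrimeCore hLn ?_
    rwa [Nat.coprime_two_right]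
  intro m
  obtain ⟨k, hk, hkm⟩ := hmain (π m)
  obtain ⟨k0, rfl⟩ := hπs k
  obtain ⟨j, hj, l, hl, rfl⟩ := hLdec k0 hk
  refine ⟨l, hLO hl, hNT _ ?_⟩
  have h3 : π (j * l) = π l := by
    rw [map_mul, (hπ1 j).mpr hj, one_mul]
  rw [h3, ← map_mul] at hkm
  exact hkm

end Cfsg.Agent.J2Sylow.ZQuot
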