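import Mathlib
import Cfsg.Agent.J2Sylow.ZQuot
import Cfsg.Agent.TwoFusion.PResidual

/-!
# The centralizer of an element of a strongly closed elementary abelian group

`J` strongly closed elementary abelian in the Sylow 2-subgroup `T` of `X`, `j ∈ J` whose centralizer
in `T` contains `J` with index 2, `s ∈ J` fixed by all squares of elements of `N(J) ∩ C(j)`,
`C(s) = O(C(s)) (N(J) ∩ C(s))`.  Then `C(j) = O(C(j)) (N(J) ∩ C(j))`.
-/

set_option autoImplicit false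

namespace Cfsg.Agent.J2Sylow.ZNonsing

open Subgroup ZSylow ZCent ZQuot Cfsg.Agent.J2Sylow.Functor

universe u

/-- Glauberman's Z*-theorem -/
def ZStar : Prop := ∀ (X : Type u) [Group X] [Finite X] (P : Sylow 2 X) (a : X), orderOf a = 2 →
  a ∈ P → (∀ g : X, g * a * g⁻¹ ∈ P → g * a * g⁻¹ = a) →
  ∃ N : Subgroup X, N.Normal ∧ Odd (Nat.card N) ∧ ∀ g : X, (a * g * a⁻¹ * g⁻¹) ∈ N

/-- the largest normal odd subgroup of a subgroup, as a subgroup of the big group -/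
def core {X : Type*} [Group X] (H : Subgroup X) : Subgroup X := (Cfsg.oddCore H).map H.subtype

section core

variable {X : Type*} [Group X] [Finite X] {H : Subgroup X}

omit [Finite X] in
theorem core_le : core H ≤ H := by
  rintro _ ⟨x, -, rfl⟩
  exact x.2

theorem core_odd : Odd (Nat.card (core H)) := by
  rw [core, Nat.card_congr ((Cfsg.oddCore H).equivMapOfInjective _ H.subtype_injective).symm.toEquiv]
  exact oddCore_odd H

omit [Finite X] in
theorem core_conj {c k : X} (hc : c ∈ H) (hk : k ∈ core H) : c * k * c⁻¹ ∈ core H := by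
  obtain ⟨y, hy, rfl⟩ := hk
  have hn : (Cfsg.oddCore H).Normal := Lib.Cores.pPrimeCore_normal 2
  exact ⟨⟨c, hc⟩ * y * ⟨c, hc⟩⁻¹, hn.conj_mem y hy _, rfl⟩

omit [Finite X] in
theorem le_core' {N : Subgroup X} (h1 : N ≤ H) (h2 : Odd (Nat.card N))
    (h3 : ∀ c ∈ H, ∀ n ∈ N, c * n * c⁻¹ ∈ N) : N ≤ core H := by
  have hn : (N.subgroupOf H).Normal := by
    refine ⟨fun n hn g => ?_⟩
    rw [mem_subgroupOf] at hn ⊢
    exact h3 g g.2 n hn
  have hc : (Nat.card (N.subgroupOf H)).Coprime 2 := by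
    rw [Nat.card_congr (subgroupOfEquivOfLe h1).toEquiv, Nat.coprime_two_right]
    exact h2
  intro x hx
  exact ⟨⟨x, h1 hx⟩, Lib.Cores.le_pPrimeCore hn hc hx, rfl⟩

theorem core_map {g : X} (hg : ∀ x ∈ H, g * x * g⁻¹ ∈ H) {k : X} (hk : k ∈ core H) :
    g * k * g⁻¹ ∈ core H := by
  have h1 : (core H).map (MulAut.conj g).toMonoidHom ≤ core H := by
    refine le_core' ?_ ?_ ?_
    · rintro _ ⟨y, hy, rfl⟩
      exact hg y (core_le hy)
    · rw [Nat.card_congr ((core H).equivMapOfInjective _ (MulAut.conj g).injective).symm.toEquiv]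
      exact core_odd
    · rintro c hc _ ⟨y, hy, rfl⟩
      have hgn := mem_normalizer_of_conj' hg
      have h2 : g⁻¹ * c * g ∈ H := by
        have h3 := (mem_normalizer_iff.mp (inv_mem hgn) c).mp hc
        rwa [inv_inv] at h3
      refine ⟨_, core_conj h2 hy, ?_⟩
      show g * (g⁻¹ * c * g * y * (g⁻¹ * c * g)⁻¹) * g⁻¹ = c * (g * y * g⁻¹) * c⁻¹
      group
  exact h1 ⟨k, hk, rfl⟩

end core

theorem nonsing (hZS : ZStar.{u}) {X : Type u} [Group X] [Finite X] (T : Sylow 2 X)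
    (J : Subgroup X) (hJT : J ≤ T) (hTN : (T : Subgroup X) ≤ normalizer (J : Set X))
    (hJ2 : ∀ a ∈ J, a * a = 1)
    (hclosed : ∀ g : X, ∀ x ∈ J, g * x * g⁻¹ ∈ T → g * x * g⁻¹ ∈ J)
    {j s : X} (hs : s ∈ J) (hs1 : s ≠ 1) (Tj : Subgroup X)
    (hTj : ∀ x, x ∈ Tj ↔ x ∈ T ∧ x * j = j * x) (hJTj : J ≤ Tj)
    (hmax : ∀ P : Subgroup X, IsPGroup 2 P → Tj ≤ P → P ≤ centralizer ({j} : Set X) → P ≤ Tj)
    (hidx : ∀ x ∈ Tj, ∀ y ∈ Tj, x ∉ J → y ∉ J → x * y ∈ J) {t : X} (ht : t ∈ Tj) (htJ : t ∉ J)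
    (hfix : ∀ n ∈ normalizer (J : Set X), n * j = j * n → n * (n * s * n⁻¹) * n⁻¹ = s)
    (hcen : ∀ c ∈ centralizer ({s} : Set X), ∃ k ∈ K s, k * c ∈ normalizer (J : Set X)) :
    ∀ c ∈ centralizer ({j} : Set X), ∃ k ∈ K j, k * c ∈ normalizer (J : Set X) := by
  classical
  have : Fact (Nat.Prime 2) := ⟨Nat.prime_two⟩
  have hJc : ∀ a ∈ J, ∀ b ∈ J, a * b = b * a := by
    intro a ha b hb
    have h1 := hJ2 a ha
    have h2 := hJ2 b hb
    have h3 := hJ2 (a * b) (J.mul_mem ha hb)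
    have ha' : a⁻¹ = a := inv_eq_of_mul_eq_one_right h1
    have hb' : b⁻¹ = b := inv_eq_of_mul_eq_one_right h2
    have hab : (a * b)⁻¹ = a * b := inv_eq_of_mul_eq_one_right h3
    rw [← hab, mul_inv_rev, ha', hb']
  set H : Subgroup X := centralizer ({j} : Set X) with hH
  have hTjH : Tj ≤ H := by
    intro x hx
    rw [hH, mem_centralizer_singleton_iff]
    exact ((hTj x).mp hx).2
  have hTjT : Tj ≤ T := fun x hx => ((hTj x).mp hx).1
  have hTj2 : IsPGroup 2 Tj := T.isPGroup'.to_le hTjT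
  have hJPG : IsPGroup 2 J := T.isPGroup'.to_le hJT
  obtain ⟨Pj, hPj⟩ := exists_sylow_of_max hTjH hTj2 hmax
  -- the homomorphism `Pj → ℤˣ` with kernel `J`
  have hJinv : ∀ x y : X, x ∈ J → (x * y ∈ J ↔ y ∈ J) := by
    intro x y hx
    constructor
    · intro h1
      have h2 := J.mul_mem (J.inv_mem hx) h1
      simpa using h2
    · intro h1; exact J.mul_mem hx h1
  have hJinv' : ∀ x y : X, y ∈ J → (x * y ∈ J ↔ x ∈ J) := by
    intro x y hy
    constructor
    · intro h1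
      have h2 := J.mul_mem h1 (J.inv_mem hy)
      simpa using h2
    · intro h1; exact J.mul_mem h1 hy
  let ϕ : Pj →* ℤˣ :=
    { toFun := fun x => if ((x : H) : X) ∈ J then 1 else -1
      map_one' := by
        have : (((1 : Pj) : H) : X) ∈ J := by
          simp [J.one_mem]
        rw [if_pos this]
      map_mul' := by
        intro x y
        have hxy : (((x * y : Pj) : H) : X) = ((x : H) : X) * ((y : H) : X) := rfl
        have hx : ((x : H) : X) ∈ Tj := (hPj _).mp x.2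
        have hy : ((y : H) : X) ∈ Tj := (hPj _).mp y.2
        rw [hxy]
        by_cases h1 : ((x : H) : X) ∈ J
        · by_cases h2 : ((y : H) : X) ∈ J
          · rw [if_pos h1, if_pos h2, if_pos (J.mul_mem h1 h2)]; simp
          · rw [if_pos h1, if_neg h2, if_neg (fun h3 => h2 ((hJinv _ _ h1).mp h3))]; simp
        · by_cases h2 : ((y : H) : X) ∈ J
          · rw [if_neg h1, if_pos h2, if_neg (fun h3 => h1 ((hJinv' _ _ h2).mp h3))]; simp
          · rw [if_neg h1, if_neg h2, if_pos (hidx _ hx _ hy h1 h2)]; simp }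
  have hϕ : ∀ x : Pj, ϕ x = 1 ↔ ((x : H) : X) ∈ J := by
    intro x
    show (if ((x : H) : X) ∈ J then (1 : ℤˣ) else -1) = 1 ↔ _
    by_cases h1 : ((x : H) : X) ∈ J
    · simp [h1]
    · simp only [h1, if_false, iff_false]; decide
  have hϕc : ∀ x y : Pj, (((x : H) : X) ∈ J ↔ ((y : H) : X) ∈ J) → ϕ x = ϕ y := by
    intro x y hxy
    show (if ((x : H) : X) ∈ J then (1 : ℤˣ) else -1) = (if ((y : H) : X) ∈ J then (1 : ℤˣ) else -1)
    by_cases h1 : ((x : H) : X) ∈ J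
    · rw [if_pos h1, if_pos (hxy.mp h1)]
    · rw [if_neg h1, if_neg (fun h2 => h1 (hxy.mpr h2))]
  have hodd : Odd (Pj : Subgroup H).index := by
    rw [← Nat.not_even_iff_odd, even_iff_two_dvd]
    exact Pj.not_dvd_index
  set V : H →* ℤˣ := MonoidHom.transfer ϕ with hV
  have hVP : ∀ g : Pj, V (g : H) = ϕ g := by
    intro g
    rw [hV, TwoFusion.PResidual.transfer_eq_pow_index_of_fusion ϕ g]
    · obtain ⟨m, hm⟩ := hodd
      rw [hm, pow_add, pow_mul, pow_one, Int.units_sq, one_pow, one_mul]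
    · intro k g₀ hg
      apply hϕc
      have hgk : ((g : H) : X) ^ k ∈ Tj := pow_mem ((hPj _).mp g.2) k
      have hgk' : ((g₀⁻¹ * (g : H) ^ k * g₀ : H) : X) ∈ Tj := (hPj _).mp hg
      have e1 : ((g₀⁻¹ * (g : H) ^ k * g₀ : H) : X) =
          (g₀ : X)⁻¹ * ((g : H) : X) ^ k * (g₀ : X)⁻¹⁻¹ := by
        rw [inv_inv]; rfl
      show ((g₀⁻¹ * (g : H) ^ k * g₀ : H) : X) ∈ J ↔ ((g : H) : X) ^ k ∈ J
      rw [e1] at hgk' ⊢
      constructor
      · intro h1
        have h2 := hclosed (g₀ : X) _ h1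
        have h3 : (g₀ : X) * ((g₀ : X)⁻¹ * ((g : H) : X) ^ k * (g₀ : X)⁻¹⁻¹) * (g₀ : X)⁻¹ =
            ((g : H) : X) ^ k := by group
        rw [h3] at h2
        exact h2 (hTjT hgk)
      · intro h1
        exact hclosed _ _ h1 (hTjT hgk')
  set K0 : Subgroup X := V.ker.map H.subtype with hK0
  have hK0H : K0 ≤ H := by
    rintro _ ⟨x, -, rfl⟩
    exact x.2
  have hK0mem : ∀ x : H, (x : X) ∈ K0 ↔ V x = 1 := by
    intro x
    constructor
    · rintro ⟨y, hy, hyx⟩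
      have : y = x := Subtype.ext hyx
      rw [← this]; exact hy
    · intro hx; exact ⟨x, hx, rfl⟩
  have hK0Tj : ∀ x ∈ Tj, x ∈ K0 ↔ x ∈ J := by
    intro x hx
    have hxP : (⟨x, hTjH hx⟩ : H) ∈ Pj := (hPj _).mpr hx
    have h1 := hVP ⟨_, hxP⟩
    have h2 := hK0mem ⟨x, hTjH hx⟩
    have h3 := hϕ ⟨_, hxP⟩
    rw [← h1] at h3
    exact h2.trans h3
  have hJK0 : J ≤ K0 := fun x hx => (hK0Tj x (hJTj hx)).mpr hx
  have hK0n : ∀ c ∈ H, ∀ x ∈ K0, c * x * c⁻¹ ∈ K0 := by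
    rintro c hc _ ⟨x, hx, rfl⟩
    have hx' : V x = 1 := hx
    refine ⟨⟨c, hc⟩ * x * ⟨c, hc⟩⁻¹, ?_, rfl⟩
    show V _ = 1
    rw [map_mul, map_mul, map_inv, hx']; simp
  -- `J` is a Sylow 2-subgroup of `K0`
  have hmax0 : ∀ P : Subgroup X, IsPGroup 2 P → J ≤ P → P ≤ K0 → P ≤ J := by
    intro P hP hJP hPK
    obtain ⟨c, hc, hcP⟩ := exists_conj_le_of_max hTjH hTj2 hmax P hP (hPK.trans hK0H)
    have h1 : P.map (MulAut.conj c).toMonoidHom ≤ J := by
      rintro _ ⟨x, hx, rfl⟩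
      exact (hK0Tj _ (hcP x hx)).mp (hK0n c hc x (hPK hx))
    have h2 : Nat.card (P.map (MulAut.conj c).toMonoidHom) = Nat.card P :=
      (Nat.card_congr (P.equivMapOfInjective _ (MulAut.conj c).injective).toEquiv).symm
    have h3 : Nat.card P ≤ Nat.card J := by
      rw [← h2]
      exact Nat.card_le_card_of_injective _ (inclusion_injective h1)
    rw [eq_of_le_of_card_ge hJP h3]
  obtain ⟨P0, hP0⟩ := exists_sylow_of_max hJK0 hJPG hmax0
  -- `s` is isolated in `K0`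
  have hfixs : ∀ n ∈ K0, n ∈ normalizer (J : Set X) → n * s * n⁻¹ = s := by
    intro n hnK hnJ
    obtain ⟨p, q, hp, hq, hp2, hq2, hpq⟩ := exists_parts n
    have hpJ : p ∈ J := mem_of_normalizes hJPG hmax0 hJK0 hp2 ((zpowers_le.mpr hnK) hp)
      ((zpowers_le.mpr hnJ) hp)
    have hqK : q ∈ K0 := (zpowers_le.mpr hnK) hq
    have hqJ : q ∈ normalizer (J : Set X) := (zpowers_le.mpr hnJ) hq
    have hqj : q * j = j * q := mem_centralizer_singleton_iff.mp (hK0H hqK)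
    have h1 := hfix q hqJ hqj
    -- `q²` commutes with `s`
    have h2 : Commute (q ^ 2) s := by
      show q ^ 2 * s = s * q ^ 2
      calc q ^ 2 * s = (q * (q * s * q⁻¹) * q⁻¹) * q ^ 2 := by rw [pow_two]; group
        _ = s * q ^ 2 := by rw [h1]
    have h3 : Commute q s := by
      obtain ⟨m, hm⟩ := hq2
      have h4 : q = (q ^ 2) ^ (m + 1) := by
        rw [← pow_mul]
        have h5 : 2 * (m + 1) = orderOf q + 1 := by omega
        rw [h5, pow_add, pow_orderOf_eq_one, pow_one, one_mul]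
      rw [h4]
      exact h2.pow_left _
    have h4 := hJc p hpJ s hs
    calc n * s * n⁻¹ = p * (q * s * q⁻¹) * p⁻¹ := by rw [← hpq]; group
      _ = p * s * p⁻¹ := by rw [h3.eq]; group
      _ = s := by rw [h4]; group
  have hso : orderOf (⟨s, hJK0 hs⟩ : K0) = 2 := by
    rw [Subgroup.orderOf_mk]
    exact orderOf_eq_prime (by rw [pow_two]; exact hJ2 s hs) hs1
  have hP0c : IsMulCommutative (P0 : Subgroup K0) := by
    refine ⟨⟨fun a b => ?_⟩⟩
    apply Subtype.ext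
    apply Subtype.ext
    exact hJc _ ((hP0 _).mp a.2) _ ((hP0 _).mp b.2)
  obtain ⟨N, hNn, hNodd, hNc⟩ := hZS K0 P0 ⟨s, hJK0 hs⟩ hso ((hP0 _).mpr hs) (by
    intro g hg
    obtain ⟨n, hn, hn'⟩ := Sylow.conj_eq_normalizer_conj_of_mem P0 ⟨s, hJK0 hs⟩ g⁻¹
      ((hP0 _).mpr hs) (by rw [inv_inv]; exact hg)
    rw [inv_inv] at hn'
    rw [hn']
    apply Subtype.ext
    have hnJ : ((n : K0) : X) ∈ normalizer (J : Set X) := by
      refine mem_normalizer_of_conj' ?_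
      intro x hx
      have h1 := (mem_normalizer_iff.mp hn ⟨x, hJK0 hx⟩).mp ((hP0 _).mpr hx)
      exact (hP0 _).mp h1
    have h1 := hfixs _ (K0.inv_mem n.2) (inv_mem hnJ)
    rw [inv_inv] at h1
    exact h1)
  set N' : Subgroup X := N.map K0.subtype with hN'
  have hN'core : N' ≤ core K0 := by
    refine le_core' ?_ ?_ ?_
    · rintro _ ⟨x, -, rfl⟩; exact x.2
    · rw [hN', Nat.card_congr (N.equivMapOfInjective _ K0.subtype_injective).symm.toEquiv]
      exact hNodd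
    · rintro c hc _ ⟨x, hx, rfl⟩
      exact ⟨⟨c, hc⟩ * x * ⟨c, hc⟩⁻¹, hNn.conj_mem x hx _, rfl⟩
  -- `K0 = O(K0) C_{K0}(s)`
  have hK0dec : ∀ c ∈ K0, ∃ k ∈ core K0, k * c ∈ (centralizer ({s} : Set X) : Set X) := by
    intro c hc
    have hN2 : ¬ 2 ∣ Nat.card N := by
      rw [← even_iff_two_dvd, Nat.not_even_iff_odd]; exact hNodd
    obtain ⟨g, hg1, hg2⟩ :=
      SignalizersComponents.CoreOfCentralizer.exists_centralizing_of_quotient (p := 2)
        (zpowers (⟨s, hJK0 hs⟩ : K0)) (isPGroup_zpowers ⟨1, by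
          rw [pow_one, ← hso]; exact pow_orderOf_eq_one _⟩) N hN2
        (QuotientGroup.mk' N ⟨c, hc⟩) (by
          intro a ha
          obtain ⟨i, rfl⟩ := mem_zpowers_iff.mp ha
          have h1 : Commute (QuotientGroup.mk' N (⟨s, hJK0 hs⟩ : K0))
              (QuotientGroup.mk' N ⟨c, hc⟩) := by
            have h2 := hNc ⟨c, hc⟩
            have h3 : QuotientGroup.mk' N (⟨s, hJK0 hs⟩ * ⟨c, hc⟩ * ⟨s, hJK0 hs⟩⁻¹ * ⟨c, hc⟩⁻¹) = 1 :=
              (QuotientGroup.eq_one_iff _).mpr h2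
            rw [map_mul, map_mul, map_mul, map_inv, map_inv] at h3
            show _ * _ = _ * _
            rw [mul_inv_eq_one, mul_inv_eq_iff_eq_mul] at h3
            exact h3
          rw [map_zpow]
          exact (h1.zpow_left i).eq)
    have h1 : (g : K0)⁻¹ * ⟨c, hc⟩ ∈ N := by
      rw [← QuotientGroup.eq]
      exact hg2
    refine ⟨(g : X) * c⁻¹, hN'core ⟨g * ⟨c, hc⟩⁻¹, ?_, rfl⟩, ?_⟩
    · have h2 := hNn.conj_mem _ (inv_mem h1) g
      have h3 : g * ((g : K0)⁻¹ * ⟨c, hc⟩)⁻¹ * g⁻¹ = g * ⟨c, hc⟩⁻¹ := by group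
      rwa [h3] at h2
    · have h2 := hg1 _ (mem_zpowers _)
      have h3 := congrArg Subtype.val h2
      rw [inv_mul_cancel_right]
      show (g : X) ∈ centralizer ({s} : Set X)
      rw [mem_centralizer_singleton_iff]
      exact h3.symm
  -- the core of `K0` lies in `K j`
  have hcoreK : core K0 ≤ K j :=
    le_K (core_le.trans hK0H) core_odd (fun c hc n hn => core_map (hK0n c hc) hn)
  -- `K s ⊓ K0` lies in the core of `K0`
  have hsK : K s ⊓ K0 ≤ core K0 := by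
    refine absorb (centralizer ({s} : Set X) : Set X) core_le core_odd
      (fun c hc k hk => core_conj hc hk) (fun N h1 h2 h3 => le_core' h1 h2 h3) hK0dec inf_le_right
      ((K_odd s).of_dvd_nat (card_dvd_of_le inf_le_left)) ?_
    intro n hn hnK l hl
    exact ⟨K_conj hn hl.1, K0.mul_mem (K0.mul_mem hnK hl.2) (K0.inv_mem hnK)⟩
  -- elements of `K0` centralizing `s`
  have hD : ∀ d ∈ K0, d ∈ centralizer ({s} : Set X) → ∃ k ∈ core K0,
      k * d ∈ normalizer (J : Set X) := by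
    intro d hdK hds
    have hJn : J ≤ normalizer ((K s ⊓ K0 : Subgroup X) : Set X) := by
      intro y hy
      refine mem_normalizer_of_conj' ?_
      intro x hx
      have hys : y ∈ centralizer ({s} : Set X) := by
        rw [mem_centralizer_singleton_iff]; exact hJc y hy s hs
      exact ⟨K_conj hys hx.1, K0.mul_mem (K0.mul_mem (hJK0 hy) hx.2) (K0.inv_mem (hJK0 hy))⟩
    have hBmem : ∀ b ∈ J ⊔ (K s ⊓ K0), ∃ y ∈ J, ∃ x ∈ K s ⊓ K0, b = y * x := by
      intro b hb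
      rw [← SetLike.mem_coe, Subgroup.coe_mul_of_left_le_normalizer_right J _ hJn,
        Set.mem_mul] at hb
      obtain ⟨y, hy, x, hx, rfl⟩ := hb
      exact ⟨y, hy, x, hx, rfl⟩
    have hBK : J ⊔ (K s ⊓ K0) ≤ K0 := sup_le hJK0 inf_le_right
    set P : Subgroup X := J.map (MulAut.conj d).toMonoidHom with hP
    have hPB : P ≤ J ⊔ (K s ⊓ K0) := by
      rintro _ ⟨y, hy, rfl⟩
      show d * y * d⁻¹ ∈ _
      obtain ⟨k, hk, hkd⟩ := hcen d hds
      set y' : X := (k * d) * y * (k * d)⁻¹ with hy'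
      have hy'J : y' ∈ J := (mem_normalizer_iff.mp hkd y).mp hy
      have hy's : y' ∈ centralizer ({s} : Set X) := by
        rw [mem_centralizer_singleton_iff]; exact hJc y' hy'J s hs
      have h1 : d * y * d⁻¹ = (k⁻¹ * (y' * k * y'⁻¹)) * y' := by rw [hy']; group
      have h2 : k⁻¹ * (y' * k * y'⁻¹) ∈ K s := mul_mem (inv_mem hk) (K_conj hy's hk)
      have h3 : k⁻¹ * (y' * k * y'⁻¹) ∈ K0 := by
        have h4 : k⁻¹ * (y' * k * y'⁻¹) = (d * y * d⁻¹) * y'⁻¹ := by rw [h1]; group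
        rw [h4]
        exact mul_mem (mul_mem (mul_mem hdK (hJK0 hy)) (inv_mem hdK)) (inv_mem (hJK0 hy'J))
      rw [h1]
      exact mul_mem (mem_sup_right ⟨h2, h3⟩) (mem_sup_left hy'J)
    obtain ⟨b, hb, hbP⟩ := exists_conj_le_of_max (H := J ⊔ (K s ⊓ K0)) le_sup_left hJPG
      (fun P hP hJP hPB => hmax0 P hP hJP (hPB.trans hBK)) P (hJPG.map _) hPB
    obtain ⟨y, hy, x, hx, rfl⟩ := hBmem b hb
    refine ⟨x, hsK hx, ?_⟩
    refine mem_normalizer_of_conj' ?_
    intro a ha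
    have h1 := hbP (d * a * d⁻¹) ⟨a, ha, rfl⟩
    have h2 : x * d * a * (x * d)⁻¹ = y⁻¹ * (y * x * (d * a * d⁻¹) * (y * x)⁻¹) * y := by group
    rw [h2]
    exact mul_mem (mul_mem (inv_mem hy) h1) hy
  have hK0fin : ∀ c ∈ K0, ∃ k ∈ K j, k * c ∈ normalizer (J : Set X) := by
    intro c hc
    obtain ⟨k1, hk1, hk1c⟩ := hK0dec c hc
    obtain ⟨k2, hk2, hk2c⟩ := hD (k1 * c) (mul_mem (core_le hk1) hc) hk1c
    refine ⟨k2 * k1, hcoreK (mul_mem hk2 hk1), ?_⟩
    rw [mul_assoc]; exact hk2c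
  intro c hc
  by_cases hcV : V ⟨c, hc⟩ = 1
  · exact hK0fin c ((hK0mem ⟨c, hc⟩).mpr hcV)
  · have htV : V ⟨t, hTjH ht⟩ ≠ 1 := by
      intro h1
      exact htJ ((hK0Tj t ht).mp ((hK0mem ⟨t, hTjH ht⟩).mpr h1))
    have h1 : c * t ∈ K0 := by
      refine (hK0mem ⟨c * t, mul_mem hc (hTjH ht)⟩).mpr ?_
      have h2 : (⟨c * t, mul_mem hc (hTjH ht)⟩ : H) = ⟨c, hc⟩ * ⟨t, hTjH ht⟩ := rfl
      rw [h2, map_mul, (Int.units_eq_one_or _).resolve_left hcV,
        (Int.units_eq_one_or _).resolve_left htV]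
      simp
    obtain ⟨k, hk, hkc⟩ := hK0fin _ h1
    refine ⟨k, hk, ?_⟩
    have h2 := mul_mem hkc (inv_mem (hTN (hTjT ht)))
    have h3 : k * (c * t) * t⁻¹ = k * c := by group
    rwa [h3] at h2

end Cfsg.Agent.J2Sylow.ZNonsing
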