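import Mathlib
import Cfsg.Agent.J2Sylow.ZCent

/-!
# The action of `N(R) ∩ C(v)` on `R / U` (`z` central)
-/

set_option autoImplicit false

namespace Cfsg.Agent.J2Sylow.ZAct

open Subgroup Model Model.F4 ZSylow ZFusion Cfsg.Agent.J2Sylow.Functor ZCent

theorem comm_E1_E2 : ∀ x y : T, x ∈ T.E1 → y ∈ T.E2 →
    x * y * x⁻¹ * y⁻¹ = ⟨o, o, x.a * y.b, false⟩ := by decide +kernel

theorem R_add_a : ∀ x y : T, x ∈ T.R → y ∈ T.R → (x * y).a = x.a + y.a := by decide +kernel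
theorem R_add_b : ∀ x y : T, x ∈ T.R → y ∈ T.R → (x * y).b = x.b + y.b := by decide +kernel
theorem R_decomp : ∀ x : T, x ∈ T.R →
    x = (⟨x.a, o, o, false⟩ : T) * ⟨o, x.b, o, false⟩ * ⟨o, o, x.c + x.a * x.b, false⟩ := by
  decide +kernel

theorem F4_a : ∀ L Y X a : F4, L * Y = e → X * Y = a → X = L * a := by decide
theorem F4_b : ∀ L Y X b : F4, L * Y = e → L * X = b → X = L * L * b := by decide

variable {G : Type*} [Group G] [Finite G] (h : Setup G) (hz : ∀ g : G, g * h.z = h.z * g)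

include hz in
omit [Finite G] in
theorem fix_U {n : G} (hn : n ∈ centralizer ({h.v} : Set G)) {x : G} (hx : x ∈ h.U) :
    n * x * n⁻¹ = x := by
  obtain ⟨y, hy, rfl⟩ := hx
  have h1 := mem_centralizer_singleton_iff.mp hn
  have h2 : n * h.z = h.z * n := hz n
  rcases T.U_cases y hy with h3 | h3 | h3 | h3
  · rw [h3, map_one]; group
  · rw [h3]
    show n * h.z * n⁻¹ = h.z
    rw [h2]; group
  · rw [h3]
    show n * h.v * n⁻¹ = h.v
    rw [h1]; group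
  · rw [h3, map_mul]
    show n * (h.v * h.z) * n⁻¹ = h.v * h.z
    calc n * (h.v * h.z) * n⁻¹ = (n * h.v) * h.z * n⁻¹ := by group
      _ = h.v * (n * h.z) * n⁻¹ := by rw [h1]; group
      _ = h.v * (h.z * n) * n⁻¹ := by rw [h2]
      _ = _ := by group

omit [Finite G] in
theorem R_norm_E1 {p x : G} (hp : p ∈ h.R) (hx : x ∈ h.E1) : p * x * p⁻¹ ∈ h.E1 := by
  obtain ⟨r, hr, rfl⟩ := hp
  obtain ⟨t, ht, rfl⟩ := hx
  rw [← map_inv, ← map_mul, ← map_mul]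
  exact ⟨_, T.E1_normal t r ht hr, rfl⟩

omit [Finite G] in
theorem R_norm_E2 {p x : G} (hp : p ∈ h.R) (hx : x ∈ h.E2) : p * x * p⁻¹ ∈ h.E2 := by
  obtain ⟨r, hr, rfl⟩ := hp
  obtain ⟨t, ht, rfl⟩ := hx
  rw [← map_inv, ← map_mul, ← map_mul]
  exact ⟨_, T.E2_normal t r ht hr, rfl⟩

theorem conj_cases {n : G} (hn : ∀ x ∈ h.R, n * x * n⁻¹ ∈ h.R) :
    ((∀ x ∈ h.E1, n * x * n⁻¹ ∈ h.E1) ∧ (∀ x ∈ h.E2, n * x * n⁻¹ ∈ h.E2)) ∨
    ((∀ x ∈ h.E1, n * x * n⁻¹ ∈ h.E2) ∧ (∀ x ∈ h.E2, n * x * n⁻¹ ∈ h.E1)) := by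
  have key : ∀ P : Subgroup T, P ≤ T.R → (∀ x ∈ P, x * x = 1) → Nat.card P = 16 →
      (P.map h.φ).map (MulAut.conj n).toMonoidHom = h.E1 ∨
      (P.map h.φ).map (MulAut.conj n).toMonoidHom = h.E2 := by
    intro P hPR hP2 hPc
    have hc : Nat.card ((P.map h.φ).map (MulAut.conj n).toMonoidHom) = 16 := by
      rw [← hPc, ← card_map h P]
      exact (Nat.card_congr ((P.map h.φ).equivMapOfInjective _
        (MulAut.conj n).injective).toEquiv).symm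
    rcases elem_le h (P := (P.map h.φ).map (MulAut.conj n).toMonoidHom) (by
        rintro _ ⟨_, ⟨x, hx, rfl⟩, rfl⟩
        exact map_le_S h _ (hn _ ⟨x, hPR hx, rfl⟩)) (by
        rintro _ ⟨_, ⟨x, hx, rfl⟩, rfl⟩
        have h1 := congrArg h.φ (hP2 x hx)
        rw [map_mul, map_one] at h1
        rw [← map_mul]
        show (MulAut.conj n) (h.φ x * h.φ x) = 1
        rw [h1, map_one]) (by rw [hc]; norm_num) with h1 | h1
    · left
      exact eq_of_le_of_card_ge h1 (by rw [hc, card_E1])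
    · right
      exact eq_of_le_of_card_ge h1 (by rw [hc]; exact ((card_map h _).trans T.card_E2).le)
  have hinj : ∀ P P' : Subgroup G, P.map (MulAut.conj n).toMonoidHom =
      P'.map (MulAut.conj n).toMonoidHom → P = P' := fun P P' hPP =>
    Subgroup.map_injective (MulAut.conj n).injective hPP
  have hne : h.E1 ≠ h.E2 := by
    intro h1
    have h2 : h.φ ⟨e, o, o, false⟩ ∈ h.E1 := (mem_map_iff h).mpr (by decide)
    rw [h1] at h2
    exact absurd ((mem_map_iff h).mp h2) (by decide)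
  have hmem : ∀ P P' : Subgroup G, P.map (MulAut.conj n).toMonoidHom = P' → ∀ x ∈ P,
      n * x * n⁻¹ ∈ P' := by
    rintro P P' rfl x hx
    exact ⟨x, hx, rfl⟩
  rcases key T.E1 T.E1_le_R T.E1_sq T.card_E1 with h1 | h1 <;>
  rcases key T.E2 T.E2_le_R T.E2_sq T.card_E2 with h2 | h2
  · exact absurd (hinj _ _ (h1.trans h2.symm)) hne
  · exact Or.inl ⟨hmem _ _ h1, hmem _ _ h2⟩
  · exact Or.inr ⟨hmem _ _ h1, hmem _ _ h2⟩
  · exact absurd (hinj _ _ (h1.trans h2.symm)) hne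

include hz in
theorem conj_fix {n : G} (hnv : n ∈ centralizer ({h.v} : Set G))
    (hn : n ∈ normalizer (h.R : Set G)) :
    (∀ x ∈ h.E1, n * x * n⁻¹ ∈ h.E1) ∧ (∀ x ∈ h.E2, n * x * n⁻¹ ∈ h.E2) := by
  rcases conj_cases h (fun x hx => (mem_normalizer_iff.mp hn x).mp hx) with h1 | h1
  · exact h1
  · exfalso
    obtain ⟨p, q, hp, hq, hp2, hq2, hpq⟩ := exists_parts n
    have hpR : p ∈ h.R := mem_of_normalizes (isPGroup_R h) (max_Cv h hz) (R_le_Cv h) hp2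
      ((zpowers_le.mpr hnv) hp) ((zpowers_le.mpr hn) hp)
    have hpR' : p⁻¹ ∈ h.R := inv_mem hpR
    have hq1 : ∀ x ∈ h.E1, q * x * q⁻¹ ∈ h.E2 := by
      intro x hx
      have h2 := R_norm_E2 h hpR' (h1.1 x hx)
      have h3 : q * x * q⁻¹ = p⁻¹ * (n * x * n⁻¹) * p⁻¹⁻¹ := by rw [← hpq]; group
      rw [h3]; exact h2
    have hq2' : ∀ x ∈ h.E2, q * x * q⁻¹ ∈ h.E1 := by
      intro x hx
      have h2 := R_norm_E1 h hpR' (h1.2 x hx)
      have h3 : q * x * q⁻¹ = p⁻¹ * (n * x * n⁻¹) * p⁻¹⁻¹ := by rw [← hpq]; group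
      rw [h3]; exact h2
    have hpow : ∀ k : ℕ, ∀ x ∈ h.E1, q ^ (2 * k + 1) * x * (q ^ (2 * k + 1))⁻¹ ∈ h.E2 := by
      intro k
      induction k with
      | zero => intro x hx; simpa using hq1 x hx
      | succ k ih =>
        intro x hx
        have h3 := ih _ (hq2' _ (hq1 x hx))
        have h4 : q ^ (2 * (k + 1) + 1) * x * (q ^ (2 * (k + 1) + 1))⁻¹ =
            q ^ (2 * k + 1) * (q * (q * x * q⁻¹) * q⁻¹) * (q ^ (2 * k + 1))⁻¹ := by
          have h5 : q ^ (2 * (k + 1) + 1) = q ^ (2 * k + 1) * (q * q) := by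
            rw [show 2 * (k + 1) + 1 = 2 * k + 1 + 2 by ring, pow_add, pow_two]
          rw [h5]; group
        rw [h4]; exact h3
    obtain ⟨m, hm⟩ := hq2
    have h2 := hpow m _ ((mem_map_iff h (P := T.E1) (t := ⟨e, o, o, false⟩)).mpr (by decide))
    rw [← hm, pow_orderOf_eq_one] at h2
    have h3 : (1 : G) * h.φ ⟨e, o, o, false⟩ * 1⁻¹ = h.φ ⟨e, o, o, false⟩ := by group
    rw [h3] at h2
    exact absurd ((mem_map_iff h).mp h2) (by decide)

include hz in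
/-- `n ∈ N(R) ∩ C(v)` acts on `R/U` as `(a, b) ↦ (λ a, λ⁻¹ b)` -/
theorem act {n : G} (hnv : n ∈ centralizer ({h.v} : Set G)) (hn : n ∈ normalizer (h.R : Set G)) :
    ∃ l : F4, l ≠ o ∧ ∀ t ∈ T.R, ∃ s ∈ T.R, n * h.φ t * n⁻¹ = h.φ s ∧ s.a = l * t.a ∧
      s.b = l * l * t.b := by
  obtain ⟨hE1, hE2⟩ := conj_fix h hz hnv hn
  have h1 : ∀ t ∈ T.R, ∃ s, s ∈ T.R ∧ h.φ s = n * h.φ t * n⁻¹ := by
    intro t ht
    obtain ⟨s, hs, hst⟩ := (mem_normalizer_iff.mp hn (h.φ t)).mp ⟨t, ht, rfl⟩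
    exact ⟨s, hs, hst⟩
  choose! f hfR hf using h1
  have hmul : ∀ x ∈ T.R, ∀ y ∈ T.R, f (x * y) = f x * f y := by
    intro x hx y hy
    apply h.inj
    rw [hf _ (mul_mem hx hy), map_mul, map_mul, hf x hx, hf y hy]; group
  have hinv : ∀ x ∈ T.R, f x⁻¹ = (f x)⁻¹ := by
    intro x hx
    apply h.inj
    rw [hf _ (inv_mem hx), map_inv, map_inv, hf x hx]; group
  have hfE1 : ∀ x ∈ T.E1, f x ∈ T.E1 := by
    intro x hx
    rw [← mem_map_iff h, hf x (T.E1_le_R hx)]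
    exact hE1 _ ⟨x, hx, rfl⟩
  have hfE2 : ∀ x ∈ T.E2, f x ∈ T.E2 := by
    intro x hx
    rw [← mem_map_iff h, hf x (T.E2_le_R hx)]
    exact hE2 _ ⟨x, hx, rfl⟩
  have hfU : ∀ x ∈ T.U, f x = x := by
    intro x hx
    apply h.inj
    rw [hf x (T.U_le_R hx)]
    exact fix_U h hz hnv ⟨x, hx, rfl⟩
  set A : F4 → T := fun a => ⟨a, o, o, false⟩ with hA
  set B : F4 → T := fun b => ⟨o, b, o, false⟩ with hB
  have hAE : ∀ a, A a ∈ T.E1 := fun a => ⟨rfl, rfl⟩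
  have hBE : ∀ b, B b ∈ T.E2 := fun b => ⟨rfl, rfl⟩
  have hAR : ∀ a, A a ∈ T.R := fun a => rfl
  have hBR : ∀ b, B b ∈ T.R := fun b => rfl
  have hcomm : ∀ a b, (f (A a)).a * (f (B b)).b = a * b := by
    intro a b
    have h2 := comm_E1_E2 _ _ (hfE1 _ (hAE a)) (hfE2 _ (hBE b))
    have h3 := comm_E1_E2 _ _ (hAE a) (hBE b)
    have h4 : f (A a * B b * (A a)⁻¹ * (B b)⁻¹) = A a * B b * (A a)⁻¹ * (B b)⁻¹ := by
      apply hfU
      rw [h3]; exact ⟨rfl, rfl, rfl⟩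
    rw [hmul _ (mul_mem (mul_mem (hAR a) (hBR b)) (inv_mem (hAR a))) _ (inv_mem (hBR b)),
      hmul _ (mul_mem (hAR a) (hBR b)) _ (inv_mem (hAR a)), hmul _ (hAR a) _ (hBR b),
      hinv _ (hAR a), hinv _ (hBR b), h2, h3] at h4
    exact congrArg T.c h4
  have h11 : (f (A e)).a * (f (B e)).b = e := by rw [hcomm]; decide
  refine ⟨(f (A e)).a, ?_, ?_⟩
  · intro h2
    rw [h2] at h11
    have : ∀ x : F4, o * x ≠ e := by decide
    exact this _ h11
  · intro t ht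
    refine ⟨f t, hfR t ht, (hf t ht).symm, ?_, ?_⟩
    · have h2 : f t = f (A t.a) * f (B t.b) * f ⟨o, o, t.c + t.a * t.b, false⟩ := by
        conv_lhs => rw [R_decomp t ht]
        rw [hmul _ (mul_mem (hAR _) (hBR _)) _ rfl, hmul _ (hAR _) _ (hBR _)]
      have hU : (⟨o, o, t.c + t.a * t.b, false⟩ : T) ∈ T.U := ⟨rfl, rfl, rfl⟩
      rw [h2, hfU _ hU, R_add_a _ _ (mul_mem (hfR _ (hAR _)) (hfR _ (hBR _))) rfl,
        R_add_a _ _ (hfR _ (hAR _)) (hfR _ (hBR _)), (hfE2 _ (hBE _)).1]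
      have h3 : (f (A t.a)).a = (f (A e)).a * t.a := by
        refine F4_a _ _ _ _ h11 ?_
        rw [hcomm]
        have : ∀ x : F4, x * e = x := by decide
        exact this _
      rw [h3]
      have : ∀ x : F4, x + o + o = x := by decide
      exact this _
    · have h2 : f t = f (A t.a) * f (B t.b) * f ⟨o, o, t.c + t.a * t.b, false⟩ := by
        conv_lhs => rw [R_decomp t ht]
        rw [hmul _ (mul_mem (hAR _) (hBR _)) _ rfl, hmul _ (hAR _) _ (hBR _)]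
      have hU : (⟨o, o, t.c + t.a * t.b, false⟩ : T) ∈ T.U := ⟨rfl, rfl, rfl⟩
      rw [h2, hfU _ hU, R_add_b _ _ (mul_mem (hfR _ (hAR _)) (hfR _ (hBR _))) rfl,
        R_add_b _ _ (hfR _ (hAR _)) (hfR _ (hBR _)), (hfE1 _ (hAE _)).1]
      have h3 : (f (B t.b)).b = (f (A e)).a * (f (A e)).a * t.b := by
        refine F4_b _ _ _ _ h11 ?_
        rw [hcomm]
        have : ∀ x : F4, e * x = x := by decide
        exact this _
      rw [h3]
      have : ∀ x : F4, o + x + o = x := by decide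
      exact this _

end Cfsg.Agent.J2Sylow.ZAct
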