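import Mathlib
import Cfsg.Agent.J2Sylow.ZAct
import Cfsg.Agent.J2Sylow.ZQuot

/-!
# The centralizer of `v` and the stabilizer of `U` (`z` central)
-/

set_option autoImplicit false

namespace Cfsg.Agent.J2Sylow.ZCv

open Subgroup Model Model.F4 ZSylow ZFusion Cfsg.Agent.J2Sylow.Functor ZCent ZAct ZQuot

universe u

/-- eight elements of `R` in different cosets of `U` -/
def g8 : Fin 8 → T := ![⟨o, o, o, false⟩, ⟨e, o, o, false⟩, ⟨w, o, o, false⟩, ⟨F4.u, o, o, false⟩,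
  ⟨o, e, o, false⟩, ⟨e, e, o, false⟩, ⟨w, e, o, false⟩, ⟨F4.u, e, o, false⟩]

theorem g8_R : ∀ i, g8 i ∈ T.R := by decide
theorem g8_inj : ∀ i j, (g8 i)⁻¹ * g8 j ∈ T.U → i = j := by decide
theorem R_sq : ∀ x : T, x ∈ T.R → x * x ∈ T.U := by decide +kernel
theorem U_sq : ∀ x : T, x ∈ T.U → x * x = 1 := by decide +kernel
theorem coord_U : ∀ x y : T, x ∈ T.R → y ∈ T.R → (x⁻¹ * y ∈ T.U ↔ x.a = y.a ∧ x.b = y.b) := by
  decide +kernel
theorem F4_l : ∀ l a : F4, a ≠ o → a = l * a → l = e := by decide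
theorem F4_l2 : ∀ l a : F4, a ≠ o → a = l * l * a → l = e := by decide
theorem F4_e : ∀ a : F4, e * a = a ∧ e * e * a = a := by decide

variable {G : Type u} [Group G] [Finite G] (h : Setup G) (hz : ∀ g : G, g * h.z = h.z * g)

include hz in
/-- an element of `N(R) ∩ C(v)` fixing one nontrivial coset of `U` in `R` fixes all of them -/
theorem act_trivial {n : G} (hnv : n ∈ centralizer ({h.v} : Set G))
    (hn : n ∈ normalizer (h.R : Set G)) {r : T} (hr : r ∈ T.R) (hrU : r ∉ T.U)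
    (hfix : (h.φ r)⁻¹ * (n * h.φ r * n⁻¹) ∈ h.U) :
    ∀ x ∈ h.R, x⁻¹ * (n * x * n⁻¹) ∈ h.U := by
  obtain ⟨l, hl, hact⟩ := act h hz hnv hn
  have hle : l = e := by
    obtain ⟨s, hs, hns, hsa, hsb⟩ := hact r hr
    rw [hns, ← map_inv, ← map_mul] at hfix
    obtain ⟨h1, h2⟩ := (coord_U r s hr hs).mp ((mem_map_iff h).mp hfix)
    by_cases hra : r.a = o
    · have hrb : r.b ≠ o := fun h3 => hrU ⟨hra, h3, hr⟩
      exact F4_l2 l _ hrb (h2.trans hsb)
    · exact F4_l l _ hra (h1.trans hsa)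
  rintro _ ⟨x, hx, rfl⟩
  obtain ⟨s, hs, hns, hsa, hsb⟩ := hact x hx
  rw [hle] at hsa hsb
  rw [hns, ← map_inv, ← map_mul]
  refine ⟨_, ?_, rfl⟩
  refine (coord_U x s hx hs).mpr ⟨?_, ?_⟩
  · rw [hsa]; exact ((F4_e _).1).symm
  · rw [hsb]; exact ((F4_e _).2).symm

include hz in
/-- `C(v) = O(C(v)) N(R)` -/
theorem cv_core (hSF : SolvFun.{u}) (hFT : OddSolv.{u}) :
    ∀ c ∈ centralizer ({h.v} : Set G), ∃ k ∈ K h.v, k * c ∈ normalizer (h.R : Set G) := by
  have hRC := R_le_Cv h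
  obtain ⟨P, hP⟩ := exists_sylow_of_max hRC (isPGroup_R h) (max_Cv h hz)
  have hUR : h.U ≤ h.R := by
    rintro _ ⟨x, hx, rfl⟩
    exact ⟨x, T.U_le_R hx, rfl⟩
  set N : Subgroup (centralizer ({h.v} : Set G)) := h.U.subgroupOf _ with hNdef
  have hNmem : ∀ x : centralizer ({h.v} : Set G), x ∈ N ↔ (x : G) ∈ h.U := fun x => Iff.rfl
  have hNc : ∀ x ∈ N, ∀ m : centralizer ({h.v} : Set G), m * x = x * m := by
    intro x hx m
    apply Subtype.ext
    have h1 := fix_U h hz m.2 ((hNmem x).mp hx)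
    show (m : G) * (x : G) = x * m
    calc (m : G) * (x : G) = (m * x * (m : G)⁻¹) * m := by group
      _ = x * m := by rw [h1]
  have hNn : N.Normal := by
    refine ⟨fun x hx g => ?_⟩
    rw [hNc x hx g, mul_inv_cancel_right]
    exact hx
  have hUsq : ∀ x ∈ h.U, x * x = 1 := by
    rintro _ ⟨t, ht, rfl⟩
    rw [← map_mul, U_sq t ht, map_one]
  have key := quot_core hSF hFT P N (fun x hx => (hP x).mpr (hUR ((hNmem x).mp hx))) hNc (by
      intro x hx
      apply Subtype.ext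
      exact hUsq x ((hNmem x).mp hx)) (by
      intro x hx
      obtain ⟨t, ht, htx⟩ := (hP x).mp hx
      rw [hNmem, coe_mul, ← htx, ← map_mul]
      exact ⟨_, R_sq t ht, rfl⟩) (by
      refine ⟨fun i => ⟨h.φ (g8 i), hRC ⟨_, g8_R i, rfl⟩⟩, ?_, ?_⟩
      · intro i
        rw [hP]
        exact ⟨_, g8_R i, rfl⟩
      · intro i j hij
        rw [hNmem] at hij
        apply g8_inj i j
        rw [← mem_map_iff h, map_mul, map_inv]
        exact hij) (by
      intro n hn r hr hrN hfix x hx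
      obtain ⟨t, ht, htr⟩ := (hP r).mp hr
      have htU : t ∉ T.U := by
        intro h1
        apply hrN
        rw [hNmem, ← htr]
        exact ⟨t, h1, rfl⟩
      have hnR : (n : G) ∈ normalizer (h.R : Set G) := by
        refine mem_normalizer_of_conj' ?_
        intro y hy
        have h1 := (mem_normalizer_iff.mp hn ⟨y, hRC hy⟩).mp ((hP _).mpr hy)
        exact (hP _).mp h1
      have h1 := act_trivial h hz n.2 hnR ht htU (by
        rw [htr]
        exact (hNmem _).mp hfix) x ((hP x).mp hx)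
      exact (hNmem _).mpr h1) (by
      have hxR : (⟨e, o, o, false⟩ : T) ∈ T.R := by decide
      have hyR : (⟨e, e, o, false⟩ : T) ∈ T.R := by decide
      refine ⟨⟨h.φ ⟨e, o, o, false⟩, hRC ⟨_, hxR, rfl⟩⟩, (hP _).mpr ⟨_, hxR, rfl⟩,
        ⟨h.φ ⟨e, e, o, false⟩, hRC ⟨_, hyR, rfl⟩⟩, (hP _).mpr ⟨_, hyR, rfl⟩, ?_, ?_, ?_⟩
      · intro h1
        exact absurd ((mem_map_iff h).mp ((hNmem _).mp h1)) (by decide)
      · intro h1
        exact absurd ((mem_map_iff h).mp ((hNmem _).mp h1)) (by decide)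
      · intro m h1
        have h2 := (hNmem _).mp h1
        set u : G := (((m : G) * h.φ ⟨e, o, o, false⟩ * (m : G)⁻¹)⁻¹ * h.φ ⟨e, e, o, false⟩)
          with hu
        have h2' : u ∈ h.U := h2
        set a : G := (m : G) * h.φ ⟨e, o, o, false⟩ * (m : G)⁻¹ with ha
        have haC : a ∈ centralizer ({h.v} : Set G) :=
          mul_mem (mul_mem m.2 (hRC ⟨_, hxR, rfl⟩)) (inv_mem m.2)
        have hau : a * u * a⁻¹ = u := fix_U h hz haC h2'
        have ha2 : a * a = 1 := by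
          have h3 : h.φ ⟨e, o, o, false⟩ * h.φ ⟨e, o, o, false⟩ = 1 := by
            rw [← map_mul, ← map_one h.φ]; congr 1
          calc a * a = (m : G) * (h.φ ⟨e, o, o, false⟩ * h.φ ⟨e, o, o, false⟩) * (m : G)⁻¹ := by
                rw [ha]; group
            _ = 1 := by rw [h3]; group
        have hy : h.φ ⟨e, e, o, false⟩ = a * u := by rw [hu]; group
        have hy2 : h.φ ⟨e, e, o, false⟩ * h.φ ⟨e, e, o, false⟩ = h.z := by
          rw [← map_mul]
          show _ = h.φ T.z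
          congr 1
        rw [hy] at hy2
        have h4 : a * u * (a * u) = (a * u * a⁻¹) * (a * a) * u := by group
        rw [h4, hau, ha2, mul_one, hUsq u h2'] at hy2
        exact z_ne_one h hy2.symm)
  intro c hc
  obtain ⟨k, hk, hkc⟩ := key ⟨c, hc⟩
  refine ⟨k, ⟨k, hk, rfl⟩, ?_⟩
  refine mem_normalizer_of_conj' ?_
  intro y hy
  have h1 := (mem_normalizer_iff.mp hkc ⟨y, hRC hy⟩).mp ((hP _).mpr hy)
  exact (hP _).mp h1

end Cfsg.Agent.J2Sylow.ZCv
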