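import Mathlib
import Cfsg.Agent.J2Sylow.ZCv

/-!
# The stabilizer of `U` is `O(C(v)) N(Q)`; `Q` is strongly closed in `S` (`z` central)
-/

set_option autoImplicit false

namespace Cfsg.Agent.J2Sylow.ZStab

open Subgroup Model Model.F4 ZSylow ZFusion Cfsg.Agent.J2Sylow.Functor ZCent ZAct ZQuot ZCv

universe u

theorem center_R : ∀ x : T, x ∈ T.R → (∀ y : T, y ∈ T.R → x * y = y * x) → x ∈ T.U := by
  decide +kernel
theorem tau_a : ∀ x : T, x ∈ T.R → (T.tau * x * T.tau⁻¹).a = fr x.b ∧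
    (T.tau * x * T.tau⁻¹).b = fr x.a := by decide +kernel
theorem F4_tau : ∀ l a : F4, fr (l * l * fr a) = l * a ∧ fr (l * fr a) = l * l * a := by decide
theorem mul_tau_R : ∀ x : T, x ∉ T.R → x * T.tau ∈ T.R := by decide +kernel

variable {G : Type u} [Group G] [Finite G] (h : Setup G) (hz : ∀ g : G, g * h.z = h.z * g)

omit [Finite G] in
theorem R_le_S : h.R ≤ h.S := map_le_S h _

omit [Finite G] in
theorem U_le_R : h.U ≤ h.R := by
  rintro _ ⟨x, hx, rfl⟩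
  exact ⟨x, T.U_le_R hx, rfl⟩

omit [Finite G] in
theorem tau_conj_R {x : G} (hx : x ∈ h.R) : h.tau * x * h.tau⁻¹ ∈ h.R := by
  obtain ⟨t, ht, rfl⟩ := hx
  show h.φ T.tau * h.φ t * (h.φ T.tau)⁻¹ ∈ h.R
  rw [← map_inv, ← map_mul, ← map_mul]
  exact ⟨_, T.R_normal t T.tau ht, rfl⟩

theorem tau_mem_NR : h.tau ∈ normalizer (h.R : Set G) :=
  mem_normalizer_of_conj' fun _ hx => tau_conj_R h hx

omit [Finite G] in
theorem tau_v : h.tau * h.v * h.tau⁻¹ = h.v * h.z := by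
  show h.φ T.tau * h.φ T.v * (h.φ T.tau)⁻¹ = h.φ T.v * h.φ T.z
  rw [← map_inv, ← map_mul, ← map_mul, ← map_mul]
  congr 1

omit [Finite G] in
theorem zz : h.z * h.z = 1 := by
  show h.φ T.z * h.φ T.z = 1
  rw [← map_mul, ← map_one h.φ]
  congr 1

theorem max_S (P : Subgroup G) (hP : IsPGroup 2 P) (hSP : h.S ≤ P) : P ≤ h.S := by
  have h1 := (sylow h).is_maximal' hP (show (sylow h : Subgroup G) ≤ P from hSP)
  exact h1.le

include hz in
/-- The odd part of `C(R)`. -/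
theorem exists_L (hSF : SolvFun.{u}) (hFT : OddSolv.{u}) :
    ∃ L : Subgroup G, L ≤ centralizer (h.R : Set G) ∧ Odd (Nat.card L) ∧
      (∀ g ∈ centralizer (h.R : Set G), Odd (orderOf g) → g ∈ L) ∧
      (∀ n ∈ normalizer (h.R : Set G), ∀ l ∈ L, n * l * n⁻¹ ∈ L) ∧ L ≤ K h.v := by
  have hCR : centralizer (h.R : Set G) ≤ centralizer ({h.v} : Set G) := by
    intro g hg
    rw [mem_centralizer_singleton_iff]
    exact (mem_centralizer_iff.mp hg h.v (U_le_R h ((mem_map_iff h).mpr (by decide)))).symm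
  obtain ⟨L, hLZ, hLodd, hLmem, hLdec⟩ := exists_odd_part (Z := centralizer (h.R : Set G))
    (J := h.U) (by
      rintro _ ⟨t, ht, rfl⟩
      rw [← map_mul, U_sq t ht, map_one])
    (fun j hj z hz => (mem_centralizer_iff.mp hz j (U_le_R h hj)).symm) (by
      intro z hz' h2
      have h1 : z ∈ h.R := by
        refine mem_of_normalizes (isPGroup_R h) (max_Cv h hz) (R_le_Cv h) h2 (hCR hz') ?_
        refine mem_normalizer_of_conj' ?_
        intro x hx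
        rw [← mem_centralizer_iff.mp hz' x hx, mul_inv_cancel_right]
        exact hx
      obtain ⟨t, ht, rfl⟩ := h1
      refine ⟨t, center_R t ht ?_, rfl⟩
      intro y hy
      apply h.inj
      rw [map_mul, map_mul]
      exact (mem_centralizer_iff.mp hz' _ ⟨y, hy, rfl⟩).symm)
  have hLN : ∀ n ∈ normalizer (h.R : Set G), ∀ l ∈ L, n * l * n⁻¹ ∈ L := by
    intro n hn l hl
    refine hLmem _ ?_ ?_
    · rw [mem_centralizer_iff]
      intro x hx
      have h1 : n⁻¹ * x * n ∈ h.R := by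
        have h2 := (mem_normalizer_iff.mp (inv_mem hn) x).mp hx
        rwa [inv_inv] at h2
      have h2 := mem_centralizer_iff.mp (hLZ hl) _ h1
      calc x * (n * l * n⁻¹) = n * ((n⁻¹ * x * n) * l) * n⁻¹ := by group
        _ = n * (l * (n⁻¹ * x * n)) * n⁻¹ := by rw [h2]
        _ = _ := by group
    · rw [TwoFusion.StronglyEmbeddedBasic.orderOf_conj]
      exact odd_orderOf_of_mem hLodd hl
  refine ⟨L, hLZ, hLodd, hLmem, hLN, ?_⟩
  exact absorb (normalizer (h.R : Set G) : Set G) (K_le h.v) (K_odd h.v)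
    (fun c hc k hk => K_conj hc hk) (fun N h1 h2 h3 => le_K h1 h2 h3)
    (cv_core h hz hSF hFT) (hLZ.trans hCR) hLodd (fun n hn _ l hl => hLN n hn l hl)

include hz in
/-- elements acting trivially on `R/U` -/
theorem decomp_trivial {L : Subgroup G}
    (hLmem : ∀ g ∈ centralizer (h.R : Set G), Odd (orderOf g) → g ∈ L) {m : G}
    (hmv : m ∈ centralizer ({h.v} : Set G)) (hm : m ∈ normalizer (h.R : Set G))
    (htriv : ∀ x ∈ h.R, x⁻¹ * (m * x * m⁻¹) ∈ h.U) : ∃ r ∈ h.R, ∃ l ∈ L, m = r * l := by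
  obtain ⟨p, q, hp, hq, hp2, hq2, hpq⟩ := exists_parts m
  have hpR : p ∈ h.R := mem_of_normalizes (isPGroup_R h) (max_Cv h hz) (R_le_Cv h) hp2
    ((zpowers_le.mpr hmv) hp) ((zpowers_le.mpr hm) hp)
  refine ⟨p, hpR, q, ?_, hpq.symm⟩
  refine hLmem q ?_ hq2
  have hqv : q ∈ centralizer ({h.v} : Set G) := (zpowers_le.mpr hmv) hq
  rw [mem_centralizer_iff]
  intro x hx
  -- `p` acts trivially modulo `U`
  have hpact : ∀ y ∈ h.R, y⁻¹ * (p⁻¹ * y * p) ∈ h.U := by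
    rintro _ ⟨y, hy, rfl⟩
    obtain ⟨r, hr, rfl⟩ := hpR
    rw [← map_inv, ← map_inv, ← map_mul, ← map_mul, ← map_mul]
    have : ∀ y r : T, y ∈ T.R → r ∈ T.R → y⁻¹ * (r⁻¹ * y * r) ∈ T.U := by decide +kernel
    exact ⟨_, this y r hy hr, rfl⟩
  set d : G := x⁻¹ * (q * x * q⁻¹) with hd
  have hdU : d ∈ h.U := by
    have h1 := htriv x hx
    have h2 : m * x * m⁻¹ ∈ h.R := (mem_normalizer_iff.mp hm x).mp hx
    have h3 := hpact _ h2
    have h4 : d = (x⁻¹ * (m * x * m⁻¹)) * ((m * x * m⁻¹)⁻¹ * (p⁻¹ * (m * x * m⁻¹) * p)) := by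
      rw [hd, ← hpq]; group
    rw [h4]
    exact mul_mem h1 h3
  have h1 : q * x * q⁻¹ = x * d := by rw [hd]; group
  have h2 : q * d = d * q := by
    have h3 := fix_U h hz hqv hdU
    calc q * d = (q * d * q⁻¹) * q := by group
      _ = d * q := by rw [h3]
  have h3 : d * d = 1 := by
    obtain ⟨t, ht, hd'⟩ := hdU
    rw [← hd', ← map_mul, U_sq t ht, map_one]
  have h4 := eq_one_of_shift h1 h2 h3 hq2
  rw [h4, mul_one] at h1
  calc x * q = (q * x * q⁻¹) * q := by rw [h1]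
    _ = q * x := by group

/-- `N(S) ≤ N(Q)` -/
theorem NS_le_NQ (hz : ∀ g : G, g * h.z = h.z * g) :
    normalizer (h.S : Set G) ≤ normalizer (h.Q : Set G) := by
  intro n hn
  have key : ∀ y : T, y * y = T.z → n * h.φ y * n⁻¹ ∈ h.Q := by
    intro y hy
    obtain ⟨s, hs⟩ := (mem_normalizer_iff.mp hn (h.φ y)).mp ⟨y, rfl⟩
    rw [← hs]
    refine ⟨s, ZModel.sq_z_mem_Q s ?_, rfl⟩
    apply h.inj
    rw [map_mul, hs]
    have h1 : h.φ y * h.φ y = h.z := by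
      rw [← map_mul, hy]; rfl
    have h2 : n * h.z = h.z * n := hz n
    calc n * h.φ y * n⁻¹ * (n * h.φ y * n⁻¹) = n * (h.φ y * h.φ y) * n⁻¹ := by group
      _ = n * h.z * n⁻¹ := by rw [h1]
      _ = h.z := by rw [h2]; group
  refine mem_normalizer_of_conj' ?_
  rintro _ ⟨x, hx, rfl⟩
  obtain ⟨y, hy, hyy, hyx⟩ := ZModel.Q_gen x hx
  have h1 := mul_mem (key y hyy) (key _ hyx)
  have h2 : n * h.φ y * n⁻¹ * (n * h.φ (y⁻¹ * x) * n⁻¹) = n * h.φ x * n⁻¹ := by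
    rw [map_mul, map_inv]; group
  rwa [h2] at h1

include hz in
theorem nr_to_ns (hSF : SolvFun.{u}) (hFT : OddSolv.{u}) {n : G}
    (hnv : n ∈ centralizer ({h.v} : Set G)) (hn : n ∈ normalizer (h.R : Set G)) :
    ∃ k ∈ K h.v, k * n ∈ normalizer (h.S : Set G) := by
  obtain ⟨L, hLC, hLodd, hLmem, hLN, hLK⟩ := exists_L h hz hSF hFT
  obtain ⟨l, hl, hact⟩ := act h hz hnv hn
  set n' : G := h.tau * n * h.tau⁻¹ with hn'
  have htv : h.tau⁻¹ * h.v * h.tau = h.v * h.z := by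
    have h1 := tau_v h
    rw [tau_inv] at h1 ⊢
    exact h1
  have hn'v : n' ∈ centralizer ({h.v} : Set G) := by
    rw [mem_centralizer_singleton_iff]
    have h1 := mem_centralizer_singleton_iff.mp hnv
    have h2 : n * h.z = h.z * n := hz n
    have h3 : n * (h.v * h.z) = (h.v * h.z) * n := by
      calc n * (h.v * h.z) = (n * h.v) * h.z := by group
        _ = h.v * (n * h.z) := by rw [h1]; group
        _ = h.v * (h.z * n) := by rw [h2]
        _ = _ := by group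
    calc n' * h.v = h.tau * (n * (h.tau⁻¹ * h.v * h.tau)) * h.tau⁻¹ := by rw [hn']; group
      _ = h.tau * ((h.v * h.z) * n) * h.tau⁻¹ := by rw [htv, h3]
      _ = h.tau * ((h.tau⁻¹ * h.v * h.tau) * n) * h.tau⁻¹ := by rw [htv]
      _ = h.v * n' := by rw [hn']; group
  have hn'R : n' ∈ normalizer (h.R : Set G) :=
    mul_mem (mul_mem (tau_mem_NR h) hn) (inv_mem (tau_mem_NR h))
  -- `n` and `n'` act in the same way on `R/U`
  have hsame : ∀ x ∈ h.R, (n' * x * n'⁻¹)⁻¹ * (n * x * n⁻¹) ∈ h.U := by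
    rintro _ ⟨x, hx, rfl⟩
    have hx1 : T.tau⁻¹ * x * T.tau ∈ T.R := by
      have := T.R_normal x T.tau⁻¹ hx
      rwa [inv_inv] at this
    obtain ⟨s, hs, hns, hsa, hsb⟩ := hact x hx
    obtain ⟨s1, hs1, hns1, hs1a, hs1b⟩ := hact _ hx1
    have h1 : n' * h.φ x * n'⁻¹ = h.φ (T.tau * s1 * T.tau⁻¹) := by
      rw [map_mul, map_mul, map_inv, ← hns1, map_mul, map_mul, map_inv, hn']
      show h.tau * n * h.tau⁻¹ * h.φ x * (h.tau * n * h.tau⁻¹)⁻¹ =
        h.tau * (n * (h.tau⁻¹ * h.φ x * h.tau) * n⁻¹) * h.tau⁻¹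
      group
    rw [h1, hns, ← map_inv, ← map_mul]
    refine ⟨_, ?_, rfl⟩
    have htt : T.tau⁻¹ = T.tau := by decide
    have hx2 := tau_a x hx
    rw [htt] at hx2
    rw [htt] at hs1a hs1b
    rw [hx2.1] at hs1a
    rw [hx2.2] at hs1b
    have hs2 := tau_a s1 hs1
    refine (coord_U _ _ (T.R_normal s1 T.tau hs1) hs).mpr ⟨?_, ?_⟩
    · rw [hs2.1, hs1b, hsa]; exact (F4_tau l x.a).1
    · rw [hs2.2, hs1a, hsb]; exact (F4_tau l x.b).2
  set m : G := n'⁻¹ * n with hm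
  have hmv : m ∈ centralizer ({h.v} : Set G) := mul_mem (inv_mem hn'v) hnv
  have hmR : m ∈ normalizer (h.R : Set G) := mul_mem (inv_mem hn'R) hn
  obtain ⟨r, hr, l', hl', hrl⟩ := decomp_trivial h hz hLmem hmv hmR (by
    intro x hx
    have h1 := hsame x hx
    have h2 := fix_U h hz (inv_mem hn'v) h1
    have h3 : x⁻¹ * (m * x * m⁻¹) = n'⁻¹ * ((n' * x * n'⁻¹)⁻¹ * (n * x * n⁻¹)) * n'⁻¹⁻¹ := by
      rw [hm]; group
    rw [h3, h2]; exact h1)
  have hntau : n⁻¹ * h.tau⁻¹ * n = h.tau⁻¹ * (r * l') := by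
    rw [← hrl, hm, hn']; group
  -- the group `S L`
  have hSN : h.S ≤ normalizer (L : Set G) := by
    intro s hs
    refine mem_normalizer_of_conj' ?_
    intro y hy
    refine hLN s ?_ y hy
    obtain ⟨t, rfl⟩ := hs
    refine mem_normalizer_of_conj' ?_
    rintro _ ⟨x, hx, rfl⟩
    rw [← map_inv, ← map_mul, ← map_mul]
    exact ⟨_, T.R_normal x t hx, rfl⟩
  have hBmem : ∀ b ∈ h.S ⊔ L, ∃ s ∈ h.S, ∃ y ∈ L, b = s * y := by
    intro b hb
    rw [← SetLike.mem_coe, Subgroup.coe_mul_of_left_le_normalizer_right h.S L hSN,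
      Set.mem_mul] at hb
    obtain ⟨s, hs, y, hy, rfl⟩ := hb
    exact ⟨s, hs, y, hy, rfl⟩
  set P : Subgroup G := h.S.map (MulAut.conj n⁻¹).toMonoidHom with hP
  have hPB : P ≤ h.S ⊔ L := by
    rintro _ ⟨_, ⟨t, rfl⟩, rfl⟩
    show n⁻¹ * h.φ t * n⁻¹⁻¹ ∈ h.S ⊔ L
    have hR1 : ∀ x ∈ h.R, n⁻¹ * x * n⁻¹⁻¹ ∈ h.S ⊔ L := by
      intro x hx
      exact mem_sup_left (R_le_S h ((mem_normalizer_iff.mp (inv_mem hn) x).mp hx))
    by_cases ht : t ∈ T.R
    · exact hR1 _ ⟨t, ht, rfl⟩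
    · have h1 := mul_tau_R t ht
      have h2 : n⁻¹ * h.φ t * n⁻¹⁻¹ = (n⁻¹ * h.φ (t * T.tau) * n⁻¹⁻¹) * (n⁻¹ * h.tau⁻¹ * n) := by
        rw [map_mul]
        show _ = n⁻¹ * (h.φ t * h.tau) * n⁻¹⁻¹ * (n⁻¹ * h.tau⁻¹ * n)
        group
      rw [h2, hntau]
      refine mul_mem (hR1 _ ⟨_, h1, rfl⟩) (mul_mem (mem_sup_left ?_)
        (mul_mem (mem_sup_left (R_le_S h hr)) (mem_sup_right hl')))
      exact inv_mem ⟨_, rfl⟩
  obtain ⟨b, hb, hbP⟩ := exists_conj_le_of_max (H := h.S ⊔ L) le_sup_left (isPGroup_S h)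
    (fun P hP hSP _ => max_S h P hP hSP) P ((isPGroup_S h).map _) hPB
  obtain ⟨s0, hs0, l0, hl0, rfl⟩ := hBmem b hb
  have h1 : l0 * n⁻¹ ∈ normalizer (h.S : Set G) := by
    refine mem_normalizer_of_conj' ?_
    intro x hx
    have h2 := hbP (n⁻¹ * x * n⁻¹⁻¹) ⟨x, hx, rfl⟩
    have h3 : l0 * n⁻¹ * x * (l0 * n⁻¹)⁻¹ =
        s0⁻¹ * (s0 * l0 * (n⁻¹ * x * n⁻¹⁻¹) * (s0 * l0)⁻¹) * s0 := by group
    rw [h3]
    exact mul_mem (mul_mem (inv_mem hs0) h2) hs0
  refine ⟨n * l0⁻¹ * n⁻¹, hLK (hLN n hn _ (inv_mem hl0)), ?_⟩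
  have h2 := inv_mem h1
  have h3 : (l0 * n⁻¹)⁻¹ = n * l0⁻¹ * n⁻¹ * n := by group
  rwa [h3] at h2

include hz in
/-- the stabilizer of `U` is `O(C(v)) N(Q)` -/
theorem stab_core (hSF : SolvFun.{u}) (hFT : OddSolv.{u}) {c : G}
    (hc : c * h.v * c⁻¹ = h.v ∨ c * h.v * c⁻¹ = h.v * h.z) :
    ∃ k ∈ K h.v, k * c ∈ normalizer (h.Q : Set G) := by
  have key : ∀ c ∈ centralizer ({h.v} : Set G), ∃ k ∈ K h.v, k * c ∈ normalizer (h.Q : Set G) := by
    intro c hc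
    obtain ⟨k1, hk1, hk1c⟩ := cv_core h hz hSF hFT c hc
    obtain ⟨k2, hk2, hk2c⟩ := nr_to_ns h hz hSF hFT (mul_mem (K_le h.v hk1) hc) hk1c
    refine ⟨k2 * k1, mul_mem hk2 hk1, ?_⟩
    rw [mul_assoc]
    exact NS_le_NQ h hz hk2c
  rcases hc with hc | hc
  · refine key c ?_
    rw [mem_centralizer_singleton_iff]
    calc c * h.v = (c * h.v * c⁻¹) * c := by group
      _ = h.v * c := by rw [hc]
  · have h1 : c * h.tau ∈ centralizer ({h.v} : Set G) := by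
      rw [mem_centralizer_singleton_iff]
      have h2 : c * h.z = h.z * c := hz c
      have h3 : c * h.tau * h.v * (c * h.tau)⁻¹ = h.v := by
        calc c * h.tau * h.v * (c * h.tau)⁻¹ = c * (h.tau * h.v * h.tau⁻¹) * c⁻¹ := by group
          _ = c * (h.v * h.z) * c⁻¹ := by rw [tau_v]
          _ = (c * h.v * c⁻¹) * (c * h.z * c⁻¹) := by group
          _ = h.v * h.z * h.z := by rw [hc, h2, mul_inv_cancel_right]
          _ = h.v := by rw [mul_assoc, zz, mul_one]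
      calc c * h.tau * h.v = (c * h.tau * h.v * (c * h.tau)⁻¹) * (c * h.tau) := by group
        _ = h.v * (c * h.tau) := by rw [h3]
    obtain ⟨k, hk, hkc⟩ := key _ h1
    refine ⟨k, hk, ?_⟩
    have h2 : h.tau ∈ normalizer (h.Q : Set G) := by
      refine mem_normalizer_of_conj' ?_
      rintro _ ⟨x, hx, rfl⟩
      show h.φ T.tau * h.φ x * (h.φ T.tau)⁻¹ ∈ h.Q
      rw [← map_inv, ← map_mul, ← map_mul]
      exact ⟨_, T.Q_normal x T.tau hx, rfl⟩
    have h3 := mul_mem hkc (inv_mem h2)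
    have h4 : k * (c * h.tau) * h.tau⁻¹ = k * c := by group
    rwa [h4] at h3

include hz in
/-- `Q` is strongly closed in `S` -/
theorem closed_Q
    (f2 : ∃ g : G, (∀ x ∈ h.Q, g * x * g⁻¹ ∈ h.Q) ∧ g * h.tau * g⁻¹ = h.v) {g x : G}
    (hx : x ∈ h.Q) (hg : g * x * g⁻¹ ∈ h.S) : g * x * g⁻¹ ∈ h.Q := by
  obtain ⟨t, ht, rfl⟩ := hx
  obtain ⟨s, hs⟩ := hg
  have hss : h.φ (s * s) = g * h.φ (t * t) * g⁻¹ := by
    rw [map_mul, hs, map_mul]; group
  rw [← hs]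
  refine (mem_map_iff h).mpr ?_
  rcases ZModel.Q_sq t ht with h1 | h1
  · -- `t` is an involution or trivial
    rw [h1, map_one, mul_one, mul_inv_cancel] at hss
    have hs1 : s * s = 1 := h.inj (by rw [hss, map_one])
    -- no conjugate of `s` lies in `U` if `s` lies outside `Q`
    by_contra hsQ
    have hsU : s ∉ T.U := fun h2 => hsQ (T.U_le_Q h2)
    have hnot : ∀ g : G, g * h.φ s * g⁻¹ ∉ h.U := by
      rcases ZModel.sq_one s hs1 with h2 | h2 | h2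
      · exact absurd h2 hsQ
      · exact fun g => not_conj_U h hz h2 hsU
      · exact fun g => not_conj_U2 h hz h2 hsU
    by_cases htR : t ∈ T.R
    · have htU : t ∈ T.U := by
        have : ∀ t : T, t ∈ T.Q → t * t = 1 → t ∈ T.R → t ∈ T.U := by decide +kernel
        exact this t ht h1 htR
      apply hnot g⁻¹
      rw [hs]
      have h2 : g⁻¹ * (g * h.φ t * g⁻¹) * g⁻¹⁻¹ = h.φ t := by group
      rw [h2]
      exact ⟨t, htU, rfl⟩
    · have hts : t.s = true := by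
        by_contra h3
        exact htR (by rw [T.mem_R]; simpa using h3)
      obtain ⟨r, hr⟩ := T.tau_conj t hts h1
      obtain ⟨g2, -, hg2⟩ := f2
      apply hnot (g2 * h.φ r * g⁻¹)
      have h2 : g2 * h.φ r * g⁻¹ * h.φ s * (g2 * h.φ r * g⁻¹)⁻¹ = h.v := by
        rw [hs]
        calc g2 * h.φ r * g⁻¹ * (g * h.φ t * g⁻¹) * (g2 * h.φ r * g⁻¹)⁻¹
            = g2 * (h.φ r * h.φ t * (h.φ r)⁻¹) * g2⁻¹ := by group
          _ = g2 * h.tau * g2⁻¹ := by
              rw [← map_inv, ← map_mul, ← map_mul, hr]; rfl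
          _ = h.v := hg2
      rw [h2]
      exact (mem_map_iff h).mpr (by decide)
  · refine ZModel.sq_z_mem_Q s ?_
    rw [h1] at hss
    apply h.inj
    rw [hss]
    show g * h.z * g⁻¹ = h.z
    rw [hz g, mul_inv_cancel_right]

end Cfsg.Agent.J2Sylow.ZStab
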