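import Mathlib
import Cfsg.Agent.J2Sylow.ZStab
import Cfsg.Agent.J2Sylow.ZFive
import Cfsg.Agent.J2Sylow.ZNonsing

/-!
# The quotient `X = G / <z>` (`z` central): the group `J = Q / <z>`
-/

set_option autoImplicit false

namespace Cfsg.Agent.J2Sylow.ZX

open Subgroup Model Model.F4 ZSylow ZFusion Cfsg.Agent.J2Sylow.Functor ZCent ZAct ZQuot ZStab
  ZNonsing

universe u

/-- the centralizer of `j` is `O(C(j)) (N(J) ∩ C(j))` -/
def PX {X : Type*} [Group X] (J : Subgroup X) (j : X) : Prop :=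
  ∀ c ∈ centralizer ({j} : Set X), ∃ k ∈ K j, k * c ∈ normalizer (J : Set X)

theorem PX_conj {X : Type*} [Group X] [Finite X] {J : Subgroup X} {j n : X}
    (hn : n ∈ normalizer (J : Set X)) (hj : PX J j) : PX J (n * j * n⁻¹) := by
  intro c hc
  rw [mem_centralizer_singleton_iff] at hc
  have h1 : n⁻¹ * c * n ∈ centralizer ({j} : Set X) := by
    rw [mem_centralizer_singleton_iff]
    calc n⁻¹ * c * n * j = n⁻¹ * (c * (n * j * n⁻¹)) * n := by group
      _ = n⁻¹ * (n * j * n⁻¹ * c) * n := by rw [hc]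
      _ = _ := by group
  obtain ⟨k, hk, hkc⟩ := hj _ h1
  refine ⟨n * k * n⁻¹, K_map n j hk, ?_⟩
  have h2 := mul_mem (mul_mem hn hkc) (inv_mem hn)
  have h3 : n * (k * (n⁻¹ * c * n)) * n⁻¹ = n * k * n⁻¹ * c := by group
  rwa [h3] at h2

variable {G : Type u} [Group G] [Finite G] (h : Setup G) (hz : ∀ g : G, g * h.z = h.z * g)
  {X : Type u} [Group X] [Finite X] (π : G →* X) (hπs : Function.Surjective π)
  (hπ : ∀ x : G, π x = 1 ↔ x = 1 ∨ x = h.z)

section basic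

omit [Finite G] [Finite X] in
include hπ in
theorem pi_eq (x y : G) : π x = π y ↔ x = y ∨ x = y * h.z := by
  have h1 : π x = π y ↔ π (y⁻¹ * x) = 1 := by
    rw [map_mul, map_inv, inv_mul_eq_one]; exact eq_comm
  rw [h1, hπ, inv_mul_eq_one, inv_mul_eq_iff_eq_mul]
  constructor
  · rintro (h2 | h2)
    · exact Or.inl h2.symm
    · exact Or.inr h2
  · rintro (h2 | h2)
    · exact Or.inl h2.symm
    · exact Or.inr h2

omit [Finite G] in
theorem z_mem_S : h.z ∈ h.S := ⟨T.z, rfl⟩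

omit [Finite G] in
theorem z_mem_Q : h.z ∈ h.Q := (mem_map_iff h).mpr (by decide)

omit [Finite G] [Finite X] in
include hπ in
theorem pi_phi_eq (x y : T) : π (h.φ x) = π (h.φ y) ↔ x = y ∨ x = y * T.z := by
  rw [pi_eq h π hπ]
  constructor
  · rintro (h1 | h1)
    · exact Or.inl (h.inj h1)
    · exact Or.inr (h.inj (by rw [map_mul]; exact h1))
  · rintro (h1 | h1)
    · exact Or.inl (by rw [h1])
    · exact Or.inr (by rw [h1, map_mul]; rfl)

omit [Finite G] [Finite X] in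
include hπ in
theorem pi_phi_comm (x y : T) : π (h.φ x) * π (h.φ y) = π (h.φ y) * π (h.φ x) ↔
    x * y = y * x ∨ x * y = T.z * (y * x) := by
  rw [← map_mul, ← map_mul, ← map_mul, ← map_mul, pi_phi_eq h π hπ, T.z_comm]

/-- the image of `Q` -/
def J : Subgroup X := h.Q.map π

omit [Finite G] [Finite X] in
include hπ in
theorem mem_J (x : G) : π x ∈ J h π ↔ x ∈ h.Q := by
  constructor
  · rintro ⟨y, hy, hyx⟩
    rcases (pi_eq h π hπ x y).mp hyx.symm with h1 | h1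
    · rw [h1]; exact hy
    · rw [h1]; exact mul_mem hy (z_mem_Q h)
  · intro hx; exact ⟨x, hx, rfl⟩

/-- the image of `S` -/
noncomputable def TX (hπs : Function.Surjective π) : Sylow 2 X := (sylow h).mapSurjective hπs

include hπ in
theorem mem_TX (x : G) : π x ∈ TX h π hπs ↔ x ∈ h.S := by
  constructor
  · rintro ⟨y, hy, hyx⟩
    rcases (pi_eq h π hπ x y).mp hyx.symm with h1 | h1
    · rw [h1]; exact hy
    · rw [h1]; exact mul_mem hy (z_mem_S h)
  · intro hx; exact ⟨x, hx, rfl⟩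

theorem mem_TX' {y : X} (hy : y ∈ TX h π hπs) : ∃ t : T, π (h.φ t) = y := by
  obtain ⟨x, ⟨t, rfl⟩, rfl⟩ := hy
  exact ⟨t, rfl⟩

omit [Finite G] [Finite X] in
theorem mem_J' {y : X} (hy : y ∈ J h π) : ∃ t : T, t ∈ T.Q ∧ π (h.φ t) = y := by
  obtain ⟨x, ⟨t, ht, rfl⟩, rfl⟩ := hy
  exact ⟨t, ht, rfl⟩

include hπ in
theorem mem_NJ (n : G) : π n ∈ normalizer (J h π : Set X) ↔ n ∈ normalizer (h.Q : Set G) := by
  constructor
  · intro hn
    refine mem_normalizer_of_conj' ?_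
    intro x hx
    have h1 := (mem_normalizer_iff.mp hn (π x)).mp ((mem_J h π hπ x).mpr hx)
    rw [← map_inv, ← map_mul, ← map_mul] at h1
    exact (mem_J h π hπ _).mp h1
  · intro hn
    refine mem_normalizer_of_conj' ?_
    rintro _ ⟨x, hx, rfl⟩
    rw [← map_inv, ← map_mul, ← map_mul]
    exact ⟨_, (mem_normalizer_iff.mp hn x).mp hx, rfl⟩

include hπ hz hπs in
theorem hNT : normalizer (TX h π hπs : Set X) ≤ normalizer (J h π : Set X) := by
  intro n hn
  obtain ⟨n, rfl⟩ := hπs n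
  rw [mem_NJ h π hπ]
  refine NS_le_NQ h hz ?_
  refine mem_normalizer_of_conj' ?_
  intro x hx
  have h1 := (mem_normalizer_iff.mp hn (π x)).mp ((mem_TX h π hπs hπ x).mpr hx)
  rw [← map_inv, ← map_mul, ← map_mul] at h1
  exact (mem_TX h π hπs hπ _).mp h1

omit [Finite G] [Finite X] in
include hπ in
theorem J_sq : ∀ a ∈ J h π, a * a = 1 := by
  intro a ha
  obtain ⟨t, ht, rfl⟩ := mem_J' h π ha
  rw [← map_mul, ← map_mul, hπ]
  rcases ZModel.Q_sq t ht with h1 | h1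
  · left; rw [h1, map_one]
  · right; rw [h1]; rfl

omit [Finite G] [Finite X] in
include hπ in
theorem J_comm : ∀ a ∈ J h π, ∀ b ∈ J h π, a * b = b * a := by
  intro a ha b hb
  obtain ⟨x, hx, rfl⟩ := mem_J' h π ha
  obtain ⟨y, hy, rfl⟩ := mem_J' h π hb
  exact (pi_phi_comm h π hπ x y).mpr (ZModel.Q_comm x y hx hy)

theorem J_le_TX : J h π ≤ TX h π hπs := by
  rintro _ ⟨x, hx, rfl⟩
  exact ⟨x, map_le_S h _ hx, rfl⟩

include hπ in
theorem TX_le_NJ : (TX h π hπs : Subgroup X) ≤ normalizer (J h π : Set X) := by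
  intro x hx
  obtain ⟨t, rfl⟩ := mem_TX' h π hπs hx
  rw [mem_NJ h π hπ]
  refine mem_normalizer_of_conj' ?_
  rintro _ ⟨y, hy, rfl⟩
  rw [← map_inv, ← map_mul, ← map_mul]
  exact ⟨_, T.Q_normal y t hy, rfl⟩

include hz hπ hπs in
theorem K_pi {y k : G} (hk : k ∈ K y) : π k ∈ K (π y) := by
  have h1 : (K y).map π ≤ K (π y) := by
    refine le_K ?_ ?_ ?_
    · rintro _ ⟨x, hx, rfl⟩
      rw [mem_centralizer_singleton_iff, ← map_mul, ← map_mul]
      rw [mem_centralizer_singleton_iff.mp (K_le y hx)]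
    · exact (K_odd y).of_dvd_nat (card_map_dvd (K y) π)
    · rintro c hc _ ⟨x, hx, rfl⟩
      obtain ⟨c, rfl⟩ := hπs c
      rw [mem_centralizer_singleton_iff, ← map_mul, ← map_mul, pi_eq h π hπ] at hc
      refine ⟨c * x * c⁻¹, ?_, by rw [map_mul, map_mul, map_inv]⟩
      have h2 := K_map c y hx
      rcases hc with hc | hc
      · rwa [hc, mul_inv_cancel_right] at h2
      · have h3 : c * y * c⁻¹ = y * h.z := by
          rw [hc, mul_assoc y c, hz c, ← mul_assoc, mul_inv_cancel_right]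
        rw [h3] at h2
        have h4 : K (y * h.z) ≤ K y := by
          have h5 : centralizer ({y * h.z} : Set G) = centralizer ({y} : Set G) := by
            ext g
            rw [mem_centralizer_singleton_iff, mem_centralizer_singleton_iff, ← mul_assoc,
              mul_assoc y, ← hz g, ← mul_assoc, mul_left_inj]
          refine le_K ?_ (K_odd _) ?_
          · rw [← h5]; exact K_le _
          · rw [← h5]
            intro c hc n hn
            exact K_conj hc hn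
        exact h4 h2
  exact h1 ⟨k, hk, rfl⟩

/-- lifting the condition `PX` -/
theorem PX_of (hz : ∀ g : G, g * h.z = h.z * g) (hπs : Function.Surjective π)
    (hπ : ∀ x : G, π x = 1 ↔ x = 1 ∨ x = h.z) {y : G}
    (hy : ∀ c : G, (c * y * c⁻¹ = y ∨ c * y * c⁻¹ = y * h.z) →
      ∃ k ∈ K y, k * c ∈ normalizer (h.Q : Set G)) : PX (J h π) (π y) := by
  intro c hc
  obtain ⟨c, rfl⟩ := hπs c
  rw [mem_centralizer_singleton_iff, ← map_mul, ← map_mul, pi_eq h π hπ] at hc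
  obtain ⟨k, hk, hkc⟩ := hy c (by
    rcases hc with hc | hc
    · left; rw [hc, mul_inv_cancel_right]
    · right; rw [hc, mul_assoc y c, hz c, ← mul_assoc, mul_inv_cancel_right])
  refine ⟨π k, K_pi h hz π hπs hπ hk, ?_⟩
  rw [← map_mul, mem_NJ h π hπ]
  exact hkc

end basic

section points

variable (f2 : ∃ g : G, (∀ x ∈ h.Q, g * x * g⁻¹ ∈ h.Q) ∧ g * h.tau * g⁻¹ = h.v)

omit [Finite G] in
theorem phi_mem_NQ [Finite G] (t : T) : h.φ t ∈ normalizer (h.Q : Set G) := by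
  refine mem_normalizer_of_conj' ?_
  rintro _ ⟨y, hy, rfl⟩
  rw [← map_inv, ← map_mul, ← map_mul]
  exact ⟨_, T.Q_normal y t hy, rfl⟩

include f2 in
/-- transitivity on the five points -/
theorem exists_move (i : Fin 5) : ∃ n ∈ normalizer (h.Q : Set G), n * h.φ (ZFive.s i) * n⁻¹ = h.v := by
  by_cases hi : i = 0
  · subst hi
    exact ⟨1, one_mem _, by rw [ZFive.s_zero, one_mul, inv_one, mul_one]; rfl⟩
  · obtain ⟨r, hr⟩ := ZFive.s_conj_tau i hi
    obtain ⟨g, hg1, hg2⟩ := f2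
    refine ⟨g * h.φ r, mul_mem (mem_normalizer_of_conj' hg1) (phi_mem_NQ h r), ?_⟩
    calc g * h.φ r * h.φ (ZFive.s i) * (g * h.φ r)⁻¹
        = g * (h.φ r * h.φ (ZFive.s i) * (h.φ r)⁻¹) * g⁻¹ := by group
      _ = g * h.tau * g⁻¹ := by rw [← map_inv, ← map_mul, ← map_mul, hr]; rfl
      _ = h.v := hg2

include hz hπs hπ f2 in
theorem PX_sing (hSF : SolvFun.{u}) (hFT : OddSolv.{u}) (i : Fin 5) :
    PX (J h π) (π (h.φ (ZFive.s i))) := by
  obtain ⟨n, hn, hni⟩ := exists_move h f2 i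
  have h1 : PX (J h π) (π h.v) := PX_of h π hz hπs hπ (fun c hc => stab_core h hz hSF hFT hc)
  have h2 := PX_conj ((mem_NJ h π hπ _).mpr (inv_mem hn)) h1
  have h3 : π n⁻¹ * π h.v * (π n⁻¹)⁻¹ = π (h.φ (ZFive.s i)) := by
    rw [← map_inv, ← map_mul, ← map_mul, ← hni]
    congr 1
    group
  rwa [h3] at h2

include hz hπs hπ f2 in
theorem closed_X : ∀ g : X, ∀ x ∈ J h π, g * x * g⁻¹ ∈ TX h π hπs → g * x * g⁻¹ ∈ J h π := by
  intro g x hx hg
  obtain ⟨g, rfl⟩ := hπs g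
  obtain ⟨y, hy, rfl⟩ := hx
  rw [← map_inv, ← map_mul, ← map_mul] at hg ⊢
  rw [mem_TX h π hπs hπ] at hg
  rw [mem_J h π hπ]
  exact closed_Q h hz f2 hy hg

include hz hπs hπ f2 in
/-- conjugation of 2-groups containing `J` into `T` by elements of `N(J)` -/
theorem conj_into {P : Subgroup X} (hP : IsPGroup 2 P) (hJP : J h π ≤ P) :
    ∃ g ∈ normalizer (J h π : Set X), ∀ x ∈ P, g * x * g⁻¹ ∈ TX h π hπs := by
  have : Fact (Nat.Prime 2) := ⟨Nat.prime_two⟩
  obtain ⟨P1, hP1⟩ := hP.exists_le_sylow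
  obtain ⟨m, hm⟩ := MulAction.exists_smul_eq X P1 (TX h π hπs)
  have h1 : ∀ x ∈ P, m * x * m⁻¹ ∈ TX h π hπs := by
    intro x hx
    have h3 : m * x * m⁻¹ ∈ (m • P1 : Sylow 2 X) := by
      rw [← SetLike.mem_coe, Sylow.coe_smul]
      exact Set.mem_smul_set.mpr ⟨x, hP1 hx, rfl⟩
    rw [hm] at h3
    exact h3
  refine ⟨m, mem_normalizer_of_conj' ?_, h1⟩
  intro x hx
  exact closed_X h hz π hπs hπ f2 m x hx (h1 x (hJP hx))

omit [Finite G] in
theorem phi_s_inj {i j : Fin 5}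
    (hij : h.φ (ZFive.s i) = h.φ (ZFive.s j) ∨ h.φ (ZFive.s i) = h.φ (ZFive.s j) * h.z) : i = j := by
  refine ZFive.s_inj i j ?_
  rcases hij with h1 | h1
  · exact Or.inl (h.inj h1)
  · exact Or.inr (h.inj (by rw [map_mul]; exact h1))

omit [Finite G] in
include hz in
/-- `N(Q)` permutes the five points -/
theorem NQ_perm {n : G} (hn : n ∈ normalizer (h.Q : Set G)) (i : Fin 5) :
    ∃ j : Fin 5, n * h.φ (ZFive.s i) * n⁻¹ = h.φ (ZFive.s j) ∨
      n * h.φ (ZFive.s i) * n⁻¹ = h.φ (ZFive.s j) * h.z := by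
  obtain ⟨t, ht, hte⟩ := (mem_normalizer_iff.mp hn _).mp
    (show h.φ (ZFive.s i) ∈ h.Q from ⟨_, ZFive.s_mem i, rfl⟩)
  rw [← hte]
  have h1 : t * t = 1 := by
    apply h.inj
    rw [map_mul, hte, map_one]
    calc n * h.φ (ZFive.s i) * n⁻¹ * (n * h.φ (ZFive.s i) * n⁻¹)
        = n * (h.φ (ZFive.s i) * h.φ (ZFive.s i)) * n⁻¹ := by group
      _ = 1 := by rw [← map_mul, ZFive.s_sq, map_one]; group
  have h2 : h.φ (ZFive.s i) = n⁻¹ * h.φ t * n := by rw [hte]; group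
  rcases ZFive.s_cover t ht h1 with h3 | h3 | ⟨j, h3 | h3⟩
  · exfalso
    refine (ZFive.s_ne i).1 (h.inj ?_)
    rw [h2, h3, map_one]; group
  · exfalso
    refine (ZFive.s_ne i).2 (h.inj ?_)
    rw [h2, h3]
    show n⁻¹ * h.z * n = h.z
    rw [mul_assoc, ← hz n, ← mul_assoc, inv_mul_cancel, one_mul]
  · exact ⟨j, Or.inl (by rw [h3])⟩
  · exact ⟨j, Or.inr (by rw [h3, map_mul]; rfl)⟩

omit [Finite G] in
include hz in
theorem NQ_perm_inj {n : G} {i j k : Fin 5}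
    (h1 : n * h.φ (ZFive.s i) * n⁻¹ = h.φ (ZFive.s k) ∨
      n * h.φ (ZFive.s i) * n⁻¹ = h.φ (ZFive.s k) * h.z)
    (h2 : n * h.φ (ZFive.s j) * n⁻¹ = h.φ (ZFive.s k) ∨
      n * h.φ (ZFive.s j) * n⁻¹ = h.φ (ZFive.s k) * h.z) : i = j := by
  apply phi_s_inj h
  have e1 : h.φ (ZFive.s i) = n⁻¹ * (n * h.φ (ZFive.s i) * n⁻¹) * n := by group
  have e2 : h.φ (ZFive.s j) = n⁻¹ * (n * h.φ (ZFive.s j) * n⁻¹) * n := by group
  have e3 : n⁻¹ * (h.φ (ZFive.s k) * h.z) * n = (n⁻¹ * h.φ (ZFive.s k) * n) * h.z := by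
    calc n⁻¹ * (h.φ (ZFive.s k) * h.z) * n = n⁻¹ * h.φ (ZFive.s k) * (h.z * n) := by group
      _ = n⁻¹ * h.φ (ZFive.s k) * (n * h.z) := by rw [hz n]
      _ = _ := by group
  rcases h1 with h1 | h1 <;> rcases h2 with h2 | h2
  · left; rw [e1, e2, h1, h2]
  · right; rw [e1, e2, h1, h2, e3, mul_assoc _ h.z h.z, zz, mul_one]
  · right; rw [e1, e2, h1, h2, e3]
  · left; rw [e1, e2, h1, h2]

include hπ hz in
/-- `N(J)` permutes the five points, in `X` -/
theorem NJ_perm (hπs : Function.Surjective π) {n : X}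
    (hn : n ∈ normalizer (J h π : Set X)) (i : Fin 5) :
    ∃ j : Fin 5, n * π (h.φ (ZFive.s i)) * n⁻¹ = π (h.φ (ZFive.s j)) := by
  obtain ⟨n, rfl⟩ := hπs n
  obtain ⟨j, hj⟩ := NQ_perm h hz ((mem_NJ h π hπ n).mp hn) i
  refine ⟨j, ?_⟩
  rw [← map_inv, ← map_mul, ← map_mul, pi_eq h π hπ]
  exact hj

omit [Finite G] [Finite X] in
include hπ in
theorem pi_s_inj {i j : Fin 5} (hij : π (h.φ (ZFive.s i)) = π (h.φ (ZFive.s j))) : i = j :=
  ZFive.s_inj i j ((pi_phi_eq h π hπ _ _).mp hij)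

omit [Finite G] [Finite X] in
include hπ in
theorem pi_pair {i j k l : Fin 5} (hij : i ≠ j) (hkl : k ≠ l)
    (he : π (h.φ (ZFive.s i)) * π (h.φ (ZFive.s j)) = π (h.φ (ZFive.s k)) * π (h.φ (ZFive.s l))) :
    (i = k ∧ j = l) ∨ (i = l ∧ j = k) := by
  rw [← map_mul, ← map_mul, ← map_mul, ← map_mul, pi_phi_eq h π hπ] at he
  exact ZFive.s_pair i j k l hij hkl he

include hz hπs hπ f2 in
theorem PX_nonsing0 (hSF : SolvFun.{u}) (hFT : OddSolv.{u}) (hZS : ZStar.{u}) {k l : Fin 5}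
    (hk : k ≠ 0) (hl : l ≠ 0) (hkl : k ≠ l) :
    PX (J h π) (π (h.φ (ZFive.s k)) * π (h.φ (ZFive.s l))) := by
  classical
  set t0 : T := ZFive.s k * ZFive.s l with ht0
  obtain ⟨ht0R, ht0U⟩ := ZFive.s_pair_R k l hk hl hkl
  have ht0Q : t0 ∈ T.Q := mul_mem (ZFive.s_mem k) (ZFive.s_mem l)
  obtain ⟨het, heQ⟩ := ZFive.comm_e t0 ht0Q ht0R ht0U
  set e0 : T := ⟨t0.a, o, o, false⟩ with he0
  have hj0 : π (h.φ (ZFive.s k)) * π (h.φ (ZFive.s l)) = π (h.φ t0) := by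
    rw [ht0, map_mul, map_mul]
  rw [hj0]
  set j : X := π (h.φ t0) with hj
  have hJ : ∀ x : T, π (h.φ x) ∈ J h π ↔ x ∈ T.Q := by
    intro x
    rw [mem_J h π hπ]
    exact mem_map_iff h
  have hjJ : j ∈ J h π := (hJ _).mpr ht0Q
  set s : X := π (h.φ (ZFive.s k)) with hs
  have hsJ : s ∈ J h π := (hJ _).mpr (ZFive.s_mem k)
  have hJc := J_comm h π hπ
  -- elements outside `J` of `T` commuting with an element `π φ t'`, `t'` of order four
  have hcase : ∀ t' : T, t' ∈ T.Q → t' * t' = T.z → ∀ x y : T,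
      π (h.φ x) * π (h.φ t') = π (h.φ t') * π (h.φ x) →
      π (h.φ y) * π (h.φ t') = π (h.φ t') * π (h.φ y) → x ∉ T.Q → y ∉ T.Q → x⁻¹ * y ∈ T.Q := by
    intro t' ht' ht'z x y hx hy hxQ hyQ
    rw [pi_phi_comm h π hπ] at hx hy
    by_cases htR : t' ∈ T.R
    · have htU : t' ∉ T.U := by
        intro h1
        have h2 := ZCv.U_sq t' h1
        rw [h2] at ht'z
        exact absurd ht'z (by decide)
      have h1 := ZFive.comm_R t' x ht' htR htU hx hxQ
      have h2 := ZFive.comm_R t' y ht' htR htU hy hyQ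
      have h3 := mul_mem (inv_mem h1) h2
      have h4 : ((⟨t'.a, o, o, false⟩ : T)⁻¹ * x)⁻¹ * ((⟨t'.a, o, o, false⟩ : T)⁻¹ * y) =
          x⁻¹ * y := by group
      rwa [h4] at h3
    · exact absurd (ZFive.comm_not_R t' x ht' htR ht'z hx) hxQ
  have hcase' : ∀ x : T, (π (h.φ x) * j = j * π (h.φ x)) → x ∉ T.Q → e0⁻¹ * x ∈ T.Q := by
    intro x hx hxQ
    rw [hj, pi_phi_comm h π hπ] at hx
    exact ZFive.comm_R t0 x ht0Q ht0R ht0U hx hxQ
  have hee : e0 * e0 = 1 := by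
    have : ∀ a : F4, (⟨a, o, o, false⟩ : T) * ⟨a, o, o, false⟩ = 1 := by decide
    exact this _
  set Tj : Subgroup X := (TX h π hπs : Subgroup X) ⊓ centralizer ({j} : Set X) with hTj
  have hTjmem : ∀ x, x ∈ Tj ↔ x ∈ TX h π hπs ∧ x * j = j * x := by
    intro x
    rw [hTj, mem_inf, mem_centralizer_singleton_iff]
    exact Iff.rfl
  have htTj : π (h.φ e0) ∈ Tj := by
    rw [hTjmem]
    refine ⟨(mem_TX h π hπs hπ _).mpr ⟨e0, rfl⟩, ?_⟩
    rw [hj, pi_phi_comm h π hπ]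
    exact het
  have htJ : π (h.φ e0) ∉ J h π := fun h1 => heQ ((hJ _).mp h1)
  refine nonsing hZS (TX h π hπs) (J h π) (J_le_TX h π hπs) (TX_le_NJ h π hπs hπ)
    (J_sq h π hπ) (closed_X h hz π hπs hπ f2) hsJ ?_ Tj hTjmem ?_ ?_ ?_ htTj htJ ?_
    (PX_sing h hz π hπs hπ f2 hSF hFT k)
  · -- `s ≠ 1`
    rw [hs]
    intro h1
    have h2 : π (h.φ (ZFive.s k)) = π (h.φ 1) := by rw [h1, map_one, map_one]
    rcases (pi_phi_eq h π hπ _ _).mp h2 with h3 | h3
    · exact (ZFive.s_ne k).1 h3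
    · exact (ZFive.s_ne k).2 (by rw [h3, one_mul])
  · -- `J ≤ Tj`
    intro x hx
    rw [hTjmem]
    exact ⟨J_le_TX h π hπs hx, hJc x hx j hjJ⟩
  · -- maximality
    intro P hP hTjP hPj p hp
    have hJP : J h π ≤ P := by
      intro x hx
      apply hTjP
      rw [hTjmem]
      exact ⟨J_le_TX h π hπs hx, hJc x hx j hjJ⟩
    obtain ⟨g, hg, hgP⟩ := conj_into h hz π hπs hπ f2 hP hJP
    have hpj := mem_centralizer_singleton_iff.mp (hPj hp)
    have htj := mem_centralizer_singleton_iff.mp (hPj (hTjP htTj))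
    obtain ⟨t', ht', ht'e⟩ := mem_J' h π ((mem_normalizer_iff.mp hg j).mp hjJ)
    obtain ⟨x, hx⟩ := mem_TX' h π hπs (hgP p hp)
    obtain ⟨y, hy⟩ := mem_TX' h π hπs (hgP _ (hTjP htTj))
    have hcj : ∀ q : X, q * j = j * q →
        (g * q * g⁻¹) * (g * j * g⁻¹) = (g * j * g⁻¹) * (g * q * g⁻¹) := by
      intro q hq
      calc (g * q * g⁻¹) * (g * j * g⁻¹) = g * (q * j) * g⁻¹ := by group
        _ = g * (j * q) * g⁻¹ := by rw [hq]
        _ = _ := by group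
    have ht'z : t' * t' = T.z := by
      rcases ZModel.Q_sq t' ht' with h1 | h1
      · exfalso
        obtain ⟨g', rfl⟩ := hπs g
        rw [hj, ← map_inv, ← map_mul, ← map_mul, pi_eq h π hπ] at ht'e
        have h2 : h.φ t' * h.φ t' = 1 := by rw [← map_mul, h1, map_one]
        have h3 : h.φ t0 * h.φ t0 = h.z := by
          rw [← map_mul, ht0, ZFive.s_pair_sq k l hkl]; rfl
        have h4 : (g' * h.φ t0 * g'⁻¹) * (g' * h.φ t0 * g'⁻¹) = h.z := by
          calc (g' * h.φ t0 * g'⁻¹) * (g' * h.φ t0 * g'⁻¹) = g' * (h.φ t0 * h.φ t0) * g'⁻¹ := by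
                group
            _ = h.z := by rw [h3, hz g', mul_inv_cancel_right]
        rcases ht'e with h5 | h5
        · rw [h5, h4] at h2
          exact z_ne_one h h2
        · have h6 : h.φ t' * h.φ t' = h.z := by
            rw [h5]
            calc g' * h.φ t0 * g'⁻¹ * h.z * (g' * h.φ t0 * g'⁻¹ * h.z)
                = (g' * h.φ t0 * g'⁻¹) * (h.z * (g' * h.φ t0 * g'⁻¹)) * h.z := by group
              _ = (g' * h.φ t0 * g'⁻¹) * ((g' * h.φ t0 * g'⁻¹) * h.z) * h.z := by rw [← hz]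
              _ = ((g' * h.φ t0 * g'⁻¹) * (g' * h.φ t0 * g'⁻¹)) * (h.z * h.z) := by group
              _ = h.z := by rw [h4, zz, mul_one]
          rw [h6] at h2
          exact z_ne_one h h2
      · exact h1
    rw [hTjmem]
    refine ⟨?_, hpj⟩
    by_cases hxQ : x ∈ T.Q
    · -- then `p ∈ J`
      refine J_le_TX h π hπs ?_
      rw [mem_normalizer_iff] at hg
      rw [SetLike.mem_coe.symm]
      exact (hg p).mpr (by rw [← hx]; exact (hJ x).mpr hxQ)
    · have hyQ : y ∉ T.Q := by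
        intro h1
        apply htJ
        exact (mem_normalizer_iff.mp hg _).mpr (by rw [← hy]; exact (hJ y).mpr h1)
      have h1 := hcase t' ht' ht'z y x (by rw [hy, ht'e]; exact hcj _ htj)
        (by rw [hx, ht'e]; exact hcj _ hpj) hyQ hxQ
      have h2 : (π (h.φ e0))⁻¹ * p ∈ J h π := by
        refine (mem_normalizer_iff.mp hg _).mpr ?_
        have h3 : g * ((π (h.φ e0))⁻¹ * p) * g⁻¹ = π (h.φ (y⁻¹ * x)) := by
          rw [map_mul, map_inv, map_mul, map_inv, hx, hy]; group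
        rw [h3]
        exact (hJ _).mpr h1
      have h3 : p = π (h.φ e0) * ((π (h.φ e0))⁻¹ * p) := by group
      rw [h3]
      exact mul_mem ((hTjmem _).mp htTj).1 (J_le_TX h π hπs h2)
  · -- index two
    intro x hx y hy hxJ hyJ
    obtain ⟨hxT, hxj⟩ := (hTjmem x).mp hx
    obtain ⟨hyT, hyj⟩ := (hTjmem y).mp hy
    obtain ⟨x, rfl⟩ := mem_TX' h π hπs hxT
    obtain ⟨y, rfl⟩ := mem_TX' h π hπs hyT
    rw [hJ] at hxJ hyJ
    rw [← map_mul, ← map_mul, hJ]
    have h1 := hcase' x hxj hxJ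
    have h2 := hcase' y hyj hyJ
    have h3 : x * y = (e0 * (e0⁻¹ * x) * e0⁻¹) * (e0 * e0) * (e0⁻¹ * y) := by group
    rw [h3, hee, mul_one]
    exact mul_mem (T.Q_normal _ e0 h1) h2
  · -- the squares fix `s`
    intro n hn hnj
    obtain ⟨k', hk'⟩ := NJ_perm h hz π hπ hπs hn k
    obtain ⟨l', hl'⟩ := NJ_perm h hz π hπ hπs hn l
    have hkl' : k' ≠ l' := by
      intro h1
      rw [h1, ← hl'] at hk'
      have h2 : π (h.φ (ZFive.s k)) = π (h.φ (ZFive.s l)) := by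
        have h3 := mul_right_cancel hk'
        exact mul_left_cancel h3
      exact hkl (pi_s_inj h π hπ h2)
    have h1 : π (h.φ (ZFive.s k')) * π (h.φ (ZFive.s l')) =
        π (h.φ (ZFive.s k)) * π (h.φ (ZFive.s l)) := by
      rw [← hk', ← hl', hj0]
      calc n * π (h.φ (ZFive.s k)) * n⁻¹ * (n * π (h.φ (ZFive.s l)) * n⁻¹)
          = n * (π (h.φ (ZFive.s k)) * π (h.φ (ZFive.s l))) * n⁻¹ := by group
        _ = j := by rw [← map_mul, ← map_mul, hnj, mul_inv_cancel_right]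
    rcases pi_pair h π hπ hkl' hkl h1 with ⟨h2, h3⟩ | ⟨h2, h3⟩
    · rw [hs, hk', h2, hk', h2]
    · rw [hs, hk', h2, hl', h3]

include hz hπs hπ f2 in
/-- condition for all elements of `J` -/
theorem PX_all (hSF : SolvFun.{u}) (hFT : OddSolv.{u}) (hZS : ZStar.{u}) {j : X}
    (hj : j ∈ J h π) (hj1 : j ≠ 1) : PX (J h π) j := by
  obtain ⟨t, ht, rfl⟩ := mem_J' h π hj
  rcases ZModel.Q_sq t ht with h1 | h1
  · rcases ZFive.s_cover t ht h1 with h3 | h3 | ⟨i, h3⟩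
    · exact absurd (by rw [h3, map_one, map_one]) hj1
    · exact absurd ((hπ _).mpr (Or.inr (by rw [h3]; rfl))) hj1
    · rw [(pi_phi_eq h π hπ _ _).mpr h3]
      exact PX_sing h hz π hπs hπ f2 hSF hFT i
  · obtain ⟨i, j, hij, h3⟩ := ZFive.s_cover4 t ht h1
    rw [(pi_phi_eq h π hπ _ _).mpr h3]
    -- a point different from both
    obtain ⟨p, hpi, hpj⟩ : ∃ p : Fin 5, p ≠ i ∧ p ≠ j := by
      have : ∀ i j : Fin 5, ∃ p : Fin 5, p ≠ i ∧ p ≠ j := by decide
      exact this i j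
    obtain ⟨n, hn, hnp⟩ := exists_move h f2 p
    obtain ⟨k, hk⟩ := NQ_perm h hz hn i
    obtain ⟨l, hl⟩ := NQ_perm h hz hn j
    have hp0 : n * h.φ (ZFive.s p) * n⁻¹ = h.φ (ZFive.s 0) := by
      rw [hnp, ZFive.s_zero]; rfl
    have hk0 : k ≠ 0 := by
      intro h4
      rw [h4] at hk
      exact hpi (NQ_perm_inj h hz (Or.inl hp0) hk)
    have hl0 : l ≠ 0 := by
      intro h4
      rw [h4] at hl
      exact hpj (NQ_perm_inj h hz (Or.inl hp0) hl)
    have hkl : k ≠ l := by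
      intro h4
      rw [h4] at hk
      exact hij (NQ_perm_inj h hz hk hl)
    have h4 := PX_nonsing0 h hz π hπs hπ f2 hSF hFT hZS hk0 hl0 hkl
    have h5 := PX_conj ((mem_NJ h π hπ _).mpr (inv_mem hn)) h4
    have hk' : π n * π (h.φ (ZFive.s i)) * (π n)⁻¹ = π (h.φ (ZFive.s k)) := by
      rw [← map_inv, ← map_mul, ← map_mul, pi_eq h π hπ]; exact hk
    have hl' : π n * π (h.φ (ZFive.s j)) * (π n)⁻¹ = π (h.φ (ZFive.s l)) := by
      rw [← map_inv, ← map_mul, ← map_mul, pi_eq h π hπ]; exact hl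
    rw [← hk', ← hl', map_inv] at h5
    have h6 : (π n)⁻¹ * (π n * π (h.φ (ZFive.s i)) * (π n)⁻¹ *
        (π n * π (h.φ (ZFive.s j)) * (π n)⁻¹)) * (π n)⁻¹⁻¹ = π (h.φ (ZFive.s i * ZFive.s j)) := by
      rw [map_mul, map_mul]; group
    rwa [h6] at h5

include hz hπs hπ f2 in
theorem J_self {x : X} (hx : ∃ k : ℕ, x ^ (2 ^ k) = 1) (hc : ∀ j ∈ J h π, x * j = j * x) :
    x ∈ J h π := by
  have : Fact (Nat.Prime 2) := ⟨Nat.prime_two⟩
  have hJ2 : IsPGroup 2 (J h π) := (TX h π hπs).isPGroup'.to_le (J_le_TX h π hπs)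
  have hxn : x ∈ normalizer (J h π : Set X) := by
    refine mem_normalizer_of_conj' ?_
    intro j hj
    rw [hc j hj, mul_inv_cancel_right]
    exact hj
  have h1 : IsPGroup 2 (zpowers x ⊔ J h π : Subgroup X) := by
    refine (isPGroup_zpowers hx).to_sup_of_normal_right' hJ2 ?_
    rw [zpowers_le]; exact hxn
  obtain ⟨g, hg, hgP⟩ := conj_into h hz π hπs hπ f2 h1 le_sup_right
  obtain ⟨t, ht⟩ := mem_TX' h π hπs (hgP x (mem_sup_left (mem_zpowers x)))
  have h2 : t ∈ T.Q := by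
    refine ZModel.cent_J t ?_
    intro y hy
    rw [← pi_phi_comm h π hπ, ht]
    have h3 : π (h.φ y) ∈ J h π := ⟨_, ⟨y, hy, rfl⟩, rfl⟩
    have h4 : g⁻¹ * π (h.φ y) * g ∈ J h π := by
      have h5 := (mem_normalizer_iff.mp (inv_mem hg) _).mp h3
      rwa [inv_inv] at h5
    have h5 := hc _ h4
    calc g * x * g⁻¹ * π (h.φ y) = g * (x * (g⁻¹ * π (h.φ y) * g)) * g⁻¹ := by group
      _ = g * ((g⁻¹ * π (h.φ y) * g) * x) * g⁻¹ := by rw [h5]
      _ = _ := by group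
  refine (mem_normalizer_iff.mp hg x).mpr ?_
  rw [← ht]
  exact ⟨_, ⟨t, h2, rfl⟩, rfl⟩

omit [Finite G] [Finite X] in
theorem tau_conj_comm (x y : T) (hxy : x * y = y * x ∨ x * y = T.z * (y * x)) :
    (T.tau * x * T.tau⁻¹) * (T.tau * y * T.tau⁻¹) =
        (T.tau * y * T.tau⁻¹) * (T.tau * x * T.tau⁻¹) ∨
      (T.tau * x * T.tau⁻¹) * (T.tau * y * T.tau⁻¹) =
        T.z * ((T.tau * y * T.tau⁻¹) * (T.tau * x * T.tau⁻¹)) := by
  rcases hxy with h1 | h1
  · left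
    calc (T.tau * x * T.tau⁻¹) * (T.tau * y * T.tau⁻¹) = T.tau * (x * y) * T.tau⁻¹ := by group
      _ = T.tau * (y * x) * T.tau⁻¹ := by rw [h1]
      _ = _ := by group
  · right
    calc (T.tau * x * T.tau⁻¹) * (T.tau * y * T.tau⁻¹) = T.tau * (x * y) * T.tau⁻¹ := by group
      _ = T.tau * (T.z * (y * x)) * T.tau⁻¹ := by rw [h1]
      _ = T.z * T.tau * (y * x) * T.tau⁻¹ := by rw [T.z_comm T.tau]; group
      _ = _ := by group

include hz hπs hπ in
/-- involutions outside `J`, first case -/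
theorem PX_out1 {x : T} (hx : x ∈ T.E1) (hxU : x ∉ T.U) : PX (J h π) (π (h.φ x)) := by
  refine PX_of h π hz hπs hπ ?_
  have hE1 : h.E1 ≤ normalizer (h.Q : Set G) := by
    rintro _ ⟨t, -, rfl⟩
    exact phi_mem_NQ h t
  have key : ∀ c ∈ centralizer ({h.φ x} : Set G), ∃ k ∈ K (h.φ x),
      k * c ∈ normalizer (h.Q : Set G) := by
    intro c hc
    obtain ⟨k, hk, hkc⟩ := cent_e h hz hx hxU c hc
    exact ⟨k, hk, hE1 hkc⟩
  intro c hc
  rcases hc with hc | hc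
  · refine key c ?_
    rw [mem_centralizer_singleton_iff]
    calc c * h.φ x = (c * h.φ x * c⁻¹) * c := by group
      _ = h.φ x * c := by rw [hc]
  · obtain ⟨r, -, hr⟩ := ZModel.conj_mul_U x T.z hx hxU (by decide)
    have hrG : h.φ r * h.φ x * (h.φ r)⁻¹ = h.φ x * h.z := by
      rw [← map_inv, ← map_mul, ← map_mul, hr, map_mul]; rfl
    have h1 : c * h.φ r ∈ centralizer ({h.φ x} : Set G) := by
      rw [mem_centralizer_singleton_iff]
      have h3 : c * h.φ r * h.φ x * (c * h.φ r)⁻¹ = h.φ x := by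
        calc c * h.φ r * h.φ x * (c * h.φ r)⁻¹ = c * (h.φ r * h.φ x * (h.φ r)⁻¹) * c⁻¹ := by group
          _ = c * (h.φ x * h.z) * c⁻¹ := by rw [hrG]
          _ = (c * h.φ x * c⁻¹) * (c * h.z * c⁻¹) := by group
          _ = h.φ x * h.z * h.z := by rw [hc, hz c, mul_inv_cancel_right]
          _ = h.φ x := by rw [mul_assoc, zz, mul_one]
      calc c * h.φ r * h.φ x = (c * h.φ r * h.φ x * (c * h.φ r)⁻¹) * (c * h.φ r) := by group
        _ = h.φ x * (c * h.φ r) := by rw [h3]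
    obtain ⟨k, hk, hkc⟩ := key _ h1
    refine ⟨k, hk, ?_⟩
    have h3 := mul_mem hkc (inv_mem (phi_mem_NQ h r))
    have h4 : k * (c * h.φ r) * (h.φ r)⁻¹ = k * c := by group
    rwa [h4] at h3

include hz hπs hπ in
theorem out_all {t : X} (ht : t ∈ TX h π hπs) (htJ : t ∉ J h π) (ht2 : orderOf t = 2) :
    PX (J h π) t ∧ ∃ x ∈ J h π, ∃ y ∈ J h π, x ≠ 1 ∧ y ≠ 1 ∧ x ≠ y ∧
      x * t = t * x ∧ y * t = t * y := by
  obtain ⟨x, rfl⟩ := mem_TX' h π hπs ht
  have hxQ : x ∉ T.Q := fun h1 => htJ ⟨_, ⟨x, h1, rfl⟩, rfl⟩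
  have hxU : x ∉ T.U := fun h1 => hxQ (T.U_le_Q h1)
  have hxx : x * x = 1 := by
    have h1 : π (h.φ (x * x)) = 1 := by
      rw [map_mul, map_mul, ← pow_two, ← ht2, pow_orderOf_eq_one]
    rw [hπ] at h1
    rcases h1 with h1 | h1
    · exact h.inj (by rw [h1, map_one])
    · exact absurd (ZModel.sq_z_mem_Q x (h.inj h1)) hxQ
  have hvJ : π h.v ∈ J h π := ⟨_, ⟨T.v, (by decide : T.v ∈ T.Q), rfl⟩, rfl⟩
  have hv1 : π h.v ≠ 1 := by
    intro h1
    have h2 : π (h.φ T.v) = π (h.φ 1) := by rw [map_one, map_one]; exact h1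
    rcases (pi_phi_eq h π hπ _ _).mp h2 with h3 | h3
    · exact absurd h3 (by decide)
    · exact absurd h3 (by decide)
  have hvx : π h.v * π (h.φ x) = π (h.φ x) * π h.v :=
    (pi_phi_comm h π hπ T.v x).mpr (ZModel.v_comm x)
  -- it is enough to find an element `y`
  have hend : (∃ y : T, y ∈ T.Q ∧ y ∉ T.U ∧ (x * y = y * x ∨ x * y = T.z * (y * x))) →
      ∃ a ∈ J h π, ∃ b ∈ J h π, a ≠ 1 ∧ b ≠ 1 ∧ a ≠ b ∧
        a * π (h.φ x) = π (h.φ x) * a ∧ b * π (h.φ x) = π (h.φ x) * b := by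
    rintro ⟨y, hy, hyU, hxy⟩
    have hyne : ∀ u : T, u ∈ T.U → π (h.φ y) ≠ π (h.φ u) := by
      intro u hu h1
      rcases (pi_phi_eq h π hπ _ _).mp h1 with h3 | h3
      · exact hyU (by rw [h3]; exact hu)
      · exact hyU (by rw [h3]; exact mul_mem hu (by decide))
    refine ⟨π h.v, hvJ, π (h.φ y), ⟨_, ⟨y, hy, rfl⟩, rfl⟩, hv1, ?_, ?_, hvx, ?_⟩
    · intro h1
      exact hyne 1 (one_mem _) (by rw [h1, map_one, map_one])
    · intro h1
      exact hyne T.v (by decide) h1.symm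
    · exact ((pi_phi_comm h π hπ x y).mpr hxy).symm
  rcases ZModel.sq_one x hxx with h1 | h1 | h1
  · exact absurd h1 hxQ
  · exact ⟨PX_out1 h hz π hπs hπ h1 hxU, hend (ZModel.exists_comm_Q x h1 hxU)⟩
  · have h2 : T.tau * x * T.tau⁻¹ ∈ T.E1 := T.tau_swap' x h1
    have h3 : T.tau * x * T.tau⁻¹ ∉ T.U := by
      intro h4
      have h5 := T.U_normal _ T.tau⁻¹ h4
      have h6 : T.tau⁻¹ * (T.tau * x * T.tau⁻¹) * T.tau⁻¹⁻¹ = x := by group
      rw [h6] at h5
      exact hxU h5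
    have htt : T.tau⁻¹ = T.tau := by decide
    have hback : T.tau * (T.tau * x * T.tau⁻¹) * T.tau⁻¹ = x := by
      have h4 : T.tau * T.tau = 1 := by decide
      rw [htt]
      calc T.tau * (T.tau * x * T.tau) * T.tau = (T.tau * T.tau) * x * (T.tau * T.tau) := by group
        _ = x := by rw [h4]; group
    refine ⟨?_, hend ?_⟩
    · have h4 := PX_out1 h hz π hπs hπ h2 h3
      have h5 := PX_conj ((mem_NJ h π hπ _).mpr (phi_mem_NQ h T.tau)) h4
      have h6 : π (h.φ T.tau) * π (h.φ (T.tau * x * T.tau⁻¹)) * (π (h.φ T.tau))⁻¹ =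
          π (h.φ x) := by
        rw [← map_inv, ← map_inv, ← map_mul, ← map_mul, ← map_mul, ← map_mul, hback]
      rwa [h6] at h5
    · obtain ⟨y, hy, hyU, hxy⟩ := ZModel.exists_comm_Q _ h2 h3
      refine ⟨T.tau * y * T.tau⁻¹, T.Q_normal y T.tau hy, ?_, ?_⟩
      · intro h4
        have h5 := T.U_normal _ T.tau⁻¹ h4
        have h6 : T.tau⁻¹ * (T.tau * y * T.tau⁻¹) * T.tau⁻¹⁻¹ = y := by group
        rw [h6] at h5
        exact hyU h5
      · have h4 := tau_conj_comm _ y hxy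
        rw [hback] at h4
        exact h4

omit [Finite G] in
include hπ in
theorem J_card : 8 ≤ Nat.card (J h π) := by
  have h3 : Function.Injective
      (fun i : Fin 8 => (⟨π (h.φ (ZFive.q8 i)), ⟨_, ⟨_, ZFive.q8_mem i, rfl⟩, rfl⟩⟩ : J h π)) := by
    intro i j hij
    have h4 := congrArg Subtype.val hij
    exact ZFive.q8_inj i j ((pi_phi_eq h π hπ _ _).mp h4)
  have h4 := Nat.card_le_card_of_injective _ h3
  rwa [Nat.card_fin] at h4

omit [Finite G] [Finite X] in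
include hz hπs hπ in
theorem two_classes : ∃ x y : X, orderOf x = 2 ∧ orderOf y = 2 ∧ ¬ IsConj x y := by
  have ho : ∀ t : T, t ∈ T.Q → t ≠ 1 → t ≠ T.z → orderOf (π (h.φ t)) = 2 := by
    intro t ht ht1 htz
    refine orderOf_eq_prime ?_ ?_
    · rw [pow_two]
      exact J_sq h π hπ _ ⟨_, ⟨t, ht, rfl⟩, rfl⟩
    · intro h1
      have h2 : π (h.φ t) = π (h.φ 1) := by rw [h1, map_one, map_one]
      rcases (pi_phi_eq h π hπ _ _).mp h2 with h3 | h3
      · exact ht1 h3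
      · exact htz (by rw [h3, one_mul])
  refine ⟨π (h.φ T.v), π (h.φ (T.v * T.tau)), ho _ (by decide) (by decide) (by decide),
    ho _ (by decide) (by decide) (by decide), ?_⟩
  intro hc
  obtain ⟨c, hc⟩ := isConj_iff.mp hc
  obtain ⟨c, rfl⟩ := hπs c
  rw [← map_inv, ← map_mul, ← map_mul, pi_eq h π hπ] at hc
  have h1 : (c * h.φ T.v * c⁻¹) * (c * h.φ T.v * c⁻¹) = 1 := by
    calc (c * h.φ T.v * c⁻¹) * (c * h.φ T.v * c⁻¹) = c * (h.φ T.v * h.φ T.v) * c⁻¹ := by group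
      _ = 1 := by
        rw [← map_mul]
        have : T.v * T.v = 1 := by decide
        rw [this, map_one]; group
  have h2 : h.φ (T.v * T.tau) * h.φ (T.v * T.tau) = h.z := by
    rw [← map_mul]
    have : T.v * T.tau * (T.v * T.tau) = T.z := by decide
    rw [this]; rfl
  rcases hc with hc | hc
  · rw [hc, h2] at h1
    exact z_ne_one h h1
  · rw [hc] at h1
    apply z_ne_one h
    calc h.z = (h.φ (T.v * T.tau) * h.φ (T.v * T.tau)) * (h.z * h.z) := by rw [zz, mul_one, h2]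
      _ = h.φ (T.v * T.tau) * (h.φ (T.v * T.tau) * h.z) * h.z := by group
      _ = h.φ (T.v * T.tau) * (h.z * h.φ (T.v * T.tau)) * h.z := by
          rw [hz (h.φ (T.v * T.tau))]
      _ = h.φ (T.v * T.tau) * h.z * (h.φ (T.v * T.tau) * h.z) := by group
      _ = 1 := h1

include hz hπs hπ f2 in
theorem main_X (hSF : SolvFun.{u}) (hFT : OddSolv.{u}) (hZS : ZStar.{u}) :
    ∀ x : X, ∃ k ∈ Cfsg.oddCore X, k * x ∈ normalizer (J h π : Set X) :=
  main hSF hFT (TX h π hπs) (J h π) (J_le_TX h π hπs) (hNT h hz π hπs hπ) (J_sq h π hπ)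
    (J_card h π hπ) (fun _ hx hc => J_self h hz π hπs hπ f2 hx hc)
    (fun _ hv hv1 => PX_all h hz π hπs hπ f2 hSF hFT hZS hv hv1)
    (fun _ ht htJ ht2 => out_all h hz π hπs hπ ht htJ ht2)
    (two_classes h hz π hπs hπ)

end points

/-- the final result for `z` central -/
theorem main_z {G : Type u} [Group G] [Finite G] (h : Setup G) (hz : ∀ g : G, g * h.z = h.z * g)
    (f2 : ∃ g : G, (∀ x ∈ h.Q, g * x * g⁻¹ ∈ h.Q) ∧ g * h.tau * g⁻¹ = h.v)
    (hSF : SolvFun.{u}) (hFT : OddSolv.{u}) (hZS : ZStar.{u}) :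
    ∀ g : G, ∃ k ∈ Cfsg.oddCore G, k * g ∈ normalizer (h.Q : Set G) := by
  have hN : (zpowers h.z).Normal := by
    refine ⟨fun n hn g => ?_⟩
    obtain ⟨k, rfl⟩ := mem_zpowers_iff.mp hn
    have h1 : Commute g h.z := hz g
    rw [(h1.zpow_right k).eq, mul_inv_cancel_right]
    exact hn
  have hNmem : ∀ x : G, x ∈ zpowers h.z ↔ x = 1 ∨ x = h.z := by
    intro x
    constructor
    · intro hx
      obtain ⟨k, rfl⟩ := mem_zpowers_iff.mp hx
      rcases Int.even_or_odd k with ⟨m, hm⟩ | ⟨m, hm⟩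
      · left
        rw [hm, ← two_mul, zpow_mul, zpow_two, zz, one_zpow]
      · right
        rw [hm, zpow_add, zpow_mul, zpow_two, zz, one_zpow, one_mul, zpow_one]
    · rintro (rfl | rfl)
      · exact one_mem _
      · exact mem_zpowers _
  set N : Subgroup G := zpowers h.z with hNdef
  set π : G →* G ⧸ N := QuotientGroup.mk' N with hπd
  have hπs : Function.Surjective π := QuotientGroup.mk'_surjective N
  have hπ : ∀ x : G, π x = 1 ↔ x = 1 ∨ x = h.z := fun x =>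
    (QuotientGroup.eq_one_iff x).trans (hNmem x)
  have hmain := main_X h hz π hπs hπ f2 hSF hFT hZS
  set P0 : Subgroup G := (Cfsg.oddCore (G ⧸ N)).comap π with hP0
  have hOn : (Cfsg.oddCore (G ⧸ N)).Normal := Lib.Cores.pPrimeCore_normal 2
  have hP0n : P0.Normal := hOn.comap π
  obtain ⟨L, hLP, hLodd, hLmem, hLdec⟩ := exists_odd_part (Z := P0) (J := N) (by
      intro x hx
      rcases (hNmem x).mp hx with rfl | rfl
      · exact one_mul 1
      · exact zz h)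
    (by
      intro j hj z _
      rcases (hNmem j).mp hj with rfl | rfl
      · rw [one_mul, mul_one]
      · exact hz z) (by
      rintro z hz ⟨k, hk⟩
      rw [hNmem, ← hπ]
      have h3 : Odd (orderOf (π z)) := odd_orderOf_of_mem (oddCore_odd _) hz
      have h4 : (π z) ^ (2 ^ k) = 1 := by rw [← map_pow, hk, map_one]
      have h5 : orderOf (π z) ∣ 2 ^ k := orderOf_dvd_of_pow_eq_one h4
      have h6 : Nat.Coprime (orderOf (π z)) (2 ^ k) :=
        Nat.Coprime.pow_right _ (Nat.coprime_two_right.mpr h3)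
      exact orderOf_eq_one_iff.mp (Nat.Coprime.eq_one_of_dvd h6 h5))
  have hLn : L.Normal := by
    refine ⟨fun l hl g => ?_⟩
    refine hLmem _ (hP0n.conj_mem l (hLP hl) g) ?_
    rw [TwoFusion.StronglyEmbeddedBasic.orderOf_conj]
    exact odd_orderOf_of_mem hLodd hl
  have hLO : L ≤ Cfsg.oddCore G := by
    refine Lib.Cores.le_pPrimeCore hLn ?_
    rwa [Nat.coprime_two_right]
  intro m
  obtain ⟨k, hk, hkm⟩ := hmain (π m)
  obtain ⟨k0, rfl⟩ := hπs k
  obtain ⟨j, hj, l, hl, rfl⟩ := hLdec k0 hk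
  refine ⟨l, hLO hl, (mem_NJ h π hπ _).mp ?_⟩
  have h3 : π (j * l) = π l := by
    rw [map_mul, (hπ j).mpr ((hNmem j).mp hj), one_mul]
  rw [h3, ← map_mul] at hkm
  exact hkm

end Cfsg.Agent.J2Sylow.ZX
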