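import Mathlib
import Cfsg.Agent.J2Sylow.ZX

/-!
# The action of `N(Q)` on the five points of `Q / <z>` (`z` central)
-/

set_option autoImplicit false

namespace Cfsg.Agent.J2Sylow.ZPerm

open Subgroup Model Model.F4 ZSylow ZFusion Cfsg.Agent.J2Sylow.Functor ZCent ZAct ZQuot ZStab ZX
open Equiv
open ZFive (s)

universe u

section facts

/-- the four even permutations of exponent 2 fixing 0 -/
def D : Fin 4 → Perm (Fin 5) :=
  ![1, swap 1 2 * swap 3 4, swap 1 3 * swap 2 4, swap 1 4 * swap 2 3]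

theorem D_sign : ∀ k, Perm.sign (D k) = 1 := by decide +kernel
theorem D_cover : ∀ a : Perm (Fin 5), a * a = 1 → Perm.sign a = 1 → a 0 = 0 → ∃ k, a = D k := by
  decide +kernel
theorem D_fix : ∀ a : Perm (Fin 5), a * a = 1 → ∃ i, a i = i := by
  decide +kernel
theorem D_real : ∀ k, ∃ t : T, ∀ i, t * s i * t⁻¹ = s (D k i) ∨
    t * s i * t⁻¹ = s (D k i) * T.z := by
  decide +kernel
theorem T_perm : ∀ t : T, ∃ k, ∀ i, t * s i * t⁻¹ = s (D k i) ∨
    t * s i * t⁻¹ = s (D k i) * T.z := by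
  decide +kernel
theorem alt_gen : ∀ σ : Perm (Fin 5), Perm.sign σ = 1 →
    ∃ a : Perm (Fin 5), a * a = 1 ∧ Perm.sign a = 1 ∧ (a * σ) * (a * σ) = 1 := by
  decide +kernel

/-- the sign change `ε` applied to `s i` -/
def se (ε : Fin 5 → Bool) (i : Fin 5) : T := if ε i then s i * T.z else s i

theorem s_prod : s 0 * s 1 * s 2 * s 3 * s 4 = 1 ∨ s 0 * s 1 * s 2 * s 3 * s 4 = T.z := by
  decide +kernel

theorem inner : ∀ ε : Fin 5 → Bool,
    se ε 0 * se ε 1 * se ε 2 * se ε 3 * se ε 4 = s 0 * s 1 * s 2 * s 3 * s 4 →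
    ∃ q : T, q ∈ T.Q ∧ ∀ i, q * s i * q⁻¹ = se ε i := by
  decide +kernel

theorem Q_fix : ∀ q : T, q ∈ T.Q → ∀ i, q * s i * q⁻¹ = s i ∨ q * s i * q⁻¹ = s i * T.z := by
  decide +kernel

theorem z_prod : T.z = s 0 * s 1 * (s 0 * s 1) := by decide +kernel

end facts

variable {G : Type u} [Group G] [Finite G] (h : Setup G) (hz : ∀ g : G, g * h.z = h.z * g)

/-- `n` maps the point `i` to the point `j` -/
def Rel (n : G) (i j : Fin 5) : Prop :=
  n * h.φ (s i) * n⁻¹ = h.φ (s j) ∨ n * h.φ (s i) * n⁻¹ = h.φ (s j) * h.z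

omit [Finite G] in
theorem Rel.unique {n : G} {i j k : Fin 5} (h1 : Rel h n i j) (h2 : Rel h n i k) : j = k := by
  apply phi_s_inj h
  rcases h1 with h1 | h1 <;> rcases h2 with h2 | h2
  · left; rw [← h1, h2]
  · right; rw [← h1, h2]
  · right
    rw [h1] at h2
    rw [← h2, mul_assoc, zz, mul_one]
  · left
    rw [h1] at h2
    exact mul_right_cancel h2

omit [Finite G] in
include hz in
theorem Rel.mul {m n : G} {i j k : Fin 5} (h1 : Rel h n i j) (h2 : Rel h m j k) :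
    Rel h (m * n) i k := by
  have e1 : m * n * h.φ (s i) * (m * n)⁻¹ = m * (n * h.φ (s i) * n⁻¹) * m⁻¹ := by group
  have e2 : m * (h.φ (s j) * h.z) * m⁻¹ = (m * h.φ (s j) * m⁻¹) * h.z := by
    have h4 : h.z * m⁻¹ = m⁻¹ * h.z := (hz m⁻¹).symm
    calc m * (h.φ (s j) * h.z) * m⁻¹ = m * h.φ (s j) * (h.z * m⁻¹) := by group
      _ = m * h.φ (s j) * (m⁻¹ * h.z) := by rw [h4]
      _ = _ := by group
  unfold Rel
  rw [e1]
  rcases h1 with h1 | h1 <;> rcases h2 with h2 | h2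
  · left; rw [h1, h2]
  · right; rw [h1, h2]
  · right; rw [h1, e2, h2]
  · left; rw [h1, e2, h2, mul_assoc, zz, mul_one]

omit [Finite G] in
theorem Rel.one (i : Fin 5) : Rel h (1 : G) i i := by
  left; rw [one_mul, inv_one, mul_one]

omit [Finite G] in
theorem Rel.phi {t : T} {i j : Fin 5} (ht : t * s i * t⁻¹ = s j ∨ t * s i * t⁻¹ = s j * T.z) :
    Rel h (h.φ t) i j := by
  unfold Rel
  rw [← map_inv, ← map_mul, ← map_mul]
  rcases ht with h1 | h1
  · left; rw [h1]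
  · right; rw [h1, map_mul]; rfl

/-- the action -/
noncomputable def act (hz : ∀ g : G, g * h.z = h.z * g) (n : normalizer (h.Q : Set G))
    (i : Fin 5) : Fin 5 :=
  Classical.choose (NQ_perm h hz n.2 i)

omit [Finite G] in
theorem act_spec (n : normalizer (h.Q : Set G)) (i : Fin 5) : Rel h n i (act h hz n i) :=
  Classical.choose_spec (NQ_perm h hz n.2 i)

omit [Finite G] in
theorem act_eq {n : normalizer (h.Q : Set G)} {i j : Fin 5} (hr : Rel h n i j) :
    act h hz n i = j := Rel.unique h (act_spec h hz n i) hr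

omit [Finite G] in
theorem act_mul (m n : normalizer (h.Q : Set G)) (i : Fin 5) :
    act h hz (m * n) i = act h hz m (act h hz n i) :=
  act_eq h hz (Rel.mul h hz (act_spec h hz n i) (act_spec h hz m _))

omit [Finite G] in
theorem act_one (i : Fin 5) : act h hz 1 i = i := act_eq h hz (Rel.one h i)

/-- the permutation representation -/
noncomputable def ψ : normalizer (h.Q : Set G) →* Perm (Fin 5) where
  toFun n := ⟨act h hz n, act h hz n⁻¹, fun i => by
      rw [← act_mul, inv_mul_cancel, act_one], fun i => by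
      rw [← act_mul, mul_inv_cancel, act_one]⟩
  map_one' := by
    ext i
    show ((act h hz 1 i : Fin 5) : ℕ) = _
    rw [act_one]; rfl
  map_mul' m n := by
    ext i
    show ((act h hz (m * n) i : Fin 5) : ℕ) = (act h hz m (act h hz n i) : Fin 5)
    rw [act_mul]

omit [Finite G] in
theorem psi_spec (n : normalizer (h.Q : Set G)) (i : Fin 5) : Rel h n i (ψ h hz n i) :=
  act_spec h hz n i

omit [Finite G] in
theorem psi_eq {n : normalizer (h.Q : Set G)} {σ : Perm (Fin 5)} (hr : ∀ i, Rel h n i (σ i)) :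
    ψ h hz n = σ := by
  ext i
  rw [Rel.unique h (psi_spec h hz n i) (hr i)]

theorem psi_phi (t : T) : ∃ k, ψ h hz ⟨h.φ t, phi_mem_NQ h t⟩ = D k := by
  obtain ⟨k, hk⟩ := T_perm t
  exact ⟨k, psi_eq h hz fun i => Rel.phi h (hk i)⟩

theorem psi_D (k : Fin 4) : D k ∈ (ψ h hz).range := by
  obtain ⟨t, ht⟩ := D_real k
  exact ⟨⟨h.φ t, phi_mem_NQ h t⟩, psi_eq h hz fun i => Rel.phi h (ht i)⟩

theorem S_le_NQ : h.S ≤ normalizer (h.Q : Set G) := by
  rintro _ ⟨t, rfl⟩
  exact phi_mem_NQ h t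

theorem sign_psi (n : normalizer (h.Q : Set G)) : Perm.sign (ψ h hz n) = 1 := by
  obtain ⟨p, q, hp, hq, hp2, hq2, hpq⟩ := exists_parts n
  have h1 : Perm.sign (ψ h hz p) = 1 := by
    have hp2' : ∃ k : ℕ, ((p : G)) ^ (2 ^ k) = 1 := by
      obtain ⟨k, hk⟩ := hp2
      exact ⟨k, by rw [← Subgroup.coe_pow, hk]; rfl⟩
    obtain ⟨c, hc, hcP⟩ := exists_conj_le_of_max (S_le_NQ h) (isPGroup_S h)
      (fun P hP hSP _ => max_S h P hP hSP) (zpowers (p : G)) (isPGroup_zpowers hp2')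
      (by rw [zpowers_le]; exact p.2)
    obtain ⟨t, ht⟩ := hcP _ (mem_zpowers _)
    obtain ⟨k, hk⟩ := psi_phi h hz t
    have h2 : (⟨h.φ t, phi_mem_NQ h t⟩ : normalizer (h.Q : Set G)) = ⟨c, hc⟩ * p * ⟨c, hc⟩⁻¹ := by
      apply Subtype.ext
      exact ht
    rw [h2, map_mul, map_mul, map_inv] at hk
    have h3 := D_sign k
    rw [← hk, map_mul, map_mul, map_inv, mul_right_comm, mul_inv_cancel, one_mul] at h3
    exact h3
  have h2 : Perm.sign (ψ h hz q) = 1 := by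
    have h3 : (Perm.sign (ψ h hz q)) ^ (orderOf q) = 1 := by
      rw [← map_pow, ← map_pow, pow_orderOf_eq_one, map_one, map_one]
    obtain ⟨m, hm⟩ := hq2
    rw [hm, pow_add, pow_mul, pow_one, Int.units_sq, one_pow, one_mul] at h3
    exact h3
  rw [← hpq, map_mul, map_mul, h1, h2, one_mul]

variable (f2 : ∃ g : G, (∀ x ∈ h.Q, g * x * g⁻¹ ∈ h.Q) ∧ g * h.tau * g⁻¹ = h.v)

include f2 in
theorem mem_range_of_inv {a : Perm (Fin 5)} (ha : a * a = 1) (hs : Perm.sign a = 1) :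
    a ∈ (ψ h hz).range := by
  obtain ⟨i, hi⟩ := D_fix a ha
  obtain ⟨n, hn, hni⟩ := exists_move h f2 i
  set m : Perm (Fin 5) := ψ h hz ⟨n, hn⟩ with hm
  have hmi : m i = 0 := by
    refine Rel.unique h (psi_spec h hz ⟨n, hn⟩ i) ?_
    left
    exact hni
  have hb0 : (m * a * m⁻¹) 0 = 0 := by
    have h1 : m⁻¹ 0 = i := by rw [← hmi]; exact Equiv.symm_apply_apply m i
    rw [Perm.mul_apply, Perm.mul_apply, h1, hi, hmi]
  have hb2 : (m * a * m⁻¹) * (m * a * m⁻¹) = 1 := by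
    calc (m * a * m⁻¹) * (m * a * m⁻¹) = m * (a * a) * m⁻¹ := by group
      _ = 1 := by rw [ha]; group
  have hbs : Perm.sign (m * a * m⁻¹) = 1 := by
    rw [map_mul, map_mul, map_inv, mul_right_comm, mul_inv_cancel, one_mul, hs]
  obtain ⟨k, hk⟩ := D_cover _ hb2 hbs hb0
  have h1 : a = m⁻¹ * D k * m := by rw [← hk]; group
  have h2 : m ∈ (ψ h hz).range := ⟨_, rfl⟩
  rw [h1]
  exact mul_mem (mul_mem (inv_mem h2) (psi_D h hz k)) h2

include f2 in
theorem range_psi : (ψ h hz).range = alternatingGroup (Fin 5) := by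
  apply le_antisymm
  · rintro _ ⟨n, rfl⟩
    exact Perm.mem_alternatingGroup.mpr (sign_psi h hz n)
  · intro σ hσ
    have hσ' := Perm.mem_alternatingGroup.mp hσ
    obtain ⟨a, ha, has, haσ⟩ := alt_gen σ hσ'
    have h1 := mem_range_of_inv h hz f2 ha has
    have h2 := mem_range_of_inv h hz f2 haσ (by rw [map_mul, has, hσ', one_mul])
    have h3 := mul_mem (inv_mem h1) h2
    have h4 : a⁻¹ * (a * σ) = σ := by group
    rwa [h4] at h3

omit [Finite G] in
/-- an element commuting with all the points centralizes `Q` -/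
theorem comm_Q_of {c : G} (hz : ∀ g : G, g * h.z = h.z * g)
    (hc : ∀ i, c * h.φ (s i) * c⁻¹ = h.φ (s i)) : ∀ x ∈ h.Q, c * x = x * c := by
  have h1 : ∀ i, c * h.φ (s i) = h.φ (s i) * c := fun i => mul_inv_eq_iff_eq_mul.mp (hc i)
  have h2 : ∀ i j, c * h.φ (s i * s j) = h.φ (s i * s j) * c := by
    intro i j
    rw [map_mul, ← mul_assoc, h1, mul_assoc, h1, mul_assoc]
  have h3 : ∀ t : T, c * h.φ t = h.φ t * c → c * h.φ (t * T.z) = h.φ (t * T.z) * c := by
    intro t ht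
    rw [map_mul, ← mul_assoc, ht, mul_assoc, mul_assoc]
    congr 1
    exact hz c
  rintro _ ⟨t, ht, rfl⟩
  rcases ZModel.Q_sq t ht with h4 | h4
  · rcases ZFive.s_cover t ht h4 with h5 | h5 | ⟨i, h5 | h5⟩
    · rw [h5, map_one, mul_one, one_mul]
    · rw [h5]; exact hz c
    · rw [h5]; exact h1 i
    · rw [h5]; exact h3 _ (h1 i)
  · obtain ⟨i, j, -, h5 | h5⟩ := ZFive.s_cover4 t ht h4
    · rw [h5]; exact h2 i j
    · rw [h5]; exact h3 _ (h2 i j)

omit [Finite G] in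
/-- the kernel of the action is `Q C(Q)` -/
theorem ker_psi {n : normalizer (h.Q : Set G)} (hn : ψ h hz n = 1) :
    ∃ q ∈ h.Q, ∀ x ∈ h.Q, (q⁻¹ * n) * x = x * (q⁻¹ * n) := by
  classical
  have h1 : ∀ i, Rel h (n : G) i i := by
    intro i
    have h2 := psi_spec h hz n i
    rwa [hn, Perm.one_apply] at h2
  set ε : Fin 5 → Bool := fun i => decide ((n : G) * h.φ (s i) * (n : G)⁻¹ ≠ h.φ (s i)) with hε
  have h2 : ∀ i, (n : G) * h.φ (s i) * (n : G)⁻¹ = h.φ (se ε i) := by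
    intro i
    unfold se
    by_cases h3 : (n : G) * h.φ (s i) * (n : G)⁻¹ = h.φ (s i)
    · have h4 : ε i = false := by simp [hε, h3]
      rw [h4]
      exact h3
    · have h4 : ε i = true := by simp [hε, h3]
      rw [h4]
      simp only [if_true]
      rw [map_mul]
      exact (h1 i).resolve_left h3
  have h3 : (n : G) * h.φ (s 0 * s 1 * s 2 * s 3 * s 4) * (n : G)⁻¹ =
      h.φ (se ε 0 * se ε 1 * se ε 2 * se ε 3 * se ε 4) := by
    rw [map_mul, map_mul, map_mul, map_mul, map_mul, map_mul, map_mul, map_mul, ← h2, ← h2, ← h2,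
      ← h2, ← h2]
    group
  have h4 : (n : G) * h.φ (s 0 * s 1 * s 2 * s 3 * s 4) * (n : G)⁻¹ =
      h.φ (s 0 * s 1 * s 2 * s 3 * s 4) := by
    rcases s_prod with h5 | h5
    · rw [h5, map_one, mul_one, mul_inv_cancel]
    · rw [h5]
      show (n : G) * h.z * (n : G)⁻¹ = h.z
      rw [hz, mul_inv_cancel_right]
  rw [h4] at h3
  obtain ⟨q, hq, hqi⟩ := inner ε (h.inj h3).symm
  refine ⟨h.φ q, ⟨q, hq, rfl⟩, comm_Q_of h hz ?_⟩
  intro i
  have h5 : (h.φ q)⁻¹ * (n : G) * h.φ (s i) * ((h.φ q)⁻¹ * (n : G))⁻¹ =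
      (h.φ q)⁻¹ * ((n : G) * h.φ (s i) * (n : G)⁻¹) * h.φ q := by group
  rw [h5, h2, ← hqi, map_mul, map_mul, map_inv]
  group

end Cfsg.Agent.J2Sylow.ZPerm
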