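import Mathlib
import Cfsg.Agent.J2Sylow.ZPerm

/-!
# The structure of the centralizer of `z` modulo its core (`z` central)
-/

set_option autoImplicit false

namespace Cfsg.Agent.J2Sylow.ZFinal

open Subgroup Model Model.F4 ZSylow ZFusion Cfsg.Agent.J2Sylow.Functor ZCent ZAct ZQuot ZStab ZX
  ZPerm ZNonsing
open Equiv
open ZFive (s)

universe u

variable {G : Type u} [Group G] [Finite G] (h : Setup G) (hz : ∀ g : G, g * h.z = h.z * g)
  (f2 : ∃ g : G, (∀ x ∈ h.Q, g * x * g⁻¹ ∈ h.Q) ∧ g * h.tau * g⁻¹ = h.v)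

omit [Finite G] in
theorem Q_le_S : h.Q ≤ h.S := map_le_S h _

theorem Q_inf_odd {N : Subgroup G} (hN : Odd (Nat.card N)) {x : G} (hx : x ∈ h.Q) (hxN : x ∈ N) :
    x = 1 := by
  have h1 : Odd (orderOf x) := odd_orderOf_of_mem hN hxN
  obtain ⟨k, hk⟩ := isPGroup_S h ⟨x, Q_le_S h hx⟩
  have h2 : x ^ 2 ^ k = 1 := by
    have h3 := congrArg Subtype.val hk
    exact h3
  have h5 : orderOf x ∣ 2 ^ k := orderOf_dvd_of_pow_eq_one h2
  have h6 : Nat.Coprime (orderOf x) (2 ^ k) :=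
    Nat.Coprime.pow_right _ (Nat.coprime_two_right.mpr h1)
  exact orderOf_eq_one_iff.mp (Nat.Coprime.eq_one_of_dvd h6 h5)

include hz f2 in
theorem two_centQ {p : G} (hp2 : ∃ k : ℕ, p ^ (2 ^ k) = 1) (hp : ∀ x ∈ h.Q, p * x = x * p) :
    p = 1 ∨ p = h.z := by
  have hpn : p ∈ normalizer (h.Q : Set G) := by
    refine mem_normalizer_of_conj' ?_
    intro x hx
    rw [hp x hx, mul_inv_cancel_right]
    exact hx
  have h1 : IsPGroup 2 (zpowers p ⊔ h.Q : Subgroup G) := by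
    refine (isPGroup_zpowers hp2).to_sup_of_normal_right' (isPGroup_of_le h (Q_le_S h)) ?_
    rw [zpowers_le]; exact hpn
  obtain ⟨g, hg⟩ := exists_conj h _ h1
  have hgn : g ∈ normalizer (h.Q : Set G) := by
    refine mem_normalizer_of_conj' ?_
    intro x hx
    exact closed_Q h hz f2 hx (hg x (mem_sup_right hx))
  obtain ⟨t, ht⟩ := hg p (mem_sup_left (mem_zpowers p))
  have h2 : t = 1 ∨ t = T.z := by
    refine ZModel.cent_Q t ?_
    intro y hy
    apply h.inj
    rw [map_mul, map_mul, ht]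
    have h3 : h.φ y ∈ h.Q := ⟨y, hy, rfl⟩
    have h4 : g⁻¹ * h.φ y * g ∈ h.Q := by
      have h5 := (mem_normalizer_iff.mp (inv_mem hgn) _).mp h3
      rwa [inv_inv] at h5
    have h5 := hp _ h4
    calc g * p * g⁻¹ * h.φ y = g * (p * (g⁻¹ * h.φ y * g)) * g⁻¹ := by group
      _ = g * ((g⁻¹ * h.φ y * g) * p) * g⁻¹ := by rw [h5]
      _ = _ := by group
  have h3 : p = g⁻¹ * h.φ t * g := by rw [ht]; group
  rcases h2 with h2 | h2
  · left; rw [h3, h2, map_one]; group
  · right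
    rw [h3, h2]
    show g⁻¹ * h.z * g = h.z
    rw [mul_assoc, ← hz g, ← mul_assoc, inv_mul_cancel, one_mul]

include hz f2 in
/-- `C(Q) ≤ <z> O(G)` -/
theorem centQ (hSF : SolvFun.{u}) (hFT : OddSolv.{u}) (hZS : ZStar.{u}) {c : G}
    (hc : ∀ x ∈ h.Q, c * x = x * c) : c ∈ h.Q ⊔ Cfsg.oddCore G := by
  obtain ⟨p, q, hp, hq, hp2, hq2, hpq⟩ := exists_parts c
  have hcC : c ∈ centralizer (h.Q : Set G) := by
    rw [mem_centralizer_iff]
    intro x hx
    exact (hc x hx).symm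
  have hpC : p ∈ centralizer (h.Q : Set G) := (zpowers_le.mpr hcC) hp
  have hqC : q ∈ centralizer (h.Q : Set G) := (zpowers_le.mpr hcC) hq
  have hpQ : p ∈ h.Q := by
    rcases two_centQ h hz f2 hp2 (fun x hx => (mem_centralizer_iff.mp hpC x hx).symm) with h1 | h1
    · rw [h1]; exact one_mem _
    · rw [h1]; exact z_mem_Q h
  obtain ⟨L, hLZ, hLodd, hLmem, -⟩ := exists_odd_part (Z := centralizer (h.Q : Set G))
    (J := zpowers h.z) (by
      intro x hx
      obtain ⟨k, rfl⟩ := mem_zpowers_iff.mp hx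
      rw [← zpow_add, ← two_mul, zpow_mul, zpow_two, zz, one_zpow]) (by
      intro j hj z _
      obtain ⟨k, rfl⟩ := mem_zpowers_iff.mp hj
      have h1 : Commute z h.z := hz z
      exact (h1.zpow_right k).eq) (by
      intro z hzC hz2
      rcases two_centQ h hz f2 hz2 (fun x hx => (mem_centralizer_iff.mp hzC x hx).symm) with h1 | h1
      · rw [h1]; exact one_mem _
      · rw [h1]; exact mem_zpowers _)
  have hOn : (Cfsg.oddCore G).Normal := Lib.Cores.pPrimeCore_normal 2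
  have hLO : L ≤ Cfsg.oddCore G := by
    refine absorb (H := ⊤) (normalizer (h.Q : Set G) : Set G) le_top (oddCore_odd G)
      (fun c _ k hk => hOn.conj_mem k hk c) ?_
      (fun c _ => main_z h hz f2 hSF hFT hZS c) le_top hLodd ?_
    · intro N _ h1 h2
      have hN : N.Normal := ⟨fun n hn g => h2 g (mem_top g) n hn⟩
      refine Lib.Cores.le_pPrimeCore hN ?_
      rwa [Nat.coprime_two_right]
    · intro n hn _ l hl
      refine hLmem _ ?_ ?_
      · rw [mem_centralizer_iff]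
        intro x hx
        have h1 : n⁻¹ * x * n ∈ h.Q := by
          have h2 := (mem_normalizer_iff.mp (inv_mem hn) x).mp hx
          rwa [inv_inv] at h2
        have h2 := mem_centralizer_iff.mp (hLZ hl) _ h1
        calc x * (n * l * n⁻¹) = n * ((n⁻¹ * x * n) * l) * n⁻¹ := by group
          _ = n * (l * (n⁻¹ * x * n)) * n⁻¹ := by rw [h2]
          _ = _ := by group
      · rw [TwoFusion.StronglyEmbeddedBasic.orderOf_conj]
        exact odd_orderOf_of_mem hLodd hl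
  rw [← hpq]
  exact mul_mem (mem_sup_left hpQ) (mem_sup_right (hLO (hLmem q hqC hq2)))

include hz f2 in
theorem normal_M (hSF : SolvFun.{u}) (hFT : OddSolv.{u}) (hZS : ZStar.{u}) :
    (h.Q ⊔ Cfsg.oddCore G).Normal := by
  have hOn : (Cfsg.oddCore G).Normal := Lib.Cores.pPrimeCore_normal 2
  refine ⟨fun x hx g => ?_⟩
  obtain ⟨k, hk, hkg⟩ := main_z h hz f2 hSF hFT hZS g
  rw [← SetLike.mem_coe, Subgroup.mul_normal, Set.mem_mul] at hx
  obtain ⟨a, ha, b, hb, rfl⟩ := hx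
  have h1 : g * (a * b) * g⁻¹ = k⁻¹ * ((k * g) * a * (k * g)⁻¹) * k * (g * b * g⁻¹) := by group
  rw [h1]
  refine mul_mem (mul_mem (mul_mem (mem_sup_right (inv_mem hk)) (mem_sup_left ?_))
    (mem_sup_right hk)) (mem_sup_right (hOn.conj_mem b hb g))
  exact (mem_normalizer_iff.mp hkg a).mp ha

include hz f2 in
theorem cent_M (hSF : SolvFun.{u}) (hFT : OddSolv.{u}) (hZS : ZStar.{u}) {g : G}
    (hg : ∀ x ∈ h.Q, g * x * g⁻¹ * x⁻¹ ∈ Cfsg.oddCore G) : g ∈ h.Q ⊔ Cfsg.oddCore G := by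
  have hOn : (Cfsg.oddCore G).Normal := Lib.Cores.pPrimeCore_normal 2
  obtain ⟨k, hk, hkg⟩ := main_z h hz f2 hSF hFT hZS g
  have h1 : ∀ x ∈ h.Q, (k * g) * x = x * (k * g) := by
    intro x hx
    have h2 : (k * g) * x * (k * g)⁻¹ * x⁻¹ ∈ Cfsg.oddCore G := by
      have h3 : (k * g) * x * (k * g)⁻¹ * x⁻¹ =
          k * (g * x * g⁻¹ * x⁻¹) * (x * k⁻¹ * x⁻¹) := by group
      rw [h3]
      exact mul_mem (mul_mem hk (hg x hx)) (hOn.conj_mem _ (inv_mem hk) x)
    have h3 : (k * g) * x * (k * g)⁻¹ * x⁻¹ ∈ h.Q :=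
      mul_mem ((mem_normalizer_iff.mp hkg x).mp hx) (inv_mem hx)
    have h4 := Q_inf_odd h (oddCore_odd G) h3 h2
    calc (k * g) * x = ((k * g) * x * (k * g)⁻¹ * x⁻¹) * (x * (k * g)) := by group
      _ = x * (k * g) := by rw [h4, one_mul]
  have h2 := centQ h hz f2 hSF hFT hZS h1
  have h3 : g = k⁻¹ * (k * g) := by group
  rw [h3]
  exact mul_mem (mem_sup_right (inv_mem hk)) h2

include hz f2 in
theorem quot_M (hSF : SolvFun.{u}) (hFT : OddSolv.{u}) (hZS : ZStar.{u})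
    (hM : (h.Q ⊔ Cfsg.oddCore G).Normal) :
    Nonempty ((G ⧸ (h.Q ⊔ Cfsg.oddCore G)) ≃* alternatingGroup (Fin 5)) := by
  have hOn : (Cfsg.oddCore G).Normal := Lib.Cores.pPrimeCore_normal 2
  set M : Subgroup G := h.Q ⊔ Cfsg.oddCore G with hMdef
  set Φ : normalizer (h.Q : Set G) →* G ⧸ M :=
    (QuotientGroup.mk' M).comp (normalizer (h.Q : Set G)).subtype with hΦ
  have hΦs : Function.Surjective Φ := by
    intro y
    obtain ⟨g, rfl⟩ := QuotientGroup.mk'_surjective M y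
    obtain ⟨k, hk, hkg⟩ := main_z h hz f2 hSF hFT hZS g
    refine ⟨⟨k * g, hkg⟩, ?_⟩
    show QuotientGroup.mk' M (k * g) = _
    rw [map_mul]
    have h1 : QuotientGroup.mk' M k = 1 := (QuotientGroup.eq_one_iff k).mpr (mem_sup_right hk)
    rw [h1, one_mul]
  have hker : Φ.ker = (ψ h hz).ker := by
    ext n
    rw [MonoidHom.mem_ker, MonoidHom.mem_ker]
    have h1 : Φ n = 1 ↔ (n : G) ∈ M := QuotientGroup.eq_one_iff (n : G)
    rw [h1]
    constructor
    · intro hn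
      rw [hMdef, ← SetLike.mem_coe, Subgroup.mul_normal, Set.mem_mul] at hn
      obtain ⟨a, ha, b, hb, hab⟩ := hn
      have hbN : b ∈ normalizer (h.Q : Set G) := by
        have h2 : b = a⁻¹ * n := by rw [← hab]; group
        rw [h2]
        exact mul_mem (inv_mem (le_normalizer ha)) n.2
      have hbc : ∀ x ∈ h.Q, b * x * b⁻¹ = x := by
        intro x hx
        have h2 : b * x * b⁻¹ * x⁻¹ ∈ Cfsg.oddCore G := by
          have h3 : b * x * b⁻¹ * x⁻¹ = b * (x * b⁻¹ * x⁻¹) := by group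
          rw [h3]
          exact mul_mem hb (hOn.conj_mem _ (inv_mem hb) x)
        have h3 : b * x * b⁻¹ * x⁻¹ ∈ h.Q :=
          mul_mem ((mem_normalizer_iff.mp hbN x).mp hx) (inv_mem hx)
        exact mul_inv_eq_one.mp (Q_inf_odd h (oddCore_odd G) h3 h2)
      refine psi_eq h hz fun i => ?_
      obtain ⟨q, hq, rfl⟩ := ha
      have h2 : (n : G) * h.φ (s i) * (n : G)⁻¹ = h.φ (q * s i * q⁻¹) := by
        rw [← hab, map_mul, map_mul, map_inv]
        calc h.φ q * b * h.φ (s i) * (h.φ q * b)⁻¹ =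
            h.φ q * (b * h.φ (s i) * b⁻¹) * (h.φ q)⁻¹ := by group
          _ = _ := by rw [hbc _ ⟨s i, ZFive.s_mem i, rfl⟩]
      unfold ZPerm.Rel
      rw [h2, Perm.one_apply]
      rcases Q_fix q hq i with h3 | h3
      · left; rw [h3]
      · right; rw [h3, map_mul]; rfl
    · intro hn
      obtain ⟨q, hq, hqn⟩ := ker_psi h hz hn
      have h2 := centQ h hz f2 hSF hFT hZS hqn
      have h3 : (n : G) = q * (q⁻¹ * n) := by group
      rw [h3]
      exact mul_mem (mem_sup_left hq) h2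
  exact ⟨(QuotientGroup.quotientKerEquivOfSurjective Φ hΦs).symm.trans
    ((QuotientGroup.quotientMulEquivOfEq hker).trans
      ((QuotientGroup.quotientKerEquivRange (ψ h hz)).trans
        (MulEquiv.subgroupCongr (range_psi h hz f2))))⟩

end Cfsg.Agent.J2Sylow.ZFinal
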