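import Mathlib
import Cfsg.Agent.J2Sylow.ZFinal

/-!
# The centralizer of `z` modulo its core
-/

set_option autoImplicit false

namespace Cfsg.Agent.J2Sylow

open Subgroup Model Cfsg.Agent.J2Sylow.Functor
open Cfsg.Agent.J2Sylow.ZNonsing (ZStar)

universe u

/-- the structure of the centralizer of `z` -/
structure CentZ {G : Type*} [Group G] (h : Setup G) : Prop where
  normal : ((h.Q ⊔ K h.z).subgroupOf (centralizer ({h.z} : Set G))).Normal
  quot : Nonempty (↥(centralizer ({h.z} : Set G)) ⧸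
      ((h.Q ⊔ K h.z).subgroupOf (centralizer ({h.z} : Set G))) ≃* alternatingGroup (Fin 5))
  cent : ∀ g : G, g * h.z = h.z * g → (∀ x ∈ h.Q, g * x * g⁻¹ * x⁻¹ ∈ K h.z) → g ∈ h.Q ⊔ K h.z

namespace CentZBuild

section

variable {G : Type*} [Group G] (h : Setup G)

theorem phi_mem (t : T) : h.φ t ∈ centralizer ({h.z} : Set G) := by
  rw [mem_centralizer_singleton_iff]
  show h.φ t * h.φ T.z = h.φ T.z * h.φ t
  rw [← map_mul, ← map_mul, T.z_comm]

/-- the homomorphism `T → C(z)` -/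
def phiC : T →* centralizer ({h.z} : Set G) := h.φ.codRestrict _ (phi_mem h)

theorem phiC_coe (t : T) : (phiC h t : G) = h.φ t := rfl

theorem range_phiC : (phiC h).range = h.S.subgroupOf (centralizer ({h.z} : Set G)) := by
  ext x
  rw [mem_subgroupOf]
  constructor
  · rintro ⟨t, rfl⟩; exact ⟨t, rfl⟩
  · rintro ⟨t, ht⟩; exact ⟨t, Subtype.ext ht⟩

/-- the induced set-up on `C(z)` -/
def setupC : Setup (centralizer ({h.z} : Set G)) where
  φ := phiC h
  inj := by
    intro x y hxy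
    exact h.inj (congrArg Subtype.val hxy)
  odd_index := by
    rw [range_phiC]
    have h1 : h.S ≤ centralizer ({h.z} : Set G) := by
      rintro _ ⟨t, rfl⟩
      exact phi_mem h t
    have h2 := relIndex_mul_index h1
    have h3 : Odd (h.S.index) := h.odd_index
    rw [← h2] at h3
    exact (Nat.odd_mul.mp h3).1

theorem map_Q : (setupC h).Q.map (centralizer ({h.z} : Set G)).subtype = h.Q := by
  ext x
  constructor
  · rintro ⟨_, ⟨t, ht, rfl⟩, rfl⟩
    exact ⟨t, ht, rfl⟩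
  · rintro ⟨t, ht, rfl⟩
    exact ⟨phiC h t, ⟨t, ht, rfl⟩, rfl⟩

theorem mem_QC (x : centralizer ({h.z} : Set G)) : x ∈ (setupC h).Q ↔ (x : G) ∈ h.Q := by
  rw [← map_Q h]
  exact (mem_map_iff_mem (centralizer ({h.z} : Set G)).subtype_injective).symm

theorem mem_OC (x : centralizer ({h.z} : Set G)) :
    x ∈ Cfsg.oddCore (centralizer ({h.z} : Set G)) ↔ (x : G) ∈ K h.z :=
  (mem_map_iff_mem (centralizer ({h.z} : Set G)).subtype_injective).symm

theorem sup_eq : (h.Q ⊔ K h.z).subgroupOf (centralizer ({h.z} : Set G)) =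
    (setupC h).Q ⊔ Cfsg.oddCore (centralizer ({h.z} : Set G)) := by
  have h1 : ((setupC h).Q ⊔ Cfsg.oddCore (centralizer ({h.z} : Set G))).map
      (centralizer ({h.z} : Set G)).subtype = h.Q ⊔ K h.z := by
    rw [Subgroup.map_sup, map_Q]; rfl
  rw [← h1]
  ext x
  rw [mem_subgroupOf]
  exact mem_map_iff_mem (centralizer ({h.z} : Set G)).subtype_injective

theorem hzC : ∀ g : centralizer ({h.z} : Set G), g * (setupC h).z = (setupC h).z * g := by
  intro g
  apply Subtype.ext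
  exact mem_centralizer_singleton_iff.mp g.2

theorem f2C (f2 : ∃ g : G, g * h.z = h.z * g ∧ (∀ x ∈ h.Q, g * x * g⁻¹ ∈ h.Q) ∧
      g * h.tau * g⁻¹ = h.v) :
    ∃ g : centralizer ({h.z} : Set G), (∀ x ∈ (setupC h).Q, g * x * g⁻¹ ∈ (setupC h).Q) ∧
      g * (setupC h).tau * g⁻¹ = (setupC h).v := by
  obtain ⟨g, hg1, hg2, hg3⟩ := f2
  refine ⟨⟨g, mem_centralizer_singleton_iff.mpr hg1⟩, ?_, ?_⟩
  · intro x hx
    rw [mem_QC] at hx ⊢
    exact hg2 x hx
  · apply Subtype.ext
    exact hg3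

end

theorem quot_congr {C : Type*} [Group C] {A B : Subgroup C} (hAB : A = B) (_ : A.Normal)
    (_ : B.Normal) (hq : Nonempty (C ⧸ A ≃* alternatingGroup (Fin 5))) :
    Nonempty (C ⧸ B ≃* alternatingGroup (Fin 5)) := by
  subst hAB
  exact hq

end CentZBuild

open CentZBuild

/-- **The structure of the centralizer of `z`.**  Only the fusion `f2` in `C(z)` is used. -/
theorem centZ_of' (hSF : SolvFun.{u}) (hFT : OddSolv.{u}) (hZS : ZStar.{u}) {G : Type u} [Group G]
    [Finite G] (h : Setup G)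
    (f2 : ∃ g : G, g * h.z = h.z * g ∧ (∀ x ∈ h.Q, g * x * g⁻¹ ∈ h.Q) ∧
      g * h.tau * g⁻¹ = h.v) : CentZ h := by
  have hN := ZFinal.normal_M (setupC h) (hzC h) (f2C h f2) hSF hFT hZS
  have hN' : ((h.Q ⊔ K h.z).subgroupOf (centralizer ({h.z} : Set G))).Normal := by
    rw [sup_eq h]; exact hN
  refine ⟨hN', ?_, ?_⟩
  · exact quot_congr (sup_eq h).symm hN hN'
      (ZFinal.quot_M (setupC h) (hzC h) (f2C h f2) hSF hFT hZS hN)
  · intro g hg hgQ
    have h1 := ZFinal.cent_M (setupC h) (hzC h) (f2C h f2) hSF hFT hZS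
      (g := ⟨g, mem_centralizer_singleton_iff.mpr hg⟩) (by
        intro x hx
        rw [mem_OC]
        exact hgQ x ((mem_QC h x).mp hx))
    rw [← sup_eq h, mem_subgroupOf] at h1
    exact h1

theorem centZ_of (hSF : SolvFun.{u}) (hFT : OddSolv.{u}) (hZS : ZStar.{u}) {G : Type u} [Group G]
    [Finite G] (h : Setup G) (F : Fused h) : CentZ h := centZ_of' hSF hFT hZS h F.f2

end Cfsg.Agent.J2Sylow
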