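import Mathlib
import Cfsg.Agent.S1665
import Cfsg.Agent.J2.ExtQuot
import Cfsg.Agent.J2Sylow.Setup

/-!
The final step of the characterisation of `J₂` and `J₃` by a Sylow 2-subgroup: `C(z) = Q : A₅`.
-/

set_option autoImplicit false

namespace Cfsg.Agent.J2Sylow.Final

open Cfsg Subgroup Model

theorem zQ : T.z ∈ T.Q := by decide

theorem dec_center : ∀ x : T, x ∈ T.Q → (∀ y : T, y ∈ T.Q → y * x = x * y) → x = 1 ∨ x = T.z := by
  decide +kernel

theorem dec_sq : ∀ x : T, x ∈ T.Q → x * x = 1 ∨ x * x = T.z := by decide +kernel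

theorem dec_nonab : ∃ x y : T, x ∈ T.Q ∧ y ∈ T.Q ∧ x * y ≠ y * x := by decide +kernel

theorem dec_comm : ∀ x y : T, x ∈ T.Q → y ∈ T.Q → x * x = 1 → y * y = 1 → x * y = y * x →
    x = 1 ∨ x = T.z ∨ y = 1 ∨ y = T.z ∨ y = x ∨ y = x * T.z := by decide +kernel

theorem z_ne : T.z ≠ 1 := by decide

/-- the model of the extraspecial group -/
theorem isExtraspecial_Q : Cfsg.IsExtraspecial 2 T.Q := by
  haveI : Fact (Nat.Prime 2) := ⟨Nat.prime_two⟩
  have hP : IsPGroup 2 T.Q := by
    rw [IsPGroup.iff_card]; exact ⟨5, by rw [T.card_Q]; norm_num⟩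
  have hz : (⟨T.z, zQ⟩ : T.Q) ∈ center T.Q := by
    rw [mem_center_iff]
    intro g
    exact Subtype.ext (T.z_comm g).symm
  have hc : ∀ x : T.Q, x ∈ center T.Q ↔ (x = 1 ∨ x = ⟨T.z, zQ⟩) := by
    intro x
    constructor
    · intro hx
      rw [mem_center_iff] at hx
      rcases dec_center x x.2 (fun y hy => congrArg Subtype.val (hx ⟨y, hy⟩)) with h | h
      · left; exact Subtype.ext h
      · right; exact Subtype.ext h
    · rintro (rfl | rfl)
      · exact one_mem _
      · exact hz
  have hset : ((center T.Q : Subgroup T.Q) : Set T.Q) = {1, ⟨T.z, zQ⟩} := by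
    ext x
    exact hc x
  refine J2.ExtQuot.isExtraspecial_two hP ?_ ?_ ?_
  · show Nat.card ((center T.Q : Subgroup T.Q) : Set T.Q) = 2
    rw [hset, Nat.card_coe_set_eq, Set.ncard_pair]
    intro h
    exact z_ne (congrArg Subtype.val h).symm
  · intro x
    rw [hc]
    rcases dec_sq x x.2 with h | h
    · left; rw [pow_two]; exact Subtype.ext h
    · right; rw [pow_two]; exact Subtype.ext h
  · obtain ⟨x, y, hx, hy, hxy⟩ := dec_nonab
    exact ⟨⟨x, hx⟩, ⟨y, hy⟩, fun h => hxy (congrArg Subtype.val h)⟩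

/-- elementary abelian subgroups of the extraspecial group -/
theorem card_le_four {P : Type*} [Group P] (e : P ≃* T.Q) (E : Subgroup P)
    (hE : Cfsg.IsElementaryAbelian 2 E) : Nat.card E ≤ 2 ^ 2 := by
  classical
  haveI : Finite P := Finite.of_equiv _ e.symm.toEquiv
  have hcomm : ∀ x ∈ E, ∀ y ∈ E, x * y = y * x := by
    intro x hx y hy
    have := hE.1.is_comm.comm (⟨x, hx⟩ : E) ⟨y, hy⟩
    exact congrArg Subtype.val this
  have hsq : ∀ x ∈ E, x * x = 1 := fun x hx => by rw [← pow_two]; exact hE.2 x hx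
  let f : P → T := fun x => (e x : T)
  have hf : Function.Injective f := fun x y h => e.injective (Subtype.ext h)
  have hfm : ∀ x y : P, f (x * y) = f x * f y := fun x y => by simp [f]
  have hf1 : f 1 = 1 := by simp [f]
  -- the image is contained in a set with four elements
  have key : ∃ s : Finset T, s.card ≤ 4 ∧ ∀ x ∈ E, f x ∈ s := by
    by_cases h : ∃ x ∈ E, f x ≠ 1 ∧ f x ≠ T.z
    · obtain ⟨x, hx, h1, h2⟩ := h
      refine ⟨{1, T.z, f x, f x * T.z}, Finset.card_le_four, ?_⟩
      intro y hy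
      have hx2 : f x * f x = 1 := by rw [← hfm, hsq x hx, hf1]
      have hy2 : f y * f y = 1 := by rw [← hfm, hsq y hy, hf1]
      have hxy : f x * f y = f y * f x := by rw [← hfm, hcomm x hx y hy, hfm]
      simp only [Finset.mem_insert, Finset.mem_singleton]
      rcases dec_comm (f x) (f y) (e x).2 (e y).2 hx2 hy2 hxy with h3 | h3 | h3 | h3 | h3 | h3
      · exact absurd h3 h1
      · exact absurd h3 h2
      · left; exact h3
      · right; left; exact h3
      · right; right; left; exact h3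
      · right; right; right; exact h3
    · push Not at h
      refine ⟨{1, T.z}, (Finset.card_le_two).trans (by norm_num), ?_⟩
      intro y hy
      simp only [Finset.mem_insert, Finset.mem_singleton]
      by_cases h1 : f y = 1
      · left; exact h1
      · right; exact h y hy h1
  obtain ⟨s, hs, hsE⟩ := key
  have h1 : Nat.card E ≤ Nat.card s :=
    Nat.card_le_card_of_injective (fun x : E => (⟨f x, hsE x x.2⟩ : s))
      (fun x y h => by
        have h2 : f x = f y := congrArg (fun w : s => (w : T)) h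
        exact Subtype.ext (hf h2))
  rw [Nat.card_eq_fintype_card (α := s), Fintype.card_coe] at h1
  omega

variable {G : Type*} [Group G] [Finite G]

omit [Finite G] in
theorem z_mem_Q (h : Setup G) : h.z ∈ h.Q := ⟨T.z, zQ, rfl⟩

omit [Finite G] in
theorem orderOf_z (h : Setup G) : orderOf h.z = 2 := by
  have h1 : orderOf T.z = 2 := orderOf_eq_prime (by decide) z_ne
  rw [← h1]
  exact orderOf_injective h.φ h.inj T.z

omit [Finite G] in
theorem Q_le (h : Setup G) : h.Q ≤ centralizer ({h.z} : Set G) := by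
  rintro _ ⟨x, -, rfl⟩
  rw [mem_centralizer_singleton_iff]
  show h.φ x * h.φ T.z = h.φ T.z * h.φ x
  rw [← map_mul, ← map_mul, T.z_comm]

/-- the isomorphism of `Q` with its model -/
noncomputable def equivQ (h : Setup G) : (h.Q.subgroupOf (centralizer ({h.z} : Set G))) ≃* T.Q :=
  (subgroupOfEquivOfLe (Q_le h)).trans (T.Q.equivMapOfInjective h.φ h.inj).symm

omit [Finite G] in
/-- the data about `C(z)` needed for the recognition theorems -/
theorem data (h : Setup G)
    (hc : ∀ g, g * h.z = h.z * g → (∀ x ∈ h.Q, g * x = x * g) → g ∈ h.Q) :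
    Cfsg.IsExtraspecial 2 (h.Q.subgroupOf (centralizer ({h.z} : Set G))) ∧
    Nat.card (h.Q.subgroupOf (centralizer ({h.z} : Set G))) = 32 ∧
    (∀ E : Subgroup (h.Q.subgroupOf (centralizer ({h.z} : Set G))),
      Cfsg.IsElementaryAbelian 2 E → Nat.card E ≤ 2 ^ 2) ∧
    centralizer ((h.Q.subgroupOf (centralizer ({h.z} : Set G)) :
      Subgroup (centralizer ({h.z} : Set G))) : Set (centralizer ({h.z} : Set G))) ≤
      h.Q.subgroupOf (centralizer ({h.z} : Set G)) := by
  refine ⟨J2.ExtQuot.isExtraspecial_of_equiv (equivQ h).symm isExtraspecial_Q, ?_,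
    fun E hE => card_le_four (equivQ h) E hE, ?_⟩
  · rw [Nat.card_congr (equivQ h).toEquiv, T.card_Q]
  · intro x hx
    rw [mem_subgroupOf]
    refine hc x (mem_centralizer_singleton_iff.mp x.2) ?_
    intro q hq
    have h1 := (mem_centralizer_iff.mp hx) ⟨q, Q_le h hq⟩ (mem_subgroupOf.mpr hq)
    exact (congrArg Subtype.val h1).symm

/-- The final step for `J₂`. -/
theorem isoJ2_of [IsSimpleGroup G] (h : Setup G)
    (hN : (h.Q.subgroupOf (centralizer ({h.z} : Set G))).Normal)
    (hq : Nonempty ((centralizer ({h.z} : Set G)) ⧸ h.Q.subgroupOf (centralizer ({h.z} : Set G)) ≃*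
      alternatingGroup (Fin 5)))
    (hc : ∀ g, g * h.z = h.z * g → (∀ x ∈ h.Q, g * x = x * g) → g ∈ h.Q)
    (hcl : ∃ e : G, ∀ t : G, orderOf t = 2 → IsConj h.z t ∨ IsConj e t)
    (hone : ¬ ∀ x y : G, orderOf x = 2 → orderOf y = 2 → IsConj x y) :
    Cfsg.Spor.IsoJ2 G := by
  haveI := hN
  obtain ⟨eA⟩ := hq
  obtain ⟨e, he⟩ := hcl
  obtain ⟨hQ, hcard, hminus, h2c⟩ := data h hc
  refine S1665.result h.z (orderOf_z h) _ hQ hcard hminus h2c eA ?_
  -- `e` is an involution, not conjugate to `z`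
  have hex : ∃ t : G, orderOf t = 2 ∧ ¬ IsConj h.z t := by
    by_contra hcon
    push Not at hcon
    exact hone fun x y hx hy => (hcon x hx).symm.trans (hcon y hy)
  obtain ⟨t, ht2, htz⟩ := hex
  have het : IsConj e t := (he t ht2).resolve_left htz
  refine ⟨h.z, t, orderOf_z h, ht2, htz, ?_⟩
  intro x hx
  rcases he x hx with h1 | h1
  · left; exact h1.symm
  · right; exact h1.symm.trans het

end Cfsg.Agent.J2Sylow.Final
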