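import Mathlib
import Cfsg.Agent.S1658
import Cfsg.Agent.J2Sylow.Final

/-!
The final step of the characterisation of `J₂` and `J₃` by a Sylow 2-subgroup: `C(z) = Q : A₅`.
-/

set_option autoImplicit false

namespace Cfsg.Agent.J2Sylow.FinalJ3

open Cfsg Subgroup Model Cfsg.Agent.J2Sylow.Final

variable {G : Type*} [Group G] [Finite G]

/-- The final step for `J₃`. -/
theorem isoJ3_of [IsSimpleGroup G] (h : Setup G)
    (hN : (h.Q.subgroupOf (centralizer ({h.z} : Set G))).Normal)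
    (hq : Nonempty ((centralizer ({h.z} : Set G)) ⧸ h.Q.subgroupOf (centralizer ({h.z} : Set G)) ≃*
      alternatingGroup (Fin 5)))
    (hc : ∀ g, g * h.z = h.z * g → (∀ x ∈ h.Q, g * x = x * g) → g ∈ h.Q)
    (hone : ∀ x y : G, orderOf x = 2 → orderOf y = 2 → IsConj x y) :
    Cfsg.Spor.IsoJ3 G := by
  haveI := hN
  obtain ⟨eA⟩ := hq
  obtain ⟨hQ, hcard, hminus, h2c⟩ := data h hc
  exact S1658.result h.z (orderOf_z h) _ hQ hcard hminus h2c eA hone

/-- The final step. -/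
theorem isoJ2_or_isoJ3 [IsSimpleGroup G] (h : Setup G)
    (hN : (h.Q.subgroupOf (centralizer ({h.z} : Set G))).Normal)
    (hq : Nonempty ((centralizer ({h.z} : Set G)) ⧸ h.Q.subgroupOf (centralizer ({h.z} : Set G)) ≃*
      alternatingGroup (Fin 5)))
    (hc : ∀ g, g * h.z = h.z * g → (∀ x ∈ h.Q, g * x = x * g) → g ∈ h.Q)
    (hcl : ∃ e : G, ∀ t : G, orderOf t = 2 → IsConj h.z t ∨ IsConj e t) :
    Cfsg.Spor.IsoJ2 G ∨ Cfsg.Spor.IsoJ3 G := by
  by_cases hone : ∀ x y : G, orderOf x = 2 → orderOf y = 2 → IsConj x y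
  · right
    exact isoJ3_of h hN hq hc hone
  · left
    exact isoJ2_of h hN hq hc hcl hone

end Cfsg.Agent.J2Sylow.FinalJ3
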