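import Mathlib
import Cfsg.Agent.J2Sylow.Fusion

set_option autoImplicit false

/-!
# Consequences of the fusion: classes of involutions
-/

namespace Cfsg.Agent.J2Sylow.Model.T

open F4

/-- the involution `t` of `E1` outside `U` -/
def t : T := ⟨e, o, o, false⟩

theorem t_mem_E1 : t ∈ E1 := by decide
theorem t_not_mem_U : t ∉ U := by decide

theorem inv_cases : ∀ x : T, x * x = 1 → x.s = true ∨ x ∈ U ∨ (x ∈ E1 ∧ x ∉ U) ∨
    (tau * x * tau⁻¹ ∈ E1 ∧ tau * x * tau⁻¹ ∉ U) := by decide +kernel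

theorem E1_form : ∀ x : T, x ∈ E1 → x ∉ U → ∃ r : T, r * x * r⁻¹ = ⟨x.a, o, o, false⟩ := by
  decide +kernel

theorem E2_form : ∀ x : T, x ∈ E2 → x ∉ U →
    ∃ r : T, r * x * r⁻¹ = ⟨o, x.b, o, false⟩ := by
  decide +kernel

theorem tau_form : ∀ a : F4, tau * ⟨a, o, o, false⟩ * tau⁻¹ = ⟨o, fr a, o, false⟩ := by
  decide +kernel

theorem comm_form : ∀ a b c c' : F4, (⟨a, o, c, false⟩ : T) * ⟨o, b, c', false⟩
    * (⟨a, o, c, false⟩ : T)⁻¹ * (⟨o, b, c', false⟩ : T)⁻¹ = ⟨o, o, a * b, false⟩ := by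
  decide +kernel

theorem E1_add : ∀ x y : T, x ∈ E1 → y ∈ E1 → (x * y).a = x.a + y.a := by decide +kernel
theorem E2_add : ∀ x y : T, x ∈ E2 → y ∈ E2 → (x * y).b = x.b + y.b := by decide +kernel

theorem Q_inv_cases : ∀ x : T, x ∈ Q → x * x = 1 → x.s = true ∨ x ∈ U := by decide +kernel

/-- The key finite computation. `p1, q1` are the images of `e, w` under an additive map `F1`
and so on. -/
theorem threeCycle : ∀ p1 q1 p2 q2 : F4,
    (p1 * p2 ≠ e ∧ p1 * q2 ≠ w ∧ p1 * p2 + p1 * q2 ≠ u ∧ p1 * p2 ≠ o ∧ p1 * q2 ≠ o ∧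
    p1 * p2 + p1 * q2 ≠ o ∧ p1 * q2 = q1 * p2 ∧ q1 * q2 = p1 * p2 + p1 * q2) →
    (p1 ≠ e ∧ q1 ≠ w ∧ p1 + q1 ≠ u) ∨ (p2 ≠ e ∧ q2 ≠ w ∧ p2 + q2 ≠ u) := by
  decide +kernel

end Cfsg.Agent.J2Sylow.Model.T

namespace Cfsg.Agent.J2Sylow.Setup

open Model Subgroup

variable {G : Type*} [Group G] (h : Setup G)

/-- `t`, an involution of `E1` outside `U` -/
def t : G := h.φ T.t

/-- An element acting as a 3-cycle on `U` and normalising `E1` and `E2`. -/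
theorem exists_three_cycle [Finite G] (hf : Fused h) : ∃ k : G,
    (∀ x ∈ h.E1, k * x * k⁻¹ ∈ h.E1) ∧ (∀ x ∈ h.E2, k * x * k⁻¹ ∈ h.E2) ∧
    k * h.z * k⁻¹ ≠ h.z ∧ k * h.v * k⁻¹ ≠ h.v ∧ k * h.φ (T.v * T.z) * k⁻¹ ≠ h.φ (T.v * T.z) := by
  -- first a 3-cycle on U in N(R)
  have key : ∀ g : G, (∀ x ∈ h.R, g * x * g⁻¹ ∈ h.R) →
      (g * h.z * g⁻¹ = h.v → g * h.v * g⁻¹ = h.φ (T.v * T.z) →
      ∃ k : G,
    (∀ x ∈ h.E1, k * x * k⁻¹ ∈ h.E1) ∧ (∀ x ∈ h.E2, k * x * k⁻¹ ∈ h.E2) ∧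
    k * h.z * k⁻¹ ≠ h.z ∧ k * h.v * k⁻¹ ≠ h.v ∧
      k * h.φ (T.v * T.z) * k⁻¹ ≠ h.φ (T.v * T.z)) := by
    intro g hgR hgz hgv
    have hvz : h.φ (T.v * T.z) = h.v * h.z := map_mul _ _ _
    have hgvz : g * h.φ (T.v * T.z) * g⁻¹ = h.z := by
      have h1 : g * (h.v * h.z) * g⁻¹ = (g * h.v * g⁻¹) * (g * h.z * g⁻¹) := by group
      rw [hvz, h1, hgv, hgz]
      show h.φ (T.v * T.z) * h.φ T.v = h.φ T.z
      rw [← map_mul]
      congr 1
    have hne1 : h.v ≠ h.z := fun h0 => absurd (h.inj h0) (by decide)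
    have hne2 : h.φ (T.v * T.z) ≠ h.z := fun h0 => absurd (h.inj h0) (by decide)
    have hne3 : h.φ (T.v * T.z) ≠ h.v := fun h0 => absurd (h.inj h0) (by decide)
    have hgE1 := h.conj_E1 g (fun x hx => h.R_le_S (hgR _ (h.phi_mem_R.2 (T.E1_le_R hx))))
    have hgE2 := h.conj_E2 g (fun x hx => h.R_le_S (hgR _ (h.phi_mem_R.2 (T.E2_le_R hx))))
    -- g cannot map both to the same
    have hsq : (∀ x ∈ h.E1, (g * g) * x * (g * g)⁻¹ ∈ h.E1) ∧
        (∀ x ∈ h.E2, (g * g) * x * (g * g)⁻¹ ∈ h.E2) := by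
      have hfin : ∀ (A B : Subgroup G), (∀ x ∈ A, g * x * g⁻¹ ∈ B) → Nat.card A = Nat.card B →
          A.map (MulAut.conj g).toMonoidHom = B := by
        intro A B hAB hc
        refine Subgroup.eq_of_le_of_card_ge ?_ ?_
        · rintro _ ⟨x, hx, rfl⟩
          exact hAB x hx
        · rw [← hc]
          exact (Nat.card_congr (A.equivMapOfInjective _ (MulAut.conj g).injective).toEquiv).le
      have hinj : Function.Injective (fun A : Subgroup G => A.map (MulAut.conj g).toMonoidHom) :=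
        Subgroup.map_injective (MulAut.conj g).injective
      have hE12 : h.E1 ≠ h.E2 := by
        intro h0
        have h1 : h.φ T.t ∈ h.E2 := h0 ▸ h.phi_mem_E1.2 T.t_mem_E1
        exact absurd (h.phi_mem_E2.1 h1) (by decide)
      have c1 : Nat.card h.E1 = 16 := by
        rw [← T.card_E1]; exact h.card_map T.E1
      have c2 : Nat.card h.E2 = 16 := by
        rw [← T.card_E2]; exact h.card_map T.E2
      have e1 : (∀ x ∈ h.E1, g * x * g⁻¹ ∈ h.E1) ∨ (∀ x ∈ h.E1, g * x * g⁻¹ ∈ h.E2) := by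
        rcases hgE1 with h1 | h1
        · left; rintro _ ⟨x, hx, rfl⟩; exact h1 x hx
        · right; rintro _ ⟨x, hx, rfl⟩; exact h1 x hx
      have e2 : (∀ x ∈ h.E2, g * x * g⁻¹ ∈ h.E1) ∨ (∀ x ∈ h.E2, g * x * g⁻¹ ∈ h.E2) := by
        rcases hgE2 with h1 | h1
        · left; rintro _ ⟨x, hx, rfl⟩; exact h1 x hx
        · right; rintro _ ⟨x, hx, rfl⟩; exact h1 x hx
      rcases e1 with e1 | e1 <;> rcases e2 with e2 | e2
      · exact absurd (hinj ((hfin _ _ e1 rfl).trans (hfin _ _ e2 (c2.trans c1.symm)).symm)) hE12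
      · refine ⟨fun x hx => ?_, fun x hx => ?_⟩
        · have := e1 _ (e1 x hx)
          simpa [mul_assoc] using this
        · have := e2 _ (e2 x hx)
          simpa [mul_assoc] using this
      · refine ⟨fun x hx => ?_, fun x hx => ?_⟩
        · have := e2 _ (e1 x hx)
          simpa [mul_assoc] using this
        · have := e1 _ (e2 x hx)
          simpa [mul_assoc] using this
      · exact absurd (hinj ((hfin _ _ e1 (c1.trans c2.symm)).trans (hfin _ _ e2 rfl).symm)) hE12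
    have hcomp : ∀ x, (g * g) * x * (g * g)⁻¹ = g * (g * x * g⁻¹) * g⁻¹ := fun x => by group
    refine ⟨g * g, hsq.1, hsq.2, ?_, ?_, ?_⟩
    · rw [hcomp, hgz, hgv]
      exact hne2
    · rw [hcomp, hgv, hgvz]
      exact hne1.symm
    · rw [hcomp, hgvz, hgz]
      exact hne3.symm
  have hvz : h.φ (T.v * T.z) = h.v * h.z := map_mul _ _ _
  obtain ⟨g, hgR, hgv⟩ := hf.f1
  have hgz : g * h.z * g⁻¹ = h.v ∨ g * h.z * g⁻¹ = h.φ (T.v * T.z) := by
    have h1 : g * h.z * g⁻¹ ∈ h.U := h.conj_U g (fun x hx => hgR _ (h.phi_mem_R.2 hx)) T.z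
      (by decide)
    have h2 : g * h.z * g⁻¹ ≠ h.z := by
      intro h0
      have h3 : g * h.z * g⁻¹ = g * h.v * g⁻¹ := h0.trans hgv.symm
      have h4 := mul_left_cancel (mul_right_cancel h3)
      exact absurd (h.inj h4) (by decide)
    exact h.mem_U_cases h1 (h.ne_one (by decide) g) h2
  have hgvz : g * (h.v * h.z) * g⁻¹ = (g * h.v * g⁻¹) * (g * h.z * g⁻¹) := by group
  rcases hgz with hgz | hgz
  · refine key (g * h.tau) (fun x hx => ?_) ?_ ?_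
    · obtain ⟨y, hy, rfl⟩ := hx
      have h1 : g * h.tau * h.φ y * (g * h.tau)⁻¹
          = g * (h.φ T.tau * h.φ y * (h.φ T.tau)⁻¹) * g⁻¹ := by
        show g * h.φ T.tau * h.φ y * (g * h.φ T.tau)⁻¹ = _
        group
      rw [h1, h.phi_conj]
      exact hgR _ (h.phi_mem_R.2 (T.R_normal _ _ hy))
    · have h1 : g * h.tau * h.z * (g * h.tau)⁻¹ = g * (h.tau * h.z * h.tau⁻¹) * g⁻¹ := by group
      have h2 : h.tau * h.z * h.tau⁻¹ = h.z := by
        rw [← h.z_comm h.tau_mem_S]; group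
      rw [h1, h2, hgz]
    · have h1 : g * h.tau * h.v * (g * h.tau)⁻¹ = g * (h.tau * h.v * h.tau⁻¹) * g⁻¹ := by group
      have h2 : h.tau * h.v * h.tau⁻¹ = h.v * h.z := by
        rw [← hvz]
        show h.φ T.tau * h.φ T.v * (h.φ T.tau)⁻¹ = _
        rw [h.phi_conj, T.tau_v]
      rw [h1, h2, hgvz, hgv, hgz]
      show h.φ T.z * h.φ T.v = _
      rw [← map_mul]
      congr 1
  · refine key (g * g) (fun x hx => ?_) ?_ ?_
    · have := hgR _ (hgR x hx)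
      simpa [mul_assoc] using this
    · have h1 : g * g * h.z * (g * g)⁻¹ = g * (g * h.z * g⁻¹) * g⁻¹ := by group
      rw [h1, hgz, hvz, hgvz, hgv, hgz]
      show h.φ T.z * h.φ (T.v * T.z) = h.φ T.v
      rw [← map_mul]
      congr 1
    · have h1 : g * g * h.v * (g * g)⁻¹ = g * (g * h.v * g⁻¹) * g⁻¹ := by group
      rw [h1, hgv, hgz]

theorem isConj_E1_form {x : T} (hx : x ∈ T.E1) (hxU : x ∉ T.U) :
    IsConj (h.φ x) (h.φ ⟨x.a, .o, .o, false⟩) := h.isConj_phi (T.E1_form x hx hxU)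

theorem isConj_E2_form {x : T} (hx : x ∈ T.E2) (hxU : x ∉ T.U) :
    IsConj (h.φ x) (h.φ ⟨.o, x.b, .o, false⟩) := h.isConj_phi (T.E2_form x hx hxU)

theorem not_mem_U_of_a {x : T} (hx : x.a ≠ .o) : x ∉ T.U := fun hU => hx hU.1
theorem not_mem_U_of_b {x : T} (hx : x.b ≠ .o) : x ∉ T.U := fun hU => hx hU.2.1

/-- All the involutions `⟨a, o, o, false⟩` are conjugate in `G`. -/
theorem isConj_ta [Finite G] (hf : Fused h) (a b : F4) (ha : a ≠ .o) (hb : b ≠ .o) :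
    IsConj (h.φ ⟨a, .o, .o, false⟩) (h.φ ⟨b, .o, .o, false⟩) := by
  obtain ⟨k, hk1, hk2, hkz, hkv, hkvz⟩ := h.exists_three_cycle hf
  have hkR : ∀ x ∈ T.R, k * h.φ x * k⁻¹ ∈ h.S := by
    intro x hx
    obtain ⟨y, hy, hb⟩ := T.R_factor x hx
    have h1 := h.S.mul_mem (h.E1_le_S (hk1 _ (h.phi_mem_E1.2 hy)))
      (h.E2_le_S (hk2 _ (h.phi_mem_E2.2 hb)))
    have h2 : k * h.φ y * k⁻¹ * (k * h.φ (y⁻¹ * x) * k⁻¹) = k * h.φ x * k⁻¹ := by
      rw [map_mul, map_inv]; group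
    rwa [h2] at h1
  obtain ⟨f, hfi, hff⟩ := h.exists_hom T.R k hkR
  have hfE1 : ∀ x (hx : x ∈ T.E1), f ⟨x, T.E1_le_R hx⟩ ∈ T.E1 := fun x hx => by
    rw [← h.phi_mem_E1, hff]
    exact hk1 _ (h.phi_mem_E1.2 hx)
  have hfE2 : ∀ x (hx : x ∈ T.E2), f ⟨x, T.E2_le_R hx⟩ ∈ T.E2 := fun x hx => by
    rw [← h.phi_mem_E2, hff]
    exact hk2 _ (h.phi_mem_E2.2 hx)
  have hmul := fun (x y : T) (hx : x ∈ T.R) (hy : y ∈ T.R) => hom_mul f hx hy
  -- coordinates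
  have mA : ∀ a, (⟨a, .o, .o, false⟩ : T) ∈ T.E1 := fun a => ⟨rfl, rfl⟩
  have mB : ∀ b, (⟨.o, b, .o, false⟩ : T) ∈ T.E2 := fun b => ⟨rfl, rfl⟩
  have mAR : ∀ a, (⟨a, .o, .o, false⟩ : T) ∈ T.R := fun a => rfl
  have mBR : ∀ b, (⟨.o, b, .o, false⟩ : T) ∈ T.R := fun b => rfl
  have mCR : ∀ c, (⟨.o, .o, c, false⟩ : T) ∈ T.R := fun c => rfl
  let A : F4 → F4 := fun a => (f ⟨⟨a, .o, .o, false⟩, mAR a⟩).a
  let B : F4 → F4 := fun b => (f ⟨⟨.o, b, .o, false⟩, mBR b⟩).b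
  have hA : ∀ a, ∃ c, f ⟨⟨a, .o, .o, false⟩, mAR a⟩ = ⟨A a, .o, c, false⟩ := by
    intro a
    have h1 := hfE1 _ (mA a)
    refine ⟨(f ⟨⟨a, .o, .o, false⟩, mAR a⟩).c, ?_⟩
    have h2 : (f ⟨⟨a, .o, .o, false⟩, mAR a⟩).b = .o := h1.1
    have h3 : (f ⟨⟨a, .o, .o, false⟩, mAR a⟩).s = false := h1.2
    generalize hgen : f ⟨⟨a, .o, .o, false⟩, mAR a⟩ = y at *
    obtain ⟨ya, yb, yc, ys⟩ := y
    simp only at h2 h3
    subst h2 h3
    simp only [A, hgen]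
  have hB : ∀ b, ∃ c, f ⟨⟨.o, b, .o, false⟩, mBR b⟩ = ⟨.o, B b, c, false⟩ := by
    intro b
    have h1 := hfE2 _ (mB b)
    refine ⟨(f ⟨⟨.o, b, .o, false⟩, mBR b⟩).c, ?_⟩
    have h2 : (f ⟨⟨.o, b, .o, false⟩, mBR b⟩).a = .o := h1.1
    have h3 : (f ⟨⟨.o, b, .o, false⟩, mBR b⟩).s = false := h1.2
    generalize hgen : f ⟨⟨.o, b, .o, false⟩, mBR b⟩ = y at *
    obtain ⟨ya, yb, yc, ys⟩ := y
    simp only at h2 h3
    subst h2 h3
    simp only [B, hgen]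
  have hAB : ∀ a b, f ⟨⟨.o, .o, a * b, false⟩, mCR _⟩ = ⟨.o, .o, A a * B b, false⟩ := by
    intro a b
    obtain ⟨c, hc⟩ := hA a
    obtain ⟨c', hc'⟩ := hB b
    have h1 : (⟨⟨.o, .o, a * b, false⟩, mCR _⟩ : T.R) = ⟨⟨a, .o, .o, false⟩, mAR a⟩ *
        ⟨⟨.o, b, .o, false⟩, mBR b⟩ * (⟨⟨a, .o, .o, false⟩, mAR a⟩ : T.R)⁻¹ *
        (⟨⟨.o, b, .o, false⟩, mBR b⟩ : T.R)⁻¹ := by
      apply Subtype.ext
      exact (T.comm_form a b .o .o).symm
    rw [h1, map_mul, map_mul, map_mul, map_inv, map_inv, hc, hc', T.comm_form]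
  have hC : ∀ c c', f ⟨⟨.o, .o, c + c', false⟩, mCR _⟩ = f ⟨⟨.o, .o, c, false⟩, mCR _⟩ *
      f ⟨⟨.o, .o, c', false⟩, mCR _⟩ := by
    intro c c'
    rw [← map_mul]
    congr 1
    apply Subtype.ext
    have h2 : ∀ x y : F4, (⟨.o, .o, x + y, false⟩ : T)
        = (⟨.o, .o, x, false⟩ : T) * ⟨.o, .o, y, false⟩ := by decide
    exact h2 c c'
  have hAadd : A .u = A .e + A .w := by
    have h1 : f ⟨⟨.u, .o, .o, false⟩, mAR .u⟩ = f ⟨⟨.e, .o, .o, false⟩, mAR .e⟩ *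
        f ⟨⟨.w, .o, .o, false⟩, mAR .w⟩ := by
      rw [← map_mul]
      congr 1
    have h2 : A .u = (f ⟨⟨.u, .o, .o, false⟩, mAR .u⟩).a := rfl
    rw [h2, h1, T.E1_add _ _ (hfE1 _ (mA _)) (hfE1 _ (mA _))]
  have hBadd : B .u = B .e + B .w := by
    have h1 : f ⟨⟨.o, .u, .o, false⟩, mBR .u⟩ = f ⟨⟨.o, .e, .o, false⟩, mBR .e⟩ *
        f ⟨⟨.o, .w, .o, false⟩, mBR .w⟩ := by
      rw [← map_mul]
      congr 1
    have h2 : B .u = (f ⟨⟨.o, .u, .o, false⟩, mBR .u⟩).b := rfl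
    rw [h2, h1, T.E2_add _ _ (hfE2 _ (mB _)) (hfE2 _ (mB _))]
  have hee : f ⟨⟨.o, .o, .e, false⟩, mCR _⟩ = ⟨.o, .o, A .e * B .e, false⟩ := hAB .e .e
  have hew : f ⟨⟨.o, .o, .w, false⟩, mCR _⟩ = ⟨.o, .o, A .e * B .w, false⟩ := hAB .e .w
  have hwe : f ⟨⟨.o, .o, .w, false⟩, mCR _⟩ = ⟨.o, .o, A .w * B .e, false⟩ := hAB .w .e
  have hww : f ⟨⟨.o, .o, .u, false⟩, mCR _⟩ = ⟨.o, .o, A .w * B .w, false⟩ := hAB .w .w
  have hsum : f ⟨⟨.o, .o, .u, false⟩, mCR _⟩ = ⟨.o, .o, A .e * B .e + A .e * B .w, false⟩ := by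
    have h1 := hC .e .w
    rw [hee, hew] at h1
    have h2 : ∀ x y : F4, (⟨.o, .o, x, false⟩ : T) * ⟨.o, .o, y, false⟩
        = ⟨.o, .o, x + y, false⟩ := by decide
    rw [h2] at h1
    exact h1
  have hfne : ∀ c : F4, c ≠ .o → f ⟨⟨.o, .o, c, false⟩, mCR _⟩ ≠ 1 := by
    intro c hc h0
    have h1 : (⟨⟨.o, .o, c, false⟩, mCR _⟩ : T.R) = 1 := hfi (by rw [h0, map_one])
    have h2 : (⟨.o, .o, c, false⟩ : T) = 1 := congrArg Subtype.val h1
    have h3 : (⟨.o, .o, c, false⟩ : T).c = (1 : T).c := congrArg T.c h2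
    exact hc h3
  have hcond : A .e * B .e ≠ .e ∧ A .e * B .w ≠ .w ∧ A .e * B .e + A .e * B .w ≠ .u ∧
      A .e * B .e ≠ .o ∧ A .e * B .w ≠ .o ∧ A .e * B .e + A .e * B .w ≠ .o ∧
      A .e * B .w = A .w * B .e ∧ A .w * B .w = A .e * B .e + A .e * B .w := by
    refine ⟨?_, ?_, ?_, ?_, ?_, ?_, ?_, ?_⟩
    · intro h0
      rw [h0] at hee
      have h1 := hff ⟨⟨.o, .o, .e, false⟩, mCR _⟩
      rw [hee] at h1
      exact hkz h1.symm
    · intro h0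
      rw [h0] at hew
      have h1 := hff ⟨⟨.o, .o, .w, false⟩, mCR _⟩
      rw [hew] at h1
      exact hkv h1.symm
    · intro h0
      rw [h0] at hsum
      have h1 := hff ⟨⟨.o, .o, .u, false⟩, mCR _⟩
      rw [hsum] at h1
      exact hkvz h1.symm
    · intro h0
      rw [h0] at hee
      exact hfne .e (by decide) hee
    · intro h0
      rw [h0] at hew
      exact hfne .w (by decide) hew
    · intro h0
      rw [h0] at hsum
      exact hfne .u (by decide) hsum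
    · have h1 := hew.symm.trans hwe
      exact congrArg T.c h1
    · have h1 := hww.symm.trans hsum
      exact congrArg T.c h1
  have h3c := T.threeCycle (A .e) (A .w) (B .e) (B .w) hcond
  have hAne : A .e ≠ .o ∧ A .w ≠ .o ∧ A .e + A .w ≠ .o ∧ B .e ≠ .o ∧ B .w ≠ .o ∧
      B .e + B .w ≠ .o := by
    have : ∀ p1 q1 p2 q2 : F4,
      (p1 * p2 ≠ .e ∧ p1 * q2 ≠ .w ∧ p1 * p2 + p1 * q2 ≠ .u ∧ p1 * p2 ≠ .o ∧ p1 * q2 ≠ .o ∧
      p1 * p2 + p1 * q2 ≠ .o ∧ p1 * q2 = q1 * p2 ∧ q1 * q2 = p1 * p2 + p1 * q2) →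
      (p1 ≠ .o ∧ q1 ≠ .o ∧ p1 + q1 ≠ .o ∧ p2 ≠ .o ∧ q2 ≠ .o ∧ p2 + q2 ≠ .o) := by
      decide +kernel
    exact this _ _ _ _ hcond
  have hrA : ∀ a, A a ≠ .o → IsConj (h.φ ⟨a, .o, .o, false⟩) (h.φ ⟨A a, .o, .o, false⟩) := by
    intro a ha
    have h1 : IsConj (h.φ ⟨a, .o, .o, false⟩) (h.φ (f ⟨⟨a, .o, .o, false⟩, mAR a⟩)) := by
      rw [hff, isConj_iff]
      exact ⟨k, rfl⟩
    refine h1.trans ?_
    exact h.isConj_E1_form (hfE1 _ (mA a)) (not_mem_U_of_a ha)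
  have hrB : ∀ b, B b ≠ .o → IsConj (h.φ ⟨.o, b, .o, false⟩) (h.φ ⟨.o, B b, .o, false⟩) := by
    intro b hb
    have h1 : IsConj (h.φ ⟨.o, b, .o, false⟩) (h.φ (f ⟨⟨.o, b, .o, false⟩, mBR b⟩)) := by
      rw [hff, isConj_iff]
      exact ⟨k, rfl⟩
    refine h1.trans ?_
    exact h.isConj_E2_form (hfE2 _ (mB b)) (not_mem_U_of_b hb)
  have hAB' : ∀ a, IsConj (h.φ ⟨a, .o, .o, false⟩) (h.φ ⟨.o, F4.fr a, .o, false⟩) := fun a =>
    h.isConj_phi ⟨T.tau, T.tau_form a⟩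
  -- conclusion
  have hall : IsConj (h.φ ⟨.e, .o, .o, false⟩) (h.φ ⟨.w, .o, .o, false⟩) ∧
      IsConj (h.φ ⟨.e, .o, .o, false⟩) (h.φ ⟨.u, .o, .o, false⟩) := by
    rcases h3c with ⟨h1, h2, h3⟩ | ⟨h1, h2, h3⟩
    · have r1 := hrA .e hAne.1
      have r2 := hrA .w hAne.2.1
      have hAe : A .e = .w ∧ A .w = .u ∨ A .e = .u ∧ A .w = .e := by
        have : ∀ p q : F4, p ≠ .e → q ≠ .w → p + q ≠ .u → p ≠ .o → q ≠ .o → p + q ≠ .o →
          (p = .w ∧ q = .u ∨ p = .u ∧ q = .e) := by decide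
        exact this _ _ h1 h2 h3 hAne.1 hAne.2.1 hAne.2.2.1
      rcases hAe with ⟨h4, h5⟩ | ⟨h4, h5⟩
      · rw [h4] at r1
        rw [h5] at r2
        exact ⟨r1, r1.trans r2⟩
      · rw [h4] at r1
        rw [h5] at r2
        exact ⟨r2.symm, r1⟩
    · have r1 := hrB .e hAne.2.2.2.1
      have r2 := hrB .w hAne.2.2.2.2.1
      have hAe : B .e = .w ∧ B .w = .u ∨ B .e = .u ∧ B .w = .e := by
        have : ∀ p q : F4, p ≠ .e → q ≠ .w → p + q ≠ .u → p ≠ .o → q ≠ .o → p + q ≠ .o →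
          (p = .w ∧ q = .u ∨ p = .u ∧ q = .e) := by decide
        exact this _ _ h1 h2 h3 hAne.2.2.2.1 hAne.2.2.2.2.1 hAne.2.2.2.2.2
      have t1 := hAB' .e
      have t2 := hAB' .w
      have t3 := hAB' .u
      have e1 : F4.fr .e = .e := rfl
      have e2 : F4.fr .w = .u := rfl
      have e3 : F4.fr .u = .w := rfl
      rw [e1] at t1
      rw [e2] at t2
      rw [e3] at t3
      rcases hAe with ⟨h4, h5⟩ | ⟨h4, h5⟩
      · rw [h4] at r1
        rw [h5] at r2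
        exact ⟨t1.trans (r1.trans (r2.trans t2.symm)), t1.trans (r1.trans t3.symm)⟩
      · rw [h4] at r1
        rw [h5] at r2
        exact ⟨t1.trans (r1.trans t2.symm), t1.trans (r2.symm.trans t3.symm)⟩
  have hall' : ∀ a : F4, a ≠ .o → IsConj (h.φ ⟨.e, .o, .o, false⟩) (h.φ ⟨a, .o, .o, false⟩) := by
    intro a ha
    cases a
    · exact absurd rfl ha
    · exact IsConj.refl _
    · exact hall.1
    · exact hall.2
  exact (hall' a ha).symm.trans (hall' b hb)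

/-- All involutions of `E1` outside `U` are conjugate to `t`. -/
theorem isConj_E1 [Finite G] (hf : Fused h) {x : T} (hx : x ∈ T.E1) (hxU : x ∉ T.U) :
    IsConj (h.φ x) h.t := by
  refine (h.isConj_E1_form hx hxU).trans (h.isConj_ta hf _ _ ?_ (by decide))
  intro h0
  exact hxU ⟨h0, hx.1, hx.2⟩

theorem isConj_E2 [Finite G] (hf : Fused h) {x : T} (hx : x ∈ T.E2) (hxU : x ∉ T.U) :
    IsConj (h.φ x) h.t := by
  refine (h.isConj_phi ⟨T.tau, rfl⟩).trans (h.isConj_E1 hf (T.tau_swap' x hx) fun h0 => hxU ?_)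
  have h2 := T.U_normal _ T.tau⁻¹ h0
  simpa [mul_assoc] using h2

theorem isConj_v (hf : Fused h) : IsConj h.v h.z := by
  obtain ⟨g, -, hg⟩ := hf.f1
  exact isConj_iff.2 ⟨g, hg⟩

theorem isConj_tau (hf : Fused h) : IsConj h.tau h.z := by
  obtain ⟨g, -, -, hg⟩ := hf.f2
  exact (isConj_iff.2 ⟨g, hg⟩).trans (h.isConj_v hf)

/-- Involutions of `U` are conjugate to `z`. -/
theorem isConj_U (hf : Fused h) {x : T} (hx : x ∈ T.U) (hx1 : x ≠ 1) : IsConj (h.φ x) h.z := by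
  rcases T.U_cases x hx with h1 | h1 | h1 | h1
  · exact absurd h1 hx1
  · rw [h1]; exact IsConj.refl _
  · rw [h1]; exact h.isConj_v hf
  · rw [h1]; exact h.isConj_v_vz.symm.trans (h.isConj_v hf)

/-- Involutions of `S` outside `R` are conjugate to `z`. -/
theorem isConj_not_R (hf : Fused h) {x : T} (hx : x ∉ T.R) (hxx : x * x = 1) :
    IsConj (h.φ x) h.z := by
  obtain ⟨r, hr⟩ := T.tau_conj x (by simpa [T.mem_R] using hx) hxx
  exact (h.isConj_phi ⟨r, hr⟩).trans (h.isConj_tau hf)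

/-- Involutions of `Q` are conjugate to `z`. -/
theorem isConj_Q (hf : Fused h) {x : T} (hx : x ∈ T.Q) (hxx : x * x = 1) (hx1 : x ≠ 1) :
    IsConj (h.φ x) h.z := by
  rcases T.Q_inv_cases x hx hxx with h1 | h1
  · exact h.isConj_not_R hf (by simp [T.mem_R, h1]) hxx
  · exact h.isConj_U hf h1 hx1

/-- Every involution of `S` is conjugate to `z` or to `t`. -/
theorem isConj_z_or_t_of_mem [Finite G] (hf : Fused h) {x : T} (hxx : x * x = 1) (hx1 : x ≠ 1) :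
    IsConj (h.φ x) h.z ∨ IsConj (h.φ x) h.t := by
  by_cases hxR : x ∈ T.R
  · by_cases hxU : x ∈ T.U
    · exact Or.inl (h.isConj_U hf hxU hx1)
    · rcases T.inv_R x hxx hxR with h1 | h1
      · exact Or.inr (h.isConj_E1 hf h1 hxU)
      · exact Or.inr (h.isConj_E2 hf h1 hxU)
  · exact Or.inl (h.isConj_not_R hf hxR hxx)

/-- Every element of 2-power order is conjugate into `S`. -/
theorem exists_conj_mem_S [Finite G] {x : G} {n : ℕ} (hx : x ^ 2 ^ n = 1) :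
    ∃ g : G, g * x * g⁻¹ ∈ h.S := by
  have hP : IsPGroup 2 (Subgroup.zpowers x) := by
    have : Fact (Nat.Prime 2) := ⟨Nat.prime_two⟩
    rintro ⟨y, hy⟩
    obtain ⟨k, rfl⟩ := Subgroup.mem_zpowers_iff.1 hy
    refine ⟨n, ?_⟩
    apply Subtype.ext
    show (x ^ k) ^ 2 ^ n = 1
    rw [← zpow_natCast, ← zpow_mul, mul_comm, zpow_mul, zpow_natCast, hx, one_zpow]
  obtain ⟨g, -, hg⟩ := exists_conj_le _ ⊤ h.S hP le_top (by
    rw [relIndex_top_right]; exact h.odd_index)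
  exact ⟨g, hg x (Subgroup.mem_zpowers x)⟩

/-- Every involution of `G` is conjugate to `z` or to `t`. -/
theorem isConj_z_or_t [Finite G] (hf : Fused h) {x : G} (hxx : x * x = 1) (hx1 : x ≠ 1) :
    IsConj x h.z ∨ IsConj x h.t := by
  obtain ⟨g, y, hy⟩ := h.exists_conj_mem_S (x := x) (n := 1) (by rw [pow_one, pow_two, hxx])
  have h1 : IsConj x (h.φ y) := isConj_iff.2 ⟨g, hy.symm⟩
  have hyy : y * y = 1 := by
    apply h.inj
    rw [map_mul, map_one, hy]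
    calc g * x * g⁻¹ * (g * x * g⁻¹) = g * (x * x) * g⁻¹ := by group
      _ = 1 := by rw [hxx]; group
  have hy1 : y ≠ 1 := by
    intro h0
    rw [h0, map_one] at hy
    apply hx1
    have : x = g⁻¹ * 1 * g := by rw [hy]; group
    rw [this]; group
  rcases h.isConj_z_or_t_of_mem hf hyy hy1 with h2 | h2
  · exact Or.inl (h1.trans h2)
  · exact Or.inr (h1.trans h2)

theorem orderOf_phi_two {x : T} (hxx : x * x = 1) (hx1 : x ≠ 1) : orderOf (h.φ x) = 2 := by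
  rw [orderOf_injective h.φ h.inj]
  exact orderOf_eq_prime (by rw [pow_two, hxx]) hx1

/-- One class of involutions if `z` and `t` are conjugate. -/
theorem one_class [Finite G] (hf : Fused h) (hzt : IsConj h.z h.t) (x y : G)
    (hx : orderOf x = 2) (hy : orderOf y = 2) : IsConj x y := by
  have key : ∀ x : G, orderOf x = 2 → IsConj x h.z := by
    intro x hx
    have h1 : x * x = 1 := by rw [← pow_two, ← hx, pow_orderOf_eq_one]
    have h2 : x ≠ 1 := by rintro rfl; simp at hx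
    rcases h.isConj_z_or_t hf h1 h2 with h3 | h3
    · exact h3
    · exact h3.trans hzt.symm
  exact (key x hx).trans (key y hy).symm

/-- Two classes of involutions if `z` and `t` are not conjugate. -/
theorem two_classes [Finite G] (hf : Fused h) (hzt : ¬ IsConj h.z h.t) :
    ∃ x y : G, orderOf x = 2 ∧ orderOf y = 2 ∧ ¬ IsConj x y ∧
      ∀ z : G, orderOf z = 2 → IsConj z x ∨ IsConj z y := by
  refine ⟨h.z, h.t, h.orderOf_phi_two (by decide) (by decide),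
    h.orderOf_phi_two (by decide) (by decide), hzt, fun x hx => ?_⟩
  have h1 : x * x = 1 := by rw [← pow_two, ← hx, pow_orderOf_eq_one]
  have h2 : x ≠ 1 := by rintro rfl; simp at hx
  exact h.isConj_z_or_t hf h1 h2

/-- If `z` and `t` are not conjugate, the conjugates of `z` in `S` are the involutions of `U` and
those outside `R`. -/
theorem isConj_z_iff [Finite G] (hf : Fused h) (hzt : ¬ IsConj h.z h.t) {x : T}
    (hxx : x * x = 1) (hx1 : x ≠ 1) : IsConj (h.φ x) h.z ↔ x ∈ T.U ∨ x ∉ T.R := by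
  constructor
  · intro h1
    by_contra hcon
    push Not at hcon
    rcases T.inv_R x hxx hcon.2 with h2 | h2
    · exact hzt (h1.symm.trans (h.isConj_E1 hf h2 hcon.1))
    · exact hzt (h1.symm.trans (h.isConj_E2 hf h2 hcon.1))
  · rintro (h1 | h1)
    · exact h.isConj_U hf h1 hx1
    · exact h.isConj_not_R hf h1 hxx

end Cfsg.Agent.J2Sylow.Setup
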