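import Mathlib
import Cfsg.Agent.J2Sylow.CentZ
import Cfsg.Agent.J2Sylow.Hyp
import Cfsg.Agent.J2Sylow.FusionMore
import Cfsg.Agent.J2Sylow.E1Fusion

/-!
# The fields of `Tab h` which concern the centralizer of `z`
-/

set_option autoImplicit false

namespace Cfsg.Agent.J2Sylow.TabZ

open Subgroup Model Model.F4 ZSylow Cfsg.Agent.J2Sylow.Functor ZQuot ZStab ZX ZFinal

universe u

theorem alt5' : ∀ τ : Equiv.Perm (Fin 5), (Equiv.Perm.sign τ = 1 ∧ τ * τ = 1 ∧ τ ≠ 1) →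
    ∀ σ : Equiv.Perm (Fin 5), (Equiv.Perm.sign σ = 1 ∧ σ * τ = τ * σ) → σ * σ = 1 := by
  decide +kernel

theorem alt5 (σ τ : Equiv.Perm (Fin 5)) (h1 : Equiv.Perm.sign τ = 1) (h2 : τ * τ = 1)
    (h3 : τ ≠ 1) (h4 : Equiv.Perm.sign σ = 1) (h5 : σ * τ = τ * σ) : σ * σ = 1 :=
  alt5' τ ⟨h1, h2, h3⟩ σ ⟨h4, h5⟩

variable {G : Type u} [Group G] [Finite G] (h : Setup G)

omit [Finite G] in
theorem a_eq_t : h.a = h.t := rfl

theorem tab_cls (F : Fused h) (t : G) (ht : orderOf t = 2) : IsConj h.z t ∨ IsConj h.a t := by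
  have h1 : t * t = 1 := by rw [← pow_two, ← ht, pow_orderOf_eq_one]
  have h2 : t ≠ 1 := by rintro rfl; simp at ht
  rcases h.isConj_z_or_t F h1 h2 with h3 | h3
  · exact Or.inl h3.symm
  · exact Or.inr h3.symm

/-- a 2-element of `C(z)` is `C(z)`-conjugate into `S` -/
theorem conj_into_S {u : G} (hu : ∃ k : ℕ, u ^ (2 ^ k) = 1) (huz : u * h.z = h.z * u) :
    ∃ g : G, g * h.z = h.z * g ∧ ∃ t : T, h.φ t = g * u * g⁻¹ := by
  have hSC : h.S ≤ centralizer ({h.z} : Set G) := by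
    rintro _ ⟨t, rfl⟩
    exact CentZBuild.phi_mem h t
  obtain ⟨c, hc, hcP⟩ := exists_conj_le_of_max hSC (isPGroup_S h)
    (fun P hP hSP _ => max_S h P hP hSP) (zpowers u) (isPGroup_zpowers hu)
    (by rw [zpowers_le]; exact mem_centralizer_singleton_iff.mpr huz)
  obtain ⟨t, ht⟩ := hcP u (mem_zpowers u)
  exact ⟨c, mem_centralizer_singleton_iff.mp hc, t, ht⟩

omit [Finite G] in
theorem phi_z (t : T) : h.φ t * h.z = h.z * h.φ t :=
  mem_centralizer_singleton_iff.mp (CentZBuild.phi_mem h t)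

omit [Finite G] in
theorem comm_mul {x y w : G} (hx : x * w = w * x) (hy : y * w = w * y) :
    x * y * w = w * (x * y) := by
  rw [mul_assoc, hy, ← mul_assoc, hx, mul_assoc]

theorem conj_facts {w : G} (hw : w * w = 1) (hw1 : w ≠ 1) {g : G} {t : T}
    (ht : h.φ t = g * w * g⁻¹) : t * t = 1 ∧ t ≠ 1 := by
  constructor
  · apply h.inj
    rw [map_mul, ht, map_one]
    calc g * w * g⁻¹ * (g * w * g⁻¹) = g * (w * w) * g⁻¹ := by group
      _ = 1 := by rw [hw]; group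
  · intro h1
    rw [h1, map_one] at ht
    apply hw1
    have h2 : w = g⁻¹ * (g * w * g⁻¹) * g := by group
    rw [h2, ← ht]; group

theorem tab_zz (F : Fused h) (hJ : ¬ IsConj h.z h.a) (u : G) (hu : IsConj h.z u) (huz : u ≠ h.z)
    (huc : u * h.z = h.z * u) : ∃ g, g * h.z = h.z * g ∧ g * u * g⁻¹ = h.v := by
  obtain ⟨y, hy⟩ := isConj_iff.mp hu
  have huu : u * u = 1 := by
    rw [← hy]
    calc y * h.z * y⁻¹ * (y * h.z * y⁻¹) = y * (h.z * h.z) * y⁻¹ := by group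
      _ = 1 := by rw [zz]; group
  have hu1 : u ≠ 1 := by
    intro h1
    rw [h1] at hy
    apply ZCent.z_ne_one h
    have h2 : h.z = y⁻¹ * (y * h.z * y⁻¹) * y := by group
    rw [h2, hy]; group
  obtain ⟨g, hg, t, ht⟩ := conj_into_S h (u := u) ⟨1, by rw [pow_one, pow_two, huu]⟩ huc
  obtain ⟨htt, ht1⟩ := conj_facts h huu hu1 ht
  have hconj : IsConj (h.φ t) h.z := by
    rw [ht]
    exact (isConj_iff.mpr ⟨g, rfl⟩ : IsConj u (g * u * g⁻¹)).symm.trans hu.symm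
  rw [h.isConj_z_iff F hJ htt ht1] at hconj
  have htz : t ≠ T.z := by
    intro h1
    apply huz
    have h2 : u = g⁻¹ * (g * u * g⁻¹) * g := by group
    rw [h2, ← ht, h1]
    show g⁻¹ * h.z * g = h.z
    rw [mul_assoc, ← hg, ← mul_assoc, inv_mul_cancel, one_mul]
  have hfin : ∀ m : G, m * h.z = h.z * m → m * h.φ t * m⁻¹ = h.v →
      ∃ g, g * h.z = h.z * g ∧ g * u * g⁻¹ = h.v := by
    intro m hm hmv
    refine ⟨m * g, comm_mul hm hg, ?_⟩
    rw [← hmv, ht]; group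
  rcases hconj with h1 | h1
  · rcases T.U_cases t h1 with h2 | h2 | h2 | h2
    · exact absurd h2 ht1
    · exact absurd h2 htz
    · exact hfin 1 (by rw [one_mul, mul_one]) (by rw [h2]; show 1 * h.v * 1⁻¹ = h.v; group)
    · refine hfin h.tau (phi_z h T.tau) ?_
      rw [h2]
      show h.φ T.tau * h.φ (T.v * T.z) * (h.φ T.tau)⁻¹ = h.φ T.v
      rw [← map_inv, ← map_mul, ← map_mul]
      congr 1
  · obtain ⟨r, hr⟩ := T.tau_conj t (by
      by_contra h3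
      exact h1 (by rw [T.mem_R]; simpa using h3)) htt
    obtain ⟨g2, hg2, -, hg2v⟩ := F.f2
    refine hfin (g2 * h.φ r) (comm_mul hg2 (phi_z h r)) ?_
    calc g2 * h.φ r * h.φ t * (g2 * h.φ r)⁻¹ = g2 * (h.φ r * h.φ t * (h.φ r)⁻¹) * g2⁻¹ := by group
      _ = g2 * h.tau * g2⁻¹ := by rw [← map_inv, ← map_mul, ← map_mul, hr]; rfl
      _ = h.v := hg2v

theorem tab_za (F : Fused h) (hC : CentZ h) (hJ : ¬ IsConj h.z h.a) (b : G) (hb : IsConj h.a b)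
    (hbc : b * h.z = h.z * b) : ∃ g, g * h.z = h.z * g ∧ g * b * g⁻¹ = h.a := by
  obtain ⟨y, hy⟩ := isConj_iff.mp hb
  have haa : h.a * h.a = 1 := by
    show h.φ ⟨e, o, o, false⟩ * h.φ ⟨e, o, o, false⟩ = 1
    rw [← map_mul, ← map_one h.φ]
    congr 1
  have ha1 : h.a ≠ 1 := by
    intro h1
    have h2 : (⟨e, o, o, false⟩ : T) = 1 := h.inj (by rw [map_one]; exact h1)
    exact absurd h2 (by decide)
  have hbb : b * b = 1 := by
    rw [← hy]
    calc y * h.a * y⁻¹ * (y * h.a * y⁻¹) = y * (h.a * h.a) * y⁻¹ := by group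
      _ = 1 := by rw [haa]; group
  have hb1 : b ≠ 1 := by
    intro h1
    rw [h1] at hy
    apply ha1
    have h2 : h.a = y⁻¹ * (y * h.a * y⁻¹) * y := by group
    rw [h2, hy]; group
  obtain ⟨g, hg, t, ht⟩ := conj_into_S h (u := b) ⟨1, by rw [pow_one, pow_two, hbb]⟩ hbc
  obtain ⟨htt, ht1⟩ := conj_facts h hbb hb1 ht
  have hconj : ¬ IsConj (h.φ t) h.z := by
    rw [ht]
    intro h1
    apply hJ
    exact (hb.trans ((isConj_iff.mpr ⟨g, rfl⟩ : IsConj b (g * b * g⁻¹)).trans h1)).symm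
  rw [h.isConj_z_iff F hJ htt ht1] at hconj
  push Not at hconj
  obtain ⟨htU, htR⟩ := hconj
  have haE : h.a ∈ h.E1 := (mem_map_iff h).mpr (by decide)
  have haU : h.a ∉ h.U := fun h1 => absurd ((mem_map_iff h).mp h1) (by decide)
  -- it suffices to move `φ t` into `E1 - U`
  have hfin : ∀ (m : G) (t' : T), m * h.z = h.z * m → m * h.φ t * m⁻¹ = h.φ t' → t' ∈ T.E1 →
      t' ∉ T.U → ∃ g, g * h.z = h.z * g ∧ g * b * g⁻¹ = h.a := by
    intro m t' hm hmt ht' ht'U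
    obtain ⟨k, hk, -, -, hka⟩ := E1Fusion.trans_E1 h hC.normal hC.quot (x := h.φ t') (y := h.a)
      ⟨t', ht', rfl⟩ (fun h1 => ht'U ((mem_map_iff h).mp h1)) haE haU
    refine ⟨k * m * g, comm_mul (comm_mul hk hm) hg, ?_⟩
    rw [← hka, ← hmt, ht]; group
  rcases T.inv_R t htt htR with h1 | h1
  · exact hfin 1 t (by rw [one_mul, mul_one]) (by group) h1 htU
  · refine hfin h.tau (T.tau * t * T.tau⁻¹) (phi_z h T.tau) ?_ (T.tau_swap' t h1) ?_
    · show h.φ T.tau * h.φ t * (h.φ T.tau)⁻¹ = _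
      rw [← map_inv, ← map_mul, ← map_mul]
    · intro h2
      have h3 := T.U_normal _ T.tau⁻¹ h2
      have h4 : T.tau⁻¹ * (T.tau * t * T.tau⁻¹) * T.tau⁻¹⁻¹ = t := by group
      rw [h4] at h3
      exact htU h3

theorem tab_two (hC : CentZ h) (g : G) (hg : g * h.z = h.z * g)
    (hga : g * h.a * g⁻¹ * (h.a)⁻¹ ∈ KK h.z) : ∃ n : ℕ, g ^ (2 ^ n) ∈ KK h.z := by
  have hN := hC.normal
  obtain ⟨f⟩ := hC.quot
  have haz : h.a ∈ centralizer ({h.z} : Set G) := CentZBuild.phi_mem h _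
  have hgC : g ∈ centralizer ({h.z} : Set G) := mem_centralizer_singleton_iff.mpr hg
  set p : centralizer ({h.z} : Set G) →* alternatingGroup (Fin 5) :=
    f.toMonoidHom.comp (QuotientGroup.mk' _) with hp
  have hp1 : ∀ x : centralizer ({h.z} : Set G), p x = 1 ↔ (x : G) ∈ h.Q ⊔ K h.z := by
    intro x
    have h1 : p x = f (QuotientGroup.mk' _ x) := rfl
    rw [h1, EmbeddingLike.map_eq_one_iff, ← MonoidHom.mem_ker, QuotientGroup.ker_mk',
      mem_subgroupOf]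
  have hdec : ∀ x ∈ h.Q ⊔ K h.z, ∃ q : T, q ∈ T.Q ∧ ∃ k ∈ K h.z, x = h.φ q * k := by
    intro x hx
    have hle : h.Q ≤ normalizer (K h.z : Set G) := by
      rintro _ ⟨t, -, rfl⟩
      exact mem_normalizer_of_conj' (fun k hk => K_conj (CentZBuild.phi_mem h t) hk)
    rw [← SetLike.mem_coe, Subgroup.coe_mul_of_left_le_normalizer_right h.Q (K h.z) hle,
      Set.mem_mul] at hx
    obtain ⟨_, ⟨q, hq, rfl⟩, k, hk, rfl⟩ := hx
    exact ⟨q, hq, k, hk, rfl⟩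
  -- `p a` is an involution
  have haQ : h.a ∉ h.Q ⊔ K h.z := by
    intro h1
    obtain ⟨q, hq, k, hk, hqk⟩ := hdec _ h1
    have h2 : k = h.φ (q⁻¹ * ⟨e, o, o, false⟩) := by
      rw [map_mul, map_inv]
      show k = (h.φ q)⁻¹ * h.a
      rw [hqk]; group
    have h3 : Odd (orderOf k) := odd_orderOf_of_mem (K_odd h.z) hk
    obtain ⟨n, hn⟩ := isPGroup_S h ⟨k, ⟨_, h2.symm⟩⟩
    have h4 : k ^ 2 ^ n = 1 := congrArg Subtype.val hn
    have h5 : orderOf k ∣ 2 ^ n := orderOf_dvd_of_pow_eq_one h4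
    have h6 : Nat.Coprime (orderOf k) (2 ^ n) :=
      Nat.Coprime.pow_right _ (Nat.coprime_two_right.mpr h3)
    have h7 : k = 1 := orderOf_eq_one_iff.mp (Nat.Coprime.eq_one_of_dvd h6 h5)
    rw [h7] at h2
    have h8 : q⁻¹ * ⟨e, o, o, false⟩ = 1 := h.inj (by rw [← h2, map_one])
    have h9 : q = ⟨e, o, o, false⟩ := by rw [inv_mul_eq_one] at h8; exact h8
    rw [h9] at hq
    exact absurd hq (by decide)
  have haa : (⟨h.a, haz⟩ : centralizer ({h.z} : Set G)) * ⟨h.a, haz⟩ = 1 := by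
    apply Subtype.ext
    show h.φ ⟨e, o, o, false⟩ * h.φ ⟨e, o, o, false⟩ = 1
    rw [← map_mul, ← map_one h.φ]
    congr 1
  have hpaa : p ⟨h.a, haz⟩ * p ⟨h.a, haz⟩ = 1 := by rw [← map_mul, haa, map_one]
  have hpa1 : p ⟨h.a, haz⟩ ≠ 1 := fun h1 => haQ ((hp1 _).mp h1)
  have hpc : p ⟨g, hgC⟩ * p ⟨h.a, haz⟩ = p ⟨h.a, haz⟩ * p ⟨g, hgC⟩ := by
    have h1 : p (⟨g, hgC⟩ * ⟨h.a, haz⟩ * ⟨g, hgC⟩⁻¹ * ⟨h.a, haz⟩⁻¹) = 1 :=
      (hp1 _).mpr (mem_sup_right hga)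
    rw [map_mul, map_mul, map_mul, map_inv, map_inv, mul_inv_eq_one, mul_inv_eq_iff_eq_mul] at h1
    exact h1
  have hgg : p (⟨g, hgC⟩ * ⟨g, hgC⟩) = 1 := by
    rw [map_mul]
    apply Subtype.ext
    refine alt5 (p ⟨g, hgC⟩) (p ⟨h.a, haz⟩) (Equiv.Perm.mem_alternatingGroup.mp (p _).2) ?_ ?_
      (Equiv.Perm.mem_alternatingGroup.mp (p _).2) ?_
    · exact congrArg Subtype.val hpaa
    · intro h1
      exact hpa1 (Subtype.ext h1)
    · exact congrArg Subtype.val hpc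
  obtain ⟨q, hq, k, hk, hqk⟩ := hdec _ ((hp1 _).mp hgg)
  have hqk' : g * g = h.φ q * k := hqk
  have hkn : ∀ x ∈ K h.z, h.φ q * x * (h.φ q)⁻¹ ∈ K h.z := fun x hx =>
    K_conj (CentZBuild.phi_mem h q) hx
  have hsq : ∀ x y : G, (∀ w ∈ K h.z, x * w * x⁻¹ ∈ K h.z) → y ∈ K h.z →
      ∃ y' ∈ K h.z, (x * y) * (x * y) = (x * x) * y' := by
    intro x y hx hy
    have hxn := mem_normalizer_of_conj' hx
    have h1 : x⁻¹ * y * x ∈ K h.z := by
      have h2 := (mem_normalizer_iff.mp (inv_mem hxn) y).mp hy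
      rwa [inv_inv] at h2
    exact ⟨(x⁻¹ * y * x) * y, mul_mem h1 hy, by group⟩
  obtain ⟨k1, hk1, e1⟩ := hsq _ _ hkn hk
  have hkn2 : ∀ x ∈ K h.z, (h.φ q * h.φ q) * x * (h.φ q * h.φ q)⁻¹ ∈ K h.z := by
    intro x hx
    rw [← map_mul]
    exact K_conj (CentZBuild.phi_mem h _) hx
  obtain ⟨k2, hk2, e2⟩ := hsq _ _ hkn2 hk1
  have hq4 : (h.φ q * h.φ q) * (h.φ q * h.φ q) = 1 := by
    rw [← map_mul, ← map_mul]
    rcases ZModel.Q_sq q hq with h1 | h1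
    · rw [h1, one_mul, map_one]
    · rw [h1, ← map_one h.φ]; congr 1
  refine ⟨3, ?_⟩
  have h8 : g ^ (2 ^ 3) = ((g * g) * (g * g)) * ((g * g) * (g * g)) := by
    rw [show (2 : ℕ) ^ 3 = 2 * 2 * 2 by norm_num, pow_mul, pow_mul, pow_two, pow_two, pow_two]
  rw [h8, hqk', e1, e2, hq4, one_mul]
  exact hk2

end Cfsg.Agent.J2Sylow.TabZ
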