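import Mathlib
import Cfsg.Agent.J2Sylow.CentZ
import Cfsg.Agent.J2Sylow.Hyp

/-!
# `C(z)/O(C(z))` has a signed permutation model
-/

set_option autoImplicit false

namespace Cfsg.Agent.J2Sylow.ZIsModel

open Subgroup Model Model.F4 ZSylow Cfsg.Agent.J2Sylow.Functor ZQuot ZStab ZX ZFinal ZNonsing
open ZFive (s)
open Cfsg.Agent.J2Type.Model Cfsg.Agent.J2Type.QStruct

universe u

/-- the five involutions, with product 1 -/
def r (i : Fin 5) : T := if i = 4 then s 0 * s 1 * s 2 * s 3 else s i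

theorem r_mem : ∀ i, r i ∈ T.Q := by decide +kernel
theorem r_sq : ∀ i, r i * r i = 1 := by decide +kernel
theorem r_anti : ∀ i j, i ≠ j → r i * r j = T.z * (r j * r i) := by decide +kernel
theorem r_prod : r 0 * r 1 * r 2 * r 3 * r 4 = 1 := by decide +kernel
theorem r_ne : ∀ i, r i ≠ 1 ∧ r i ≠ T.z := by decide +kernel
theorem r_ne' : ∀ i j, i ≠ j → r i ≠ r j ∧ r i ≠ T.z * r j := by decide +kernel
theorem r_cover : ∀ q : T, q ∈ T.Q → (q = 1 ∨ q = T.z) ∨ (∃ i, q = r i ∨ q = T.z * r i) ∨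
    (∃ i j, i < j ∧ (q = r i * r j ∨ q = T.z * (r i * r j))) := by decide +kernel

variable {G : Type u} [Group G] [Finite G] (h : Setup G) (hz : ∀ g : G, g * h.z = h.z * g)
  (f2 : ∃ g : G, (∀ x ∈ h.Q, g * x * g⁻¹ ∈ h.Q) ∧ g * h.tau * g⁻¹ = h.v)

include hz f2 in
theorem model (hSF : SolvFun.{u}) (hFT : OddSolv.{u}) (hZS : ZStar.{u}) {X : Type u} [Group X]
    (π : G →* X) (hπs : Function.Surjective π) (hker : π.ker = Cfsg.oddCore G) :
    (∃ ρ : X →* SP, IsModel (h.Q.map π) (π h.z) (fun i => π (h.φ (r i))) ρ) ∧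
      Nat.card X = 1920 := by
  have : Finite X := Finite.of_surjective π hπs
  have hπ1 : ∀ x : G, π x = 1 ↔ x ∈ Cfsg.oddCore G := by
    intro x; rw [← hker]; exact (MonoidHom.mem_ker).symm
  have hOn : (Cfsg.oddCore G).Normal := Lib.Cores.pPrimeCore_normal 2
  -- injectivity on `Q`
  have hinj : ∀ x y : T, x ∈ T.Q → y ∈ T.Q → π (h.φ x) = π (h.φ y) → x = y := by
    intro x y hx hy hxy
    have h1 : π (h.φ (x * y⁻¹)) = 1 := by
      rw [map_mul, map_mul, hxy, ← map_mul, ← map_mul, mul_inv_cancel, map_one, map_one]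
    have h2 := Q_inf_odd h (oddCore_odd G) (x := h.φ (x * y⁻¹))
      ⟨_, mul_mem hx (inv_mem hy), rfl⟩ ((hπ1 _).mp h1)
    have h3 : x * y⁻¹ = 1 := h.inj (by rw [h2, map_one])
    exact mul_inv_eq_one.mp h3
  have hQn : (h.Q.map π).Normal := by
    refine ⟨?_⟩
    rintro _ ⟨x, hx, rfl⟩ y
    obtain ⟨g, rfl⟩ := hπs y
    have h1 := (normal_M h hz f2 hSF hFT hZS).conj_mem x (mem_sup_left hx) g
    rw [← SetLike.mem_coe, Subgroup.mul_normal, Set.mem_mul] at h1
    obtain ⟨a, ha, b, hb, hab⟩ := h1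
    refine ⟨a, ha, ?_⟩
    rw [← map_inv, ← map_mul, ← map_mul, ← hab, map_mul, (hπ1 b).mpr hb, mul_one]
  have hz1 : (1 : T) ≠ T.z := by decide
  have hyp : Hyp (h.Q.map π) (π h.z) := by
    refine ⟨?_, ?_, ?_, ⟨_, z_mem_Q h, rfl⟩, ?_, ?_, ?_⟩
    · intro h1
      have h2 : π (h.φ 1) = π (h.φ T.z) := by rw [map_one, map_one]; exact h1.symm
      exact hz1 (hinj _ _ (by decide) (by decide) h2)
    · rw [← map_mul, zz, map_one]
    · intro c
      obtain ⟨g, rfl⟩ := hπs c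
      rw [← map_mul, ← map_mul, hz g]
    · rintro _ ⟨_, ⟨x, hx, rfl⟩, rfl⟩ _ ⟨_, ⟨y, hy, rfl⟩, rfl⟩
      show π (h.φ x) * π (h.φ y) = π (h.φ y) * π (h.φ x) ∨
        π (h.φ x) * π (h.φ y) = π (h.φ T.z) * (π (h.φ y) * π (h.φ x))
      rw [← map_mul, ← map_mul, ← map_mul, ← map_mul, ← map_mul, ← map_mul]
      rcases ZModel.Q_comm x y hx hy with h1 | h1
      · left; rw [h1]
      · right; rw [h1]
    · rintro _ ⟨_, ⟨x, hx, rfl⟩, rfl⟩
      rw [← map_mul, ← map_mul]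
      rcases ZModel.Q_sq x hx with h1 | h1
      · left; rw [h1, map_one, map_one]
      · right; rw [h1]; rfl
    · intro c hc
      obtain ⟨g, rfl⟩ := hπs c
      have h1 := cent_M h hz f2 hSF hFT hZS (g := g) (by
        intro x hx
        rw [← hπ1, map_mul, map_mul, map_mul, hc (π x) ⟨x, hx, rfl⟩, map_inv, map_inv,
          mul_inv_cancel_right, mul_inv_cancel])
      rw [← SetLike.mem_coe, Subgroup.mul_normal, Set.mem_mul] at h1
      obtain ⟨_, ⟨q, hq, rfl⟩, b, hb, rfl⟩ := h1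
      have h2 : π (h.φ q * b) = π (h.φ q) := by rw [map_mul, (hπ1 b).mpr hb, mul_one]
      rw [h2] at hc ⊢
      have h3 : q = 1 ∨ q = T.z := by
        refine ZModel.cent_Q q ?_
        intro y hy
        apply hinj _ _ (mul_mem hq hy) (mul_mem hy hq)
        rw [map_mul, map_mul, map_mul, map_mul]
        exact hc _ ⟨_, ⟨y, hy, rfl⟩, rfl⟩
      rcases h3 with h3 | h3
      · left; rw [h3, map_one, map_one]
      · right; rw [h3]; rfl
  have hidx : (h.Q.map π).index = 60 := by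
    have h1 : ((h.Q.map π).comap π).index = (h.Q.map π).index :=
      index_comap_of_surjective _ hπs
    rw [← h1, comap_map_eq, hker]
    have hM := normal_M h hz f2 hSF hFT hZS
    obtain ⟨f⟩ := quot_M h hz f2 hSF hFT hZS hM
    rw [Subgroup.index_eq_card, Nat.card_congr f.toEquiv, nat_card_alternatingGroup,
      Nat.card_eq_fintype_card]
    decide
  have h60 : Nat.card (X ⧸ h.Q.map π) = 60 := by
    rw [← hidx]; rfl
  have h32 : Nat.card (h.Q.map π) = 32 := by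
    have h1 : h.Q.map π = T.Q.map (π.comp h.φ) := by rw [← Subgroup.map_map]; rfl
    rw [h1, ← T.card_Q]
    refine (Nat.card_congr (Equiv.ofBijective (fun x : T.Q =>
      (⟨π (h.φ x), ⟨x, x.2, rfl⟩⟩ : T.Q.map (π.comp h.φ))) ⟨?_, ?_⟩)).symm
    · intro x y hxy
      exact Subtype.ext (hinj _ _ x.2 y.2 (congrArg Subtype.val hxy))
    · rintro ⟨_, x, hx, rfl⟩
      exact ⟨⟨x, hx⟩, rfl⟩
  have F : Five (h.Q.map π) (π h.z) (fun i => π (h.φ (r i))) := by
    refine ⟨fun i => ⟨_, ⟨_, r_mem i, rfl⟩, rfl⟩, ?_, ?_, ?_, ?_⟩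
    · intro i
      rw [← map_mul, ← map_mul, r_sq, map_one, map_one]
    · intro i j hij
      show π (h.φ (r i)) * π (h.φ (r j)) = π (h.φ T.z) * (π (h.φ (r j)) * π (h.φ (r i)))
      rw [← map_mul, ← map_mul, ← map_mul, ← map_mul, ← map_mul, ← map_mul, r_anti i j hij]
    · rw [← map_mul, ← map_mul, ← map_mul, ← map_mul, ← map_mul, ← map_mul, ← map_mul, ← map_mul,
        r_prod, map_one, map_one]
    · rintro _ ⟨_, ⟨q, hq, rfl⟩, rfl⟩
      rcases r_cover q hq with (h1 | h1) | ⟨i, h1 | h1⟩ | ⟨i, j, hij, h1 | h1⟩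
      · left; left; rw [h1, map_one, map_one]
      · left; right; rw [h1]; rfl
      · right; left; exact ⟨i, Or.inl (by rw [h1])⟩
      · right; left; exact ⟨i, Or.inr (by rw [h1, map_mul, map_mul]; rfl)⟩
      · right; right; exact ⟨i, j, hij, Or.inl (by rw [h1, map_mul, map_mul])⟩
      · right; right; exact ⟨i, j, hij, Or.inr (by rw [h1, map_mul, map_mul, map_mul, map_mul]; rfl)⟩
  refine ⟨isModel_of_hyp hyp h60 F ?_ ?_, ?_⟩
  · intro i
    constructor
    · intro h1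
      have h2 : π (h.φ (r i)) = π (h.φ 1) := by rw [map_one, map_one]; exact h1
      exact (r_ne i).1 (hinj _ _ (r_mem i) (one_mem _) h2)
    · intro h1
      exact (r_ne i).2 (hinj _ _ (r_mem i) (by decide) h1)
  · intro i j hij
    constructor
    · intro h1
      exact (r_ne' i j hij).1 (hinj _ _ (r_mem i) (r_mem j) h1)
    · intro h1
      have h2 : π (h.φ (r i)) = π (h.φ (T.z * r j)) := by
        rw [map_mul, map_mul]; exact h1
      exact (r_ne' i j hij).2 (hinj _ _ (r_mem i) (mul_mem (by decide) (r_mem j)) h2)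
  · have h1 := Subgroup.card_eq_card_quotient_mul_card_subgroup (h.Q.map π)
    rw [h60, h32] at h1
    omega

end Cfsg.Agent.J2Sylow.ZIsModel

namespace Cfsg.Agent.J2Sylow

open Subgroup Model Cfsg.Agent.J2Sylow.Functor CentZBuild
open Cfsg.Agent.J2Sylow.ZNonsing (ZStar)

universe u

/-- `C(z)/O(C(z))` has a signed permutation model -/
theorem cz_of' (hSF : SolvFun.{u}) (hFT : OddSolv.{u}) (hZS : ZStar.{u}) {G : Type u} [Group G]
    [Finite G] (h : Setup G)
    (f2 : ∃ g : G, g * h.z = h.z * g ∧ (∀ x ∈ h.Q, g * x * g⁻¹ ∈ h.Q) ∧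
      g * h.tau * g⁻¹ = h.v) : CZ h := by
  have hOn : (Cfsg.oddCore (centralizer ({h.z} : Set G))).Normal := Lib.Cores.pPrimeCore_normal 2
  set π := QuotientGroup.mk' (Cfsg.oddCore (centralizer ({h.z} : Set G))) with hπ
  obtain ⟨⟨ρ, hρ⟩, hcard⟩ := ZIsModel.model (setupC h) (hzC h) (f2C h f2) hSF hFT hZS π
    (QuotientGroup.mk'_surjective _) (QuotientGroup.ker_mk' _)
  refine ⟨_, _, π, _, _, _, ρ, QuotientGroup.mk'_surjective _, ?_, hρ, hcard, ?_, ?_⟩
  · intro g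
    rw [← mem_OC]
    exact QuotientGroup.eq_one_iff g
  · intro g hg
    exact ⟨g, (mem_QC h g).mpr hg, rfl⟩
  · intro g hg
    have h1 : g = (setupC h).z := Subtype.ext hg
    rw [h1]

theorem cz_of (hSF : SolvFun.{u}) (hFT : OddSolv.{u}) (hZS : ZStar.{u}) {G : Type u} [Group G]
    [Finite G] (h : Setup G) (F : Fused h) : CZ h := cz_of' hSF hFT hZS h F.f2

end Cfsg.Agent.J2Sylow
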