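import Mathlib
import Cfsg.Agent.J2Sylow.ZIsModel
import Cfsg.Agent.J2Sylow.TabZ
import Cfsg.Agent.SignalizersComponents.SFTwo
import Cfsg.Agent.S0205
import Cfsg.Agent.S0215

/-!
# `CentZ` without hypotheses
-/

set_option autoImplicit false

namespace Cfsg.Agent.J2Sylow.InstZ

universe u

theorem solvFun : Functor.SolvFun.{u} := by
  intro X _ _ A θ h1 h2 h3 h4 h5 h6 h7 h8
  exact (SignalizersComponents.SFTwo.result A h1 h2 h3 θ h4 h5 h6 h7 h8).1

theorem oddSolv : Functor.OddSolv.{u} := fun _ _ _ hX => S0205.result hX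

theorem zStar : ZNonsing.ZStar.{u} := fun _ _ _ P a ha haP h => S0215.result P a ha haP h

/-- **The structure of the centralizer of `z`** -/
theorem centZ {G : Type u} [Group G] [Finite G] (h : Setup G) (F : Fused h) : CentZ h :=
  centZ_of solvFun oddSolv zStar h F

/-- `C(z)/O(C(z))` has a signed permutation model -/
theorem cz {G : Type u} [Group G] [Finite G] (h : Setup G) (F : Fused h) : CZ h :=
  cz_of solvFun oddSolv zStar h F

end Cfsg.Agent.J2Sylow.InstZ
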