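import Mathlib
import Cfsg.Prelude.Def_CaseTheorems
import Cfsg.Prelude.Def_Local
import Cfsg.Prelude.Def_Transfer
import Cfsg.Agent.J2Sylow.J3EndAux
import Cfsg.Agent.J3Type.OneClass
import Cfsg.Agent.SignalizersComponents.Components
import Cfsg.Agent.S1296

/-!
# The end of the `J₃`-type case, with abstract hypotheses

`G` simple with one class of involutions, `C(z)/O(C(z))` 2-constrained, `G` of 2-rank at least 3.
Then `O(C(z)) = 1`.
-/

set_option autoImplicit false

namespace Cfsg.Agent.J2Sylow.J3EndGen

open Subgroup Cfsg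
open scoped commutatorElement

variable {G : Type*} [Group G]

theorem hasComponent_congr {X Y : Type*} [Group X] [Group Y] (e : X ≃* Y) (h : HasComponent X) :
    HasComponent Y := by
  obtain ⟨K, hK, hq⟩ := h
  have h2 := Cfsg.Agent.SignalizersComponents.Components.isComponent_map_equiv e
    (K := K) ⟨hK, hq⟩
  exact ⟨_, h2.1, h2.2⟩

theorem hasComponent_quotient_congr {C D : Type*} [Group C] [Group D] (e : C ≃* D)
    (h : HasComponent (C ⧸ oddCore C)) : HasComponent (D ⧸ oddCore D) :=
  hasComponent_congr (QuotientGroup.congr (oddCore C) (oddCore D) e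
    (Lib.Cores.map_equiv_pPrimeCore e 2)) h

/-- A nonabelian group with an elementary abelian 2-subgroup of order more than 2 which is simple has
no normal subgroup of index 2. -/
theorem no_index_two [Finite G] [IsSimpleGroup G] (h4 : 2 < Nat.card G) (N : Subgroup G)
    (hN : N.Normal) : N.index ≠ 2 := by
  intro hi
  rcases hN.eq_bot_or_eq_top with h | h
  · rw [h, index_bot] at hi
    omega
  · rw [h, index_top] at hi
    omega

/-- In a simple group with one class of involutions, 2-constrained centralisers and rank at least 3 the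
cores of the centralisers of involutions are trivial. -/
theorem core_eq_bot [Finite G] [IsSimpleGroup G] (z : G) (hz : orderOf z = 2) (Q : Subgroup G)
    (hQC : Q ≤ Subgroup.centralizer ({z} : Set G)) (hQp : IsPGroup 2 Q)
    (hnor : ((Q ⊔ Cfsg.centralizerPPrimeCore 2 z).subgroupOf
      (Subgroup.centralizer ({z} : Set G))).Normal)
    (hcent : ∀ g, g * z = z * g → (∀ x ∈ Q, g * x * g⁻¹ * x⁻¹ ∈ Cfsg.centralizerPPrimeCore 2 z) →
      g ∈ Q ⊔ Cfsg.centralizerPPrimeCore 2 z)
    (A : Subgroup G) (hA : IsMulCommutative A) (hA2 : ∀ a ∈ A, a ^ 2 = 1) (hAcard : 4 < Nat.card A)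
    (hone : ∀ x y : G, orderOf x = 2 → orderOf y = 2 → IsConj x y) :
    Cfsg.centralizerPPrimeCore 2 z = ⊥ := by
  have : Fact (Nat.Prime 2) := ⟨Nat.prime_two⟩
  set C := Subgroup.centralizer ({z} : Set G) with hC
  have hKC : Cfsg.centralizerPPrimeCore 2 z ≤ C := map_subtype_le _
  -- facts inside `C`
  have hsup : (Q ⊔ Cfsg.centralizerPPrimeCore 2 z).subgroupOf C
      ≤ Q.subgroupOf C ⊔ oddCore C := by
    have h1 : (Cfsg.centralizerPPrimeCore 2 z).subgroupOf C = oddCore C := by
      unfold Cfsg.centralizerPPrimeCore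
      exact Subgroup.comap_map_eq_self_of_injective C.subtype_injective _
    rw [← h1, subgroupOf_sup hQC hKC]
  have hcomp : ¬ HasComponent (C ⧸ oddCore C) := by
    refine J3EndAux.not_hasComponent (Q.subgroupOf C) _ ?_ hnor ?_ hsup ?_
    · exact hQp.comap_of_injective C.subtype C.subtype_injective
    · exact Subgroup.comap_mono le_sup_left
    · intro g hg
      rw [mem_subgroupOf]
      apply hcent g (mem_centralizer_singleton_iff.1 g.2)
      intro x hx
      have h2 := hg ⟨x, hQC hx⟩ (by rw [mem_subgroupOf]; exact hx)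
      exact ⟨_, h2, rfl⟩
  have h4 : 2 < Nat.card G := by
    have := A.card_le_card_group
    omega
  have heven : Even (Nat.card G) := by
    rw [even_iff_two_dvd, ← hz]
    exact orderOf_dvd_natCard z
  have hO : Cfsg.oddCore G = ⊥ := by
    rcases (inferInstance : (oddCore G).Normal).eq_bot_or_eq_top with h | h
    · exact h
    · exfalso
      have h5 : (Nat.card (oddCore G)).Coprime 2 := Lib.Cores.pPrimeCore_coprime 2
      rw [h, card_top] at h5
      rw [Nat.coprime_comm, Nat.coprime_two_left] at h5
      exact (Nat.not_even_iff_odd.2 h5) heven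
  rcases Cfsg.Agent.S1296.result heven (fun N hN => no_index_two h4 N hN) hO with h | h | h
  · exfalso
    have := h A hA hA2
    omega
  · exfalso
    obtain ⟨t, ht, hcompt⟩ := h
    obtain ⟨g, hg⟩ := isConj_iff.1 (hone t z ht hz)
    exact hcomp (hasComponent_quotient_congr (J3Type.OneClass.conjEquiv g t z hg) hcompt)
  · exact J3EndAux.centralizerPPrimeCore_eq_bot h hz

end Cfsg.Agent.J2Sylow.J3EndGen
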