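import Mathlib
import Cfsg.Prelude.Def_Transfer
import Cfsg.Agent.J2.ExtQuot
import Cfsg.Agent.J2Sylow.Setup

/-!
# The extraspecial subgroup `Q` of the model group `T`

`Q` is extraspecial of order 32 and of minus type (no elementary abelian subgroup of order 8), also for
its image in `G` and seen inside the centraliser of `z`.
-/

set_option autoImplicit false

namespace Cfsg.Agent.J2Sylow.QFacts

open Model Subgroup

theorem isPGroup_T : IsPGroup 2 T := IsPGroup.of_card (n := 7) (by rw [T.card_T]; norm_num)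

theorem sq_mem : ∀ x : T, x ∈ T.Q → x * x = 1 ∨ x * x = T.z := by decide +kernel

theorem comm_cases : ∀ x y : T, x ∈ T.Q → y ∈ T.Q → x * x = 1 → y * y = 1 → x * y = y * x →
    x ≠ 1 → x ≠ T.z → y = 1 ∨ y = x ∨ y = T.z ∨ y = x * T.z := by decide +kernel

theorem center_cases : ∀ x : T, x ∈ T.Q → (∀ y : T, y ∈ T.Q → x * y = y * x) → x = 1 ∨ x = T.z := by
  decide +kernel

theorem z_mem : T.z ∈ T.Q := by decide
theorem z_ne_one : T.z ≠ 1 := by decide

theorem exists_not_comm : ∃ x : T, x ∈ T.Q ∧ ∃ y : T, y ∈ T.Q ∧ x * y ≠ y * x := by decide +kernel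

theorem card_center_Q : Nat.card (center T.Q) = 2 := by
  rw [Nat.card_eq_two_iff' (1 : center T.Q)]
  have hzc : (⟨T.z, z_mem⟩ : T.Q) ∈ center T.Q := by
    rw [mem_center_iff]
    intro g
    apply Subtype.ext
    exact (T.z_comm g.1).symm
  refine ⟨⟨⟨T.z, z_mem⟩, hzc⟩, ?_, ?_⟩
  · intro h
    exact z_ne_one (congrArg (fun x : center T.Q => ((x : T.Q) : T)) h)
  · rintro ⟨⟨y, hy⟩, hyc⟩ hne
    rw [mem_center_iff] at hyc
    rcases center_cases y hy (fun g hg => (congrArg Subtype.val (hyc ⟨g, hg⟩)).symm) with h | h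
    · exact absurd (Subtype.ext (Subtype.ext h)) hne
    · exact Subtype.ext (Subtype.ext h)

theorem isExtraspecial_Q : Cfsg.IsExtraspecial 2 T.Q := by
  apply Cfsg.Agent.J2.ExtQuot.isExtraspecial_two
  · exact isPGroup_T.to_subgroup _
  · exact card_center_Q
  · rintro ⟨x, hx⟩
    rw [mem_center_iff]
    intro g
    apply Subtype.ext
    change g.1 * x ^ 2 = x ^ 2 * g.1
    rw [pow_two]
    rcases sq_mem x hx with h | h
    · rw [h, one_mul, mul_one]
    · rw [h, T.z_comm]
  · obtain ⟨x, hx, y, hy, hxy⟩ := exists_not_comm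
    exact ⟨⟨x, hx⟩, ⟨y, hy⟩, fun h => hxy (congrArg Subtype.val h)⟩

theorem card_le_four (E : Subgroup T.Q) (hE : Cfsg.IsElementaryAbelian 2 E) : Nat.card E ≤ 2 ^ 2 := by
  classical
  obtain ⟨hc, h2⟩ := hE
  have hsq : ∀ x : T.Q, x ∈ E → (x : T) * x = 1 := by
    intro x hx
    have := congrArg Subtype.val (h2 x hx)
    rw [pow_two] at this
    exact this
  by_cases h : ∃ x : T.Q, x ∈ E ∧ (x : T) ≠ 1 ∧ (x : T) ≠ T.z
  · obtain ⟨x, hx, hx1, hxz⟩ := h
    have hsub : (E : Set T.Q) ⊆ (({1, x, ⟨T.z, z_mem⟩, x * ⟨T.z, z_mem⟩} : Finset T.Q) : Set T.Q) := by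
      intro y hy
      have hxy : (x : T) * y = y * x := by
        have := congrArg (fun a : E => ((a : T.Q) : T)) (hc.is_comm.comm ⟨x, hx⟩ ⟨y, hy⟩)
        exact this
      rcases comm_cases x y x.2 y.2 (hsq x hx) (hsq y hy) hxy hx1 hxz with h | h | h | h
      · have : y = 1 := Subtype.ext h
        simp [this]
      · have : y = x := Subtype.ext h
        simp [this]
      · have : y = ⟨T.z, z_mem⟩ := Subtype.ext h
        simp [this]
      · have : y = x * ⟨T.z, z_mem⟩ := Subtype.ext h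
        simp [this]
    calc Nat.card E = (E : Set T.Q).ncard := rfl
      _ ≤ (({1, x, ⟨T.z, z_mem⟩, x * ⟨T.z, z_mem⟩} : Finset T.Q) : Set T.Q).ncard :=
          Set.ncard_le_ncard hsub (Finset.finite_toSet _)
      _ = (({1, x, ⟨T.z, z_mem⟩, x * ⟨T.z, z_mem⟩} : Finset T.Q)).card := Set.ncard_coe_finset _
      _ ≤ 2 ^ 2 := Finset.card_le_four
  · push Not at h
    have hsub : (E : Set T.Q) ⊆ (({1, ⟨T.z, z_mem⟩} : Finset T.Q) : Set T.Q) := by
      intro y hy
      by_cases hy1 : (y : T) = 1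
      · have : y = 1 := Subtype.ext hy1
        simp [this]
      · have : y = ⟨T.z, z_mem⟩ := Subtype.ext (h y hy hy1)
        simp [this]
    calc Nat.card E = (E : Set T.Q).ncard := rfl
      _ ≤ (({1, ⟨T.z, z_mem⟩} : Finset T.Q) : Set T.Q).ncard :=
          Set.ncard_le_ncard hsub (Finset.finite_toSet _)
      _ = (({1, ⟨T.z, z_mem⟩} : Finset T.Q)).card := Set.ncard_coe_finset _
      _ ≤ 2 := Finset.card_le_two
      _ ≤ 2 ^ 2 := by norm_num

section G

variable {G : Type*} [Group G] (h : Setup G)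

theorem Q_le_centralizer : h.Q ≤ centralizer ({h.z} : Set G) := by
  rintro _ ⟨x, -, rfl⟩
  rw [mem_centralizer_singleton_iff]
  change h.φ x * h.φ T.z = h.φ T.z * h.φ x
  rw [← map_mul, ← map_mul, T.z_comm]

theorem orderOf_z : orderOf h.z = 2 := by
  apply orderOf_eq_prime
  · change (h.φ T.z) ^ 2 = 1
    rw [pow_two, ← map_mul, show T.z * T.z = 1 by decide, map_one]
  · change h.φ T.z ≠ 1
    rw [← map_one h.φ]
    intro hh
    exact z_ne_one (h.inj hh)

/-- `T.Q` as a subgroup of `C_G(z)` -/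
noncomputable def equivQ : T.Q ≃* (h.Q.subgroupOf (centralizer ({h.z} : Set G))) :=
  (T.Q.equivMapOfInjective h.φ h.inj).trans (subgroupOfEquivOfLe (Q_le_centralizer h)).symm

theorem isExtraspecial_subgroupOf :
    Cfsg.IsExtraspecial 2 (h.Q.subgroupOf (centralizer ({h.z} : Set G))) :=
  Cfsg.Agent.J2.ExtQuot.isExtraspecial_of_equiv (equivQ h) isExtraspecial_Q

theorem card_subgroupOf : Nat.card (h.Q.subgroupOf (centralizer ({h.z} : Set G))) = 32 := by
  rw [← Nat.card_congr (equivQ h).toEquiv, T.card_Q]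

theorem card_le_four' (E : Subgroup (h.Q.subgroupOf (centralizer ({h.z} : Set G))))
    (hE : Cfsg.IsElementaryAbelian 2 E) : Nat.card E ≤ 2 ^ 2 := by
  have e := equivQ h
  have h1 : Cfsg.IsElementaryAbelian 2 (E.map e.symm.toMonoidHom) := by
    obtain ⟨hc, h2⟩ := hE
    constructor
    · refine ⟨⟨?_⟩⟩
      rintro ⟨_, a, ha, rfl⟩ ⟨_, b, hb, rfl⟩
      apply Subtype.ext
      change e.symm a * e.symm b = e.symm b * e.symm a
      rw [← map_mul, ← map_mul]
      congr 1
      exact congrArg Subtype.val (hc.is_comm.comm ⟨a, ha⟩ ⟨b, hb⟩)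
    · rintro _ ⟨a, ha, rfl⟩
      change (e.symm a) ^ 2 = 1
      rw [← map_pow, h2 a ha, map_one]
  have h3 := card_le_four _ h1
  have h4 : Nat.card E = Nat.card (E.map e.symm.toMonoidHom) :=
    Nat.card_congr (e.symm.subgroupMap E).toEquiv
  rw [h4]
  exact h3

end G

end Cfsg.Agent.J2Sylow.QFacts
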