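import Mathlib
import Cfsg.Prelude.Def_Spor_J3
import Cfsg.Agent.J2Sylow.QFacts
import Cfsg.Agent.J2Sylow.J3EndGen
import Cfsg.Agent.S1658

/-!
# The end of the `J₃`-type case

A simple group with a Sylow 2-subgroup of type J2 and one class of involutions, in which
`C(z)/O(C(z))` is `2^{1+4}_-:A₅`, is isomorphic to `J₃`.
-/

set_option autoImplicit false

namespace Cfsg.Agent.J2Sylow.J3End

open Model Subgroup

variable {G : Type*} [Group G] (h : Setup G)

/-- The core of `C(z)` is trivial in the `J₃`-type case. -/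
theorem core_eq_bot [Finite G] [IsSimpleGroup G]
    (hnor : ((h.Q ⊔ Cfsg.centralizerPPrimeCore 2 h.z).subgroupOf (centralizer ({h.z} : Set G))).Normal)
    (hcent : ∀ g, g * h.z = h.z * g →
      (∀ x ∈ h.Q, g * x * g⁻¹ * x⁻¹ ∈ Cfsg.centralizerPPrimeCore 2 h.z) →
      g ∈ h.Q ⊔ Cfsg.centralizerPPrimeCore 2 h.z)
    (hone : ∀ x y : G, orderOf x = 2 → orderOf y = 2 → IsConj x y) :
    Cfsg.centralizerPPrimeCore 2 h.z = ⊥ := by
  refine J3EndGen.core_eq_bot h.z (QFacts.orderOf_z h) h.Q (QFacts.Q_le_centralizer h) ?_ hnor hcent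
    h.E1 ?_ ?_ ?_ hone
  · exact (QFacts.isPGroup_T.to_subgroup T.Q).map h.φ
  · refine ⟨⟨?_⟩⟩
    rintro ⟨_, a, ha, rfl⟩ ⟨_, b, hb, rfl⟩
    apply Subtype.ext
    change h.φ a * h.φ b = h.φ b * h.φ a
    rw [← map_mul, ← map_mul, T.E1_comm a b ha hb]
  · rintro _ ⟨a, ha, rfl⟩
    rw [← map_pow, pow_two, T.E1_sq a ha, map_one]
  · have h1 : Nat.card h.E1 = 16 := by
      rw [← T.card_E1]
      exact (Nat.card_congr (T.E1.equivMapOfInjective h.φ h.inj).toEquiv).symm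
    rw [h1]; norm_num

/-- **The `J₃`-type case.** -/
theorem isoJ3 [Finite G] [IsSimpleGroup G]
    (hnor : ((h.Q ⊔ Cfsg.centralizerPPrimeCore 2 h.z).subgroupOf (centralizer ({h.z} : Set G))).Normal)
    (hquot : Nonempty (↥(centralizer ({h.z} : Set G)) ⧸
      ((h.Q ⊔ Cfsg.centralizerPPrimeCore 2 h.z).subgroupOf (centralizer ({h.z} : Set G)))
        ≃* alternatingGroup (Fin 5)))
    (hcent : ∀ g, g * h.z = h.z * g →
      (∀ x ∈ h.Q, g * x * g⁻¹ * x⁻¹ ∈ Cfsg.centralizerPPrimeCore 2 h.z) →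
      g ∈ h.Q ⊔ Cfsg.centralizerPPrimeCore 2 h.z)
    (hone : ∀ x y : G, orderOf x = 2 → orderOf y = 2 → IsConj x y) :
    Cfsg.Spor.IsoJ3 G := by
  have hK := core_eq_bot h hnor hcent hone
  rw [hK, sup_bot_eq] at hcent hnor
  obtain ⟨e⟩ := hquot
  have hQeq : (h.Q ⊔ Cfsg.centralizerPPrimeCore 2 h.z).subgroupOf (centralizer ({h.z} : Set G))
      = h.Q.subgroupOf (centralizer ({h.z} : Set G)) := by
    rw [hK, sup_bot_eq]
  have e2 : ↥(centralizer ({h.z} : Set G)) ⧸ h.Q.subgroupOf (centralizer ({h.z} : Set G))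
      ≃* alternatingGroup (Fin 5) :=
    (QuotientGroup.quotientMulEquivOfEq hQeq.symm).trans e
  refine Cfsg.Agent.S1658.result h.z (QFacts.orderOf_z h) (h.Q.subgroupOf _)
    (QFacts.isExtraspecial_subgroupOf h) (QFacts.card_subgroupOf h) (QFacts.card_le_four' h) ?_ e2 hone
  intro g hg
  rw [mem_subgroupOf]
  apply hcent g (mem_centralizer_singleton_iff.1 g.2)
  intro x hx
  rw [mem_bot]
  have hx' : (⟨x, QFacts.Q_le_centralizer h hx⟩ : centralizer ({h.z} : Set G)) ∈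
      (h.Q.subgroupOf (centralizer ({h.z} : Set G)) : Set (centralizer ({h.z} : Set G))) := by
    rw [SetLike.mem_coe, mem_subgroupOf]; exact hx
  have h1 := congrArg Subtype.val (mem_centralizer_iff.1 hg _ hx')
  have h2 : x * (g : G) = g * x := h1
  rw [← h2]; group

end Cfsg.Agent.J2Sylow.J3End
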