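import Mathlib
import Cfsg.Agent.J2Sylow.LemmaD
import Cfsg.Agent.J2Sylow.TabA

set_option autoImplicit false

/-!
# Piece D of S1776, final form: `good_of_cover`
-/

namespace Cfsg.Agent.J2Sylow.LemmaDStd

open Model Model.F4 Subgroup
open Cfsg.Agent.J2Sylow Cfsg.Agent.J2Sylow.LemmaD

universe u

/-- the structure of `C(z)` for all groups with a Sylow 2-subgroup of type J2 and without
isolated `z` (piece CentZ). -/
def CentZAll : Prop :=
  ∀ (X : Type u) [Group X] [Finite X] (h : Setup X), Fused h → VaSub.CZ0 h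

/-- **Piece D**: an overgroup `H` of `S` covering `C(z)/O(C(z))` and containing a Sylow
`r`-subgroup of `O(C(z))` is good, if the induction hypothesis holds in `H`. -/
theorem good_of_cover (hcz : CentZAll.{u}) {G : Type u} [Group G] [Finite G] (h : Setup G)
    (F : Fused h) (T : Tab h) {r : ℕ} (hr : r.Prime) (hr2 : r ≠ 2) (hB : ¬ Bal r h)
    {H : Subgroup G} (hS : h.S ≤ H)
    (cover : ∀ g, g * h.z = h.z * g → ∃ k ∈ KK h.z, k * g ∈ H)
    (rpart : ¬ r ∣ (KK h.z ⊓ H).relIndex (KK h.z))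
    (hind : ∀ h2 : Setup H, (∀ t, ((h2.φ t : H) : G) = h.φ t) → Fused h2 → Std h2 → Bal r h2) :
    ∃ N, Good h r H N := by
  have hc : VaSub.CZ0 h := hcz G h F
  refine good_of_cover' h F T hr hr2 hB hS cover rpart (fun F2 => ?_) hind
  exact TabA.std_of_le (setupOf h hS) (fun t => rfl) F ((Twist.J2_iff hc).2 T.nconj) T.c3 F2
    (hcz H _ F2)

end Cfsg.Agent.J2Sylow.LemmaDStd
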