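import Mathlib
import Cfsg.Agent.J2Sylow.CentAbs
import Cfsg.Agent.TwoFusion.PSLTwoGood

set_option autoImplicit false

/-!
# The centralizer of `z₁` when no odd element is inverted

`W = C/O(C)` as in `CentAbs.Concl`.  If no element of odd order of `C_L(z₁)` is inverted by `v₁`
then `C_X(z₁) = U`.
-/

namespace Cfsg.Agent.J2Sylow.MOne

open Subgroup Cfsg Cfsg.Agent.Lib
open scoped commutatorElement

universe u

/-- A group of order four and exponent two. -/
theorem four_cases {G : Type*} [Group G] {U : Subgroup G} (hU : Nat.card U = 4)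
    (hsq : ∀ x ∈ U, x * x = 1) {z v : G} (hz : z ∈ U) (hv : v ∈ U) (hz1 : z ≠ 1) (hv1 : v ≠ 1)
    (hzv : z ≠ v) {x : G} (hx : x ∈ U) : x = 1 ∨ x = z ∨ x = v ∨ x = z * v := by
  by_contra hcon
  push Not at hcon
  obtain ⟨h1, h2, h3, h4⟩ := hcon
  have hfin : Finite U := Nat.finite_of_card_ne_zero (by rw [hU]; norm_num)
  have hzv1 : z * v ≠ 1 := fun e => hzv (by
    have h5 : z * v = z * z := by rw [e, hsq z hz]
    exact (mul_left_cancel h5).symm)
  have hzvz : z * v ≠ z := fun e => hv1 (mul_eq_left.mp e)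
  have hzvv : z * v ≠ v := fun e => hz1 (mul_eq_right.mp e)
  have h5 : ({1, z, v, z * v, x} : Set G) ⊆ (U : Set G) := by
    rintro y (rfl | rfl | rfl | rfl | rfl)
    · exact U.one_mem
    · exact hz
    · exact hv
    · exact U.mul_mem hz hv
    · exact hx
  have h6 : ({1, z, v, z * v, x} : Set G).ncard = 5 := by
    rw [Set.ncard_insert_of_notMem, Set.ncard_insert_of_notMem, Set.ncard_eq_three.mpr
      ⟨v, z * v, x, hzvv.symm, fun e => h3 e.symm, fun e => h4 e.symm, rfl⟩]
    · rintro (e | e | e)
      · exact hzv e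
      · exact hzvz e.symm
      · exact h2 e.symm
    · rintro (e | e | e | e)
      · exact hz1 e.symm
      · exact hv1 e.symm
      · exact hzv1 e.symm
      · exact h1 e.symm
  have h7 := Set.ncard_le_ncard h5 (Set.toFinite _)
  rw [h6] at h7
  have h8 : (U : Set G).ncard = 4 := hU
  omega

/-- If no element of odd order of `C(z)` is inverted by `v`, then `|C(z)| = 4`. -/
theorem card_centralizer_four {G : Type*} [Group G] [Finite G] {U : Subgroup G}
    (hU : Nat.card U = 4) (hsq : ∀ x ∈ U, x * x = 1) (hodd : Odd U.index)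
    (hself : centralizer (U : Set G) ≤ U) {z v : G} (hz : z ∈ U) (hv : v ∈ U) (hz1 : z ≠ 1)
    (hv1 : v ≠ 1) (hzv : z ≠ v)
    (hno : ∀ x, x * z = z * x → v * x * v⁻¹ = x⁻¹ → Odd (orderOf x) → x = 1) :
    centralizer ({z} : Set G) ≤ U := by
  have : Fact (Nat.Prime 2) := ⟨Nat.prime_two⟩
  have hcomm : ∀ x ∈ U, ∀ y ∈ U, x * y = y * x := by
    intro x hx y hy
    have hi : ∀ z ∈ U, z⁻¹ = z := fun z hz => inv_eq_of_mul_eq_one_left (hsq z hz)
    have h1 := hi _ (U.mul_mem hx hy)
    rw [mul_inv_rev, hi x hx, hi y hy] at h1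
    exact h1.symm
  set D := centralizer ({z} : Set G) with hD
  have hUD : U ≤ D := by
    intro x hx
    rw [hD, mem_centralizer_singleton_iff]
    exact hcomm x hx z hz
  have hPc : Nat.card (U.subgroupOf D) = 4 := by
    rw [← hU]; exact Nat.card_congr (subgroupOfEquivOfLe hUD).toEquiv
  have hPp : IsPGroup 2 (U.subgroupOf D) := IsPGroup.of_card (n := 2) (by rw [hPc]; norm_num)
  have hPi : ¬ 2 ∣ (U.subgroupOf D).index := by
    intro h
    have h1 := relIndex_mul_index hUD
    rw [← h1] at hodd
    exact (Nat.not_even_iff_odd.mpr (Nat.odd_mul.mp hodd).1) (even_iff_two_dvd.mpr h)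
  let P : Sylow 2 D := hPp.toSylow hPi
  have hPval : (P : Subgroup D) = U.subgroupOf D := rfl
  have hcen : ∀ k : G, k * z = z * k → k * v = v * k → k ∈ U := by
    intro k hkz hkv
    apply hself
    rw [mem_centralizer_iff]
    intro y hy
    rcases four_cases hU hsq hz hv hz1 hv1 hzv hy with rfl | rfl | rfl | rfl
    · rw [mul_one, one_mul]
    · exact hkz.symm
    · exact hkv.symm
    · rw [mul_assoc, ← hkv, ← mul_assoc, ← hkz, mul_assoc]
  have hN : normalizer ((P : Subgroup D) : Set D) ≤ centralizer ((P : Subgroup D) : Set D) := by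
    intro n hn
    have hnv : (n : G) * v * (n : G)⁻¹ ∈ U := by
      have h1 : (⟨v, hUD hv⟩ : D) ∈ (P : Subgroup D) := by
        rw [hPval, mem_subgroupOf]; exact hv
      have h2 := (mem_normalizer_iff.mp hn _).mp h1
      rw [hPval, mem_subgroupOf] at h2
      exact h2
    have hnz : (n : G) * z = z * n := mem_centralizer_singleton_iff.mp n.2
    have hnz' : (n : G) * z * (n : G)⁻¹ = z := by rw [hnz]; group
    have hnU : (n : G) ∈ U := by
      by_cases h3 : (n : G) * v * (n : G)⁻¹ = v
      · refine hcen _ hnz ?_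
        calc (n : G) * v = (n : G) * v * (n : G)⁻¹ * n := by group
          _ = v * n := by rw [h3]
      · have h4 : (n : G) * v * (n : G)⁻¹ = z * v := by
          rcases four_cases hU hsq hz hv hz1 hv1 hzv hnv with h | h | h | h
          · exfalso
            apply hv1
            have : v = (n : G)⁻¹ * ((n : G) * v * (n : G)⁻¹) * n := by group
            rw [this, h]; group
          · exfalso
            apply hzv
            have h5 : v = (n : G)⁻¹ * ((n : G) * v * (n : G)⁻¹) * n := by group
            rw [h5, h, mul_assoc, ← hnz]; group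
          · exact absurd h h3
          · exact h
        -- n ^ 2 ∈ U
        have h6 : (n : G) * n ∈ U := by
          apply hcen
          · rw [mul_assoc, hnz, ← mul_assoc, hnz, mul_assoc]
          · have h7 : (n : G) * n * v * ((n : G) * n)⁻¹ = v := by
              calc (n : G) * n * v * ((n : G) * n)⁻¹ = n * (n * v * (n : G)⁻¹) * (n : G)⁻¹ := by
                    group
                _ = n * (z * v) * (n : G)⁻¹ := by rw [h4]
                _ = (n * z * (n : G)⁻¹) * (n * v * (n : G)⁻¹) := by group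
                _ = z * (z * v) := by rw [hnz', h4]
                _ = v := by rw [← mul_assoc, hsq z hz, one_mul]
            exact mul_inv_eq_iff_eq_mul.mp h7
        have h8 : (n : G) ^ 4 = 1 := by
          have := hsq _ h6
          rw [← this, show (4 : ℕ) = 2 + 2 by norm_num, pow_add, pow_two]
        have h9 : IsPGroup 2 (zpowers n) := by
          refine IsPGroup.of_card (n := (Nat.card (zpowers n)).factorization 2) ?_
          rw [Nat.card_zpowers]
          have h10 : orderOf n ∣ 2 ^ 2 := orderOf_dvd_of_pow_eq_one (Subtype.ext (by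
            rw [coe_pow]; exact h8))
          obtain ⟨k, -, hk⟩ := (Nat.dvd_prime_pow Nat.prime_two).mp h10
          rw [hk, Nat.Prime.factorization_pow Nat.prime_two]
          simp
        have h11 := h9.inf_normalizer_sylow P
        have h12 : n ∈ zpowers n ⊓ (P : Subgroup D) := h11.le ⟨mem_zpowers n, hn⟩
        exact mem_subgroupOf.mp h12.2
    rw [mem_centralizer_iff]
    intro y hy
    exact Subtype.ext (hcomm _ (mem_subgroupOf.mp hy) _ hnU)
  set K := (MonoidHom.transferSylow P hN).ker with hK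
  have hcomp := MonoidHom.ker_transferSylow_isComplement' P hN
  have hKodd : ¬ 2 ∣ Nat.card K := MonoidHom.not_dvd_card_ker_transferSylow P hN
  have hKn : K.Normal := MonoidHom.normal_ker _
  have hvD : v ∈ D := hUD hv
  let φ : K →* K := (MulAut.conjNormal (⟨v, hvD⟩ : D) : MulAut K).toMonoidHom
  have hφ : ∀ k : K, ((φ k : D) : G) = v * (k : D) * v⁻¹ := fun k => rfl
  have hfpf : MonoidHom.FixedPointFree φ := by
    intro k hk
    have h1 : v * ((k : D) : G) * v⁻¹ = (k : D) := by rw [← hφ, hk]
    have h2 : ((k : D) : G) ∈ U := by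
      apply hcen
      · exact mem_centralizer_singleton_iff.mp (k : D).2
      · symm
        calc v * ((k : D) : G) = v * (k : D) * v⁻¹ * v := by group
          _ = (k : D) * v := by rw [h1]
    have h3 : (k : D) ∈ K ⊓ (P : Subgroup D) := ⟨k.2, mem_subgroupOf.mpr h2⟩
    rw [hcomp.disjoint.eq_bot, mem_bot] at h3
    exact Subtype.ext h3
  have hinv : Function.Involutive φ := by
    intro k
    apply Subtype.ext
    apply Subtype.ext
    rw [hφ, hφ]
    have h4 : v * v = 1 := hsq v hv
    have h5 : v⁻¹ = v := inv_eq_of_mul_eq_one_left h4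
    rw [h5]
    calc v * (v * ((k : D) : G) * v) * v = (v * v) * ((k : D) : G) * (v * v) := by group
      _ = (k : D) := by rw [h4, one_mul, mul_one]
  have h13 := hfpf.coe_eq_inv_of_involutive hinv
  have hKbot : K = ⊥ := by
    rw [eq_bot_iff]
    intro k hk
    rw [mem_bot]
    apply Subtype.ext
    apply hno
    · exact mem_centralizer_singleton_iff.mp k.2
    · have h14 : φ ⟨k, hk⟩ = (⟨k, hk⟩ : K)⁻¹ := congrFun h13 _
      have h15 := hφ ⟨k, hk⟩
      rw [h14] at h15
      exact h15.symm
    · have h16 : orderOf (k : G) ∣ Nat.card K := by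
        have h17 : orderOf (⟨k, hk⟩ : K) ∣ Nat.card K := orderOf_dvd_natCard _
        rw [← Subgroup.orderOf_coe, ← Subgroup.orderOf_coe] at h17
        exact h17
      rcases Nat.even_or_odd (orderOf (k : G)) with h | h
      · exact absurd ((even_iff_two_dvd.mp h).trans h16) hKodd
      · exact h
  have htop : (P : Subgroup D) = ⊤ := by
    have hcomp' : K.IsComplement' (P : Subgroup D) := hcomp
    rw [hKbot] at hcomp'
    exact isComplement'_bot_left.mp hcomp'
  rw [hPval, subgroupOf_eq_top] at htop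
  exact htop

theorem card_mul_relIndex_aux {G : Type*} [Group G] {U X : Subgroup G} (h : U ≤ X) :
    Nat.card U * U.relIndex X = Nat.card X := by
  rw [← Nat.card_congr (subgroupOfEquivOfLe h).toEquiv]
  exact card_mul_index _

/-- `PSL₂(q)` with a self-centralizing four-group as centralizer of an involution has order `60`
and five Sylow 2-subgroups. -/
theorem psl_sixty {F : Type*} [Field F] [Fintype F] (hodd : Odd (Fintype.card F))
    (hcard : 3 < Fintype.card F)
    (P : Sylow 2 (Matrix.ProjectiveSpecialLinearGroup (Fin 2) F))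
    (hP : IsMulCommutative (P : Subgroup (Matrix.ProjectiveSpecialLinearGroup (Fin 2) F)))
    {a : Matrix.ProjectiveSpecialLinearGroup (Fin 2) F} (ha : orderOf a = 2)
    (hc : Nat.card (centralizer ({a} : Set (Matrix.ProjectiveSpecialLinearGroup (Fin 2) F))) = 4) :
    Nat.card (Matrix.ProjectiveSpecialLinearGroup (Fin 2) F) = 60 ∧
      Nat.card (Sylow 2 (Matrix.ProjectiveSpecialLinearGroup (Fin 2) F)) = 5 := by
  have h2' : Fact (Nat.Prime 2) := ⟨Nat.prime_two⟩
  have h2 : (2 : F) ≠ 0 := Cfsg.Agent.ClassicalGeometry.SLTwoFour.two_ne_zero_of_odd hodd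
  have h8 := TwoFusion.PSLTwoGood.mod_eight hodd P hP
  have h3 := TwoFusion.PSLTwoGood.card_centralizer hodd ha
  rw [hc] at h3
  have hq : Fintype.card F = 5 := by
    rcases h8 with h | h
    · rw [Cfsg.Agent.ClassicalGeometry.SLTwoFour.card_circle_three (by omega)] at h3
      omega
    · rw [Cfsg.Agent.ClassicalGeometry.SLTwoFour.card_circle_one (by omega)] at h3
      omega
  have h4 := Cfsg.Agent.ClassicalGeometry.PSL2Basic.card_PSL2_odd F hodd
  rw [hq] at h4
  have h5 : Nat.card (Matrix.ProjectiveSpecialLinearGroup (Fin 2) F) = 60 := by omega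
  refine ⟨h5, ?_⟩
  have hk : ∀ Q : Sylow 2 (Matrix.ProjectiveSpecialLinearGroup (Fin 2) F),
    IsKleinFour (Q : Subgroup (Matrix.ProjectiveSpecialLinearGroup (Fin 2) F)) :=
    fun Q => Cfsg.Agent.S0276.result rfl h8 Q
  have h1 : Nat.card {V : Subgroup (Matrix.ProjectiveSpecialLinearGroup (Fin 2) F) //
      IsKleinFour V} = Nat.card (Sylow 2 (Matrix.ProjectiveSpecialLinearGroup (Fin 2) F)) := by
    symm
    refine Nat.card_congr (Equiv.ofBijective (fun Q =>
      ⟨(Q : Subgroup (Matrix.ProjectiveSpecialLinearGroup (Fin 2) F)), hk Q⟩) ⟨?_, ?_⟩)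
    · intro Q R h
      exact Sylow.ext (congrArg Subtype.val h)
    · rintro ⟨V, hV⟩
      have hVc : Nat.card V = 4 := IsKleinFour.card_four
      have hVp : IsPGroup 2 V := IsPGroup.of_card (n := 2) hVc
      obtain ⟨Q, hQ⟩ := hVp.exists_le_sylow
      refine ⟨Q, Subtype.ext ?_⟩
      have := hk Q
      exact (Subgroup.eq_of_le_of_card_ge hQ (by
        rw [hVc]
        exact (IsKleinFour.card_four (G := (Q : Subgroup
          (Matrix.ProjectiveSpecialLinearGroup (Fin 2) F)))).le)).symm
  have h6 := Cfsg.Agent.ClassicalGeometry.PSL2Klein.card_klein (F := F) h2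
  rw [h1, h5] at h6
  omega

/-- If no element of odd order of `C_L(z₁)` is inverted by `v₁` then `C_X(z₁) ≤ U`. -/
theorem cent_le_U {W : Type u} [Group W] [Finite W] {V U X L : Subgroup W}
    (hC : CentAbs.Concl V U X L)
    (hpsl : ⁅L, L⁆ = L → (∀ M : Subgroup W, M.Normal → M ≤ L → M = ⊥ ∨ M = L) →
      ∃ (F : Type) (_ : Field F) (_ : Fintype F), Odd (Fintype.card F) ∧ 3 < Fintype.card F ∧
        Nonempty (L ≃* Matrix.ProjectiveSpecialLinearGroup (Fin 2) F))
    {z1 v1 : W} (hz : z1 ∈ U) (hv : v1 ∈ U) (hz1 : z1 ≠ 1) (hv1 : v1 ≠ 1) (hzv : z1 ≠ v1)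
    (hno : ∀ x ∈ L, x * z1 = z1 * x → v1 * x * v1⁻¹ = x⁻¹ → Odd (orderOf x) → x = 1) :
    centralizer ({z1} : Set W) ⊓ X ≤ U := by
  have : Fact (Nat.Prime 2) := ⟨Nat.prime_two⟩
  rcases hC.type with ⟨hLX, hL12, hUn, hUc⟩ | ⟨hperf, hmin⟩
  · -- |X| = 12
    subst hLX
    have hUcomm : U ≤ centralizer ({z1} : Set W) ⊓ L := by
      intro x hx
      refine ⟨?_, hC.Ule hx⟩
      refine mem_centralizer_singleton_iff.mpr ?_
      exact CentAbs.comm_of_sq hC.sqU hx hz
    set E := centralizer ({z1} : Set W) ⊓ L with hE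
    have h1 : Nat.card E ∣ 12 := hL12 ▸ Subgroup.card_dvd_of_le inf_le_right
    have h2 : 4 ∣ Nat.card E := hC.cardU ▸ Subgroup.card_dvd_of_le hUcomm
    have h3 : Nat.card E ≠ 12 := by
      intro h
      have h4 : E = L := Subgroup.eq_of_le_of_card_ge inf_le_right (by rw [h, hL12])
      obtain ⟨c, hcX, hc1, hc2⟩ := hC.conj
      rw [← h4] at hcX
      have h5 := mem_centralizer_singleton_iff.mp hcX.1
      exact hz1 (hc2 z1 hz (by rw [h5]; group))
    have h4 : Nat.card E = 4 := by
      obtain ⟨k, hk⟩ := h2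
      have hk3 : k ∣ 3 := by
        obtain ⟨m, hm⟩ := h1
        rw [hk] at hm
        exact ⟨m, by linarith⟩
      rcases (Nat.dvd_prime Nat.prime_three).mp hk3 with rfl | rfl
      · omega
      · omega
    exact (Subgroup.eq_of_le_of_card_ge hUcomm (by rw [h4, hC.cardU])).ge
  · obtain ⟨F, _, _, hFodd, hFcard, ⟨e⟩⟩ := hpsl hperf hmin
    have hLfin : Finite L := inferInstance
    set UL : Subgroup L := U.subgroupOf L with hUL
    have hULcard : Nat.card UL = 4 := by
      rw [← hC.cardU]
      exact Nat.card_congr (subgroupOfEquivOfLe hC.Ule).toEquiv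
    have hULsq : ∀ x ∈ UL, x * x = 1 := fun x hx =>
      Subtype.ext (hC.sqU _ (mem_subgroupOf.mp hx))
    have hULodd : Odd UL.index := by
      have h1 := relIndex_mul_relIndex U L X hC.Ule hC.le
      have h2 := hC.oddU
      rw [← h1] at h2
      exact (Nat.odd_mul.mp h2).1
    have hUp : IsPGroup 2 UL := IsPGroup.of_card (n := 2) (by rw [hULcard]; norm_num)
    have hUi : ¬ 2 ∣ UL.index := fun hd =>
      (Nat.not_even_iff_odd.mpr hULodd) (even_iff_two_dvd.mpr hd)
    let S : Sylow 2 L := hUp.toSylow hUi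
    have hSval : (S : Subgroup L) = UL := rfl
    let S' : Sylow 2 (Matrix.ProjectiveSpecialLinearGroup (Fin 2) F) :=
      S.mapSurjective (f := e.toMonoidHom) e.surjective
    have hS'val : (S' : Subgroup _) = (S : Subgroup L).map e.toMonoidHom := rfl
    have hS'c : IsMulCommutative (S' : Subgroup (Matrix.ProjectiveSpecialLinearGroup (Fin 2) F)) := by
      refine ⟨⟨?_⟩⟩
      rintro ⟨_, ⟨x, hx, rfl⟩⟩ ⟨_, ⟨y, hy, rfl⟩⟩
      apply Subtype.ext
      change e x * e y = e y * e x
      rw [← map_mul, ← map_mul]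
      congr 1
      exact Subtype.ext (CentAbs.comm_of_sq hC.sqU (mem_subgroupOf.mp hx) (mem_subgroupOf.mp hy))
    have hgood := (TwoFusion.PSLTwoGood.good_psl hFodd S' hS'c).of_mulEquiv e
    have hself : centralizer (UL : Set L) ≤ UL := hgood.selfc S
    set zL : L := ⟨z1, hC.Ule hz⟩ with hzL
    set vL : L := ⟨v1, hC.Ule hv⟩ with hvL
    have hcentL : centralizer ({zL} : Set L) ≤ UL := by
      refine card_centralizer_four hULcard hULsq hULodd hself (z := zL) (v := vL)
        (mem_subgroupOf.mpr hz) (mem_subgroupOf.mpr hv) (fun h => hz1 (congrArg Subtype.val h))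
        (fun h => hv1 (congrArg Subtype.val h)) (fun h => hzv (congrArg Subtype.val h)) ?_
      intro x h1 h2 h3
      apply Subtype.ext
      exact hno x x.2 (congrArg Subtype.val h1) (congrArg Subtype.val h2)
        (by rwa [Subgroup.orderOf_coe])
    have hzUL : zL ∈ UL := mem_subgroupOf.mpr hz
    have hcard4 : Nat.card (centralizer ({zL} : Set L)) = 4 := by
      rw [← hULcard]
      congr 1
      have : UL ≤ centralizer ({zL} : Set L) := by
        intro x hx
        rw [mem_centralizer_singleton_iff]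
        exact Subtype.ext (CentAbs.comm_of_sq hC.sqU (mem_subgroupOf.mp hx)
          (mem_subgroupOf.mp hzUL))
      rw [le_antisymm hcentL this]
    have hzord : orderOf zL = 2 := orderOf_eq_prime (by rw [pow_two]; exact hULsq _ hzUL)
      (fun h => hz1 (congrArg Subtype.val h))
    have hcard4' : Nat.card (centralizer ({e zL} :
        Set (Matrix.ProjectiveSpecialLinearGroup (Fin 2) F))) = 4 := by
      rw [← TwoFusion.PSLTwoGood.centralizer_map_equiv e zL, ← hcard4]
      exact Subgroup.card_map_of_injective e.injective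
    obtain ⟨h60, h5⟩ := psl_sixty hFodd hFcard S' hS'c (a := e zL)
      (by rw [MulEquiv.orderOf_eq, hzord]) hcard4'
    have hL60 : Nat.card L = 60 := by rw [← h60]; exact Nat.card_congr e.toEquiv
    -- the action of `W` on the five Sylow 2-subgroups
    have := hC.Lnormal
    let φ : W →* Equiv.Perm (Sylow 2 (Matrix.ProjectiveSpecialLinearGroup (Fin 2) F)) :=
      (MulAction.toPermHom (MulAut (Matrix.ProjectiveSpecialLinearGroup (Fin 2) F))
        (Sylow 2 (Matrix.ProjectiveSpecialLinearGroup (Fin 2) F))).comp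
        ((MulAut.congr e).toMonoidHom.comp MulAut.conjNormal)
    have hφL : ∀ l : L, ∀ Q : Sylow 2 (Matrix.ProjectiveSpecialLinearGroup (Fin 2) F),
        φ l Q = (e l) • Q := by
      intro l Q
      change (MulAut.congr e (MulAut.conjNormal (l : W))) • Q = _
      rw [Sylow.smul_def]
      congr 1
      ext x
      change e ((MulAut.conjNormal (l : W)) (e.symm x)) = _
      rw [MulAut.conjNormal_val, MulAut.conj_apply, map_mul, map_mul, map_inv, e.apply_symm_apply,
        MulAut.conj_apply]
    have hkL : φ.ker ⊓ L = ⊥ := by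
      rcases hmin (φ.ker ⊓ L) (by infer_instance) inf_le_right with h | h
      · exact h
      · exfalso
        have h7 : ∀ Q R : Sylow 2 (Matrix.ProjectiveSpecialLinearGroup (Fin 2) F), Q = R := by
          intro Q R
          obtain ⟨g, hg⟩ := MulAction.exists_smul_eq
            (Matrix.ProjectiveSpecialLinearGroup (Fin 2) F) Q R
          rw [← hg, ← e.apply_symm_apply g, ← hφL]
          have h8 : ((e.symm g : L) : W) ∈ φ.ker ⊓ L := by rw [h]; exact (e.symm g).2
          rw [MonoidHom.mem_ker.mp h8.1]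
          rfl
        have h9 : Subsingleton (Sylow 2 (Matrix.ProjectiveSpecialLinearGroup (Fin 2) F)) := ⟨h7⟩
        have h10 : Nat.card (Sylow 2 (Matrix.ProjectiveSpecialLinearGroup (Fin 2) F)) ≤ 1 :=
          Finite.card_le_one_iff_subsingleton.mpr h9
        omega
    have hXn := hC.Xnormal
    have hkX : φ.ker ⊓ X = ⊥ := by
      rw [eq_bot_iff, ← hC.cent]
      rintro k ⟨hk1, hk2⟩
      refine ⟨?_, hk2⟩
      refine mem_centralizer_iff.mpr ?_
      intro l hl
      have h11 : k * l * k⁻¹ * l⁻¹ ∈ φ.ker ⊓ L := by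
        constructor
        · have : k * l * k⁻¹ * l⁻¹ = k * (l * k⁻¹ * l⁻¹) := by group
          rw [this]
          exact φ.ker.mul_mem hk1 ((MonoidHom.normal_ker φ).conj_mem _ (φ.ker.inv_mem hk1) l)
        · exact L.mul_mem (hC.Lnormal.conj_mem l hl k) (L.inv_mem hl)
      rw [hkL, mem_bot] at h11
      have h12 : k * l * k⁻¹ = l := mul_inv_eq_one.mp h11
      symm
      calc k * l = k * l * k⁻¹ * k := by group
        _ = l * k := by rw [h12]
    have hinj : Function.Injective (φ.comp X.subtype) := by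
      rw [injective_iff_map_eq_one]
      intro x hx
      have : (x : W) ∈ φ.ker ⊓ X := ⟨hx, x.2⟩
      rw [hkX, mem_bot] at this
      exact Subtype.ext this
    have hX120 : Nat.card X ∣ 120 := by
      have h13 := Subgroup.card_dvd_of_injective _ hinj
      rw [Nat.card_perm, h5] at h13
      exact h13
    have hX60 : 60 ∣ Nat.card X := hL60 ▸ Subgroup.card_dvd_of_le hC.le
    have hXne : Nat.card X ≠ 120 := by
      intro h
      have h14 := card_mul_relIndex_aux (hC.Ule.trans hC.le)
      rw [hC.cardU, h] at h14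
      have h15 := hC.oddU
      obtain ⟨k, hk⟩ := h15
      omega
    have hXeq : Nat.card X = 60 := by
      obtain ⟨k, hk⟩ := hX60
      have hk2 : k ∣ 2 := by
        obtain ⟨m, hm⟩ := hX120
        rw [hk] at hm
        exact ⟨m, by linarith⟩
      rcases (Nat.dvd_prime Nat.prime_two).mp hk2 with rfl | rfl
      · omega
      · omega
    have hLX : L = X := Subgroup.eq_of_le_of_card_ge hC.le (by rw [hXeq, hL60])
    rintro x ⟨hx1, hx2⟩
    rw [← hLX] at hx2
    have h16 : (⟨x, hx2⟩ : L) ∈ centralizer ({zL} : Set L) := by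
      rw [mem_centralizer_singleton_iff]
      exact Subtype.ext (mem_centralizer_singleton_iff.mp hx1)
    exact mem_subgroupOf.mp (hcentL h16)

end Cfsg.Agent.J2Sylow.MOne
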