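import Mathlib
import Cfsg.Agent.J2Sylow.FusionMore
import Cfsg.Agent.S0215

set_option autoImplicit false

/-!
# Simple groups with a Sylow 2-subgroup of J2 type have the fusion of J2 or J3
-/

namespace Cfsg.Agent.J2Sylow.Setup

open Model Subgroup

variable {G : Type*} [Group G] (h : Setup G)

/-- `S` as a Sylow subgroup. -/
noncomputable def sylow [Finite G] : Sylow 2 G :=
  IsPGroup.toSylow h.isPGroup_S (by
    have := h.odd_index
    rw [← Nat.not_even_iff_odd, even_iff_two_dvd] at this
    exact this)

theorem coe_sylow [Finite G] : (h.sylow : Subgroup G) = h.S := rfl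

include h in
theorem card_dvd [Finite G] : 128 ∣ Nat.card G := by
  rw [← h.card_S]; exact Subgroup.card_subgroup_dvd_card _

include h in
theorem index_ne_two [Finite G] [IsSimpleGroup G] (H : Subgroup G) : H.index ≠ 2 := by
  intro hH
  have hn : H.Normal := normal_of_index_eq_two hH
  have h128 := h.card_dvd
  rcases hn.eq_bot_or_eq_top with h1 | h1
  · rw [h1, Subgroup.index_bot] at hH
    rw [hH] at h128
    norm_num at h128
  · rw [h1, Subgroup.index_top] at hH
    omega

/-- `z` is not isolated in a simple group. -/
theorem not_isolated [Finite G] [IsSimpleGroup G] :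
    ∃ g, g * h.z * g⁻¹ ∈ h.S ∧ g * h.z * g⁻¹ ≠ h.z := by
  by_contra hcon
  push Not at hcon
  obtain ⟨N, hN, hodd, hc⟩ := S0215.result h.sylow h.z
    (h.orderOf_phi_two (by decide) (by decide)) h.z_mem_S hcon
  have hNbot : N = ⊥ := by
    rcases hN.eq_bot_or_eq_top with h1 | h1
    · exact h1
    · exfalso
      rw [h1, Subgroup.card_top] at hodd
      have h128 := h.card_dvd
      rw [Nat.odd_iff] at hodd
      omega
  have hz : h.z ∈ Subgroup.center G := by
    rw [Subgroup.mem_center_iff]
    intro g
    have h1 := hc g
    rw [hNbot, Subgroup.mem_bot] at h1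
    have h2 : h.z * g = g * h.z := by
      have h3 : h.z * g = (h.z * g * h.z⁻¹ * g⁻¹) * (g * h.z) := by group
      rw [h3, h1, one_mul]
    exact h2.symm
  have hcen : Subgroup.center G = ⊤ := by
    rcases (inferInstance : (Subgroup.center G).Normal).eq_bot_or_eq_top with h1 | h1
    · rw [h1, Subgroup.mem_bot] at hz
      have h2 : T.z = 1 := h.inj (hz.trans (map_one h.φ).symm)
      exact absurd h2 (by decide)
    · exact h1
  have h1 : h.v ∈ Subgroup.center G := hcen ▸ Subgroup.mem_top _
  have h2 := Subgroup.mem_center_iff.1 h1 h.tau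
  have h3 : T.tau * T.v = T.v * T.tau := h.inj (by rw [map_mul, map_mul]; exact h2)
  exact absurd h3 (by decide)

/-- A simple group with a Sylow 2-subgroup of J2 type has the fusion of `J2` or `J3`. -/
theorem fused_of_simple [Finite G] [IsSimpleGroup G] : Fused h :=
  h.fused (fun H => h.index_ne_two H) h.not_isolated

end Cfsg.Agent.J2Sylow.Setup
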