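import Mathlib
import Cfsg.Agent.J2Sylow.BalAll
import Cfsg.Agent.J2Sylow.CentZ
import Cfsg.Agent.J2Sylow.TabZ
import Cfsg.Agent.J2Sylow.ZIsModel
import Cfsg.Agent.J2Sylow.Balance
import Cfsg.Agent.J2Sylow.MOne

set_option autoImplicit false

/-! The balance property for all groups of J2-type (step (4) of S1776), final form. -/

namespace Cfsg.Agent.J2Sylow.TabAll

open Subgroup Model Model.F4 E1Fusion E1J2 VaSub Twist Cfsg

universe u

theorem cz0_of {G : Type u} [Group G] {h : Setup G} (c : CentZ h) : CZ0 h := ⟨c.normal, c.quot⟩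

/-- all the facts -/
theorem tab_of (gw : CentPSL.GW.{u}) {G : Type u} [Group G] [Finite G] {h : Setup G}
    (F : Fused h) (hs : Std h) (hn : ¬ IsConj h.z h.a) (c : CentZ h) : Tab h := by
  have hc := cz0_of c
  have hJ : J2 h := (J2_iff hc).mpr hn
  exact { nconj := hn, cls := TabZ.tab_cls h F, zz := TabZ.tab_zz h F hn,
          za := TabZ.tab_za h F c hn, c3 := hs, d3 := TabA.d3 F hJ hc hs,
          two := TabZ.tab_two h c, cen := fun g hg => TabA.cen F hJ hs g hg,
          star := Star.star gw F hJ hs }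

/-- **The balance property, `r`-part.** -/
theorem bal_r (hSF : Functor.SolvFun.{u}) (hFT : Functor.OddSolv.{u}) (hZS : ZNonsing.ZStar.{u})
    (gw : CentPSL.GW.{u}) {G : Type u} [Group G] [Finite G] {h : Setup G} (F : Fused h)
    (hs : Std h) (hn : ¬ IsConj h.z h.a) {r : ℕ} (hr : r.Prime) (hr2 : r ≠ 2) : Bal r h := by
  refine BalAll.bal_all (fun G _ _ h F hs hn => ?_) (fun G _ _ h F hs hn H h2 hcomp F2 => ?_) hr hr2
    (Nat.card G) G rfl h F hs hn
  · exact ⟨tab_of gw F hs hn (centZ_of hSF hFT hZS h F), cz_of hSF hFT hZS h F⟩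
  · have hc := cz0_of (centZ_of hSF hFT hZS h F)
    have hc2 := cz0_of (centZ_of hSF hFT hZS h2 F2)
    exact TabA.std_of_le h2 hcomp F ((J2_iff hc).mpr hn) hs F2 hc2

/-- from prime powers to all odd orders -/
theorem bal_of_bal_r {G : Type u} [Group G] [Finite G] {h : Setup G}
    (hb : ∀ r : ℕ, r.Prime → r ≠ 2 → Bal r h) :
    ∀ x ∈ KK h.z, (∀ t, x * h.el t o = h.el t o * x) → h.v * x * h.v⁻¹ = x⁻¹ → x ∈ KK h.a := by
  have key : ∀ n : ℕ, ∀ x ∈ KK h.z, orderOf x = n → (∀ t, x * h.el t o = h.el t o * x) →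
      h.v * x * h.v⁻¹ = x⁻¹ → x ∈ KK h.a := by
    intro n
    induction n using Nat.recOnPosPrimePosCoprime with
    | prime_pow p k hp hk =>
      intro x hx hxn hc hv
      have hodd : Odd (orderOf x) := Functor.odd_orderOf_of_mem (Functor.K_odd _) hx
      have hp2 : p ≠ 2 := by
        rintro rfl
        rw [hxn] at hodd
        exact (Nat.not_even_iff_odd.mpr hodd) (Nat.even_pow.mpr ⟨even_two, hk.ne'⟩)
      exact hb p hp hp2 x hx hc hv ⟨k, hxn ▸ pow_orderOf_eq_one x⟩
    | zero =>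
      intro x hx hxn
      exact absurd hxn (orderOf_pos x).ne'
    | one =>
      intro x hx hxn hc hv
      rw [orderOf_eq_one_iff.mp hxn]
      exact one_mem _
    | coprime a b ha hb' hab iha ihb =>
      intro x hx hxn hc hv
      have h1 : orderOf (x ^ b) = a := by
        rw [orderOf_pow, hxn, Nat.gcd_eq_right (Dvd.intro_left a rfl)]
        exact Nat.mul_div_cancel a (by omega)
      have h2 : orderOf (x ^ a) = b := by
        rw [orderOf_pow, hxn, Nat.gcd_eq_right (Dvd.intro b rfl)]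
        exact Nat.mul_div_cancel_left b (by omega)
      have hcp : ∀ (m : ℕ) t, x ^ m * h.el t o = h.el t o * x ^ m := fun m t =>
        ((show Commute x (h.el t o) from hc t).pow_left m)
      have hvp : ∀ m : ℕ, h.v * x ^ m * h.v⁻¹ = (x ^ m)⁻¹ := by
        intro m
        rw [← conj_pow, hv, inv_pow]
      have h3 := iha (x ^ b) ((KK h.z).pow_mem hx b) h1 (hcp b) (hvp b)
      have h4 := ihb (x ^ a) ((KK h.z).pow_mem hx a) h2 (hcp a) (hvp a)
      obtain ⟨s, t, hst⟩ : ∃ s t : ℤ, (b : ℤ) * s + a * t = 1 := by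
        have := (Int.isCoprime_iff_gcd_eq_one.mpr (by simpa using hab) : IsCoprime (a : ℤ) b)
        obtain ⟨s, t, hst⟩ := this
        exact ⟨t, s, by linarith⟩
      have h5 : x = (x ^ b) ^ s * (x ^ a) ^ t := by
        rw [← zpow_natCast, ← zpow_natCast, ← zpow_mul, ← zpow_mul, ← zpow_add, hst, zpow_one]
      rw [h5]
      exact (KK h.a).mul_mem ((KK h.a).zpow_mem h3 s) ((KK h.a).zpow_mem h4 t)
  exact fun x hx => key (orderOf x) x hx rfl

/-- **The balance property.** -/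
theorem bal_final (hSF : Functor.SolvFun.{u}) (hFT : Functor.OddSolv.{u})
    (hZS : ZNonsing.ZStar.{u}) (gw : CentPSL.GW.{u}) {G : Type u} [Group G] [Finite G]
    {h : Setup G} (F : Fused h) (hs : Std h) (hn : ¬ IsConj h.z h.a) :
    ∀ x ∈ KK h.z, (∀ t, x * h.el t o = h.el t o * x) → h.v * x * h.v⁻¹ = x⁻¹ → x ∈ KK h.a :=
  bal_of_bal_r fun _ hr hr2 => bal_r hSF hFT hZS gw F hs hn hr hr2

/-- the `m = 1` lemma -/
theorem mone : Balance.MOneStmt.{u} := by
  intro W _ _ V U X L hC hpsl z1 v1 hz hv hz1 hv1 hzv hno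
  exact MOne.cent_le_U hC hpsl hz hv hz1 hv1 hzv hno

/-- **Balance on `E1`**, in a group of J2-type. -/
theorem balance_final (hSF : Functor.SolvFun.{u}) (hFT : Functor.OddSolv.{u})
    (hZS : ZNonsing.ZStar.{u}) (gw : CentPSL.GW.{u}) {G : Type u} [Group G] [Finite G]
    {h : Setup G} (F : Fused h) (hn : ¬ IsConj h.z h.a) {a' b : G} (ha' : a' ∈ h.E1)
    (ha'1 : a' ≠ 1) (hb : b ∈ h.E1) (hbU : b ∉ h.U) : KK a' ⊓ centralizer {b} ≤ KK b := by
  have c := centZ_of hSF hFT hZS h F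
  have hc := cz0_of c
  have hJ : J2 h := (J2_iff hc).mpr hn
  obtain ⟨t, hs⟩ := exists_std F hJ hc
  have F' := twist_fused F t
  have hJ' := twist_J2 hJ t
  have hc' := twist_CZ0 hc t
  have hn' : ¬ IsConj (twist h t).z (twist h t).a := (J2_iff hc').mp hJ'
  have c' := centZ_of hSF hFT hZS (twist h t) F'
  refine Balance.balance (h := twist h t) gw mone F' hJ' hs hc' (TabZ.tab_two _ c')
    (bal_final hSF hFT hZS gw F' hs hn') ?_ ha'1 ?_ ?_
  · rwa [twist_E1]
  · rwa [twist_E1]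
  · rwa [twist_U]

end Cfsg.Agent.J2Sylow.TabAll
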