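import Mathlib
import Cfsg.Agent.J2Sylow.TabAll
import Cfsg.Agent.J2Sylow.Simple
import Cfsg.Agent.J2Sylow.Balanced
import Cfsg.Agent.J2Sylow.FinalJ3

/-!
The main theorem on groups with a Sylow 2-subgroup of J2 type.
-/

set_option autoImplicit false

namespace Cfsg.Agent.J2Sylow.Main

open Subgroup Model Cfsg
open Cfsg.Agent.Dichotomy.Elem Cfsg.Agent.Dichotomy.Functor
open Cfsg.Agent.J2Sylow.TabAll Cfsg.Agent.J2Sylow.E1J2 Cfsg.Agent.J2Sylow.Twist
open Cfsg.Agent.J2Sylow.VaSub Cfsg.Agent.Lib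

universe u

/-- strongly embedded subgroups have their cores in the core of the group (S1221) -/
def SECore : Prop := ∀ {G : Type u} [Group G] [Finite G] (H : Subgroup G),
  IsStronglyEmbedded H → (Cfsg.oddCore ↥H).map H.subtype ≤ Cfsg.oddCore G

section

variable {G : Type u} [Group G]

theorem cz_of_centZ {h : Setup G} (c : CentZ h) : Balanced.CZ h := by
  have := c.normal
  obtain ⟨e⟩ := c.quot
  refine ⟨⟨e.toMonoidHom.comp (QuotientGroup.mk' _), ?_⟩, c.cent⟩
  have h1 : (e.toMonoidHom.comp (QuotientGroup.mk' ((h.Q ⊔ Functor.K h.z).subgroupOf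
      (centralizer ({h.z} : Set G))))).ker = (QuotientGroup.mk' ((h.Q ⊔ Functor.K h.z).subgroupOf
      (centralizer ({h.z} : Set G)))).ker := MonoidHom.ker_mulEquiv_comp _ e
  rw [h1, QuotientGroup.ker_mk']

theorem a_eq_t (h : Setup G) : h.a = h.t := rfl

/-- A normal subgroup of odd order lies in the odd core. -/
theorem le_oddCore {G : Type*} [Group G] {N : Subgroup G} (hN : N.Normal)
    (hodd : ¬ 2 ∣ Nat.card N) : N ≤ Cfsg.oddCore G :=
  le_sSup ⟨hN, ((Nat.Prime.coprime_iff_not_dvd Nat.prime_two).mpr hodd).symm⟩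

theorem oddCore_eq_bot [Finite G] [IsSimpleGroup G] (h : Setup G) : Cfsg.oddCore G = ⊥ := by
  have h1 : (Cfsg.oddCore G).Normal := Cores.pPrimeCore_normal (G := G) 2
  rcases h1.eq_bot_or_eq_top with h2 | h2
  · exact h2
  · exfalso
    have h3 := Cores.pPrimeCore_coprime (G := G) 2
    have h4 := h.card_dvd
    rw [show pPrimeCore 2 G = ⊤ from h2, card_top, Nat.coprime_two_right] at h3
    rw [Nat.odd_iff] at h3
    omega

/-- In the J3-type and the J2-type case the core functor is balanced. -/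
theorem fun_of_simple (hSF : Functor.SolvFun.{u}) (hFT : Functor.OddSolv.{u})
    (hZS : ZNonsing.ZStar.{u}) (gw : CentPSL.GW.{u}) [Finite G] (h : Setup G) (F : Fused h) :
    Fun G := by
  have c := centZ_of hSF hFT hZS h F
  have hc := cz0_of c
  have cz := cz_of_centZ c
  by_cases hn : IsConj h.z h.a
  · have hall : ∀ e ∈ h.E1, e ∉ h.U → IsConj h.z e := by
      rintro _ ⟨x, hx, rfl⟩ hU
      have hxU : x ∉ T.U := fun h1 => hU ⟨x, h1, rfl⟩
      exact hn.trans (h.isConj_E1 F hx hxU).symm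
    exact Balanced.fun_of' h F cz (fun e he hU hcn => absurd (hall e he hU) hcn)
      (fun e he hU hcn => absurd (hall e he hU) hcn)
  · have hJ : J2 h := (J2_iff hc).mpr hn
    refine Balanced.fun_of' h F cz ?_ ?_
    · intro e he hU _ a ha hae
      exact CentA.conj_mem_E1 F hJ he hU ha hae
    · intro e he hU _ a ha ha1
      exact balance_final hSF hFT hZS gw F hn ha ha1 he hU

/-- All the cores `O(C(t))` are trivial. -/
theorem core_eq_bot (hSF : Functor.SolvFun.{u}) (hFT : Functor.OddSolv.{u})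
    (hZS : ZNonsing.ZStar.{u}) (gw : CentPSL.GW.{u}) (hse : SECore.{u}) [Finite G]
    [IsSimpleGroup G] (h : Setup G) (F : Fused h) :
    ∀ t : G, orderOf t = 2 → centralizerPPrimeCore 2 t = ⊥ := by
  have c := centZ_of hSF hFT hZS h F
  have hc := cz0_of c
  have cz := cz_of_centZ c
  have hF := fun_of_simple hSF hFT hZS gw h F
  have hfr : ∀ e ∈ h.E1, e ∉ h.U → ¬ IsConj h.z e →
      centralizer ({e} : Set G) ≤ normalizer (W h.E1 : Set G) := by
    intro e he hU hze
    have hn : ¬ IsConj h.z h.a := by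
      intro hn
      obtain ⟨x, hx, rfl⟩ := he
      have hxU : x ∉ T.U := fun h1 => hU ⟨x, h1, rfl⟩
      exact hze (hn.trans (h.isConj_E1 F hx hxU).symm)
    have hJ : J2 h := (J2_iff hc).mpr hn
    obtain ⟨r, hr⟩ := exists_rot F hJ hc he hU
    exact Balanced.centralizer_e_le h hF (V := Va h e) Va_le (hr.card_Va F hJ he hU).ge he
      (fun h1 => hU (h1 ▸ one_mem _))
      (fun c hc v hv => CentA.central' F hJ he hU hr hv hc)
  obtain ⟨hNS, hCA, hinv⟩ := Balanced.main h F cz hF hfr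
  refine (BalancedEnd.core_eq_bot hF h.sylow (Balanced.big_E1 h) ?_ hNS hCA hinv).2
  intro H hH hHW
  have hodd := (complete hF (Balanced.big_E1 h)).1
  have hWH : W h.E1 ≤ H := by
    rw [← hHW]; exact le_normalizer
  have hn : ((W h.E1).subgroupOf H).Normal := by
    rw [← hHW]
    exact normal_in_normalizer
  have h1 : ¬ 2 ∣ Nat.card ((W h.E1).subgroupOf H) := by
    rwa [Nat.card_congr (subgroupOfEquivOfLe hWH).toEquiv]
  have h2 := le_oddCore hn h1
  have h3 := (map_mono h2 : ((W h.E1).subgroupOf H).map H.subtype ≤ _).trans (hse H hH)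
  rw [oddCore_eq_bot h, subgroupOf_map_subtype, inf_eq_left.mpr hWH] at h3
  exact le_bot_iff.mp h3

/-- **The main theorem**: a finite simple group with a Sylow 2-subgroup of J2 type is `J2` or
`J3`. -/
theorem main (hSF : Functor.SolvFun.{u}) (hFT : Functor.OddSolv.{u})
    (hZS : ZNonsing.ZStar.{u}) (gw : CentPSL.GW.{u}) (hse : SECore.{u}) [Finite G]
    [IsSimpleGroup G] (h : Setup G) : Cfsg.Spor.IsoJ2 G ∨ Cfsg.Spor.IsoJ3 G := by
  have F := h.fused_of_simple
  have c := centZ_of hSF hFT hZS h F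
  have hK := core_eq_bot hSF hFT hZS gw hse h F h.z (h.orderOf_phi_two (by decide) (by decide))
  have hK' : Functor.K h.z = ⊥ := hK
  have h1 : h.Q ⊔ Functor.K h.z = h.Q := by rw [hK', sup_bot_eq]
  obtain ⟨hN, hq, hc⟩ := c
  have hN' : (h.Q.subgroupOf (centralizer ({h.z} : Set G))).Normal := by rwa [h1] at hN
  have h1' : (h.Q ⊔ Functor.K h.z).subgroupOf (centralizer ({h.z} : Set G)) =
      h.Q.subgroupOf (centralizer ({h.z} : Set G)) := by rw [h1]
  refine FinalJ3.isoJ2_or_isoJ3 h hN' (CentZBuild.quot_congr h1' hN hN' hq) ?_ ?_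
  · intro g hg hgQ
    have h2 := hc g hg (fun x hx => by
      rw [hgQ x hx, mul_inv_cancel_right, mul_inv_cancel]; exact one_mem _)
    rwa [h1] at h2
  · refine ⟨h.t, fun t ht => ?_⟩
    have h2 : t * t = 1 := by rw [← pow_two, ← ht, pow_orderOf_eq_one]
    have h3 : t ≠ 1 := by rintro rfl; rw [orderOf_one] at ht; norm_num at ht
    rcases h.isConj_z_or_t F h2 h3 with h4 | h4
    · exact Or.inl h4.symm
    · exact Or.inr h4.symm

end

end Cfsg.Agent.J2Sylow.Main
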