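import Mathlib

set_option autoImplicit false

/-!
# A fixed-point-free automorphism of order 3 inverted by an involution

`ρ b : T →* T` with `b² = 1`, `ρ³ = 1`, `b ρ b = ρ⁻¹` (written `ρ (b (ρ x)) = b x`), `ρ` without
nontrivial fixed points.  Then `x` commutes with `ρ x`, `x * ρ x * ρ (ρ x) = 1`,
`T = C(b) ρ(C(b))` and `|H| = |C_H(b)|²` for every finite invariant subgroup `H`.
-/

namespace Cfsg.Agent.J2Sylow.SThree

variable {T : Type*} [Group T]

/-- The data: `ρ` is a fixed-point-free automorphism of order 3, `b` an involution inverting it. -/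
structure Act (ρ b : T →* T) : Prop where
  hb : ∀ x, b (b x) = x
  h3 : ∀ x, ρ (ρ (ρ x)) = x
  hinv : ∀ x, b (ρ x) = ρ (ρ (b x))
  hfix : ∀ x, ρ x = x → x = 1

namespace Act

variable {ρ b : T →* T} (h : Act ρ b)

include h

theorem b_inj : Function.Injective b := fun x y hxy => by
  rw [← h.hb x, hxy, h.hb]

theorem rho_inj : Function.Injective ρ := fun x y hxy => by
  rw [← h.h3 x, hxy, h.h3]

theorem hinv2 (x : T) : b (ρ (ρ x)) = ρ (b x) := by
  rw [h.hinv, h.hinv, h.h3]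

theorem hinv' (x : T) : ρ (b (ρ x)) = b x := by
  rw [h.hinv, h.h3]

theorem delta_inj : Function.Injective (fun t : T => t * (ρ t)⁻¹) := by
  intro s t hst
  have h1 : s * (ρ s)⁻¹ = t * (ρ t)⁻¹ := hst
  have h2 : ρ (t⁻¹ * s) = t⁻¹ * s := by
    have h3 : s = t * (ρ t)⁻¹ * ρ s := by rw [← h1]; group
    calc ρ (t⁻¹ * s) = (ρ t)⁻¹ * ρ s := by rw [map_mul, map_inv]
      _ = t⁻¹ * (t * (ρ t)⁻¹ * ρ s) := by group
      _ = t⁻¹ * s := by rw [← h3]
  exact (inv_mul_eq_one.1 (h.hfix _ h2)).symm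

section fin

variable [Finite T]

theorem delta_bij : Function.Bijective (fun t : T => t * (ρ t)⁻¹) :=
  Finite.injective_iff_bijective.1 h.delta_inj

/-- only the identity commutes (in the semidirect product) with `g ρ` -/
theorem eq_one_of_comm {g c : T} (hc : c * g = g * ρ c) : c = 1 := by
  obtain ⟨t, rfl⟩ := h.delta_bij.2 g
  have h1 : c * (t * (ρ t)⁻¹) = t * (ρ t)⁻¹ * ρ c := hc
  have h2 : ρ (t⁻¹ * c * t) = t⁻¹ * c * t := by
    simp only [map_mul, map_inv]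
    have : c * t = t * (ρ t)⁻¹ * ρ c * ρ t := by rw [← h1]; group
    calc (ρ t)⁻¹ * ρ c * ρ t = t⁻¹ * (t * (ρ t)⁻¹ * ρ c * ρ t) := by group
      _ = t⁻¹ * (c * t) := by rw [← this]
      _ = t⁻¹ * c * t := by group
  have h3 := h.hfix _ h2
  have : c = t * (t⁻¹ * c * t) * t⁻¹ := by group
  rw [this, h3]; simp

theorem prod_eq_one (x : T) : x * ρ x * ρ (ρ x) = 1 := by
  obtain ⟨t, rfl⟩ := h.delta_bij.2 x
  simp only [map_mul, map_inv, h.h3]
  group

theorem comm (x : T) : x * ρ x = ρ x * x := by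
  have h1 := h.prod_eq_one x
  have h2 := h.prod_eq_one x⁻¹
  simp only [map_inv] at h2
  have h3 : ρ (ρ x) = (x * ρ x)⁻¹ := eq_inv_of_mul_eq_one_right h1
  have h4 : (ρ (ρ x))⁻¹ = (x⁻¹ * (ρ x)⁻¹)⁻¹ := eq_inv_of_mul_eq_one_right h2
  rw [h3, inv_inv] at h4
  rw [h4]; group

theorem rho_rho (x : T) : ρ (ρ x) = (x * ρ x)⁻¹ := eq_inv_of_mul_eq_one_right (h.prod_eq_one x)

theorem rho_rho' (x : T) : ρ (ρ x) = x⁻¹ * (ρ x)⁻¹ := by
  rw [h.rho_rho, h.comm, mul_inv_rev]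

/-- all elements inverted by `b` are of the form `t b(t)⁻¹` -/
theorem exists_of_inverted {x : T} (hx : x * b x = 1) : ∃ t, x = t * (b t)⁻¹ := by
  obtain ⟨t, ht⟩ := h.delta_bij.2 x
  have ht' : t * (ρ t)⁻¹ = x := ht
  refine ⟨t, ?_⟩
  have hbx : b x = x⁻¹ := (inv_eq_of_mul_eq_one_right hx).symm
  have h1 : x * b t = b (ρ t) := by
    have h2 : b x = b t * (b (ρ t))⁻¹ := by rw [← ht', map_mul, map_inv]
    rw [hbx] at h2
    have h4 : x = b (ρ t) * (b t)⁻¹ := by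
      rw [← inv_inv x, h2]; group
    rw [h4]; group
  have h2 : ρ x * ρ (b t) = b t := by rw [← map_mul, h1, h.hinv']
  have h3 : t * (b t)⁻¹ * x⁻¹ = 1 := by
    apply h.eq_one_of_comm (g := x)
    have h5 : ρ (t * (b t)⁻¹ * x⁻¹) = ρ t * (b t)⁻¹ := by
      simp only [map_mul, map_inv]
      have : (ρ (b t))⁻¹ * (ρ x)⁻¹ = (b t)⁻¹ := by rw [← mul_inv_rev, h2]
      rw [mul_assoc, this]
    rw [h5]
    calc t * (b t)⁻¹ * x⁻¹ * x = t * (ρ t)⁻¹ * (ρ t * (b t)⁻¹) := by group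
      _ = x * (ρ t * (b t)⁻¹) := by rw [ht']
  exact (mul_inv_eq_one.1 h3).symm

/-- the fixed points of `b` -/
def _root_.Cfsg.Agent.J2Sylow.SThree.fixed (b : T →* T) : Subgroup T := b.eqLocus (MonoidHom.id T)

omit h [Finite T] in
theorem mem_fixed {x : T} : x ∈ fixed b ↔ b x = x := Iff.rfl

omit [Finite T] in
/-- the second involution -/
theorem second : Act ρ (b.comp ρ) where
  hb x := by
    show b (ρ (b (ρ x))) = x
    rw [h.hinv', h.hb]
  h3 := h.h3
  hinv x := by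
    show b (ρ (ρ x)) = ρ (ρ (b (ρ x)))
    rw [h.hinv2, h.hinv']
  hfix := h.hfix

theorem card_inverted_mul : Nat.card {x : T // x * b x = 1} * Nat.card (fixed b) = Nat.card T := by
  rw [Subgroup.card_eq_card_quotient_mul_card_subgroup (fixed b)]
  congr 1
  symm
  have hf : ∀ s t : T, s⁻¹ * t ∈ fixed b ↔ s * (b s)⁻¹ = t * (b t)⁻¹ := by
    intro s t
    rw [mem_fixed, map_mul, map_inv]
    constructor
    · intro h1
      have : s * (b s)⁻¹ = t * (s⁻¹ * t)⁻¹ * ((b s)⁻¹) := by group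
      rw [this, ← h1]; group
    · intro h1
      have : t = s * (b s)⁻¹ * b t := by rw [h1]; group
      calc (b s)⁻¹ * b t = s⁻¹ * (s * (b s)⁻¹ * b t) := by group
        _ = s⁻¹ * t := by rw [← this]
  refine Nat.card_congr (Equiv.ofBijective (fun q : T ⧸ fixed b => Quotient.liftOn' q
    (fun t : T => (⟨t * (b t)⁻¹, by rw [map_mul, map_inv, h.hb]; group⟩ :
      {x : T // x * b x = 1})) ?_) ⟨?_, ?_⟩)
  · intro s t hst
    rw [QuotientGroup.leftRel_apply] at hst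
    exact Subtype.ext ((hf s t).1 hst)
  · intro p q
    induction p using Quotient.inductionOn'
    induction q using Quotient.inductionOn'
    intro hpq
    apply Quotient.sound'
    rw [QuotientGroup.leftRel_apply]
    exact (hf _ _).2 (congrArg Subtype.val hpq)
  · rintro ⟨x, hx⟩
    obtain ⟨t, ht⟩ := h.exists_of_inverted hx
    exact ⟨Quotient.mk'' t, Subtype.ext ht.symm⟩

omit [Finite T] in
theorem card_fixed_second : Nat.card (fixed (b.comp ρ)) = Nat.card (fixed b) := by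
  symm
  refine Nat.card_congr (Equiv.ofBijective
    (fun x : fixed b => (⟨ρ x, ?_⟩ : fixed (b.comp ρ))) ⟨?_, ?_⟩)
  · show b (ρ (ρ x)) = ρ x
    rw [h.hinv2, show b (x : T) = x from x.2]
  · intro x y hxy
    exact Subtype.ext (h.rho_inj (congrArg Subtype.val hxy))
  · rintro ⟨y, hy⟩
    have hy' : b (ρ y) = y := hy
    refine ⟨⟨ρ (ρ y), ?_⟩, Subtype.ext (h.h3 y)⟩
    show b (ρ (ρ y)) = ρ (ρ y)
    rw [← h.h3 (b (ρ (ρ y))), h.hinv' (ρ y), hy']

theorem card_mul_le : Nat.card {x : T // x * b x = 1} * Nat.card {x : T // x * b.comp ρ x = 1} ≤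
    Nat.card T := by
  rw [← Nat.card_prod]
  refine Nat.card_le_card_of_injective
    (fun p : {x : T // x * b x = 1} × {x : T // x * b.comp ρ x = 1} => (p.1 : T) * b p.2) ?_
  rintro ⟨⟨x, hx⟩, ⟨y, hy⟩⟩ ⟨⟨x', hx'⟩, ⟨y', hy'⟩⟩ hxy
  have hg : x * b y = x' * b y' := hxy
  have hy1 : y * b (ρ y) = 1 := hy
  have hy1' : y' * b (ρ y') = 1 := hy'
  have e1 : b y * ρ y = 1 := by
    have := congrArg b hy1
    rwa [map_mul, h.hb, map_one] at this
  have e1' : b y' * ρ y' = 1 := by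
    have := congrArg b hy1'
    rwa [map_mul, h.hb, map_one] at this
  have e2 : b x = x⁻¹ := (inv_eq_of_mul_eq_one_right hx).symm
  have e2' : b x' = x'⁻¹ := (inv_eq_of_mul_eq_one_right hx').symm
  have e3 : b y = (ρ y)⁻¹ := eq_inv_of_mul_eq_one_left e1
  have e3' : b y' = (ρ y')⁻¹ := eq_inv_of_mul_eq_one_left e1'
  -- `b y * ρ x = b y' * ρ x'`
  have e4 : y⁻¹ * x = y'⁻¹ * x' := by
    have := congrArg b hg
    rw [map_mul, map_mul, h.hb, h.hb, e2, e2'] at this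
    have h5 := congrArg (·⁻¹) this
    simpa using h5
  have e5 : b y * ρ x = b y' * ρ x' := by
    rw [e3, e3', ← map_inv, ← map_inv, ← map_mul, ← map_mul, e4]
  have e6 : x' * x⁻¹ = 1 := by
    apply h.eq_one_of_comm (g := x * b y)
    rw [map_mul, map_inv]
    calc x' * x⁻¹ * (x * b y) = x' * (b y * ρ x) * (ρ x)⁻¹ := by group
      _ = x' * (b y' * ρ x') * (ρ x)⁻¹ := by rw [e5]
      _ = (x' * b y') * (ρ x' * (ρ x)⁻¹) := by group
      _ = x * b y * (ρ x' * (ρ x)⁻¹) := by rw [hg]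
  have e8 : x' = x := mul_inv_eq_one.1 e6
  subst e8
  have e9 : b y = b y' := mul_left_cancel hg
  have e10 := h.b_inj e9
  subst e10
  rfl

theorem card_eq : Nat.card T = Nat.card (fixed b) ^ 2 := by
  have h1 := h.card_inverted_mul
  have h2 := h.second.card_inverted_mul
  have h3 := h.card_mul_le
  rw [h.card_fixed_second] at h2
  have hpos : 0 < Nat.card T := Nat.card_pos
  -- the other inequality
  have h4 : Nat.card (fixed b) * Nat.card (fixed (b.comp ρ)) ≤ Nat.card T := by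
    rw [← Nat.card_prod]
    refine Nat.card_le_card_of_injective
      (fun p : fixed b × fixed (b.comp ρ) => (p.1 : T) * p.2) ?_
    rintro ⟨⟨x, hx⟩, ⟨y, hy⟩⟩ ⟨⟨x', hx'⟩, ⟨y', hy'⟩⟩ hxy
    have hg : x * y = x' * y' := hxy
    have h5 : x'⁻¹ * x = y' * y⁻¹ := by
      calc x'⁻¹ * x = x'⁻¹ * (x * y) * y⁻¹ := by group
        _ = x'⁻¹ * (x' * y') * y⁻¹ := by rw [hg]
        _ = y' * y⁻¹ := by group
    have h6 : x'⁻¹ * x ∈ fixed b := (fixed b).mul_mem ((fixed b).inv_mem hx') hx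
    have h7 : x'⁻¹ * x ∈ fixed (b.comp ρ) := by
      rw [h5]; exact (fixed (b.comp ρ)).mul_mem hy' ((fixed (b.comp ρ)).inv_mem hy)
    have h8 : b (x'⁻¹ * x) = x'⁻¹ * x := h6
    have h9 : b (ρ (x'⁻¹ * x)) = x'⁻¹ * x := h7
    have h10 : x'⁻¹ * x = 1 := by
      apply h.hfix
      apply h.b_inj
      rw [h9, h8]
    have h11 : x = x' := (inv_mul_eq_one.1 h10).symm
    subst h11
    have h12 : y = y' := mul_left_cancel hg
    subst h12
    rfl
  rw [h.card_fixed_second] at h4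
  apply le_antisymm _ (by rw [pow_two]; exact h4)
  set i := Nat.card {x : T // x * b x = 1} with hi
  set j := Nat.card {x : T // x * b.comp ρ x = 1} with hj
  set c := Nat.card (fixed b) with hc
  set n := Nat.card T with hn
  -- i * c = n, j * c = n, i * j ≤ n
  have h5 : n * n ≤ n * c ^ 2 := by
    calc n * n = (i * c) * (j * c) := by rw [h1, h2]
      _ = (i * j) * c ^ 2 := by ring
      _ ≤ n * c ^ 2 := Nat.mul_le_mul_right _ h3
  exact Nat.le_of_mul_le_mul_left h5 hpos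

omit [Finite T] in
/-- the restricted action -/
theorem restrict (H : Subgroup T) (hρ : ∀ x ∈ H, ρ x ∈ H) (hbH : ∀ x ∈ H, b x ∈ H) :
    Act ((ρ.comp H.subtype).codRestrict H fun x => hρ x x.2)
      ((b.comp H.subtype).codRestrict H fun x => hbH x x.2) where
  hb x := Subtype.ext (h.hb x)
  h3 x := Subtype.ext (h.h3 x)
  hinv x := Subtype.ext (h.hinv x)
  hfix x hx := Subtype.ext (h.hfix x (congrArg Subtype.val hx))

theorem card_sub (H : Subgroup T) (hρ : ∀ x ∈ H, ρ x ∈ H) (hbH : ∀ x ∈ H, b x ∈ H) :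
    Nat.card H = Nat.card (H ⊓ fixed b : Subgroup T) ^ 2 := by
  rw [(h.restrict H hρ hbH).card_eq]
  congr 1
  refine Nat.card_congr ⟨fun x => ⟨x.1.1, x.1.2, congrArg Subtype.val x.2⟩,
    fun x => ⟨⟨x.1, x.2.1⟩, Subtype.ext x.2.2⟩, fun x => rfl, fun x => rfl⟩

theorem exists_mul (t : T) : ∃ x y : T, b x = x ∧ b y = y ∧ t = x * ρ y := by
  have hinj : Function.Injective (fun p : fixed b × fixed b => (p.1 : T) * ρ p.2) := by
    rintro ⟨⟨x, hx⟩, ⟨y, hy⟩⟩ ⟨⟨x', hx'⟩, ⟨y', hy'⟩⟩ hxy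
    have hg : x * ρ y = x' * ρ y' := hxy
    have h5 : x'⁻¹ * x = ρ (y' * y⁻¹) := by
      rw [map_mul, map_inv]
      calc x'⁻¹ * x = x'⁻¹ * (x * ρ y) * (ρ y)⁻¹ := by group
        _ = x'⁻¹ * (x' * ρ y') * (ρ y)⁻¹ := by rw [hg]
        _ = ρ y' * (ρ y)⁻¹ := by group
    have h6 : b (x'⁻¹ * x) = x'⁻¹ * x := (fixed b).mul_mem ((fixed b).inv_mem hx') hx
    have h7 : b (y' * y⁻¹) = y' * y⁻¹ := (fixed b).mul_mem hy' ((fixed b).inv_mem hy)
    have h8 : b (x'⁻¹ * x) = ρ (x'⁻¹ * x) := by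
      rw [h5, h.hinv, h7]
    have h10 : x'⁻¹ * x = 1 := by
      apply h.hfix
      rw [← h8, h6]
    have h11 : x = x' := (inv_mul_eq_one.1 h10).symm
    subst h11
    have h12 : y = y' := h.rho_inj (mul_left_cancel hg)
    subst h12
    rfl
  have hbij := (Nat.bijective_iff_injective_and_card _).2 ⟨hinj, by
    rw [Nat.card_prod, h.card_eq, pow_two]⟩
  obtain ⟨⟨x, y⟩, hxy⟩ := hbij.2 t
  exact ⟨x, y, x.2, y.2, hxy.symm⟩

end fin

end Act

end Cfsg.Agent.J2Sylow.SThree
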